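import Cfsg.Agent.TH.GenLoc
import Cfsg.Agent.TH.GenSig
import Cfsg.Agent.TAB.Use.Defs
import Cfsg.Agent.H621.Deg.Split

/-!
# S3541, the sporadic rows and the Tits group (helper26): the interface

* `W A d j` : what is seen inside the socle `K` when `|G : K|` divides `j`; `NoW K j` : no such configuration;
* `w_of`, `noRow_of` : the reduction; `Rows`, `rowSpor_of` : the 26 rows;
* `In`, `InC` : what the engine needs from a character table; `BoxCH` : the divisibility of Curtis and Fossum.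
-/

set_option autoImplicit false

namespace Cfsg.Agent.TH.Spor

open Cfsg Cfsg.Agent.TAB.Eng Cfsg.Agent.TAB.Use

universe u

/-- the configuration inside the socle: the orbits of `A` on the other points have lengths between `d / j` and `d` -/
structure W {K : Type*} [Group K] (A : Subgroup K) (d j : ℕ) : Prop where
  ne_top : A ≠ ⊤
  one_lt : 1 < d
  dvd : d ∣ Nat.card A
  dvd' : d ∣ A.index - 1
  two : 2 * d ≤ A.index - 1
  big : 1 < j * (Nat.card A / d)
  lo : ∀ g, g ∉ A → Nat.card A / d ∣ Nat.card ↥(A ⊓ cj g A)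
  hi : ∀ g, g ∉ A → Nat.card ↥(A ⊓ cj g A) ∣ j * (Nat.card A / d)

/-- no configuration in `K` -/
def NoW (K : Type*) [Group K] (j : ℕ) : Prop := ∀ (A : Subgroup K) (d : ℕ), ¬ W A d j

theorem W.map {K K' : Type*} [Group K] [Group K'] {A : Subgroup K} {d j : ℕ} (h : W A d j) (e : K ≃* K') :
    W (A.map e.toMonoidHom) d j := by
  have h1 : Nat.card (A.map e.toMonoidHom) = Nat.card A := Subgroup.card_map_of_injective e.injective
  have h2 : (A.map e.toMonoidHom).index = A.index := Subgroup.index_map_of_bijective e.bijective A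
  have h3 : ∀ g, Nat.card ↥(A.map e.toMonoidHom ⊓ cj (e g) (A.map e.toMonoidHom)) = Nat.card ↥(A ⊓ cj g A) :=
    fun g => by
      have h4 : cj (e g) (A.map e.toMonoidHom) = (cj g A).map e.toMonoidHom := (map_cj e.toMonoidHom g A).symm
      rw [h4, ← Subgroup.map_inf _ _ _ e.injective, Subgroup.card_map_of_injective e.injective]
  refine ⟨fun h4 => h.ne_top ?_, h.one_lt, h1 ▸ h.dvd, h2 ▸ h.dvd', h2 ▸ h.two, h1 ▸ h.big, fun g hg => ?_,
    fun g hg => ?_⟩
  · rw [← Subgroup.index_eq_one, ← h2, h4, Subgroup.index_top]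
  · obtain ⟨g, rfl⟩ := e.surjective g
    rw [h3, h1]
    exact h.lo g fun h4 => hg ⟨g, h4, rfl⟩
  · obtain ⟨g, rfl⟩ := e.surjective g
    rw [h3, h1]
    exact h.hi g fun h4 => hg ⟨g, h4, rfl⟩

theorem NoW.of_equiv {K K' : Type*} [Group K] [Group K'] {j : ℕ} (h : NoW K' j) (e : K ≃* K') : NoW K j :=
  fun _ d hW => h _ d (hW.map e)

section

variable {G : Type*} [Group G] [Finite G] {T H : Subgroup G} {m : ℕ}

/-- the index of the socle divides the order of its outer automorphism group -/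
theorem index_dvd_out (hT : AS T) : T.index ∣ (MulAut.conj : T →* MulAut T).range.index := by
  have := hT.normal
  have h1 : Function.Injective (MulAut.conjNormal : G →* MulAut T) := by
    rw [injective_iff_map_eq_one]
    intro g hg
    rw [← Subgroup.mem_bot, ← hT.cent]
    intro t ht
    have h2 := congrArg Subtype.val (MulEquiv.congr_fun hg ⟨t, ht⟩)
    rw [MulAut.conjNormal_apply] at h2
    exact (mul_inv_eq_iff_eq_mul.1 h2).symm
  have h2 : Function.Injective (MulAut.conj : T →* MulAut T) := by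
    rw [injective_iff_map_eq_one]
    intro g hg
    exact Subtype.ext ((injective_iff_map_eq_one _).1 h1 g (hg ▸ MulAut.conjNormal_val))
  have h3 := Subgroup.card_dvd_of_injective _ h1
  rw [← T.card_mul_index, ← (MulAut.conj : T →* MulAut T).range.card_mul_index,
    ← Nat.card_congr (MonoidHom.ofInjective h2).toEquiv] at h3
  exact Nat.dvd_of_mul_dvd_mul_left Nat.card_pos h3

/-- **the reduction to the socle** -/
theorem w_of (hT : AS T) (hH : Half H m) {j : ℕ} (hj : T.index ∣ j) (h0 : 0 < j) :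
    W (H.subgroupOf T) (Nat.gcd (Nat.card H / m) (Nat.card (H.subgroupOf T))) j := by
  have L := Gen.loc hT hH
  have h1 := Gen.card_eq_mul hT hH
  have h2 := Gen.index_eq hT hH
  have h3 : Nat.card (H.subgroupOf T) = Nat.card ↥(H ⊓ T) := by
    rw [← Subgroup.inf_subgroupOf_right]
    exact Nat.card_congr (Subgroup.subgroupOfEquivOfLe inf_le_right).toEquiv
  set a := Nat.card (H.subgroupOf T) with ha
  set d := Nat.gcd (Nat.card H / m) a with hd
  have hda : d ∣ a := Nat.gcd_dvd_right _ _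
  have hdd : d ∣ Nat.card H / m := Nat.gcd_dvd_left _ _
  have hapos : 0 < a := Nat.card_pos
  have hdpos : 0 < d := Nat.pos_of_dvd_of_pos hda hapos
  have hm : m ∣ j * (a / d) := by
    refine Nat.dvd_of_mul_dvd_mul_left hdpos ?_
    rw [mul_left_comm, Nat.mul_div_cancel' hda, mul_comm j]
    refine (Nat.mul_dvd_mul_right hdd m).trans ?_
    rw [hH.d_mul, h1]
    exact Nat.mul_dvd_mul_left _ hj
  refine ⟨L.ne_top, ?_, hda, hdd.trans L.dvd, ?_, ?_, fun g hg => ?_, fun g hg => ?_⟩
  · obtain ⟨r, hr, h4, h5, -⟩ := hT.exists_prime hH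
    exact lt_of_lt_of_le hr.one_lt (Nat.le_of_dvd hdpos (Nat.dvd_gcd h5 (h3 ▸ h4)))
  · obtain ⟨k, hk, h4⟩ := hH.exists_index_eq
    rw [h2, h4, Nat.add_sub_cancel]
    exact Nat.mul_le_mul hk (Nat.le_of_dvd hH.d_pos hdd)
  · exact lt_of_lt_of_le hH.one_lt (Nat.le_of_dvd (Nat.mul_pos h0 (Nat.div_pos (Nat.le_of_dvd hapos hda) hdpos)) hm)
  · obtain ⟨e, he, h4⟩ := L.sub_dvd g hg
    obtain ⟨f, hf⟩ : e ∣ d := Nat.dvd_gcd he (Dvd.intro _ h4)
    refine ⟨f, Nat.eq_of_mul_eq_mul_left hdpos ?_⟩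
    rw [← mul_assoc, Nat.mul_div_cancel' hda, ha, ← h4, hf]
    ring
  · refine dvd_trans ?_ hm
    rw [← Subgroup.card_map_of_injective T.subtype_injective]
    refine hH.card_dvd_m (g := g) hg ?_ ?_
    · rintro _ ⟨x, hx, rfl⟩
      exact hx.1
    · rintro _ ⟨x, hx, rfl⟩
      exact mem_cj.2 (mem_cj.1 (show x ∈ cj g (H.subgroupOf T) from hx.2) :)

end

/-- a row from the absence of configurations, outer automorphism group of order dividing `j` -/
theorem noRow_of' {P : ∀ (T : Type) [Group T], Prop} {j : ℕ} (h0 : 0 < j)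
    (h1 : ∀ (T : Type) [Group T] [Finite T], P T → (MulAut.conj : T →* MulAut T).range.index ∣ j)
    (h2 : ∀ (T : Type) [Group T] [Finite T] [IsSimpleGroup T], P T → NoW T j) : NoRow P := by
  intro G _ _ T H m hT hH hP
  have := hT.simple
  exact h2 T hP _ _ (w_of hT hH ((index_dvd_out hT).trans (h1 T hP)) h0)

/-- a row from the absence of configurations -/
theorem noRow_of {P : ∀ (T : Type) [Group T], Prop}
    (h1 : ∀ (T : Type) [Group T], P T → Lie.IsoTits T ∨ IsSporadicGroup T)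
    (h2 : ∀ (T : Type) [Group T] [Finite T] [IsSimpleGroup T], P T → NoW T 2) : NoRow P := by
  refine noRow_of' two_pos (fun T _ _ hP => ?_) h2
  have h3 := H621.Deg.index_le_two (Or.inr (h1 T hP))
  have h4 : (MulAut.conj : T →* MulAut T).range.index ≠ 0 := Subgroup.index_ne_zero_of_finite
  have h5 : (MulAut.conj : T →* MulAut T).range.index = 1 ∨ (MulAut.conj : T →* MulAut T).range.index = 2 := by omega
  rcases h5 with h5 | h5 <;> rw [h5]
  exact one_dvd 2

/-- the 26 rows -/
structure Rows26 : Prop where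
  m11 : NoRow fun T _ => Spor.IsoM11 T
  m12 : NoRow fun T _ => Spor.IsoM12 T
  m22 : NoRow fun T _ => Spor.IsoM22 T
  m23 : NoRow fun T _ => Spor.IsoM23 T
  m24 : NoRow fun T _ => Spor.IsoM24 T
  j1 : NoRow fun T _ => Spor.IsoJ1 T
  j2 : NoRow fun T _ => Spor.IsoJ2 T
  j3 : NoRow fun T _ => Spor.IsoJ3 T
  j4 : NoRow fun T _ => Spor.IsoJ4 T
  co1 : NoRow fun T _ => Spor.IsoCo1 T
  co2 : NoRow fun T _ => Spor.IsoCo2 T
  co3 : NoRow fun T _ => Spor.IsoCo3 T
  mcl : NoRow fun T _ => Spor.IsoMcL T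
  hs : NoRow fun T _ => Spor.IsoHS T
  suz : NoRow fun T _ => Spor.IsoSuz T
  he : NoRow fun T _ => Spor.IsoHe T
  ru : NoRow fun T _ => Spor.IsoRu T
  on : NoRow fun T _ => Spor.IsoON T
  ly : NoRow fun T _ => Spor.IsoLy T
  fi22 : NoRow fun T _ => Spor.IsoFi22 T
  fi23 : NoRow fun T _ => Spor.IsoFi23 T
  fi24 : NoRow fun T _ => Spor.IsoFi24' T
  hn : NoRow fun T _ => Spor.IsoHN T
  th : NoRow fun T _ => Spor.IsoTh T
  b : NoRow fun T _ => Spor.IsoB T
  m : NoRow fun T _ => Spor.IsoM T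

theorem rowSpor_of (R : Rows26) : RowSpor := by
  intro G _ _ T H m hT hH hP
  rcases hP with h | h | h | h | h | h | h | h | h | h | h | h | h | h | h | h | h | h | h | h | h | h | h | h | h | h
  exacts [R.m11 G T H m hT hH h, R.m12 G T H m hT hH h, R.m22 G T H m hT hH h, R.m23 G T H m hT hH h,
    R.m24 G T H m hT hH h, R.j1 G T H m hT hH h, R.j2 G T H m hT hH h, R.j3 G T H m hT hH h, R.j4 G T H m hT hH h,
    R.co1 G T H m hT hH h, R.co2 G T H m hT hH h, R.co3 G T H m hT hH h, R.mcl G T H m hT hH h, R.hs G T H m hT hH h,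
    R.suz G T H m hT hH h, R.he G T H m hT hH h, R.ru G T H m hT hH h, R.on G T H m hT hH h, R.ly G T H m hT hH h,
    R.fi22 G T H m hT hH h, R.fi23 G T H m hT hH h, R.fi24 G T H m hT hH h, R.hn G T H m hT hH h,
    R.th G T H m hT hH h, R.b G T H m hT hH h, R.m G T H m hT hH h]

/-! ### what is needed from the tables -/

/-- the types of prime order are rational classes -/
def Unif {K : Type u} [Group K] {D : Dat} (T : TD K D) : Prop :=
  ∀ g h, (orderOf g).Prime → T.ty g = T.ty h → ∃ k : ℕ, IsConj (g ^ k) h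

/-- the table, with bounds `(type, bound)` for some centralizers -/
def InC (K : Type u) [Group K] (D : Dat) (R : Rows) (L : List (ℕ × ℕ)) : Prop :=
  ∃ T : TD K D, T.Mass ∧ Tab T R ∧ Unif T ∧
    ∀ p ∈ L, ∀ x, T.ty x = p.1 → Nat.card (Subgroup.centralizer ({x} : Set K)) ≤ p.2

/-- **the table** -/
def In (K : Type u) [Group K] (D : Dat) (R : Rows) : Prop := ∃ T : TD K D, T.Mass ∧ Tab T R ∧ Unif T

theorem In.inC {K : Type u} [Group K] {D : Dat} {R : Rows} (h : In K D R) : InC K D R [] := by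
  obtain ⟨T, h1, h2, h3⟩ := h
  exact ⟨T, h1, h2, h3, fun _ hp => absurd hp List.not_mem_nil⟩

/-- **CH** : an irreducible constituent of the permutation character of degree `c` has `μ c ∣ |K|` when `μ` divides the
orders of all two point stabilisers -/
def BoxCH : Prop :=
  ∀ (K : Type) [Group K] [Finite K] (A : Subgroup K) [Fintype A] (μ c : ℕ) (χ : K → ℂ), IsIrrCharacter K χ → χ 1 = c →
    (∀ g, μ ∣ Nat.card ↥(A ⊓ cj g A)) → ¬ μ * c ∣ Nat.card K → ∑ x : A, χ x = 0

end Cfsg.Agent.TH.Spor
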