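import Cfsg.Agent.TH.Spor.J3Box
import Cfsg.Agent.TH.Spor.Defs
import Cfsg.Agent.TAB.Sm1.Slp
import Cfsg.Agent.TAB.Sm1.Fin

/-!
# S3541, the group `J₃` : the table (helper29)

The rows come from the permutation characters on the cyclic subgroups and on a subgroup of order 16 by the adjoint
Adams operations and `δ` (`notes/TH/j3`).
-/

set_option autoImplicit false
set_option maxRecDepth 100000

namespace Cfsg.Agent.TH.Spor

open Cfsg Cfsg.Spor Subgroup Cfsg.Agent.TAB Cfsg.Agent.TAB.Eng Cfsg.Agent.TAB.Use Cfsg.Agent.TAB.ON Cfsg.Agent.TAB.Sm1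

namespace J3

/-- the permutation character on the cosets of a cyclic group extended by an inverting element -/
theorem virt_dih {G : Type*} [Group G] [Finite G] {D : Dat} {T : TD G D} (hm : T.Mass) (hr : Rat T) {x s : G}
    (hs : s * x * s⁻¹ = x⁻¹) (h2 : s * s ∈ zpowers x) (hn : s ∉ zpowers x) {j : ℕ}
    (hj : ∀ y ∈ zpowers x, T.ty (y * s) = j) {u v : List ℤ} (hu : cycB D (T.ty x) u = true)
    (h : ∀ t < D.n, 2 * (D.cnt t * nth v t) = D.cnt t * nth u t + if j = t then (D.N : ℤ) else 0) :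
    Virt T (nth v) := by
  classical
  have h1 : ∀ y ∈ zpowers x, s * y * s⁻¹ ∈ zpowers x := by
    rintro _ ⟨k, rfl⟩
    show s * x ^ k * s⁻¹ ∈ zpowers x
    rw [← conj_zpow, hs]
    exact zpow_mem (inv_mem (mem_zpowers x)) k
  let H : Subgroup G :=
    { carrier := {g | g ∈ zpowers x ∨ g * s⁻¹ ∈ zpowers x}
      one_mem' := Or.inl (one_mem _)
      mul_mem' := by
        rintro a b (ha | ha) (hb | hb)
        · exact Or.inl (mul_mem ha hb)
        · exact Or.inr (by convert mul_mem ha hb using 1; group)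
        · exact Or.inr (by convert mul_mem ha (h1 _ hb) using 1; group)
        · exact Or.inl (by convert mul_mem (mul_mem ha (h1 _ hb)) h2 using 1; group)
      inv_mem' := by
        rintro a (ha | ha)
        · exact Or.inl (inv_mem ha)
        · exact Or.inr (by convert mul_mem (inv_mem h2) (h1 _ (inv_mem ha)) using 1; group) }
  let e : zpowers x ⊕ zpowers x ≃ H := Equiv.ofBijective (Sum.elim (fun y => ⟨y, Or.inl y.2⟩)
    fun y => ⟨y * s, Or.inr (by rw [mul_inv_cancel_right]; exact y.2)⟩) ⟨by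
      rintro (a | a) (b | b) hab <;> have h3 := congrArg Subtype.val hab
      · exact congrArg _ (Subtype.ext h3)
      · exact absurd ((mul_mem_cancel_left b.2).1 ((show (a : G) = b * s from h3) ▸ a.2)) hn
      · exact absurd ((mul_mem_cancel_left a.2).1 ((show (b : G) = a * s from h3.symm) ▸ b.2)) hn
      · exact congrArg _ (Subtype.ext (mul_right_cancel h3)), by
      rintro ⟨a, ha | ha⟩
      · exact ⟨Sum.inl ⟨a, ha⟩, rfl⟩
      · exact ⟨Sum.inr ⟨_, ha⟩, Subtype.ext (inv_mul_cancel_right a s)⟩⟩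
  have := Fintype.ofFinite (zpowers x)
  have := Fintype.ofFinite H
  rw [cycB, frcL_eq] at hu
  refine virt_ind hm hr H (θ := fun _ => ((1 : ℤ) : ℂ)) (gen_const _ 1) (fun _ => ⟨1, by simp⟩) fun t ht => ?_
  have h3 := of_decide_eq_true (allL_spec hu t (List.mem_range.2 ht))
  rw [List.map_map, sum_list, ← T.ord] at h3
  have h4 := congrArg (Int.cast : ℤ → ℂ) h3
  have h5 := congrArg (Int.cast : ℤ → ℂ) (h t ht)
  push_cast at h4 h5
  have h6 : ∑ y : zpowers x, (if T.ty y = t then ((1 : ℤ) : ℂ) else 0) = ∑ i ∈ Finset.range (orderOf x),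
      ((((fun j => if j = t then (1 : ℤ) else 0) ∘ fun i => D.pwf (T.ty x) i) i : ℤ) : ℂ) := by
    rw [Finset.sum_range]
    refine (Fintype.sum_equiv (finEquivZPowers (isOfFinOrder_of_finite x)) _ _ fun i => ?_).symm
    have h7 : ((finEquivZPowers (isOfFinOrder_of_finite x) i : zpowers x) : G) = x ^ (i : ℕ) := rfl
    rw [h7, T.pow, Function.comp_apply]
    split_ifs <;> simp
  have h7 : ∑ y : zpowers x, (if T.ty (y * s) = t then ((1 : ℤ) : ℂ) else 0) =
      orderOf x * if j = t then 1 else 0 := by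
    rw [Finset.sum_congr rfl fun y _ => by rw [hj _ y.2], Finset.sum_const, Finset.card_univ,
      ← Nat.card_eq_fintype_card, Nat.card_zpowers, nsmul_eq_mul, Int.cast_one]
  rw [← Nat.card_congr e, Nat.card_sum, Nat.card_zpowers, ← e.sum_comp, Fintype.sum_sum_type]
  erw [h6, h7]
  rw [mul_add, h4]
  push_cast
  split_ifs at h5 ⊢ <;> linear_combination (-orderOf x : ℂ) * h5

/-- the table -/
def tab : Rows where
  deg := [1, 85, 85, 323, 323, 324, 646, 646, 816, 1140, 1215, 1215, 1615, 1920, 1920, 1920, 1938, 1938, 2432, 2754, 3078]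
  rel := [
([(0, 1)], [1, 1, 1, 1, 1, 1, 1, 1, 1, 1, 1, 1, 1, 1]),
([(1, 1), (2, 1)], [170, 10, -10, 8, 2, 0, -2, -2, 2, 0, 2, 0, 0, -1]),
([(3, 1), (4, 1)], [646, 6, 16, -2, 6, 1, 0, -2, -2, 1, 0, 1, 0, 0]),
([(5, 1)], [324, 4, 9, 0, 4, -1, 1, 0, 0, -1, 1, -1, 1, 1]),
([(6, 1), (7, 1)], [1292, -20, 14, -4, 4, 2, -2, 0, 2, 0, -2, -1, 0, 0]),
([(8, 1)], [816, -16, 6, 6, 0, 1, 2, 0, 0, -1, 0, 1, 0, -1]),
([(9, 1)], [1140, 20, 15, 6, -4, 0, -1, 0, 0, 0, -1, 0, 1, 0]),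
([(10, 1), (11, 1)], [2430, 30, 0, 0, 6, 0, 0, 2, 0, 0, 0, 0, -1, -2]),
([(12, 1)], [1615, 15, -5, -5, -1, 0, 3, -1, 1, 0, -1, 0, 0, 0]),
([(13, 1), (14, 1), (15, 1)], [5760, 0, 0, 9, 0, 0, 0, 0, 0, 0, 0, 0, -3, 3]),
([(16, 1), (17, 1)], [3876, 4, 6, -12, -4, 1, -2, 0, 0, -1, 2, 1, 0, 0]),
([(18, 1)], [2432, 0, -16, 2, 0, 2, 0, 0, -1, 0, 0, -1, 1, 0]),
([(19, 1)], [2754, -14, 9, 0, -2, -1, 1, 0, 0, 1, 1, -1, 0, -1]),
([(20, 1)], [3078, -10, -9, 0, 2, -2, -1, 0, 0, 0, -1, 1, 1, 0])]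

def q1 : List ℤ × Sm1.Op := ([50232960, 0, 0, 0, 0, 0, 0, 0, 0, 0, 0, 0, 0, 0], .cyc 0)
def q2 : List ℤ × Sm1.Op := ([25116480, 960, 0, 0, 0, 0, 0, 0, 0, 0, 0, 0, 0, 0], .cyc 1)
def q3 : List ℤ × Sm1.Op := ([16744320, 0, 720, 0, 0, 0, 0, 0, 0, 0, 0, 0, 0, 0], .cyc 2)
def q4 : List ℤ × Sm1.Op := ([16744320, 0, 0, 162, 0, 0, 0, 0, 0, 0, 0, 0, 0, 0], .cyc 3)
def q5 : List ℤ × Sm1.Op := ([12558240, 480, 0, 0, 48, 0, 0, 0, 0, 0, 0, 0, 0, 0], .cyc 4)
def q6 : List ℤ × Sm1.Op := ([10046592, 0, 0, 0, 0, 12, 0, 0, 0, 0, 0, 0, 0, 0], .cyc 5)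
def q7 : List ℤ × Sm1.Op := ([8372160, 320, 360, 0, 0, 0, 8, 0, 0, 0, 0, 0, 0, 0], .cyc 6)
def q8 : List ℤ × Sm1.Op := ([6279120, 240, 0, 0, 24, 0, 0, 4, 0, 0, 0, 0, 0, 0], .cyc 7)
def q9 : List ℤ × Sm1.Op := ([5581440, 0, 0, 54, 0, 0, 0, 0, 6, 0, 0, 0, 0, 0], .cyc 8)
def q10 : List ℤ × Sm1.Op := ([5023296, 192, 0, 0, 0, 6, 0, 0, 0, 2, 0, 0, 0, 0], .cyc 9)
def q11 : List ℤ × Sm1.Op := ([4186080, 160, 180, 0, 16, 0, 4, 0, 0, 0, 4, 0, 0, 0], .cyc 10)
def q12 : List ℤ × Sm1.Op := ([3348864, 0, 144, 0, 0, 4, 0, 0, 0, 0, 0, 4, 0, 0], .cyc 11)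
def q13 : List ℤ × Sm1.Op := ([2954880, 0, 0, 0, 0, 0, 0, 0, 0, 0, 0, 0, 8, 0], .cyc 12)
def q14 : List ℤ × Sm1.Op := ([2643840, 0, 0, 0, 0, 0, 0, 0, 0, 0, 0, 0, 0, 9], .cyc 13)
def q15 : List ℤ × Sm1.Op := ([1, 1, 1, 1, 1, 1, 1, -7, 1, 1, 1, 1, 1, 1], .lin [(1, 0), (1, 5), (-2, 8)])
def q16 : List ℤ × Sm1.Op := ([-1, -1, -1, -1, 31, -1, -1, -1, -1, -1, 7, -1, -1, -1], .lin [(-1, 0), (-1, 7), (2,
    11)])
def q17 : List ℤ × Sm1.Op := ([6662, 38, 2, 20, 14, 2, 2, 2, 2, -2, 2, 2, -2, -7], .lin [(182, 0), (-10, 1), (20,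
    2), (20, 3), (9, 4), (34, 5), (46, 6), (-45, 8), (-30, 9), (-92, 10), (-45, 11), (-45, 12), (-23, 13), (-21,
    14)])
def q18 : List ℤ × Sm1.Op := ([2, 98, 2, 2, -6, 2, 2, -2, 2, -2, -6, 2, 2, 2], .lin [(1298, 0), (-71, 1), (142, 2),
    (144, 3), (64, 4), (244, 5), (325, 6), (1, 7), (-325, 8), (-216, 9), (-650, 10), (-326, 11), (-324, 12), (-162,
    13), (-144, 14)])
def q19 : List ℤ × Sm1.Op := ([-5983, 1, -43, 11, -7, -3, -11, -3, 5, 1, 5, -3, 1, 2], .lin [(-1231, 0), (67, 1),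
    (-134, 2), (-136, 3), (-61, 4), (-231, 5), (-308, 6), (-2, 7), (307, 8), (206, 9), (616, 10), (309, 11), (307,
    12), (154, 13), (137, 14)])
def q20 : List ℤ × Sm1.Op := ([6669, -51, 45, 27, -3, -1, -3, -3, -3, -1, -3, 5, 5, 0], .lin [(621, 0), (-34, 1),
    (68, 2), (69, 3), (31, 4), (117, 5), (155, 6), (-156, 8), (-104, 9), (-311, 10), (-156, 11), (-154, 12), (-77,
    13), (-69, 14)])
def q21 : List ℤ × Sm1.Op := ([12652, 12, 16, 16, -12, 2, 0, 0, -2, 2, 0, -4, 4, -2], .lin [(988, 0), (-54, 1),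
    (108, 2), (110, 3), (49, 4), (185, 5), (247, 6), (-247, 8), (-165, 9), (-493, 10), (-247, 11), (-248, 12),
    (-123, 13), (-110, 14)])
def q22 : List ℤ × Sm1.Op := ([5985, -63, 45, -9, -7, 5, -3, -3, -3, -3, 5, 5, 1, 0], .lin [(-1359, 0), (74, 1),
    (-148, 2), (-151, 3), (-67, 4), (-255, 5), (-339, 6), (-1, 7), (339, 8), (226, 9), (678, 10), (341, 11), (341,
    12), (170, 13), (151, 14)])
def q23 : List ℤ × Sm1.Op := ([-11966, -30, 58, 22, -22, 4, -6, -2, -2, 0, 2, -2, 2, 4], .lin [(562, 0), (-31, 1),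
    (62, 2), (63, 3), (28, 4), (105, 5), (141, 6), (-1, 7), (-141, 8), (-94, 9), (-281, 10), (-140, 11), (-141, 12),
    (-70, 13), (-62, 14)])
def q24 : List ℤ × Sm1.Op := ([-6666, -10, -42, -24, 22, 4, -10, -2, 6, 0, -2, -2, -2, 3], .lin [(-3210, 0), (175,
    1), (-351, 2), (-356, 3), (-159, 4), (-601, 5), (-802, 6), (-1, 7), (802, 8), (536, 9), (1605, 10), (802, 11),
    (802, 12), (401, 13), (357, 14)])
def q25 : List ℤ × Sm1.Op := ([-682, -42, 38, -34, 22, -2, 6, -2, 8, -2, -2, -2, -2, 2], .lin [(1046, 0), (-57, 1),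
    (114, 2), (116, 3), (51, 4), (197, 5), (262, 6), (1, 7), (-262, 8), (-173, 9), (-524, 10), (-262, 11), (-262,
    12), (-131, 13), (-116, 14)])
def q26 : List ℤ × Sm1.Op := ([5983, 95, 79, -11, -1, -7, -1, -1, 1, 5, -1, -1, -1, -2], .lin [(4255, 0), (-232, 1),
    (465, 2), (473, 3), (210, 4), (798, 5), (1062, 6), (-1064, 8), (-709, 9), (-2125, 10), (-1064, 11), (-1064, 12),
    (-532, 13), (-473, 14)])
def q27 : List ℤ × Sm1.Op := ([-9922, -2, -22, -40, 14, -2, 10, -2, 2, -2, 2, -2, 6, -4], .lin [(-418, 0), (23, 1),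
    (-46, 2), (-47, 3), (-21, 4), (-78, 5), (-104, 6), (1, 7), (104, 8), (70, 9), (208, 10), (105, 11), (104, 12),
    (53, 13), (46, 14)])
def q28 : List ℤ × Sm1.Op := ([253233, 81, 0, 27, 9, 3, 0, 1, 0, 1, 0, 0, 1, 1], .coad 0 3)
def q29 : List ℤ × Sm1.Op := ([26164, 20, 46, 1, 12, 4, 2, 0, 1, 0, 0, 1, 1, 1], .coad 0 2)
def q30 : List ℤ × Sm1.Op := ([-3342195, -435, 765, 27, -3, 0, -3, -3, -3, 0, -3, 0, 5, 0], .coad 20 5)
def q31 : List ℤ × Sm1.Op := ([5903777, 1, -43, 11, -7, -3, -11, -3, 5, 1, 5, -3, 0, 2], .coad 19 17)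
def q32 : List ℤ × Sm1.Op := ([-232903, -1223, -703, -595, -263, -3, 1, 9, -28, -3, 1, -3, -3, -1], .del 25 2)
def q33 : List ℤ × Sm1.Op := ([-1, -4801, -1, -1, 31, -1, -1, -5, -1, -1, -17, -1, -1, -1], .del 18 2)
def q34 : List ℤ × Sm1.Op := ([-17907120, 1008, -990, -45, -56, -10, 18, -8, -6, -2, -14, -10, 0, 0], .del 22 2)
def q35 : List ℤ × Sm1.Op := ([-17895153, -1521, -3081, -66, 47, -28, 39, -1, 0, -16, -1, -1, -1, -3], .del 26 2)
def q36 : List ℤ × Sm1.Op := ([1615, 15, -5, -5, -1, 0, 3, -1, 1, 0, -1, 0, 0, 0], .lin [(-4318302, 0), (5608038,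
    15), (-10896493, 16), (11667931, 17), (-13577103, 18), (-9305422, 19), (1981712, 20), (-37292182, 21),
    (-18939921, 22), (33503584, 23), (8038898, 24), (-14394153, 25), (4427739, 26), (21033894, 27), (4187948, 28),
    (130354, 29), (-451, 30), (1, 31)])
def q37 : List ℤ × Sm1.Op := ([170, 10, -10, 8, 2, 0, -2, -2, 2, 0, 2, 0, 0, -1], .lin [(38, 0), (-48, 15), (94,
    16), (-100, 17), (117, 18), (80, 19), (-17, 20), (321, 21), (163, 22), (-288, 23), (-69, 24), (124, 25), (-38,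
    26), (-181, 27), (-36, 28), (-2, 29)])
def q38 : List ℤ × Sm1.Op := ([2430, 30, 0, 0, 6, 0, 0, 2, 0, 0, 0, 0, -1, -2], .lin [(4327810, 0), (-5620387, 15),
    (10920487, 16), (-11693624, 17), (13607000, 18), (9325913, 19), (-1986076, 20), (37374300, 21), (18981627, 22),
    (-33577360, 23), (-8056600, 24), (14425849, 25), (-4437489, 26), (-21080211, 27), (-4197170, 28), (-130640, 29),
    (452, 30), (-1, 31)])
def q39 : List ℤ × Sm1.Op := ([646, 6, 16, -2, 6, 1, 0, -2, -2, 1, 0, 1, 0, 0], .lin [(8646074, 0), (-11228376, 15),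
    (21816886, 16), (-23361455, 17), (27183986, 18), (18631255, 19), (-3967771, 20), (74666161, 21), (37921385, 22),
    (-67080656, 23), (-16095429, 24), (28819878, 25), (-8865190, 26), (-42113924, 27), (-8385082, 28), (-260992,
    29), (903, 30), (-2, 31)])
def q40 : List ℤ × Sm1.Op := ([-1292, 20, 31, 4, -4, -2, -1, 0, 1, 0, -1, 1, 0, 0], .lin [(-3997598940, 0),
    (5191552368, 15), (-10087256229, 16), (10801402853, 17), (-12568788769, 18), (-8614347902, 19), (1834538613,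
    20), (-34522648481, 21), (-17533332455, 22), (31015414120, 23), (7441883254, 24), (-13325159784, 25),
    (4098909583, 26), (19471795325, 27), (3876926765, 28), (120671840, 29), (-417514, 30), (924, 31), (-34, 32), (1,
    33)])
def q41 : List ℤ × Sm1.Op := ([3572, 20, -1, 8, -4, 2, -1, 0, -1, 0, -1, -1, 2, 0], .lin [(4006235470, 0),
    (-5202768350, 15), (10109049032, 16), (-10824738520, 17), (12595942748, 18), (8632958591, 19), (-1838502004,
    20), (34597232221, 21), (17571211980, 22), (-31082420728, 23), (-7457960916, 24), (13353947849, 25),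
    (-4107764987, 26), (-19513862761, 27), (-3885302591, 28), (-120932544, 29), (418416, 30), (-926, 31), (34, 32),
    (-1, 33)])
def q42 : List ℤ × Sm1.Op := ([-1140, -20, 30, -6, 4, 0, -2, 0, 3, 0, -2, 0, -1, 0], .lin [(134104356, 0),
    (-174156985, 15), (338389368, 16), (-362346292, 17), (421635418, 18), (288978853, 19), (-61541846, 20),
    (1158104538, 21), (588177119, 22), (-1040450064, 23), (-249647090, 24), (447008810, 25), (-137502943, 26),
    (-653205229, 27), (-130056258, 28), (-4048088, 29), (14006, 30), (-31, 31), (1, 32)])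
def q43 : List ℤ × Sm1.Op := ([1140, -12, 15, 6, 4, 0, 3, 0, 0, -2, 1, 0, 1, 0], .lin [(-4338931754849, 0),
    (5634830245670, 15), (-10948551119120, 16), (11723674765285, 17), (-13641967966517, 18), (-9349879314702, 19),
    (1991179695448, 20), (-37470346058762, 21), (-19030406518409, 22), (33663648397416, 23), (8077304410229, 24),
    (-14462921310415, 25), (4448892749694, 26), (21134383985540, 27), (4207956049677, 28), (130975342841, 29),
    (-453163186, 30), (1002896, 31), (-36780, 32), (1095, 33), (-1, 34)])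
def q44 : List ℤ × Sm1.Op := ([5832, -24, 0, 0, 0, -3, 0, 0, 0, 1, 0, 0, 1, -1], .lin [(2386303199764930, 0),
    (-3099014735678087, 15), (6021427402990773, 16), (-6447725888784923, 17), (7502738841932602, 18),
    (5142198169206763, 19), (-1095098689497740, 20), (20607746733149815, 21), (10466244350805526, 22),
    (-18514158881794928, 23), (-4442314018438186, 24), (7954242507371141, 25), (-2446778977831392, 26),
    (-11623378974193052, 27), (-2314269860224366, 28), (-72033140267292, 29), (249228340496, 30), (-551567545, 31),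
    (20228109, 32), (-602224, 33), (549, 34), (1, 35)])
def q45 : List ℤ × Sm1.Op := ([-324, -4, 18, 0, -4, 1, 2, 0, 0, 1, 2, -2, -1, -1], .lin [(-2386303199765004, 0),
    (3099014735678181, 15), (-6021427402990956, 16), (6447725888785118, 17), (-7502738841932830, 18),
    (-5142198169206918, 19), (1095098689497773, 20), (-20607746733150439, 21), (-10466244350805843, 22),
    (18514158881795488, 23), (4442314018438320, 24), (-7954242507371382, 25), (2446778977831466, 26),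
    (11623378974193404, 27), (2314269860224436, 28), (72033140267296, 29), (-249228340496, 30), (551567545, 31),
    (-20228109, 32), (602224, 33), (-549, 34), (-1, 35)])
def q46 : List ℤ × Sm1.Op := ([-2736, 16, 9, 18, 0, -1, 1, 0, 0, 1, -3, -1, 1, 0], .lin [(-2386303078625101, 0),
    (3099014578357708, 15), (-6021427097315157, 16), (6447725561468415, 17), (-7502738461058738, 18),
    (-5142197908164904, 19), (1095098633905445, 20), (-20607745687004895, 21), (-10466243819490361, 22),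
    (18514157941930248, 23), (4442313792925697, 24), (-7954242103576855, 25), (2446778853621529, 26),
    (11623378384136360, 27), (2314269742741281, 28), (72033136610558, 29), (-249228327844, 30), (551567517, 31),
    (-20228108, 32), (602224, 33), (-549, 34), (-1, 35)])
def q47 : List ℤ × Sm1.Op := ([5760, 0, 0, 9, 0, 0, 0, 0, 0, 0, 0, 0, -3, 3], .lin [(4338918790489, 0),
    (-5634813409276, 15), (10948518405781, 16), (-11723639735941, 17), (13641927205477, 18), (9349851378058, 19),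
    (-1991173745972, 20), (37470234100553, 21), (19030349657171, 22), (-33663547813296, 23), (-8077280275931, 24),
    (14462878096436, 25), (-4448879456781, 26), (-21134320837798, 27), (-4207943476662, 28), (-130974951496, 29),
    (453161832, 30), (-1002893, 31), (36780, 32), (-1095, 33), (1, 34)])
def q48 : List ℤ × Sm1.Op := ([-14365, 35, -55, -28, 3, 0, -7, -1, -1, 0, -3, 0, 0, -1], .del 37 2)
def q49 : List ℤ × Sm1.Op := ([-52650, -170, -153, 0, -10, 0, 7, -2, 0, 0, -1, -3, -1, -1], .del 45 2)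
def q50 : List ℤ × Sm1.Op := ([1140, 20, 15, 6, -4, 0, -1, 0, 0, 0, -1, 0, 1, 0], .lin [(-3, 0), (-1, 36), (-3, 38),
    (-2, 39), (-4, 40), (-5, 41), (-1, 42), (-4, 43), (-4, 44), (-2, 45), (3, 46), (-4, 47), (-2, 48), (-1, 49)])
def q51 : List ℤ × Sm1.Op := ([2432, 0, -16, 2, 0, 2, 0, 0, -1, 0, 0, -1, 1, 0], .lin [(-3, 0), (-1, 36), (-3, 38),
    (-2, 39), (-5, 40), (-5, 41), (-1, 42), (-4, 43), (-4, 44), (-2, 45), (3, 46), (-4, 47), (-2, 48), (-1, 49)])
def q52 : List ℤ × Sm1.Op := ([816, -16, 6, 6, 0, 1, 2, 0, 0, -1, 0, 1, 0, -1], .lin [(2, 0), (1, 36), (3, 38), (2,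
    39), (4, 40), (5, 41), (1, 42), (3, 43), (3, 44), (1, 45), (-3, 46), (3, 47), (1, 48), (1, 49)])
def q53 : List ℤ × Sm1.Op := ([324, 4, 9, 0, 4, -1, 1, 0, 0, -1, 1, -1, 1, 1], .lin [(-2, 0), (-1, 36), (-3, 38),
    (-2, 39), (-4, 40), (-5, 41), (-1, 42), (-2, 43), (-3, 44), (-1, 45), (3, 46), (-3, 47), (-1, 48), (-1, 49)])
def q54 : List ℤ × Sm1.Op := ([1292, -20, 14, -4, 4, 2, -2, 0, 2, 0, -2, -1, 0, 0], .lin [(-3, 0), (-1, 36), (-3,
    38), (-2, 39), (-5, 40), (-5, 41), (-4, 43), (-4, 44), (-2, 45), (3, 46), (-4, 47), (-2, 48), (-1, 49)])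
def q55 : List ℤ × Sm1.Op := ([3876, 4, 6, -12, -4, 1, -2, 0, 0, -1, 2, 1, 0, 0], .lin [(-3, 0), (-1, 36), (-3, 38),
    (-2, 39), (-4, 40), (-5, 41), (-1, 42), (-4, 43), (-4, 44), (-2, 45), (2, 46), (-4, 47), (-2, 48), (-1, 49)])

/-- the program -/
def prog : List (List ℤ × Sm1.Op) := [
q1, q2, q3, q4, q5, q6, q7, q8, q9, q10, q11, q12, q13, q14, q15, q16, q17, q18, q19, q20, q21, q22, q23, q24, q25,
    q26, q27, q28, q29, q30, q31, q32, q33, q34, q35, q36, q37, q38, q39, q40, q41, q42, q43, q44, q45, q46, q47,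
    q48, q49, q50, q51, q52, q53, q54, q55]

/-- the dihedral group of order 16 -/
def rowD : List ℤ := [3139560, 1080, 0, 0, 12, 0, 0, 2, 0, 0, 0, 0, 0, 0]

/-- the quaternion group of order 16 -/
def rowQ : List ℤ := [3139560, 120, 0, 0, 60, 0, 0, 2, 0, 0, 0, 0, 0, 0]

/-- the rows as combinations -/
def finD : List (List (ℤ × ℕ)) := [
[(1, 1)],
[(1, 38)],
[(1, 40)],
[(1, 54)],
[(1, 55)],
[(1, 53)],
[(1, 51)],
[(1, 39)],
[(1, 37)],
[(1, 48)],
[(1, 56)],
[(1, 52)],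
[(1, 0), (-1, 1), (-8, 38), (-22, 40), (-23, 54), (-35, 55), (-42, 53), (-82, 51), (-85, 39), (-109, 37), (-120,
    48), (-122, 56), (-152, 52), (12, 46), (-175, 45)],
[(1, 0), (-1, 1), (-8, 38), (-22, 40), (-23, 54), (-35, 55), (-42, 53), (-82, 51), (-85, 39), (-109, 37), (-120,
    48), (-122, 56), (-152, 52), (11, 46), (-175, 45)]]

/-- the rows as combinations -/
def finQ : List (List (ℤ × ℕ)) := [
[(1, 1)],
[(1, 38)],
[(1, 40)],
[(1, 54)],
[(1, 55)],
[(1, 53)],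
[(1, 51)],
[(1, 39)],
[(1, 37)],
[(1, 48)],
[(1, 56)],
[(1, 52)],
[(1, 0), (-1, 1), (-6, 38), (-22, 40), (-23, 54), (-41, 55), (-50, 53), (-70, 51), (-79, 39), (-101, 37), (-120,
    48), (-120, 56), (-152, 52), (12, 46), (-181, 45)],
[(1, 0), (-1, 1), (-6, 38), (-22, 40), (-23, 54), (-41, 55), (-50, 53), (-70, 51), (-79, 39), (-101, 37), (-120,
    48), (-120, 56), (-152, 52), (11, 46), (-181, 45)]]

/-- all rows of the program -/
def rows : List (List ℤ) := [List.replicate 14 1] ++ prog.map Prod.fst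

theorem prog_ok : chkSlp dat true prog [List.replicate 14 1] = true := by decide +kernel
theorem finD_ok : chkLin dat (rowD :: rows) (tab.rel.map Prod.snd) finD = true := by decide +kernel
theorem finQ_ok : chkLin dat (rowQ :: rows) (tab.rel.map Prod.snd) finQ = true := by decide +kernel
theorem tab_ok : okR dat tab = true := by decide +kernel

variable {K : Type} [Group K] [Finite K]

theorem virt_16 (h : IsoJ3 K) {T : TD K dat} (hm : T.Mass) (hr : Rat T) : Virt T (nth rowD) ∨ Virt T (nth rowQ) := by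
  obtain ⟨t, D, hD, -⟩ := H417.JThreeCols.exists_coded_iso h
  have h1 : orderOf (J3Type.CharOrder.y t D 4) = 8 := J3Type.CharOrder.ord_y hD 4
  have h2 : _ = 8 := J3Type.CharOrder.cc_y hD (j := 26163) (TAB.J3.card_eq h) 4
  generalize J3Type.CharOrder.y t D 4 = x at h1 h2
  have ty : ∀ {g : K} {o i : ℕ}, orderOf g = o → (∀ s < 14, dat.ord s = o → s = i) → T.ty g = i :=
    fun {g _ _} ho h => h _ (T.lt g) ((T.ord g).symm.trans ho)
  obtain ⟨s, hs⟩ := isConj_iff.1 (H514.QS.even_conj h (n := 8) (by simp) h1 ((orderOf_inv x).trans h1))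
  have h3 : zpowers x = centralizer {x} := eq_of_le_of_card_ge
    (zpowers_le.2 (mem_centralizer_singleton_iff.2 rfl)) (by rw [h2, Nat.card_zpowers, h1])
  have h4 : s * s ∈ zpowers x := by
    rw [h3, mem_centralizer_singleton_iff, ← mul_inv_eq_iff_eq_mul,
      show s * s * x * (s * s)⁻¹ = s * (s * x * s⁻¹) * s⁻¹ by group, hs, ← conj_inv, hs, inv_inv]
  have h5 : s ∉ zpowers x := fun e => by
    rw [h3, mem_centralizer_singleton_iff, ← mul_inv_eq_iff_eq_mul, hs, inv_eq_iff_mul_eq_one, ← pow_two,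
      ← orderOf_dvd_iff_pow_eq_one, h1] at e
    omega
  have h6 : ∀ y ∈ zpowers x, s * y * s⁻¹ = y⁻¹ := by
    rintro _ ⟨k, rfl⟩
    show s * x ^ k * s⁻¹ = (x ^ k)⁻¹
    rw [← conj_zpow, hs, inv_zpow]
  have h7 : ∀ y ∈ zpowers x, (y * s) ^ 2 = s * s := fun y hy => by
    rw [show (y * s) ^ 2 = y * (s * y * s⁻¹) * (s * s) by rw [pow_two]; group, h6 y hy, mul_inv_cancel, one_mul]
  have h8 : cycB dat (T.ty x) q8.1 = true := by
    rw [ty h1 (i := 7) (by decide +kernel)]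
    decide +kernel
  by_cases h9 : s * s = 1
  · refine Or.inl (virt_dih hm hr hs h4 h5 (j := 1) (fun y hy => ty (o := 2) ?_ (by decide +kernel)) h8
      (by decide +kernel))
    refine orderOf_eq_prime ((h7 y hy).trans h9) fun e => h5 ?_
    rw [eq_inv_of_mul_eq_one_right e]
    exact inv_mem hy
  · refine Or.inr (virt_dih hm hr hs h4 h5 (j := 4) (fun y hy => ty (o := 2 ^ (1 + 1)) ?_ (by decide +kernel)) h8
      (by decide +kernel))
    refine orderOf_eq_prime_pow (by rwa [pow_one, h7 y hy]) ?_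
    have h10 := h6 _ h4
    rw [mul_assoc s s s |>.symm, mul_inv_cancel_right] at h10
    rw [show 2 ^ (1 + 1) = 2 * 2 from rfl, pow_mul, h7 y hy, pow_two]
    exact mul_eq_one_iff_eq_inv.2 h10

/-- **the table of `J₃`** -/
theorem exists_tab (h : IsoJ3 K) : ∃ T : TD K dat, T.Mass ∧ Rat T ∧ Tab T tab := by
  obtain ⟨T, hm, hr, hc⟩ := exists_types h
  have h1 : ∀ v ∈ rows, Virt T (nth v) := virt_chkSlp (Hyp.true hm hr (by decide +kernel)) prog
    (List.forall_mem_singleton.2 ((Virt.const 1).congr (by decide +kernel))) prog_ok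
  have h2 : ∀ v ∈ tab.rel.map Prod.snd, Virt T (nth v) := (virt_16 h hm hr).elim
    (fun e => virt_chkLin (List.forall_mem_cons.2 ⟨e, h1⟩) finD_ok)
    fun e => virt_chkLin (List.forall_mem_cons.2 ⟨e, h1⟩) finQ_ok
  exact ⟨T, hm, hr, tab_of_cls hm (fun r hr => h2 _ (List.mem_map_of_mem hr)) tab_ok hc⟩

end J3

theorem in_j3 {K : Type} [Group K] (h : IsoJ3 K) : In K J3.dat J3.tab := by
  have := H306.SD.J.finite_of h
  obtain ⟨T, hm, hr, ht⟩ := J3.exists_tab h
  exact ⟨T, hm, ht, fun g k _ e => hr g k e⟩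

end Cfsg.Agent.TH.Spor
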