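import Cfsg.Agent.TH.Spor.InTool
import Cfsg.Agent.TAB.J2.Main
import Cfsg.Agent.TAB.McL.Main
import Cfsg.Agent.TAB.He.Main
import Cfsg.Agent.TAB.Ru.Main
import Cfsg.Agent.TAB.ON.Tab
import Cfsg.Agent.TAB.Ly.Main
import Cfsg.Agent.TAB.J4.Tab
import Cfsg.Agent.TAB.Sm2.Tits

/-!
# S3541, the sporadic rows: `In` for `J2 J4 McL He Ru ON Ly` and the Tits group (helper31)
-/

set_option autoImplicit false
set_option maxRecDepth 100000

namespace Cfsg.Agent.TH.Spor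

open Cfsg Cfsg.Agent.TAB Cfsg.Agent.TAB.Eng Cfsg.Agent.TAB.Use

variable {K : Type} [Group K]

theorem in_j2 (h : Spor.IsoJ2 K) : In K J2.D (Sm2.mkRows J2.A J2.B) := by
  obtain ⟨e⟩ := h
  obtain ⟨f⟩ := H379.J2Spec.iso
  obtain ⟨S, h1, -, -, h2, -, h3⟩ := J2.tab
  exact (in_of_rat ⟨S, h1, h2, h3⟩).of_equiv (e.trans f)

theorem in_j4 (h : Spor.IsoJ4 K) : In K J4.D J4.RR := by
  obtain ⟨e⟩ := h
  obtain ⟨T, h1, h2, h3⟩ := J4.tab
  obtain ⟨T', -, h4, h5⟩ := J4.exists_T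
  have h6 : ∀ g, T'.ty g = T.ty g := fun g => (J4.ex_is g).elim fun t ht => (h5 g t ht).trans (h2 g t ht).symm
  exact (in_of_rat ⟨T, h1, fun g g' e => h4 g g' ((h6 g).trans (e.trans (h6 g').symm)), h3⟩).of_equiv e

theorem in_mcl (h : Spor.IsoMcL K) : In K McL.D McL.RR := by
  obtain ⟨e⟩ := h
  obtain ⟨f⟩ := H359.CT.McL.iso_K0
  obtain ⟨T, h1, h2, h3, -⟩ := McL.tabK
  exact (in_of_rat ⟨T, h1, h2, h3⟩).of_equiv (e.trans f.symm)

theorem in_on (h : Spor.IsoON K) : In K ON.dON ON.tabON := by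
  obtain ⟨e⟩ := h
  obtain ⟨T, h1, h2, -, h3⟩ := ON.exists_tab
  exact (in_of_rat ⟨T, h1, h2, h3⟩).of_equiv e

theorem in_ly (h : Spor.IsoLy K) : In K Ly.dat Ly.tb := h.elim fun e => (in_of_rat Ly.tab).of_equiv e

theorem in_tits (h : Lie.IsoTits K) : In K Sm2.Tits.dat (Sm2.mkRows Sm2.Tits.rA Sm2.Tits.rB) := by
  have := Sm2.Tits.finite_of h
  obtain ⟨T, h1, h2, h3⟩ := Sm2.Tits.tab_of h
  exact ⟨T, h1, h3, unif_of_one h1 _ (by decide +kernel) h2.one⟩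

section

open Cfsg.Agent.TAB.Ru Cfsg.Agent.H300.Ru

theorem in_ru (h : Spor.IsoRu K) : In K Ru.D Ru.RR := by
  obtain ⟨e⟩ := h
  have := finH
  have hs : ∀ sd ∈ seeds, Virt T (nth sd) := List.forall_mem_cons.2 ⟨virt_gc gc1, List.forall_mem_cons.2 ⟨virt_gc gc2,
    List.forall_mem_cons.2 ⟨virt_gc gc5, List.forall_mem_singleton.2
      (ON.virt_coad (k := 2) mass rat (virt_gc gc0) (by decide +kernel))⟩⟩⟩
  have hk := Nat.card_le_card_of_injective (fun j : Fin 36 => ConjClasses.mk (R j))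
    fun i j h => nonconj i j (ConjClasses.mk_eq_mk_iff_isConj.1 h)
  rw [Nat.card_eq_fintype_card, Fintype.card_fin] at hk
  have h1 := Sm1.virt_five mass rfl hs 1 [1, 9, 14, 17, 18] (by decide) (by decide +kernel) ok_A
  have h2 := Sm1.virt_okC mass.1 (List.forall_mem_append.2 ⟨hs, List.forall_mem_singleton.2 h1⟩) ok_B
  exact (in_of_rat ⟨T, mass, rat, Sm1.tab_of_cls mass (fun r hr => h2 _ (List.of_mem_zip hr).2) ok_R hk⟩).of_equiv
    (e.trans RuLat.Main.equiv)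

end

section

open Cfsg.Agent.TAB.He Cfsg.Agent.TAB.Co Cfsg.Agent.H447.CTab
open Cfsg.Agent.H825.HT.He7 Cfsg.Agent.H300.Cls

theorem he_rat : ∃ T : TD Spor.He He.D, T.Mass ∧ ON.Rat T ∧ ∀ v ∈ seeds, Virt T (nth v) := by
  have := finite
  have h1 : E.Ok CT := ⟨X_ord, fun _ => rfl, fun v hv => by
    obtain ⟨w, hw, rfl⟩ := List.mem_map.1 hv
    refine ⟨_, gc_seeds w hw, fun i => ?_⟩
    rw [onX, List.getD_eq_getElem _ _ (by rw [List.length_map]; exact i.2), List.getElem_map,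
      ← List.getD_eq_getElem _ 0, ← ff_X]
    rfl⟩
  obtain ⟨T, hm, hT⟩ := Sm1.ofTab (D := He.D) h1 KFacts.He.Classes.card_he (PL := [2, 3, 5, 7, 11, 13, 17, 19, 23])
    (X := [(9, 2), (10, 2), (11, 2), (17, 2)]) (by decide +kernel) fun i p h => by
      have h2 : p = 2 ∧ Q2.getD (F25.getD i 0) 0 = He.D.pwf (F25.getD i 0) 2 := by
        simp only [List.mem_cons, Prod.mk.injEq, List.not_mem_nil, or_false] at h
        rcases h with ⟨h, rfl⟩ | ⟨h, rfl⟩ | ⟨h, rfl⟩ | ⟨h, rfl⟩ <;> rw [h] <;> exact ⟨rfl, rfl⟩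
      rw [h2.1]
      exact (ff_cl _).trans ((ff_sq _).trans ((congrArg (Q2.getD · 0) (ff_X i)).trans h2.2))
  have h2 : ∀ g, T.ty g = ff g := fun g => (hT g).trans (ff_cl g)
  have h3 : ON.Rat T := fun g h e => by
    obtain ⟨m, -, h4⟩ := ff_gal g h (by rwa [← h2, ← h2])
    exact ⟨m, h4⟩
  have h4 : Virt T (nth (List.replicate 25 1)) := (Virt.const 1).congr (by decide +kernel)
  have h5 : ∀ v ∈ seeds.take 3, Virt T (nth v) := fun v hv => by
    have h5 : (fun g => (nth v (T.ty g) : ℂ)) = tv ff v := funext fun g => by rw [nth_eq, h2]; rfl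
    rw [Virt, h5]
    exact gc_seeds v hv
  have h6 : ∀ v ∈ seeds.drop 3, Virt T (nth v) :=
    List.forall_mem_cons.2 ⟨ON.virt_coad (k := 2) hm h3 h4 (by decide +kernel),
      List.forall_mem_singleton.2 (ON.virt_coad (k := 4) hm h3 h4 (by decide +kernel))⟩
  exact ⟨T, hm, h3, List.take_append_drop 3 seeds ▸ List.forall_mem_append.2 ⟨h5, h6⟩⟩

theorem in_he (h : Spor.IsoHe K) : In K He.D He.RR := by
  obtain ⟨e⟩ := h
  have := finite
  obtain ⟨T, hm, hr, hs⟩ := he_rat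
  have h1 := Sm1.virt_okC hm.1 hs ok_A
  have h2 := h1 u List.mem_cons_self
  have h3 := virt_half hm h2 (fun p hp => h1 _ (List.mem_cons_of_mem _ (List.of_mem_zip hp).2)) ok_H
  have h4 : Virt T (nth w2) := (h2.add (h3.smul (-1))).congr (by decide +kernel)
  exact (in_of_rat ⟨T, hm, hr, Sm1.tab_of_cls hm (fun r hr => List.forall_mem_append.2
    ⟨fun r hr => h1 r (List.mem_cons_of_mem _ (List.mem_cons_of_mem _ hr)),
      List.forall_mem_cons.2 ⟨h3, List.forall_mem_singleton.2 h4⟩⟩ _ (List.of_mem_zip hr).2) ok_R classes⟩).of_equiv e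

end

end Cfsg.Agent.TH.Spor
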