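import Cfsg.Agent.TH.Spor.InTool
import Cfsg.Agent.TAB.Co1.Tab
import Cfsg.Agent.TAB.Co2.Main
import Cfsg.Agent.TAB.Th.Main
import Cfsg.Agent.TAB.HN.Main
import Cfsg.Agent.TAB.F23.Use
import Cfsg.Agent.TAB.M.Main

/-!
# S3541, the sporadic rows: `In` for `Co1 Co2 Th HN Fi23 M` (helper31)
-/

set_option autoImplicit false
set_option maxRecDepth 100000

namespace Cfsg.Agent.TH.Spor

open Cfsg Cfsg.Agent.TAB Cfsg.Agent.TAB.Eng Cfsg.Agent.TAB.Use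

variable {K : Type} [Group K]

theorem in_co1 (h : Spor.IsoCo1 K) : In K Co1.D Co1.RR := by
  obtain ⟨e⟩ := h
  obtain ⟨T, h1, h2, -, -, h3⟩ := Co1.tab
  exact (in_of_rat ⟨T, h1, h2, h3⟩).of_equiv e

theorem in_co2 (h : Spor.IsoCo2 K) : In K Co2.D (Sm2.mkRows Co2.A Co2.B) := by
  obtain ⟨e⟩ := h
  have := Co2.finite
  obtain ⟨T, hm, hr, -, hs⟩ := Co2.str
  refine (in_of_rat ⟨T, hm, fun g h e => ?_, (Co.tab_of_virt hm Co2.ok_one
    (Co.virt_of_certs hm.1 Co2.ok_primes hs (allL_spec Co2.ok_certs) Co2.ok_all) Co2.ok_rows).2⟩).of_equiv e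
  rcases hr g h e with h1 | ⟨-, h1⟩
  · exact ⟨1, (pow_one g).symm ▸ h1⟩
  · have h2 : g ^ (orderOf g - 1) = g⁻¹ := eq_inv_of_mul_eq_one_left (by
      rw [← pow_succ, Nat.sub_add_cancel (orderOf_pos g), pow_orderOf_eq_one])
    exact ⟨_, h2 ▸ h1⟩

theorem in_th (h : Spor.IsoTh K) : In K TAB.Th.D (Sm2.mkRows TAB.Th.rowA TAB.Th.rowB) := by
  obtain ⟨e⟩ := h
  obtain ⟨T, h1, h2, -, -, h3⟩ := TAB.Th.tab
  exact (in_of_rat ⟨T, h1, h2, h3⟩).of_equiv e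

theorem in_hn (h : Spor.IsoHN K) : In K TAB.HN.dat TAB.HN.rows :=
  h.elim fun e => (in_of_rat ⟨_, TAB.HN.inT.mass, TAB.HN.inT.rat, TAB.HN.tab⟩).of_equiv e

theorem in_fi23 (H : F23.In) (h : Spor.IsoFi23 K) : In K F23.D F23.R := by
  obtain ⟨e⟩ := h
  obtain ⟨T, H⟩ := H
  have := H.finite
  exact (in_of_rat ⟨T, H.1, H.2.1, F23.tab_of H⟩).of_equiv e

theorem in_m (h : Spor.IsoM K) : In K M.dat M.tabM := by
  obtain ⟨e⟩ := h
  have := BpSpor.MBigModel.finite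
  obtain ⟨T, H, hT⟩ := M.tab_of M.base C3B.box3
  obtain ⟨f⟩ := H593.IMMon.equivMG
  have ho : ∀ {i}, i < 171 → M.BoxCM i → One T i := fun hi h => BoxC.one hT hi h
  refine In.of_equiv ⟨T, H.mass, H.tab, unif_of_one H.mass ([1, 2, 18, 44, 45] ++ [3, 4, 5, 10, 11, 19, 33, 108])
    (by decide +kernel) (List.forall_mem_append.2 ⟨?_, H.one⟩)⟩ (e.trans f)
  simp only [List.forall_mem_cons]
  exact ⟨ho (by decide) M4.boxC_2A, ho (by decide) M4.boxC_2B, ho (by decide) (M7.boxC_7A C2B.cover C2B.countC),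
    ho (by decide) (Big.boxC_13A C2B.cover C2B.countC), ho (by decide) (Big.boxC_13B C2B.cover), List.forall_mem_nil _⟩

end Cfsg.Agent.TH.Spor
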