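import Cfsg.Agent.TH.Spor.InOne
import Cfsg.Agent.TAB.Sm2.M11
import Cfsg.Agent.TAB.Sm2.M12
import Cfsg.Agent.TAB.Sm2.M22
import Cfsg.Agent.TAB.Sm2.M23
import Cfsg.Agent.TAB.Sm2.M24
import Cfsg.Agent.TAB.Co3.Main

/-!
# S3541, the sporadic rows: `In` for the Mathieu groups and `Co3` (helper31)
-/

set_option autoImplicit false
set_option maxRecDepth 100000

namespace Cfsg.Agent.TH.Spor

open Cfsg Cfsg.Agent.TAB Cfsg.Agent.TAB.Eng Cfsg.Agent.TAB.Use Cfsg.Agent.TAB.Sm2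

variable {K : Type} [Group K]

theorem in_m11 (h : Spor.IsoM11 K) : In K M11.dat (mkRows M11.rA M11.rB) := by
  obtain ⟨e⟩ := h
  obtain ⟨T, h1, h2, -⟩ := M11.tab
  exact (in_of_split h2 h1 [(6, 6, 1), (7, 7, 1)] [1, 2] (by decide +kernel) (by decide +kernel)).of_equiv e

theorem in_m12 (h : Spor.IsoM12 K) : In K M12.dat (mkRows M12.rA M12.rB) := by
  obtain ⟨e⟩ := h
  obtain ⟨T, h1, h2, -⟩ := M12.tab
  exact (in_of_split h2 h1 [(13, 13, 1)] [1, 2, 3, 4] (by decide +kernel) (by decide +kernel)).of_equiv e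

theorem inC_m22 (h : Spor.IsoM22 K) : InC K M22.dat (mkRows M22.rA M22.rB) [(2, 36)] := by
  obtain ⟨e⟩ := h
  obtain ⟨T, h1, h2, -⟩ := M22.tab
  have h3 := one_of_split h2 h1 [(7, 7, 1), (9, 9, 1)] (L := [1, 2]) (by decide +kernel)
  refine InC.of_equiv ⟨T, h1, h2, unif_of_one h1 _ (by decide +kernel) h3, List.forall_mem_singleton.2 fun x hx => ?_⟩ e
  have h4 : 12320 * _ = 443520 := (h3 2 (by decide)).card h1 hx
  omega

theorem in_m22 (h : Spor.IsoM22 K) : In K M22.dat (mkRows M22.rA M22.rB) := (inC_m22 h).in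

theorem in_m23 (h : Spor.IsoM23 K) : In K M23.dat (mkRows M23.rA M23.rB) := by
  obtain ⟨e⟩ := h
  obtain ⟨T, h1, h2, -⟩ := M23.tab
  exact (in_of_split h2 h1 [(6, 9, 2), (8, 8, 1), (9, 9, 1), (10, 10, 1), (11, 11, 1)] [1, 2] (by decide +kernel)
    (by decide +kernel)).of_equiv e

theorem in_m24 (h : Spor.IsoM24 K) : In K M24.dat (mkRows M24.rA M24.rB) := by
  obtain ⟨e⟩ := h
  obtain ⟨T, h1, h2, -⟩ := M24.tab
  exact (in_of_split h2 h1 [(11, 17, 2), (17, 17, 1), (18, 18, 1), (19, 19, 1), (20, 20, 1)] [1, 2, 3, 4]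
    (by decide +kernel) (by decide +kernel)).of_equiv e

theorem in_co3 (h : Spor.IsoCo3 K) : In K Co3.D (mkRows Co3.A Co3.B) := by
  obtain ⟨e⟩ := h
  have := Co3.finite
  obtain ⟨T, hm, hs⟩ := Co3.seeded
  exact (in_of_split (Co.tab_of_virt hm Co3.ok_one
    (Co.virt_of_certs hm.1 Co3.ok_primes hs (allL_spec Co3.ok_certs) Co3.ok_all) Co3.ok_rows).2 hm
    [(23, 33, 2), (31, 31, 1), (33, 33, 1), (34, 34, 1)] [1, 2, 3, 4, 5, 8, 9] (by decide +kernel)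
    (by decide +kernel)).of_equiv e

end Cfsg.Agent.TH.Spor
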