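import Cfsg.Agent.TH.Spor.InOne
import Cfsg.Agent.TAB.HS.Main
import Cfsg.Agent.TAB.Suz.Main
import Cfsg.Agent.TAB.F22.Fam

/-!
# S3541, the sporadic rows: `In` for `HS Suz Fi22` (helper31)
-/

set_option autoImplicit false
set_option maxRecDepth 100000

namespace Cfsg.Agent.TH.Spor

open Cfsg Cfsg.Agent.TAB Cfsg.Agent.TAB.Eng Cfsg.Agent.TAB.Use Cfsg.Agent.TAB.Sm2 Cfsg.Agent.TwoF.SpO

variable {K : Type} [Group K]

/-- the bounds for `Suz` -/
def bSuz : List (ℕ × ℕ × List (ℕ × ℕ)) :=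
  [(1, 3317760, [(0, 34), (0, 12), (0, 2)]), (4, 34992, [(0, 35), (0, 9)]), (6, 3240, [(0, 33), (0, 15)]),
    (14, 300, [(0, 36), (0, 9)]), (31, 161280, [(0, 26), (0, 9)]), (34, 1800, [(0, 36), (0, 13), (0, 5)]),
    (36, 9797760, [(0, 34), (0, 16)])]

theorem in_suz (h : Spor.IsoSuz K) : In K TAB.Sz.dat (mkRows TAB.Sz.rowA TAB.Sz.rowB) := by
  obtain ⟨e⟩ := h
  have : Finite Spor.Suz := Nat.finite_of_card_ne_zero (by rw [TAB.Sz.mass.1]; decide)
  exact (in_of_chk TAB.Sz.tab TAB.Sz.mass (irr_mkRows TAB.Sz.tab) (ms := [[(90, 10), (35, 15), (1, 31)]]) (L := bSuz)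
    (by decide +kernel) (by decide +kernel) (by decide +kernel)).of_equiv e

/-- the bounds for `Fi22` -/
def bF22 : List (ℕ × ℕ × List (ℕ × ℕ)) :=
  [(1, 1769472, [(0, 41), (0, 33)]), (2, 53084160, [(0, 43), (0, 12)]), (3, 18393661440, [(0, 12), (0, 13)]),
    (4, 17496, [(0, 24), (1, 46), (0, 11)]), (5, 2519424, [(0, 16), (1, 25)]), (6, 139968, [(0, 56), (1, 31)]),
    (7, 19595520, [(0, 31), (0, 9)]), (13, 600, [(0, 4), (1, 25)])]

theorem in_fi22 (h : Spor.IsoFi22 K) : In K F22.dat (mkRows F22.rowA F22.rowB) := by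
  obtain ⟨e⟩ := h
  have := F22.fin22
  exact (in_of_chk F22.tab F22.mass (irr_mkRows F22.tab) (ms := [[(1, 3), (315, 12), (224, 24)], [(1, 13)]])
    (L := bF22) (by decide +kernel) (by decide +kernel) (by decide +kernel)).of_equiv e

/-- the bounds for `HS` -/
def bHS : List (ℕ × ℕ × List (ℕ × ℕ)) :=
  [(1, 2880, [(0, 11), (0, 8), (0, 17)]), (2, 7680, [(0, 15), (0, 10)]), (3, 360, [(0, 12), (0, 1)]),
    (7, 300, [(0, 12), (0, 17)]), (8, 1000, [(0, 20), (0, 8), (0, 9)]), (9, 100, [(0, 12), (0, 4)])]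

theorem hs_one {G : Type} [Group G] [Finite G] {T : TD G HS.D} (hm : T.Mass) (h : Tab T (mkRows HS.A HS.B)) :
    ∀ t ∈ [1, 2, 3, 7, 8, 9], One T t := by
  have hI := inh_of_mass hm (by decide +kernel)
  have h1 := bnd_of_chk hm (irr_mkRows h) (ms := [[(10, 3), (3, 4), (-20, 10)]]) (L := bHS) (by decide +kernel)
  simp only [bHS, List.forall_mem_cons] at h1 ⊢
  obtain ⟨b1, b2, b3, b7, b8, b9, -⟩ := h1
  refine ⟨b1.one hm.1 hI (by decide) (by decide) (by decide), b2.one hm.1 hI (by decide) (by decide) (by decide),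
    b3.one hm.1 hI (by decide) (by decide) (by decide), b7.one hm.1 hI (by decide) (by decide) (by decide), ?_,
    (Bnd.desc (a := 2) (e := 0) (m := 25) Nat.prime_two b9 (L := []) (List.forall_mem_nil _) (by decide)).one hm.1 hI
      (by decide) (by decide) (by decide), List.forall_mem_nil _⟩
  by_cases h2 : One T 15
  · have h3 : Bnd T 15 20 := fun x hx => by
      have h4 : 2217600 * _ = 44352000 := h2.card hm hx
      exact dvd_of_eq (by omega)
    exact (Bnd.desc (a := 3) (e := 2) (m := 125) Nat.prime_two b8 (L := [(15, 20, [])])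
      (List.forall_mem_singleton.2 h3) (by decide)).one hm.1 hI (by decide) (by decide) (by decide)
  · have h3 : ∀ t < HS.D.n, ¬ HS.D.cnt t * HS.D.ord t ∣ HS.D.N → ¬ One T t := fun t ht h3 h4 => by
      obtain ⟨g, hg⟩ := hI t ht
      refine h4.not_dvd hm h3 hg ?_
      rw [← hg, ← T.ord, ← Nat.card_zpowers]
      exact Subgroup.card_dvd_of_le (Subgroup.zpowers_le.2 (Subgroup.mem_centralizer_singleton_iff.2 rfl))
    refine one_of_notOne h hm hI (S := [15, 17, 20]) (by decide +kernel) (by decide) ?_ (by decide) (by decide)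
    simp only [List.forall_mem_cons]
    exact ⟨⟨by decide, h2⟩, ⟨by decide, h3 _ (by decide) (by decide)⟩, ⟨by decide, h3 _ (by decide) (by decide)⟩,
      List.forall_mem_nil _⟩

theorem in_hs (h : Spor.IsoHS K) : In K HS.D (mkRows HS.A HS.B) := by
  obtain ⟨e⟩ := h
  obtain ⟨f⟩ := HS.isoQ
  exact In.of_equiv ⟨_, HS.mass, HS.tabQ.2, unif_of_one HS.mass _ (by decide +kernel) (hs_one HS.mass HS.tabQ.2)⟩
    (e.trans f.symm)

end Cfsg.Agent.TH.Spor
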