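import Cfsg.Agent.TH.Spor.InOne
import Cfsg.Agent.TAB.B.Fin.Main
import Cfsg.Agent.TAB.F24.Use

/-!
# S3541, the sporadic rows: `In` for `B` and `Fi24'` (helper31)
-/

set_option autoImplicit false
set_option maxRecDepth 100000

namespace Cfsg.Agent.TH.Spor

open Cfsg Cfsg.Agent.TAB Cfsg.Agent.TAB.Eng Cfsg.Agent.TAB.Use Cfsg.Agent.TAB.Sm2 Cfsg.Agent.TwoF.SpO

variable {K : Type} [Group K]

/-- the bounds for `B` -/
def bB : List (ℕ × ℕ × List (ℕ × ℕ)) :=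
  [(1, 306129918735099415756800, [(1, 64), (0, 126)]), (2, 354883595661213696000, [(0, 22), (0, 17)]),
    (3, 26489012826931200, [(0, 11), (1, 125), (0, 125)]), (4, 11689182992793600, [(0, 16), (1, 109)]),
    (5, 387370509926400, [(0, 17), (0, 140)]), (6, 65303470080, [(0, 3), (0, 95)]), (17, 443520000, [(0, 5), (0, 95)]),
    (18, 6000000, [(0, 2), (0, 140), (0, 48)]), (30, 564480, [(0, 1), (0, 162)])]

theorem okB_B : okB B.Fin.datF (B.Bes.rowsL B.Fin.cols 0 166) [[(-1, 17), (33, 48)], [(-1, 17), (-99, 96)]] bB =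
    true := by decide +kernel

theorem in_b (h : Spor.IsoB K) : In K B.Fin.datF B.Fin.tabB := by
  obtain ⟨e⟩ := h
  have := B.Fin.finite_B
  obtain ⟨T, h1, h2, -⟩ := B.Fin.tab
  exact (in_of_chk h2 h1 (irr_mkRows (B.Fin.tabB_eq ▸ h2)) okB_B (by decide +kernel) (by decide +kernel)).of_equiv e

theorem in_fi24 (H : F24.In) (h : Spor.IsoFi24' K) : In K F24.DT F24.tabT := by
  obtain ⟨e⟩ := h
  obtain ⟨X, _, _, ⟨S⟩⟩ := H
  have := S.mn.finite
  refine In.of_equiv ⟨S.T', S.mass', S.mn.tab, SB.SporL.unif_of S.mass' [1, 2, 3, 4, 5, 6, 7, 11, 23, 24]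
    (by decide +kernel) fun t ht g g' hg hg' => ⟨1, ?_⟩⟩ e
  have h1 : ∀ t ∈ [1, 2, 3, 4, 5, 6, 7, 11, 23, 24], t < 94 ∧ F24.kind.getD t 0 = 0 := by decide
  rw [pow_one]
  exact S.one t (h1 t ht).1 (h1 t ht).2 g g' hg hg'

end Cfsg.Agent.TH.Spor
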