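import Cfsg.Agent.TH.Spor.Defs
import Cfsg.Agent.SB.SporL.LP
import Cfsg.Agent.TAB.ON.Op
import Cfsg.Agent.TAB.Eng.Cov

/-!
# S3541, the sporadic rows: tools for `In` (helper31)
-/

set_option autoImplicit false

namespace Cfsg.Agent.TH.Spor

open Cfsg Cfsg.Agent.TAB Cfsg.Agent.TAB.Eng Cfsg.Agent.TAB.Use

universe u v

variable {K : Type u} {G : Type v} [Group K] [Group G] {D : Dat} {R : Rows}

theorem Unif.pull {T : TD G D} (h : Unif T) (e : K ≃* G) : Unif (T.pull e) := fun g g' hp ht => by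
  obtain ⟨k, hk⟩ := h (e g) (e g') (by rwa [MulEquiv.orderOf_eq]) ht
  refine ⟨k, ?_⟩
  have h1 := e.symm.toMonoidHom.map_isConj hk
  simpa using h1

theorem In.of_equiv (h : In G D R) (e : K ≃* G) : In K D R := by
  obtain ⟨T, h1, h2, h3⟩ := h
  exact ⟨T.pull e, mass_pull h1 e, tab_pull h2 e, h3.pull e⟩

theorem InC.of_equiv {L : List (ℕ × ℕ)} (h : InC G D R L) (e : K ≃* G) : InC K D R L := by
  obtain ⟨T, h1, h2, h3, h4⟩ := h
  refine ⟨T.pull e, mass_pull h1 e, tab_pull h2 e, h3.pull e, fun p hp x hx => le_trans ?_ (h4 p hp (e x) hx)⟩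
  refine le_of_eq (Nat.card_congr (e.toEquiv.subtypeEquiv fun g => ?_))
  rw [Subgroup.mem_centralizer_singleton_iff, Subgroup.mem_centralizer_singleton_iff]
  show _ ↔ e g * e x = e x * e g
  rw [← map_mul, ← map_mul, e.apply_eq_iff_eq]

theorem InC.in {L : List (ℕ × ℕ)} (h : InC G D R L) : In G D R := by
  obtain ⟨T, h1, h2, h3, -⟩ := h
  exact ⟨T, h1, h2, h3⟩

theorem unif_of_rat {T : TD G D} (h : ON.Rat T) : Unif T := fun g g' _ ht => h g g' ht

/-- the types in `L` are single classes, the other types of prime order `p` have `p ^ 2` not dividing the order -/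
theorem unif_of_one [Finite G] {T : TD G D} (hm : T.Mass) (L : List ℕ) (hc : SB.SporL.covU D L = true)
    (h : ∀ t ∈ L, One T t) : Unif T :=
  SB.SporL.unif_of hm L hc fun t ht _ _ hg hg' => ⟨1, by rw [pow_one]; exact (h t ht).conj hm hg hg'⟩

theorem in_of_rat (h : ∃ T : TD G D, T.Mass ∧ ON.Rat T ∧ Tab T R) : In G D R := by
  obtain ⟨T, h1, h2, h3⟩ := h
  exact ⟨T, h1, h3, unif_of_rat h2⟩

end Cfsg.Agent.TH.Spor
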