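import Cfsg.Agent.TH.Spor.Defs
import Cfsg.Agent.TAB.J1.Main
import Cfsg.Agent.TAB.Sm1.Slp
import Cfsg.Agent.TAB.Sm1.Fin
import Cfsg.Agent.TAB.Eng.Map
import Cfsg.Agent.OddHalf.D4.Spor.J1Out

/-!
# S3541, the group `J₁` : the rational classes and the table (helper11)

The types are the element orders. The rows come from the permutation characters on the cyclic subgroups by the adjoint
Adams operations and `δ` (scripts as in `notes/TH/j3`).
-/

set_option autoImplicit false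
set_option maxRecDepth 100000

namespace Cfsg.Agent.TH.Spor

open Cfsg Cfsg.Spor Subgroup Cfsg.Agent.TAB Cfsg.Agent.TAB.Eng Cfsg.Agent.TAB.Use Cfsg.Agent.TAB.ON Cfsg.Agent.TAB.Sm1

namespace J1

open Cfsg.Agent.H413.JOneLocal Cfsg.Agent.H413.JOneSpec

/-- the types `1A 2A 3A 5AB 6A 7A 10AB 11A 15AB 19ABC` -/
def dat : Dat where
  n := 10
  N := 175560
  ordL := [1, 2, 3, 5, 6, 7, 10, 11, 15, 19]
  cntL := [1, 1463, 5852, 11704, 29260, 25080, 35112, 15960, 23408, 27720]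
  pwL := [[], [(1, 1)], [(1, 2)], [(1, 3)], [(1, 4), (2, 2), (3, 1)], [(1, 5)], [(1, 6), (2, 3), (5, 1)], [(1, 7)], [(1, 8),
    (3, 3), (5, 2)], [(1, 9)]]

/-- the numbers of classes -/
def clsN (i : ℕ) : ℕ := [1, 1, 1, 2, 1, 1, 2, 1, 2, 3].getD i 0

theorem okPow : dat.okPow = true := by decide +kernel
theorem okSep : dat.okSep (fun _ => ()) = true := by decide +kernel
theorem okSum : dat.okSum = true := by decide +kernel

/-- the trivial key -/
def key : Key Spor.J1 Unit where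
  P _ _ := True
  func _ _ _ _ _ := rfl
  conj _ _ _ _ := trivial
  gal _ _ _ _ _ := trivial

theorem ty_of {i : ℕ} {g : Spor.J1} (ho : orderOf g = dat.ord i) : Ty key dat (fun _ => ()) i g :=
  ⟨ho, fun _ _ => trivial⟩

theorem not_conj {x : Spor.J1} {n a : ℕ} (hx : orderOf x = n)
    (h : ∀ o ∈ ({1, 2, 3, 5, 6, 7, 10, 11, 15, 19} : Finset ℕ), ¬ a ^ o ≡ 1 [MOD n]) : ¬ IsConj x (x ^ a) :=
  fun hc => by
    obtain ⟨c, hc⟩ := conj_pow_mod hc
    exact h _ (orderOf_mem_J1 c) (hx ▸ hc)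

theorem cent_le {x : Spor.J1} {n e p : ℕ} (hx : orderOf x = n) (hp : p.Prime) (hc : Nat.Coprime p n)
    (h : p * n = 30) (h30 : Nat.card (centralizer ({x ^ e} : Set Spor.J1)) = 30) :
    Nat.card (centralizer ({x} : Set Spor.J1)) ≤ n := by
  have := TAB.J1.finite
  have h1 : Nat.card (centralizer ({x} : Set Spor.J1)) ∣ p * n := by
    rw [h, ← h30]
    exact card_dvd_of_le fun y hy =>
      mem_centralizer_singleton_iff.2 (Commute.pow_right (mem_centralizer_singleton_iff.1 hy) e).eq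
  refine Nat.le_of_dvd (hx ▸ orderOf_pos x) (Nat.Coprime.dvd_of_dvd_mul_left
    ((Nat.Prime.coprime_iff_not_dvd hp).2 fun h2 => ?_).symm h1)
  have h3 : 30 ∉ ({1, 2, 3, 5, 6, 7, 10, 11, 15, 19} : Finset ℕ) := by decide
  have := Fact.mk hp
  obtain ⟨⟨u, u1⟩, u2⟩ := exists_prime_orderOf_dvd_card' (G := centralizer ({x} : Set Spor.J1)) p h2
  rw [Subgroup.orderOf_mk] at u2
  have u3 : Commute u x := mem_centralizer_singleton_iff.1 u1
  have h4 := orderOf_mem_J1 (u * x)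
  rw [u3.orderOf_mul_eq_mul_orderOf_of_coprime (by rwa [u2, hx]), u2, hx, h] at h4
  exact h3 h4

theorem boxes : ∀ i < dat.n, BoxR key dat (fun _ => ()) i (clsN i) := by
  have := TAB.J1.finite
  have : IsSimpleGroup Spor.J1 := SporadicB.J1.Main.isJ1.1
  have hb : ∀ {x : Spor.J1} {n : ℕ}, orderOf x = n → Big n → Nat.card (centralizer ({x} : Set Spor.J1)) ≤ n :=
    fun hx h => (hx ▸ H417.JOneDeg.card_cent isLocal card_J1 (hx ▸ h)).le
  intro i hi
  obtain ⟨x, hx⟩ := (exists_orderOf_iff (dat.ord i)).2 (by revert i; decide +kernel)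
  have ht := ty_of hx
  change i < 10 at hi
  interval_cases i
  · exact BoxR.one ht ((card_le_card_group _).trans card_J1.le) (by decide +kernel)
  · exact BoxR.one ht (card_cent_two isLocal hx).le (by decide +kernel)
  · exact BoxR.one ht (isLocal.cent3 x hx).le (by decide +kernel)
  · exact BoxR.two (k := 2) ht (isLocal.cent5 x hx).le (by decide) (not_conj hx (by decide +kernel))
      (by decide +kernel)
  · exact BoxR.one ht (cent_le (e := 2) hx Nat.prime_five (by decide) rfl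
      (isLocal.cent3 _ (by rw [orderOf_pow, hx]; rfl))) (by decide +kernel)
  · exact BoxR.one ht (hb hx (Or.inl rfl)) (by decide +kernel)
  · exact BoxR.two (k := 3) ht (cent_le (e := 2) hx Nat.prime_three (by decide) rfl
      (isLocal.cent5 _ (by rw [orderOf_pow, hx]; rfl))) (by decide) (not_conj hx (by decide +kernel))
      (by decide +kernel)
  · exact BoxR.one ht (hb hx (Or.inr (Or.inl rfl))) (by decide +kernel)
  · exact BoxR.two (k := 2) ht (cent_le (e := 3) hx Nat.prime_two (by decide) rfl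
      (isLocal.cent5 _ (by rw [orderOf_pow, hx]; rfl))) (by decide) (not_conj hx (by decide +kernel))
      (by decide +kernel)
  · refine ⟨x, 19, [1, 2, 4], ht, hb hx (Or.inr (Or.inr rfl)), rfl, by decide, ?_, by decide +kernel⟩
    simp only [List.pairwise_cons, List.forall_mem_cons, pow_one, List.not_mem_nil, IsEmpty.forall_iff, implies_true,
      List.Pairwise.nil, and_true]
    refine ⟨⟨not_conj hx (by decide +kernel), not_conj hx (by decide +kernel)⟩, ?_⟩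
    rw [show 4 = 2 * 2 from rfl, pow_mul]
    exact TAB.J1.not_sq (Or.inr (by rw [orderOf_pow, hx]; rfl))

/-- the table -/
def tab : Rows where
  deg := [1, 56, 56, 76, 76, 77, 77, 77, 120, 120, 120, 133, 133, 133, 209]
  rel := [
([(0, 1)], [1, 1, 1, 1, 1, 1, 1, 1, 1, 1]),
([(1, 1), (2, 1)], [112, 0, 4, 2, 0, 0, 0, 2, -1, -2]),
([(3, 1)], [76, 4, 1, 1, 1, -1, -1, -1, 1, 0]),
([(4, 1)], [76, -4, 1, 1, -1, -1, 1, -1, 1, 0]),
([(5, 1)], [77, 5, -1, 2, -1, 0, 0, 0, -1, 1]),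
([(6, 1), (7, 1)], [154, -6, 4, -1, 0, 0, -1, 0, -1, 2]),
([(8, 1), (9, 1), (10, 1)], [360, 0, 0, 0, 0, 3, 0, -3, 0, -1]),
([(11, 1)], [133, 5, 1, -2, -1, 0, 0, 1, 1, 0]),
([(12, 1), (13, 1)], [266, -6, -4, 1, 0, 0, -1, 2, 1, 0]),
([(14, 1)], [209, 1, -1, -1, 1, -1, 1, 0, -1, 0])]

def q1 : List ℤ × Sm1.Op := ([175560, 0, 0, 0, 0, 0, 0, 0, 0, 0], .cyc 0)
def q2 : List ℤ × Sm1.Op := ([87780, 60, 0, 0, 0, 0, 0, 0, 0, 0], .cyc 1)
def q3 : List ℤ × Sm1.Op := ([58520, 0, 20, 0, 0, 0, 0, 0, 0, 0], .cyc 2)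
def q4 : List ℤ × Sm1.Op := ([35112, 0, 0, 12, 0, 0, 0, 0, 0, 0], .cyc 3)
def q5 : List ℤ × Sm1.Op := ([29260, 20, 10, 0, 2, 0, 0, 0, 0, 0], .cyc 4)
def q6 : List ℤ × Sm1.Op := ([25080, 0, 0, 0, 0, 6, 0, 0, 0, 0], .cyc 5)
def q7 : List ℤ × Sm1.Op := ([17556, 12, 0, 6, 0, 0, 2, 0, 0, 0], .cyc 6)
def q8 : List ℤ × Sm1.Op := ([15960, 0, 0, 0, 0, 0, 0, 10, 0, 0], .cyc 7)
def q9 : List ℤ × Sm1.Op := ([11704, 0, 4, 4, 0, 0, 0, 0, 4, 0], .cyc 8)
def q10 : List ℤ × Sm1.Op := ([9240, 0, 0, 0, 0, 0, 0, 0, 0, 6], .cyc 9)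
def q11 : List ℤ × Sm1.Op := ([266, 10, 2, -4, -2, 0, 0, 2, 2, 0], .lin [(-18, 0), (1, 1), (-4, 2), (-4, 3), (-5,
    4), (8, 5), (3, 6), (9, 7), (2, 8), (5, 9), (3, 10)])
def q12 : List ℤ × Sm1.Op := ([-1, 23, -1, -1, -1, -1, 3, -1, -1, -1], .lin [(-1, 0), (-1, 4), (2, 7)])
def q13 : List ℤ × Sm1.Op := ([0, 16, 0, 0, 4, 0, -4, 0, 0, 0], .lin [(-1, 3), (1, 4), (2, 5), (-2, 7)])
def q14 : List ℤ × Sm1.Op := ([-264, 8, 0, 6, -4, 2, -2, 0, 0, 2], .lin [(20, 0), (-2, 1), (6, 2), (6, 3), (6, 4),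
    (-12, 5), (-3, 6), (-11, 7), (-2, 8), (-5, 9), (-3, 10)])
def q15 : List ℤ × Sm1.Op := ([-1, 7, -7, 9, 1, -1, -3, -1, 3, -1], .lin [(-1, 0), (-1, 3), (1, 4), (1, 5), (-1, 7),
    (1, 9)])
def q16 : List ℤ × Sm1.Op := ([459, 3, 9, -1, -3, -3, 3, -3, -1, 3], .lin [(27, 0), (-2, 1), (7, 2), (8, 3), (6, 4),
    (-15, 5), (-5, 6), (-12, 7), (-3, 8), (-7, 9), (-4, 10)])
def q17 : List ℤ × Sm1.Op := ([72, -8, 6, 2, -2, 2, 2, 6, -4, -4], .lin [(-4, 0), (-1, 2), (-1, 4), (1, 5), (1, 6),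
    (3, 7), (1, 8)])
def q18 : List ℤ × Sm1.Op := ([-798, 2, 12, 2, -4, 0, 2, -6, 2, 0], .lin [(-6, 0), (-1, 2), (-2, 4), (1, 5), (1, 6),
    (4, 7), (2, 9), (1, 10)])
def q19 : List ℤ × Sm1.Op := ([874, 10, -2, 4, -2, 6, 0, -6, -2, 0], .lin [(-6, 0), (-1, 2), (-1, 3), (-1, 4), (2,
    5), (2, 6), (3, 7), (1, 9), (1, 10)])
def q20 : List ℤ × Sm1.Op := ([25081, 1, 1, 1, 1, 0, 1, 1, 1, 1], .coad 0 7)
def q21 : List ℤ × Sm1.Op := ([1464, 0, 6, 4, 0, 1, 0, 1, 1, 1], .coad 0 2)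
def q22 : List ℤ × Sm1.Op := ([-2556, 4, -15, -1, 1, -1, -1, -15, -10, -10], .del 17 2)
def q23 : List ℤ × Sm1.Op := ([-1, -25, -28, -36, -4, -1, 0, -1, -3, -1], .del 15 2)
def q24 : List ℤ × Sm1.Op := ([-5853, 3, 0, -3, 0, -1, 3, -1, 0, -1], .coad 12 3)
def q25 : List ℤ × Sm1.Op := ([-11245, 75, 5, 0, -3, -3, 0, -3, 0, 3], .coad 16 5)
def q26 : List ℤ × Sm1.Op := ([27721, 1, 1, 1, 1, 1, 1, 1, 1, 0], .coad 0 19)
def q27 : List ℤ × Sm1.Op := ([-35245, 83, -1, -10, -1, 0, -2, -1, -1, 0], .del 11 2)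
def q28 : List ℤ × Sm1.Op := ([133, 5, 1, -2, -1, 0, 0, 1, 1, 0], .lin [(-13, 0), (-375, 11), (255, 12), (-8, 13),
    (345, 14), (-323, 15), (-422, 16), (-140, 17), (231, 18), (-290, 19), (33, 20), (15, 21), (9, 22), (-2, 23),
    (-1, 24)])
def q29 : List ℤ × Sm1.Op := ([76, 4, 1, 1, 1, -1, -1, -1, 1, 0], .lin [(21905, 0), (665314, 11), (-452231, 12),
    (15065, 13), (-612450, 14), (573674, 15), (749123, 16), (248997, 17), (-409381, 18), (515191, 19), (-58483, 20),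
    (-28696, 21), (-16641, 22), (3585, 23), (2139, 24), (-150, 25), (-5, 26), (1, 27)])
def q30 : List ℤ × Sm1.Op := ([209, 1, -1, -1, 1, -1, 1, 0, -1, 0], .lin [(21904, 0), (665279, 11), (-452207, 12),
    (15064, 13), (-612418, 14), (573644, 15), (749084, 16), (248984, 17), (-409360, 18), (515164, 19), (-58480, 20),
    (-28693, 21), (-16640, 22), (3585, 23), (2139, 24), (-150, 25), (-5, 26), (1, 27)])
def q31 : List ℤ × Sm1.Op := ([77, 5, -1, 2, -1, 0, 0, 0, -1, 1], .lin [(22070, 0), (670296, 11), (-455617, 12),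
    (15177, 13), (-617035, 14), (577969, 15), (754732, 16), (250861, 17), (-412447, 18), (519048, 19), (-58921, 20),
    (-28908, 21), (-16765, 22), (3612, 23), (2155, 24), (-151, 25), (-5, 26), (1, 27)])
def q32 : List ℤ × Sm1.Op := ([76, -4, 1, 1, -1, -1, 1, -1, 1, 0], .lin [(-3499, 0), (-106299, 11), (72255, 12),
    (-2409, 13), (97855, 14), (-91660, 15), (-119692, 16), (-39785, 17), (65408, 18), (-82316, 19), (9344, 20),
    (4589, 21), (2660, 22), (-573, 23), (-342, 24), (24, 25), (1, 26)])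
def q33 : List ℤ × Sm1.Op := ([112, 0, 4, 2, 0, 0, 0, 2, -1, -2], .lin [(-21904, 0), (-665268, 11), (452200, 12),
    (-15064, 13), (612408, 14), (-573635, 15), (-749072, 16), (-248980, 17), (409353, 18), (-515156, 19), (58479,
    20), (28694, 21), (16640, 22), (-3585, 23), (-2139, 24), (150, 25), (5, 26), (-1, 27)])
def q34 : List ℤ × Sm1.Op := ([266, -6, -4, 1, 0, 0, -1, 2, 1, 0], .lin [(-3, 0), (-136, 11), (93, 12), (-4, 13),
    (127, 14), (-119, 15), (-155, 16), (-52, 17), (84, 18), (-107, 19), (12, 20), (6, 21), (4, 22), (-1, 23), (-1,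
    24)])
def q35 : List ℤ × Sm1.Op := ([154, -6, 4, -1, 0, 0, -1, 0, -1, 2], .lin [(154, 0), (4754, 11), (-3233, 12), (109,
    13), (-4379, 14), (4102, 15), (5356, 16), (1781, 17), (-2926, 18), (3684, 19), (-418, 20), (-206, 21), (-120,
    22), (26, 23), (16, 24), (-1, 25)])
def q36 : List ℤ × Sm1.Op := ([360, 0, 0, 0, 0, 3, 0, -3, 0, -1], .lin [(3501, 0), (106300, 11), (-72255, 12),
    (2408, 13), (-97854, 14), (91659, 15), (119691, 16), (39784, 17), (-65408, 18), (82315, 19), (-9344, 20),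
    (-4586, 21), (-2659, 22), (573, 23), (342, 24), (-24, 25), (-1, 26)])

/-- the program -/
def prog : List (List ℤ × Sm1.Op) := [
q1, q2, q3, q4, q5, q6, q7, q8, q9, q10, q11, q12, q13, q14, q15, q16, q17, q18, q19, q20, q21, q22, q23, q24, q25,
    q26, q27, q28, q29, q30, q31, q32, q33, q34, q35, q36]

/-- the rows as combinations -/
def fin : List (List (ℤ × ℕ)) :=
  [[(1, 0)], [(1, 33)], [(1, 29)], [(1, 32)], [(1, 31)], [(1, 35)], [(1, 36)], [(1, 28)], [(1, 34)], [(1, 30)]]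

/-- all rows of the program -/
def rows : List (List ℤ) := [List.replicate 10 1] ++ prog.map Prod.fst

theorem prog_ok : chkSlp dat true prog [List.replicate 10 1] = true := by decide +kernel
theorem fin_ok : chkLin dat rows (tab.rel.map Prod.snd) fin = true := by decide +kernel
theorem tab_ok : okR dat tab = true := by decide +kernel

/-- **the table of `J₁`** -/
theorem exists_tab : ∃ T : TD Spor.J1 dat, T.Mass ∧ Rat T ∧ Tab T tab := by
  have := TAB.J1.finite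
  obtain ⟨T, hm, hr, -, hc⟩ := exists_td_rat okPow okSep okSum card_J1 clsN boxes
  have h1 : ∀ v ∈ rows, Virt T (nth v) := virt_chkSlp (Hyp.true hm hr (by decide +kernel)) prog
    (List.forall_mem_singleton.2 ((Virt.const 1).congr (by decide +kernel))) prog_ok
  exact ⟨T, hm, hr, tab_of_cls hm (fun r hr => virt_chkLin h1 fin_ok _ (List.mem_map_of_mem hr)) tab_ok hc⟩

end J1

theorem in_j1 {K : Type} [Group K] (h : IsoJ1 K) : In K J1.dat J1.tab := by
  obtain ⟨e⟩ := h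
  obtain ⟨T, hm, hr, ht⟩ := J1.exists_tab
  refine ⟨T.pull e, mass_pull hm e, tab_pull ht e, fun g k _ h1 => ?_⟩
  obtain ⟨j, hj⟩ := hr (e g) (e k) h1
  refine ⟨j, ?_⟩
  have h2 := e.symm.toMonoidHom.map_isConj hj
  simpa using h2

theorem out_j1 {K : Type} [Group K] (h : IsoJ1 K) : (MulAut.conj : K →* MulAut K).range.index = 1 := by
  obtain ⟨e⟩ := h
  rw [index_eq_one, eq_top_iff]
  intro α _
  obtain ⟨k, hk⟩ := OddHalf.D4.Spor.J1Out.inn (MulAut.congr e α)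
  refine ⟨e.symm k, MulEquiv.ext fun x => e.injective ?_⟩
  have h1 := MulEquiv.congr_fun hk (e x)
  simpa using h1.symm

end Cfsg.Agent.TH.Spor
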