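import Cfsg.Agent.TH.Spor.EngB
import Cfsg.Agent.H940.EngLoc
import Cfsg.Agent.H940.EngData
import Cfsg.Agent.OrdDiv.Table
import Cfsg.Agent.S0000

/-!
# S3541, sporadic rows: the enumeration of the candidates (helper26)
-/

set_option autoImplicit false

namespace Cfsg.Agent.TH.Spor

open Cfsg Cfsg.Agent.TAB.Eng Cfsg.Agent.TAB.Use Cfsg.Agent.SB.SporL Cfsg.Agent.OrdDiv Cfsg.Agent.H940.Eng Finset

universe u

theorem base : H940.Eng.Base := ⟨OrdDiv.table, fun _ _ _ _ => S0000.result⟩

theorem cond_false_spec {a b : Bool} (h : cond a b false = true) : a = true ∧ b = true := by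
  cases a
  · cases h
  · exact ⟨rfl, h⟩

theorem cond_true_spec {a b : Bool} (h : cond a true b = true) (ha : ¬ a = true) : b = true := by
  cases a
  · exact h
  · exact absurd rfl ha

theorem cond_imp_spec {a b : Bool} (h : cond a b true = true) (ha : a = true) : b = true := by
  rw [ha] at h
  exact h

theorem prodl_cons (x : ℕ × ℕ) (l : List (ℕ × ℕ)) : prodl (x :: l) = x.1 ^ x.2 * prodl l := List.prod_cons

/-- all multiples of `a` by the divisors of `prodl l` -/
noncomputable def allA (P : ℕ → Bool) (l : List (ℕ × ℕ)) : ℕ → Bool :=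
  List.rec P (fun x _ ih => Nat.rec ih (fun _ ih' a => cond (ih a) (frc (Nat.mul a x.1) ih') false) x.2) l

theorem allA_spec {P : ℕ → Bool} {l : List (ℕ × ℕ)} (hl : ∀ x ∈ l, x.1.Prime) :
    ∀ a b, allA P l a = true → b ∣ prodl l → P (a * b) = true := by
  induction l with
  | nil =>
    intro a b h hb
    rw [Nat.dvd_one.1 hb, mul_one]
    exact h
  | cons x l ih =>
    obtain ⟨p, e⟩ := x
    have hp : p.Prime := hl _ List.mem_cons_self
    have ih' := ih fun y hy => hl y (List.mem_cons_of_mem _ hy)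
    simp only [prodl_cons]
    clear hl ih
    induction e with
    | zero => exact fun a b h hb => ih' a b h (by rwa [pow_zero, one_mul] at hb)
    | succ e ih2 =>
      intro a b h hb
      obtain ⟨h1, h2⟩ := cond_false_spec (show cond (allA P l a) (frc (a * p) (allA P ((p, e) :: l))) false = true from h)
      by_cases h3 : p ∣ b
      · obtain ⟨b, rfl⟩ := h3
        rw [pow_succ', mul_assoc] at hb
        rw [← mul_assoc]
        exact ih2 _ b ((frc_eq _ _).symm.trans h2) (Nat.dvd_of_mul_dvd_mul_left hp.pos hb)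
      · exact ih' a b h1 (((hp.coprime_iff_not_dvd.2 h3).symm.pow_right _).dvd_of_dvd_mul_left hb)

/-- all multiples of `d` by the common divisors of `g` and `prodl l` -/
noncomputable def allD (P : ℕ → Bool) (l : List (ℕ × ℕ)) : ℕ → ℕ → Bool :=
  List.rec (fun _ d => P d) (fun x _ ih => Nat.rec ih (fun _ ih' g d => cond (ih g d)
    (cond (dv x.1 g) (frc (Nat.div g x.1) fun g' => frc (Nat.mul d x.1) fun d' => ih' g' d') true) false) x.2) l

theorem allD_spec {P : ℕ → Bool} {l : List (ℕ × ℕ)} (hl : ∀ x ∈ l, x.1.Prime) :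
    ∀ g d b, allD P l g d = true → b ∣ g → b ∣ prodl l → P (d * b) = true := by
  induction l with
  | nil =>
    intro g a b h _ hb
    rw [Nat.dvd_one.1 hb, mul_one]
    exact h
  | cons x l ih =>
    obtain ⟨p, e⟩ := x
    have hp : p.Prime := hl _ List.mem_cons_self
    have ih' := ih fun y hy => hl y (List.mem_cons_of_mem _ hy)
    simp only [prodl_cons]
    clear hl ih
    induction e with
    | zero => exact fun g a b h hg hb => ih' g a b h hg (by rwa [pow_zero, one_mul] at hb)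
    | succ e ih2 =>
      intro g a b h hg hb
      obtain ⟨h1, h2⟩ := cond_false_spec (show cond (allD P l g a) (cond (dv p g) (frc (g / p) fun g' =>
        frc (a * p) fun d' => allD P ((p, e) :: l) g' d') true) false = true from h)
      by_cases h3 : p ∣ b
      · obtain ⟨b, rfl⟩ := h3
        have h4 := cond_imp_spec h2 (dv_iff.2 ((dvd_mul_right p b).trans hg))
        rw [frc_eq, frc_eq] at h4
        rw [pow_succ', mul_assoc] at hb
        rw [← mul_assoc]
        exact ih2 _ _ b h4 ((Nat.dvd_div_iff_mul_dvd ((dvd_mul_right p b).trans hg)).2 hg)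
          (Nat.dvd_of_mul_dvd_mul_left hp.pos hb)
      · exact ih' g a b h1 hg (((hp.coprime_iff_not_dvd.2 h3).symm.pow_right _).dvd_of_dvd_mul_left hb)

/-- the quick tests -/
noncomputable def kill (N j : ℕ) (P : St) (Z : List Ze) (a n d : ℕ) : Bool :=
  cond (Nat.beq d 1) true (cond (Nat.blt (Nat.sub n 1) (Nat.mul 2 d)) true (mkCx N j a d n fun c =>
    cond (Nat.ble c.m 1) true (cond (uT c (mapS (ini c) P)) true (frcS (mapS (ini c) P) fun S => boxT c S Z))))

/-- membership of a pair -/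
noncomputable def memP (a d : ℕ) (L : List (ℕ × ℕ)) : Bool := anyL (fun x => cond (Nat.beq x.1 a) (Nat.beq x.2 d) false) L

theorem memP_spec {a d : ℕ} {L : List (ℕ × ℕ)} (h : memP a d L = true) : (a, d) ∈ L := by
  obtain ⟨⟨x, y⟩, h1, h2⟩ := anyL_spec h
  obtain ⟨h3, h4⟩ := cond_false_spec h2
  rwa [← Nat.eq_of_beq_eq_true h3, ← Nat.eq_of_beq_eq_true h4]

/-- the data of the enumeration -/
structure En where
  N : ℕ
  j : ℕ
  P : St
  Z : List Ze
  l : List (ℕ × ℕ)
  ords : List ℕ
  loc : List LD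
  SV : List (ℕ × ℕ)

/-- the test for one order -/
noncomputable def leaf (E : En) (a : ℕ) : Bool :=
  frc (Nat.div E.N a) fun n => frc (Nat.gcd a (Nat.sub n 1)) fun g => cond (Nat.beq g 1) true (cond (Nat.ble n 4) true
    (cond (allD (kill E.N E.j E.P E.Z a n) E.l g 1) true
      (cond (anyL (fun ld => cond (dv ld.r a) (!feas E.l ld E.ords a) false) E.loc) true
        (allD (fun d => cond (kill E.N E.j E.P E.Z a n d) true (memP a d E.SV)) E.l g 1))))

/-- evaluate a list of lists -/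
noncomputable def frcLL {β : Type} (L : List (List ℕ)) : (List (List ℕ) → β) → β :=
  List.rec (fun κ => κ []) (fun r _ ih κ => frcL r fun x => ih fun L' => κ (x :: L')) L

theorem frcLL_eq {β : Type} (L : List (List ℕ)) (κ : List (List ℕ) → β) : frcLL L κ = κ L := by
  induction L generalizing κ with
  | nil => rfl
  | cons r L ih =>
    show (frcL r fun x => frcLL L fun L' => κ (x :: L')) = _
    rw [frcL_eq, ih]

/-- the admissible prime powers -/
def opts (r C : ℕ) (l : List (ℕ × ℕ)) : List (List ℕ) :=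
  l.map fun x => ((List.range (x.2 + 1)).filter (okexp r C x.1)).map fun i => x.1 ^ i

/-- all products which divide `N` -/
noncomputable def allO (N : ℕ) (P : ℕ → Bool) (O : List (List ℕ)) : ℕ → Bool :=
  List.rec P (fun o _ ih m => allL (fun x => frc (Nat.mul m x) fun m' => cond (dv m' N) (ih m') true) o) O

theorem allO_spec {r C N : ℕ} {P : ℕ → Bool} (f : ℕ → ℕ) : ∀ (l : List (ℕ × ℕ)) (m : ℕ), allO N P (opts r C l) m = true →
    (∀ x ∈ l, f x.1 ≤ x.2 ∧ okexp r C x.1 (f x.1) = true) → m * (l.map fun x => x.1 ^ f x.1).prod ∣ N →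
      P (m * (l.map fun x => x.1 ^ f x.1).prod) = true := by
  intro l
  induction l with
  | nil =>
    intro m h _ _
    rw [List.map_nil, List.prod_nil, mul_one]
    exact h
  | cons x l ih =>
    intro m h hf hd
    have hx := hf x List.mem_cons_self
    have h1 := allL_spec (show allL (fun y => frc (m * y) fun m' => cond (dv m' N) (allO N P (opts r C l) m') true)
      (((List.range (x.2 + 1)).filter (okexp r C x.1)).map fun i => x.1 ^ i) = true from h) (x.1 ^ f x.1)
      (List.mem_map.2 ⟨_, List.mem_filter.2 ⟨List.mem_range.2 (Nat.lt_succ_of_le hx.1), hx.2⟩, rfl⟩)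
    rw [List.map_cons, List.prod_cons, ← mul_assoc] at hd ⊢
    rw [frc_eq] at h1
    exact ih _ (cond_imp_spec h1 (dv_iff.2 ((dvd_mul_right _ _).trans hd)))
      (fun y hy => hf y (List.mem_cons_of_mem _ hy)) hd

/-- the orders which are divisible by the prime `ld.r` -/
noncomputable def bigE (E : En) (ld : LD) : Bool :=
  frcLL (opts ld.r ld.C E.l) fun O => frcL (divsT ld.fN) fun DV => frc ld.N fun Nr =>
    allL (fun s => cond (dv ld.r s) (allL (fun t => cond (dv t (Nat.div Nr ld.r))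
      (cond (nuc DV ld.r Nr s t) (frc (Nat.mul s t) (allO E.N (leaf E) O)) true) true) DV) true) (ld.r :: E.ords)

/-- the local data from the table -/
noncomputable def okLD (D : Dat) (ld : LD) : Bool :=
  isPr ld.r && valid ld.fN ld.N && !dv (ld.r ^ 2) D.N &&
    Nat.beq (((List.range D.n).map fun t => if D.ord t = ld.r then D.cnt t else 0).sum * ld.N) ((ld.r - 1) * D.N) &&
    dv (prodl (ld.fN.filter fun x => !((ld.fN.map Prod.fst).filter fun p => !Nat.beq p ld.r &&
      allL (fun t => !Nat.beq (D.ord t) (ld.r * p)) (List.range D.n)).contains x.1)) ld.C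

variable {K : Type u} [Group K] [Finite K] {D : Dat} {T : TD K D} {A : Subgroup K} {d j : ℕ}

theorem card_orderOf {r : ℕ} (hr : r.Prime) (h2 : ¬ r ^ 2 ∣ Nat.card K) {R : Subgroup K} (hR : Nat.card R = r) :
    Nat.card {g : K // orderOf g = r} * Nat.card (Subgroup.normalizer (R : Set K)) = (r - 1) * Nat.card K := by
  have := Fact.mk hr
  have := Fintype.ofFinite (Sylow r K)
  obtain ⟨S, rfl⟩ := H904.SylOne.exists_sylow hR h2
  have h1 : ∀ P : Sylow r K, Nat.card P = r := fun P => by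
    rw [P.card_eq_multiplicity, ← S.card_eq_multiplicity, hR]
  have h3 : ∀ (P : Sylow r K) (g : K), g ∈ ((P : Subgroup K) : Set K) \ {1} →
      orderOf g = r ∧ Subgroup.zpowers g = P := fun P g hg => by
    have h4 : orderOf g = r := ((Nat.dvd_prime hr).1 (h1 P ▸ (P : Subgroup K).orderOf_dvd_natCard hg.1)).resolve_left
      fun h => hg.2 (orderOf_eq_one_iff.1 h)
    exact ⟨h4, Subgroup.eq_of_le_of_card_ge (Subgroup.zpowers_le.2 hg.1) (by rw [Nat.card_zpowers, h4, h1])⟩
  have h4 : Nat.card (Σ P : Sylow r K, ↥(((P : Subgroup K) : Set K) \ {1})) = Nat.card {g : K // orderOf g = r} := by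
    refine Nat.card_eq_of_bijective (fun x => ⟨x.2.1, (h3 _ _ x.2.2).1⟩) ⟨?_, fun g => ?_⟩
    · rintro ⟨P, g, hg⟩ ⟨Q, g', hg'⟩ h
      obtain rfl : g = g' := congrArg Subtype.val h
      obtain rfl : P = Q := Sylow.ext ((h3 P g hg).2.symm.trans (h3 Q g hg').2)
      rfl
    · obtain ⟨P, hP⟩ := H904.SylOne.exists_sylow (P := Subgroup.zpowers g.1) (by rw [Nat.card_zpowers, g.2]) h2
      exact ⟨⟨P, g.1, hP ▸ Subgroup.mem_zpowers g.1, fun h => hr.one_lt.ne' (g.2.symm.trans (orderOf_eq_one_iff.2 h))⟩,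
        rfl⟩
  rw [← h4, Nat.card_sigma, Finset.sum_congr rfl (g := fun _ => r - 1) fun P _ => by
    rw [Nat.card_coe_set_eq, ncard_sdiff_one, h1], Finset.sum_const, Finset.card_univ, ← Nat.card_eq_fintype_card,
    S.card_eq_index_normalizer, smul_eq_mul, ← (Subgroup.normalizer ((S : Subgroup K) : Set K)).index_mul_card,
    mul_comm _ (r - 1), mul_assoc]
  rfl

theorem loc_of (hm : T.Mass) {ld : LD} (h : okLD D ld = true) : Loc K ld := by
  classical
  have := Fintype.ofFinite K
  simp only [okLD, Bool.and_eq_true, Bool.not_eq_true', Nat.beq_eq, dv_iff] at h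
  obtain ⟨⟨⟨⟨h1, h2⟩, h3⟩, h4⟩, h5⟩ := h
  have hr := isPr_spec h1
  have h6 : ¬ ld.r ^ 2 ∣ Nat.card K := hm.1 ▸ dv_false h3
  refine ⟨hr, valid_prime h2, h6, fun R hR => ?_⟩
  have h7 := card_orderOf hr h6 hR
  have h8 : Nat.card {g : K // orderOf g = ld.r} =
      ((List.range D.n).map fun t => if D.ord t = ld.r then D.cnt t else 0).sum := by
    rw [sum_range_eq, Nat.card_eq_fintype_card, Fintype.card_subtype, Finset.card_filter]
    simp only [T.ord]
    rw [sum_ty (T := T) fun t => if D.ord t = ld.r then 1 else 0]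
    exact Finset.sum_congr rfl fun t ht => by rw [hm.2 t (mem_range.1 ht), smul_eq_mul, mul_ite, mul_one, mul_zero]
  rw [hm.1, ← h4, h8] at h7
  have h9 : Nat.card (Subgroup.normalizer (R : Set K)) = ld.N := Nat.eq_of_mul_eq_mul_left (Nat.pos_of_ne_zero fun h => by
    rw [h, zero_mul] at h4
    exact (Nat.mul_pos (Nat.sub_pos_of_lt hr.one_lt) (hm.1 ▸ Nat.card_pos)).ne h4) h7
  refine ⟨(dvd_filter h2 (h9 ▸ Subgroup.card_dvd_of_le (Subgroup.centralizer_le_normalizer _)) _ fun p hp hd => ?_).trans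
    h5, h9 ▸ dvd_rfl⟩
  obtain ⟨h10, h11⟩ := List.mem_filter.1 hp
  obtain ⟨x, hx, rfl⟩ := List.mem_map.1 h10
  rw [Bool.and_eq_true] at h11
  have hp' := valid_prime h2 x hx
  have := Fact.mk hp'
  have := Fact.mk hr
  obtain ⟨y, hy⟩ := exists_prime_orderOf_dvd_card' x.1 hd
  obtain ⟨z, hz⟩ := exists_prime_orderOf_dvd_card' (G := R) ld.r (hR ▸ dvd_rfl)
  rw [← Subgroup.orderOf_coe] at hy hz
  have h12 : Commute (z : K) y := Subgroup.mem_centralizer_iff.1 y.2 z z.2
  have h13 := h12.orderOf_mul_eq_mul_orderOf_of_coprime (by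
    rw [hy, hz]
    exact (Nat.coprime_primes hr hp').2 (ne_of_not_beq h11.1).symm)
  rw [hy, hz, T.ord] at h13
  exact ne_of_not_beq (allL_spec h11.2 _ (List.mem_range.2 (T.lt _))) h13

/-- the meaning of the data of the enumeration -/
structure EnOk (T : TD K D) (E : En) : Prop where
  mass : T.Mass
  unif : Unif T
  hN : E.N = D.N
  hP : Gd T QC E.P
  hZ : ∀ z ∈ E.Z, ZOk D z
  val : valid E.l E.N = true
  nd : (E.l.map fun x => x.1).Nodup
  ords : Ords.{u} E.N E.ords
  loc : ∀ ld ∈ E.loc, Loc K ld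

variable {E : En}

omit [Finite K] in
theorem EnOk.card (H : EnOk T E) : Nat.card K = E.N := H.mass.1.trans H.hN.symm

theorem EnOk.kill (H : EnOk T E) (h : W A d E.j) : ¬ kill E.N E.j E.P E.Z (Nat.card A) (E.N / Nat.card A) d = true := by
  intro h1
  rw [H.hN] at h1
  have H1 := hy_of H.mass H.unif h
  have h2 : D.N / Nat.card A = A.index := congrArg Cx.n H1.eq
  have h3 := cond_true_spec (cond_true_spec h1 fun h3 => h.one_lt.ne' (Nat.eq_of_beq_eq_true h3)) fun h3 => by
    rw [h2, Nat.blt_eq] at h3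
    exact absurd h.two (not_le.2 h3)
  rw [mkCx_eq] at h3
  have h4 := cond_true_spec (cond_true_spec h3 fun h4 => absurd h.big (not_lt.2 (Nat.le_of_ble_eq_true h4)))
    (H1.uT (H1.ini H.hP))
  rw [frcS_eq] at h4
  exact H1.boxT (H1.ini H.hP) H.hZ h4

theorem EnOk.leaf (H : EnOk T E) (h : W A d E.j) (h1 : leaf E (Nat.card A) = true) : (Nat.card A, d) ∈ E.SV := by
  have h2 : E.N / Nat.card A = A.index := by
    rw [← H.card]
    exact Nat.div_eq_of_eq_mul_right Nat.card_pos A.card_mul_index.symm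
  have h3 : d ∣ Nat.gcd (Nat.card A) (E.N / Nat.card A - 1) := Nat.dvd_gcd h.dvd (h2 ▸ h.dvd')
  have h4 : d ∣ prodl E.l := by
    rw [valid_prod H.val, ← H.card]
    exact h.dvd.trans A.card_subgroup_dvd_card
  rw [Spor.leaf, frc_eq, frc_eq] at h1
  have h5 := cond_true_spec (cond_true_spec (cond_true_spec (cond_true_spec h1 fun h5 =>
    h.one_lt.ne' (Nat.dvd_one.1 (Nat.eq_of_beq_eq_true h5 ▸ h3))) fun h5 => by
      have h6 : E.N / Nat.card A ≤ 4 := Nat.le_of_ble_eq_true h5
      have h7 := h.four_le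
      omega) fun h5 => H.kill h (one_mul d ▸ allD_spec (valid_prime H.val) _ _ d h5 h3 h4)) fun h5 => by
      obtain ⟨ld, h6, h7⟩ := anyL_spec h5
      obtain ⟨h8, h9⟩ := cond_false_spec h7
      rw [feas_of H.val H.card H.ords (H.loc ld h6) (dv_iff.1 h8)] at h9
      cases h9
  have h6 := allD_spec (valid_prime H.val) _ _ d h5 h3 h4
  rw [one_mul] at h6
  exact memP_spec (cond_true_spec h6 (H.kill h))

theorem EnOk.bigE (H : EnOk T E) {ld : LD} (hl : ld ∈ E.loc) (h : bigE E ld = true) (hr : ld.r ∣ Nat.card A) :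
    Spor.leaf E (Nat.card A) = true := by
  obtain ⟨k, s, t, e1, e2, e3, e4, e5, -, e7, e8, -⟩ := struct_sub H.val H.card H.ords (H.loc ld hl) hr
  have h1 : Nat.card A ∣ E.N := H.card ▸ A.card_subgroup_dvd_card
  have h2 : k ∣ E.N := dvd_trans (by rw [e1]; exact ⟨s * t, by ring⟩) h1
  rw [Spor.bigE, frcLL_eq, frcL_eq, frc_eq] at h
  have h3 := cond_imp_spec (cond_imp_spec (allL_spec (cond_imp_spec (allL_spec h s e3) (dv_iff.2 e4)) t e5)
    (dv_iff.2 e2)) e8
  rw [frc_eq] at h3
  have h4 := allO_spec (fun p => k.factorization p) _ _ h3 fun x hx => ⟨?_, e7 _ (valid_prime H.val x hx)⟩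
  · rw [prod_factor H.val H.nd h2] at h4
    have h5 : Nat.mul s t * k = Nat.card A := by
      rw [e1]
      show s * t * k = _
      ring
    rw [h5] at h4
    exact h4 h1
  · by_contra h5
    exact valid_exact H.val x hx (((pow_dvd_pow _ (not_le.1 h5)).trans (Nat.ordProj_dvd _ _)).trans h2)

/-- the lists of the small primes -/
noncomputable def okSm (E : En) (big : List LD) (l1 l2 : List (ℕ × ℕ)) : Bool :=
  decide (E.l.filter (fun x => !(big.map fun ld => ld.r).contains x.1) = l1 ++ l2)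

theorem prodl_append (l1 l2 : List (ℕ × ℕ)) : prodl (l1 ++ l2) = prodl l1 * prodl l2 := by
  exact (congrArg List.prod List.map_append).trans List.prod_append

/-- **the enumeration** -/
theorem EnOk.mem (H : EnOk T E) (h : W A d E.j) {big : List LD} (hb : ∀ ld ∈ big, ld ∈ E.loc ∧ Spor.bigE E ld = true)
    {l1 l2 : List (ℕ × ℕ)} (hs : okSm E big l1 l2 = true) (ha : ∀ a ∈ divsT l1, allA (Spor.leaf E) l2 a = true) :
    (Nat.card A, d) ∈ E.SV := by
  refine H.leaf h ?_
  by_cases h1 : ∃ ld ∈ big, ld.r ∣ Nat.card A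
  · obtain ⟨ld, h1, h2⟩ := h1
    exact H.bigE (hb ld h1).1 (hb ld h1).2 h2
  · have h2 := of_decide_eq_true hs
    have h3 := dvd_filter H.val (H.card ▸ A.card_subgroup_dvd_card) (big.map fun ld => ld.r) fun p hp hd => by
      obtain ⟨ld, h3, rfl⟩ := List.mem_map.1 hp
      exact h1 ⟨ld, h3, hd⟩
    have h4 : ∀ x ∈ l1 ++ l2, x.1.Prime := fun x hx => valid_prime H.val x (List.mem_filter.1 (h2 ▸ hx)).1
    rw [h2, prodl_append] at h3
    obtain ⟨a, b, h5, h6, h7⟩ := Nat.dvd_mul.1 h3
    rw [← h7]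
    exact allA_spec (fun x hx => h4 x (List.mem_append_right _ hx)) a b
      (ha a (mem_divsT (fun x hx => h4 x (List.mem_append_left _ hx)) h5)) h6

/-- the checks of the data -/
noncomputable def okEn (D : Dat) (R : Rows) (L : List (ℕ × ℕ)) (E : En) : Bool :=
  Nat.beq E.N D.N && okS D L E.P && okZ D E.Z && okIdx R && valid E.l E.N && decide (E.l.map fun x => x.1).Nodup &&
    allL (okLD D) E.loc

/-- **no configuration** -/
theorem noW_of (hC : BoxCH) {K : Type} [Group K] [Finite K] {R : Rows} {L : List (ℕ × ℕ)} (hI : InC K D R L)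
    (h1 : okEn D R L E = true) (h2 : Ords.{0} E.N E.ords) {big : List LD}
    (h3 : ∀ ld ∈ big, ld ∈ E.loc ∧ bigE E ld = true) {l1 l2 : List (ℕ × ℕ)} (h4 : okSm E big l1 l2 = true)
    (h5 : ∀ a ∈ divsT l1, allA (leaf E) l2 a = true)
    (h6 : ∀ x ∈ E.SV, ∃ CL, okL D R E.j E.P E.Z CL = true ∧ x ∈ CL.map fun x => (x.1, x.2.1)) : NoW K E.j := by
  intro A d h
  obtain ⟨T, hm, hT, hu, hL⟩ := hI
  simp only [okEn, Bool.and_eq_true, Nat.beq_eq, decide_eq_true_eq] at h1
  obtain ⟨⟨⟨⟨⟨⟨c1, c2⟩, c3⟩, c4⟩, c5⟩, c6⟩, c7⟩ := h1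
  have H : EnOk T E := ⟨hm, hu, c1, gd_of c2 hL, (zs_of c3).ok, c5, c6, h2, fun ld hl => loc_of hm (allL_spec c7 ld hl)⟩
  obtain ⟨CL, h7, h8⟩ := h6 _ (H.mem h h3 h4 h5)
  exact not_mem_of_okL hC hm hu h hT c4 H.hP (zs_of c3) h7 h8

end Cfsg.Agent.TH.Spor
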