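import Cfsg.Agent.TH.Spor.InTool
import Cfsg.Agent.TwoF.SpO.Prod
import Cfsg.Agent.Characters.ClassMul
import Cfsg.Agent.TAB.Glue.Cert

/-!
# S3541, the sporadic rows: single classes from a character table (helper31)

* `one_of_split` : counting the classes;
* `bnd_of_chk` : the number of the conjugates `x'` of `x` with `x' y` of a given type is an integer, which bounds the
  order of the centralizer of `x`.
-/

set_option autoImplicit false

namespace Cfsg.Agent.TH.Spor

open Cfsg Cfsg.Agent.TAB Cfsg.Agent.TAB.Eng Cfsg.Agent.TAB.Use Cfsg.Agent.TwoF.SpO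
open Subgroup (centralizer)

universe u

variable {G : Type u} [Group G] {D : Dat} {T : TD G D}

theorem one_of_notOne [Finite G] {R : Rows} (h : Tab T R) (hm : T.Mass) (hI : Inh T) {S : List ℕ}
    (h1 : R.n ≤ D.n + S.length) (h2 : S.Nodup) (h4 : ∀ t ∈ S, t < D.n ∧ ¬ One T t) {s : ℕ} (hs : s < D.n)
    (hs' : s ∉ S) : One T s := by
  classical
  have := Fintype.ofFinite (ConjClasses G)
  let f : ConjClasses G → ℕ := Quotient.lift T.ty fun _ _ e => (TD.ty_isConj e).symm
  have key : ∀ t < D.n, ¬ One T t → 2 ≤ (Finset.univ.filter fun c => f c = t).card := fun t ht h4 => by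
    obtain ⟨x, hx⟩ := hI t ht
    by_contra h5
    refine h4 ⟨x, hx, ?_⟩
    rw [← hm.2 t ht, ← card_class x]
    have h6 : ∀ g, T.ty g = t → IsConj x g := fun g hg => ConjClasses.mk_eq_mk_iff_isConj.1
      (Finset.card_le_one.1 (Nat.le_of_lt_succ (not_le.1 h5)) (ConjClasses.mk x)
        (Finset.mem_filter.2 ⟨Finset.mem_univ _, hx⟩) (ConjClasses.mk g) (Finset.mem_filter.2 ⟨Finset.mem_univ _, hg⟩))
    exact Nat.mul_le_mul_right _ (Nat.card_le_card_of_injective (Subtype.map id h6)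
      (Subtype.map_injective h6 Function.injective_id))
  by_contra h5
  have h6 := Finset.card_eq_sum_card_fiberwise (s := Finset.univ) (t := Finset.range D.n) (f := f)
    fun c _ => by
      obtain ⟨g, rfl⟩ := ConjClasses.mk_surjective c
      exact Finset.mem_coe.2 (Finset.mem_range.2 (T.lt g))
  rw [Finset.card_univ, ← Nat.card_eq_fintype_card, card_classes h] at h6
  have h7 : (s :: S).toFinset ⊆ Finset.range D.n := fun t ht => by
    rcases List.mem_cons.1 (List.mem_toFinset.1 ht) with rfl | ht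
    exacts [Finset.mem_range.2 hs, Finset.mem_range.2 (h4 t ht).1]
  have h8 : ∑ t ∈ Finset.range D.n, (1 + if t ∈ (s :: S).toFinset then 1 else 0) ≤
      ∑ t ∈ Finset.range D.n, (Finset.univ.filter fun c => f c = t).card := Finset.sum_le_sum fun t ht => by
    have ht := Finset.mem_range.1 ht
    split_ifs with h9
    · rcases List.mem_cons.1 (List.mem_toFinset.1 h9) with rfl | h9
      exacts [key _ ht h5, key _ ht (h4 t h9).2]
    · obtain ⟨x, hx⟩ := hI t ht
      exact Finset.card_pos.2 ⟨ConjClasses.mk x, Finset.mem_filter.2 ⟨Finset.mem_univ _, hx⟩⟩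
  rw [Finset.sum_add_distrib, Finset.sum_ite_mem, Finset.inter_eq_right.2 h7, ← Finset.card_eq_sum_ones,
    ← Finset.card_eq_sum_ones, Finset.card_range, List.toFinset_card_of_nodup (List.nodup_cons.2 ⟨hs', h2⟩),
    List.length_cons] at h8
  omega

/-- `(t, u, k)` : the `k`-th powers of the elements of type `u` have the type `t`, and `t` is not one class -/
def okSp (D : Dat) (n : ℕ) (S : List (ℕ × ℕ × ℕ)) (L : List ℕ) : Bool :=
  decide (n ≤ D.n + S.length) && decide (S.map Prod.fst).Nodup && (S.all fun x =>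
    decide (x.1 < D.n) && decide (x.2.1 < D.n) && D.pwf x.2.1 x.2.2 == x.1 && D.N % (D.cnt x.1 * D.ord x.2.1) != 0) &&
    (L.all fun s => decide (s < D.n) && decide (s ∉ S.map Prod.fst)) && (List.range D.n).all fun i => 0 < D.cnt i

/-- **the other types are single classes** -/
theorem one_of_split [Finite G] {R : Rows} (h : Tab T R) (hm : T.Mass) (S : List (ℕ × ℕ × ℕ)) {L : List ℕ}
    (hS : okSp D R.n S L = true) : ∀ s ∈ L, One T s := by
  simp only [okSp, Bool.and_eq_true, decide_eq_true_eq, List.all_eq_true, beq_iff_eq, bne_iff_ne, List.mem_range] at hS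
  obtain ⟨⟨⟨⟨h1, h2⟩, h3⟩, h4⟩, h5⟩ := hS
  have hI := inh_of_mass hm h5
  refine fun s hs => one_of_notOne h hm hI (by rwa [List.length_map]) h2 (fun t ht => ?_) (h4 s hs).1 (h4 s hs).2
  obtain ⟨x, hx, rfl⟩ := List.mem_map.1 ht
  obtain ⟨⟨⟨h6, h7⟩, h8⟩, h9⟩ := h3 x hx
  refine ⟨h6, fun h10 => ?_⟩
  obtain ⟨g, hg⟩ := hI _ h7
  refine h10.not_dvd hm (fun h11 => h9 (Nat.mod_eq_zero_of_dvd h11)) (b := g ^ x.2.2) (by rw [T.pow, hg, h8]) ?_
  rw [← hg, ← T.ord, ← Nat.card_zpowers]
  exact Subgroup.card_dvd_of_le (Subgroup.zpowers_le.2 (Subgroup.mem_centralizer_singleton_iff.2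
    (Commute.self_pow g _).eq))

theorem in_of_split [Finite G] {R : Rows} (h : Tab T R) (hm : T.Mass) (S : List (ℕ × ℕ × ℕ)) (L : List ℕ)
    (hS : okSp D R.n S L = true) (hc : SB.SporL.covU D L = true) : In G D R :=
  ⟨T, hm, h, unif_of_one hm L hc (one_of_split h hm S hS)⟩

/-! ### bounds for the centralizers -/

/-- the orders of the centralizers of the elements of type `t` divide `U` -/
def Bnd (T : TD G D) (t U : ℕ) : Prop := ∀ x, T.ty x = t → Nat.card (centralizer ({x} : Set G)) ∣ U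

theorem Bnd.one (hN : Nat.card G = D.N) (hI : Inh T) {t U : ℕ} (h : Bnd T t U) (ht : t < D.n) (h0 : 0 < U)
    (hU : D.cnt t * U ≤ D.N) : One T t := by
  obtain ⟨x, hx⟩ := hI t ht
  exact ⟨x, hx, hN ▸ (Nat.mul_le_mul_left _ (Nat.le_of_dvd h0 (h x hx))).trans hU⟩

/-- the greatest common divisor of the entries -/
noncomputable def gcdL (V : List ℤ) : ℕ := List.rec 0 (fun a _ ih => frc ih fun g => Nat.gcd a.natAbs g) V

theorem gcdL_dvd (V : List ℤ) : ∀ u, (gcdL V : ℤ) ∣ nth V u := by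
  induction V with
  | nil => exact fun _ => dvd_zero _
  | cons a V ih =>
    have h1 : gcdL (a :: V) = Nat.gcd a.natAbs (gcdL V) := frc_eq _ _
    intro u
    rw [h1]
    cases u with
    | zero => exact Int.natCast_dvd.2 (Nat.gcd_dvd_left _ _)
    | succ u => exact (Int.natCast_dvd_natCast.2 (Nat.gcd_dvd_right _ _)).trans (ih u)

theorem dvd_sumP [Finite G] (hN : Nat.card G = D.N) (h1 : T.ty 1 = 0) {W : List (List ℤ)} (hW : ∀ w ∈ W, IrrRow T w)
    (z : List ℤ) (x y : G) : Nat.card (centralizer ({x} : Set G)) ∣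
      (Int.mul D.N (sumP (T.ty x) (T.ty y) z W)).natAbs / gcdL (accP z W (List.replicate D.n 0)) := by
  classical
  have := Fintype.ofFinite G
  have h3 := sum_accP h1 x y z W _ hW (List.length_replicate (a := 0))
  have h5 : ∑ a, nth (List.replicate D.n 0) (T.ty (a * x * a⁻¹ * y)) = 0 :=
    Finset.sum_eq_zero fun a _ => by
      rw [nth_eq, List.getD_eq_getElem _ _ (by rw [List.length_replicate]; exact T.lt _), List.getElem_replicate]
  rw [h5, zero_add, hN, Characters.ClassMul.sum_conj_eq_smul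
    (fun g => nth (accP z W (List.replicate D.n 0)) (T.ty (g * y))) x, nsmul_eq_mul] at h3
  rcases Nat.eq_zero_or_pos (gcdL (accP z W (List.replicate D.n 0))) with h6 | h6
  · rw [h6, Nat.div_zero]
    exact dvd_zero _
  · refine Nat.dvd_div_of_mul_dvd (Int.natCast_dvd.1 ?_)
    show _ ∣ (D.N : ℤ) * _
    rw [← h3, Nat.cast_mul, mul_comm]
    exact mul_dvd_mul_left _ (Finset.dvd_sum fun g _ => gcdL_dvd _ _)

/-- the coefficients of a certificate -/
noncomputable def zOf (D : Dat) (W : List (List ℤ)) (m : List (ℤ × ℕ)) : List ℤ :=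
  W.map fun w => Int.mul (Int.ediv D.N (nth w 0)) (List.rec 0 (fun p _ ih => Int.add (Int.mul p.1 (nth w p.2)) ih) m)

/-- the coefficients with the common divisor of the values -/
noncomputable def zM (D : Dat) (W : List (List ℤ)) (m : List (ℤ × ℕ)) : List ℤ × ℕ :=
  (zOf D W m, gcdL (accP (zOf D W m) W (List.replicate D.n 0)))

/-- evaluate all the certificates -/
noncomputable def allZ (D : Dat) (W : List (List ℤ)) (ms : List (List (ℤ × ℕ))) : (List (List ℤ × ℕ) → Bool) → Bool :=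
  List.rec (fun k => k []) (fun m _ ih k => frcLZ (zOf D W m) fun z =>
    frcLZ (accP z W (List.replicate D.n 0)) fun V => frc (gcdL V) fun M => ih fun l => k ((z, M) :: l)) ms

theorem allZ_eq (W : List (List ℤ)) (ms : List (List (ℤ × ℕ))) :
    ∀ k, allZ D W ms k = k (ms.map (zM D W)) := by
  induction ms with
  | nil => exact fun _ => rfl
  | cons m ms ih =>
    intro k
    refine (frcLZ_eq _ _).trans ((frcLZ_eq _ _).trans ((frc_eq _ _).trans ?_))
    exact ih fun l => k (zM D W m :: l)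

/-- the bound for the type `t` from the pairs (certificate, type of `y`) -/
noncomputable def gB (D : Dat) (W : List (List ℤ)) (Z : List (List ℤ × ℕ)) (t : ℕ) (P : List (ℕ × ℕ)) : ℕ :=
  List.rec 0 (fun p _ ih => frc ih fun g =>
    Nat.gcd ((Int.mul D.N (sumP t p.2 (ntd Z ([], 0) p.1).1 W)).natAbs / (ntd Z ([], 0) p.1).2) g) P

/-- the check of the bounds `(t, U, pairs)` -/
noncomputable def okB (D : Dat) (W : List (List ℤ)) (ms : List (List (ℤ × ℕ))) (L : List (ℕ × ℕ × List (ℕ × ℕ))) : Bool :=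
  ((List.range D.n).all fun i => i == 0 || D.ord i != 1) && ((List.range D.n).all fun i => 0 < D.cnt i) &&
    Glue.frcM W fun W' => allZ D W' ms fun Z =>
      allL (fun e => allL (fun p => Nat.blt p.2 D.n) e.2.2 && Nat.beq (e.2.1 % gB D W' Z e.1 e.2.2) 0) L

/-- **bounds for the centralizers** -/
theorem bnd_of_chk [Finite G] (hm : T.Mass) {W : List (List ℤ)} (hW : ∀ w ∈ W, IrrRow T w)
    {ms : List (List (ℤ × ℕ))} {L : List (ℕ × ℕ × List (ℕ × ℕ))} (h : okB D W ms L = true) :
    ∀ e ∈ L, Bnd T e.1 e.2.1 := by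
  rw [okB, Glue.frcM_eq, allZ_eq, Bool.and_eq_true, Bool.and_eq_true] at h
  obtain ⟨⟨h1, h2⟩, h3⟩ := h
  have hI := inh_of_mass hm fun i hi => of_decide_eq_true (List.all_eq_true.1 h2 i (List.mem_range.2 hi))
  intro e he x hx
  have h4 := allL_spec h3 e he
  rw [Bool.and_eq_true, Nat.beq_eq] at h4
  refine dvd_trans ?_ (Nat.dvd_of_mod_eq_zero h4.2)
  have h5 := allL_spec h4.1
  generalize e.2.2 = P at h5
  induction P with
  | nil => exact dvd_zero _
  | cons p P ih =>
    refine dvd_trans (Nat.dvd_gcd ?_ (ih fun q hq => h5 q (List.mem_cons_of_mem _ hq))) (dvd_of_eq (frc_eq _ _).symm)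
    obtain ⟨y, hy⟩ := hI p.2 (Nat.blt_eq ▸ h5 p List.mem_cons_self)
    rcases ntd_mem (ms.map (zM D W)) ([], 0) p.1 with h6 | h6
    · rw [h6, Nat.div_zero]
      exact dvd_zero _
    · obtain ⟨m, -, h7⟩ := List.mem_map.1 h6
      rw [← h7, ← hx, ← hy]
      exact dvd_sumP hm.1 (ty_one h1) hW _ x y

/-- the bounds are the exact ones -/
def okOne (D : Dat) (L : List (ℕ × ℕ × List (ℕ × ℕ))) : Bool :=
  (L.all fun e => decide (e.1 < D.n) && decide (0 < e.2.1) && decide (D.cnt e.1 * e.2.1 ≤ D.N)) &&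
    (List.range D.n).all fun i => 0 < D.cnt i

theorem one_of_bnd (hm : T.Mass) {L : List (ℕ × ℕ × List (ℕ × ℕ))} (h : ∀ e ∈ L, Bnd T e.1 e.2.1)
    (hE : okOne D L = true) : ∀ t ∈ L.map Prod.fst, One T t := by
  simp only [okOne, Bool.and_eq_true, decide_eq_true_eq, List.all_eq_true, List.mem_range] at hE
  intro t ht
  obtain ⟨e, he, rfl⟩ := List.mem_map.1 ht
  obtain ⟨⟨h1, h2⟩, h3⟩ := hE.1 e he
  exact (h e he).one hm.1 (inh_of_mass hm hE.2) h1 h2 h3

theorem in_of_chk [Finite G] {R : Rows} (h : Tab T R) (hm : T.Mass) {W : List (List ℤ)} (hW : ∀ w ∈ W, IrrRow T w)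
    {ms : List (List (ℤ × ℕ))} {L : List (ℕ × ℕ × List (ℕ × ℕ))} (hB : okB D W ms L = true) (hE : okOne D L = true)
    (hc : SB.SporL.covU D (L.map Prod.fst) = true) : In G D R :=
  ⟨T, hm, h, unif_of_one hm _ hc (one_of_bnd hm (bnd_of_chk hm hW hB) hE)⟩

/-- the check of the descent: the bounds for the types of order `l * ord t` above `t` are not divisible by `l ^ (e + 1)` -/
def okD (D : Dat) (l e t : ℕ) (L : List (ℕ × ℕ × List (ℕ × ℕ))) : Bool :=
  D.ord t % l != 0 && (List.range D.n).all fun u => D.ord u != l * D.ord t || D.pwf u l != D.pwf t l ||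
    L.any fun x => x.1 == u && x.2.1 % l ^ (e + 1) != 0

/-- **descent** : an element of order `l` in the centre of an `l`-subgroup of the centralizer -/
theorem Bnd.desc [Finite G] {l a e t m : ℕ} (hl : l.Prime) (h : Bnd T t (l ^ a * m))
    {L : List (ℕ × ℕ × List (ℕ × ℕ))} (hL : ∀ x ∈ L, Bnd T x.1 x.2.1) (hD : okD D l e t L = true) :
    Bnd T t (l ^ e * m) := by
  simp only [okD, Bool.and_eq_true, bne_iff_ne, List.all_eq_true, List.mem_range, Bool.or_eq_true, List.any_eq_true,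
    beq_iff_eq] at hD
  intro x hx
  obtain ⟨c, d, hc, hd, h1⟩ := Nat.dvd_mul.1 (h x hx)
  obtain ⟨i, -, rfl⟩ := (Nat.dvd_prime_pow hl).1 hc
  rw [← h1]
  refine Nat.mul_dvd_mul (pow_dvd_pow l (not_lt.1 fun h2 => ?_)) hd
  have : Fact l.Prime := ⟨hl⟩
  obtain ⟨R, hR⟩ := Sylow.exists_subgroup_card_pow_prime (G := centralizer ({x} : Set G)) l (n := e + 1)
    (h1 ▸ (pow_dvd_pow l h2).mul_right d)
  have h3 : Nat.card (R.map (centralizer ({x} : Set G)).subtype) = l ^ (e + 1) := by
    rw [Subgroup.card_map_of_injective (Subgroup.subtype_injective _), hR]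
  have h4 : ∀ b ∈ R.map (centralizer ({x} : Set G)).subtype, Commute b x := by
    rintro _ ⟨b, -, rfl⟩
    exact Subgroup.mem_centralizer_singleton_iff.1 b.2
  obtain ⟨z, hz, h5, h6⟩ := exists_central hl (IsPGroup.of_card h3) fun h5 => by
    rw [h5, Subgroup.card_bot] at h3
    exact (Nat.one_lt_pow e.succ_ne_zero hl.one_lt).ne h3
  have h7 : ¬ l ∣ orderOf x := fun h7 => hD.1 (Nat.mod_eq_zero_of_dvd (by rwa [← hx, ← T.ord]))
  rcases hD.2 _ (T.lt (z * x)) with (h8 | h8) | ⟨y, hy, h8, h9⟩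
  · exact h8 (by rw [ord_mul hl (n := 1) (by rw [h5, pow_one]) h7 (h4 z hz), pow_one, hx])
  · refine h8 ?_
    rw [← T.pow, (h4 z hz).mul_pow, ← hx, ← T.pow, ← h5, pow_orderOf_eq_one, one_mul]
  · refine h9 (Nat.mod_eq_zero_of_dvd (dvd_trans ?_ (hL y hy _ h8.symm)))
    rw [← h3]
    exact Subgroup.card_dvd_of_le fun b hb =>
      Subgroup.mem_centralizer_singleton_iff.2 ((h6 b hb).mul_right (h4 b hb)).eq

end Cfsg.Agent.TH.Spor
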