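import Cfsg.Agent.TH.Spor.Defs
import Cfsg.Agent.H949.SubDeg
import Cfsg.Agent.SporadicA.NortonTrick

/-!
# S3541, the divisibility of Curtis and Fossum (helper53)

* `boxCH : BoxCH`.
-/

set_option autoImplicit false

namespace Cfsg.Agent.TH.Spor.CH

open Cfsg Cfsg.Agent.H949.SubDeg

variable {K : Type} [Group K] (A : Subgroup K)

/-- the fibres of `(a, b) ↦ a g b` -/
theorem card_fib [Fintype A] [DecidableEq K] (g d : K) (hd : Dc A g d) :
    (Finset.univ.filter fun p : A × A => (p.1 : K) * g * p.2 = d).card = Nat.card ↥(A ⊓ cj g A) := by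
  obtain ⟨a, ha, b, hb, rfl⟩ := hd
  rw [← Fintype.card_subtype, ← Nat.card_eq_fintype_card]
  symm
  refine Nat.card_congr (Equiv.ofBijective (fun c => ⟨(⟨a * c, A.mul_mem ha c.2.1⟩,
    ⟨(g⁻¹ * c * g)⁻¹ * b, A.mul_mem (A.inv_mem (mem_cj.1 c.2.2)) hb⟩), by simp only; group⟩) ⟨fun c c' h => ?_, ?_⟩)
  · have h1 : a * (c : K) = a * c' := congrArg (fun p => ((p.1.1 : A) : K)) h
    exact Subtype.ext (mul_left_cancel h1)
  · rintro ⟨⟨x, y⟩, h⟩
    have h : (x : K) * g * y = a * g * b := h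
    have h1 : g⁻¹ * (a⁻¹ * x) * g = b * (y : K)⁻¹ := by
      calc g⁻¹ * (a⁻¹ * x) * g = g⁻¹ * a⁻¹ * (x * g * y) * (y : K)⁻¹ := by group
        _ = b * (y : K)⁻¹ := by rw [h]; group
    refine ⟨⟨a⁻¹ * x, A.mul_mem (A.inv_mem ha) x.2, mem_cj.2 (h1 ▸ A.mul_mem hb (A.inv_mem y.2))⟩, Subtype.ext
      (Prod.ext (Subtype.ext ?_) (Subtype.ext ?_))⟩
    · show a * (a⁻¹ * x) = x
      group
    · show (g⁻¹ * (a⁻¹ * x) * g)⁻¹ * b = y
      rw [h1]
      group

/-- the sum of `χ` over a coset -/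
noncomputable def ph [Fintype A] (χ : K → ℂ) (g : K) : ℂ := ∑ x : A, χ (g * x)

variable [Fintype A] {χ : K → ℂ}

theorem ph_mul (g : K) {h : K} (hh : h ∈ A) : ph A χ (g * h) = ph A χ g := by
  unfold ph
  rw [← Equiv.sum_comp (Equiv.mulLeft (⟨h, hh⟩ : A)) (fun x : A => χ (g * x))]
  exact Finset.sum_congr rfl fun x _ => by rw [mul_assoc]; rfl

theorem swap (hc : IsClassFunction K χ) (a b : K) : χ (a * b) = χ (b * a) := by
  rw [← hc (b * a) a]
  congr 1
  group

theorem mul_ph (hc : IsClassFunction K χ) (g : K) {h : K} (hh : h ∈ A) : ph A χ (h * g) = ph A χ g := by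
  unfold ph
  rw [← Equiv.sum_comp (Equiv.mulRight (⟨h, hh⟩ : A)) (fun x : A => χ (g * x))]
  refine Finset.sum_congr rfl fun x _ => ?_
  rw [mul_assoc, swap hc, mul_assoc]
  rfl

theorem card_ne : (Nat.card A : ℂ) ≠ 0 := by exact_mod_cast Nat.card_pos.ne'

theorem ph_eq [Fintype K] (hc : IsClassFunction K χ) (g : K) :
    ph A χ g = Nat.card ↥(A ⊓ cj g A) * hval A g χ := by
  classical
  have h1 : ∑ p : A × A, χ (p.1 * g * p.2) = Nat.card A * ph A χ g := by
    rw [Fintype.sum_prod_type]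
    have h2 : ∀ a : A, ∑ b : A, χ (a * g * b) = ph A χ g := fun a => mul_ph A hc g a.2
    simp only [h2]
    rw [Finset.sum_const, Finset.card_univ, nsmul_eq_mul, Nat.card_eq_fintype_card]
  have h2 : ∑ p : A × A, χ (p.1 * g * p.2) =
      Nat.card ↥(A ⊓ cj g A) * ∑ d : K, (if Dc A g d then (1 : ℂ) else 0) * χ d := by
    rw [← Finset.sum_fiberwise Finset.univ (fun p : A × A => (p.1 : K) * g * p.2), Finset.mul_sum]
    refine Finset.sum_congr rfl fun d _ => ?_
    rw [Finset.sum_congr rfl fun p hp => congrArg χ (Finset.mem_filter.1 hp).2, Finset.sum_const, nsmul_eq_mul]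
    split_ifs with hd
    · rw [card_fib A g d hd, one_mul]
    · rw [Finset.filter_eq_empty_iff.2 fun p _ hp => hd ⟨p.1, p.1.2, p.2, p.2.2, hp.symm⟩]
      simp
  refine mul_left_cancel₀ (card_ne A) ?_
  rw [← h1, h2, hval, mul_left_comm, mul_inv_cancel_left₀ (card_ne A)]

theorem ph_conv [Fintype K] [Fintype (K ⧸ A)] (hχ : IsIrrCharacter K χ) (k : K) :
    ∑ Y : K ⧸ A, ph A χ (k * Y.out) * ph A χ Y.out⁻¹ = Nat.card K / χ 1 * ph A χ k := by
  have hc := Characters.Core.isIrr_isClassFunction hχ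
  refine mul_left_cancel₀ (card_ne A) ?_
  rw [← sum_quot A (fun h => ph A χ (k * h) * ph A χ h⁻¹) fun x h hh => by
    rw [← mul_assoc, ph_mul A _ hh, mul_inv_rev, mul_ph A hc _ (A.inv_mem hh)]]
  have h1 : ∀ h, ph A χ (k * h) * ph A χ h⁻¹ = ∑ x : A, ∑ y : A, χ (x * k * h) * χ (h⁻¹ * y) := by
    intro h
    rw [ph, ph, Finset.sum_mul_sum]
    refine Finset.sum_congr rfl fun x _ => Finset.sum_congr rfl fun y _ => ?_
    rw [swap hc (k * h), mul_assoc]
  simp only [h1]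
  rw [Finset.sum_comm]
  have h2 : ∀ x : A, ∑ h : K, ∑ y : A, χ (x * k * h) * χ (h⁻¹ * y) = Nat.card K / χ 1 * ph A χ k := by
    intro x
    rw [Finset.sum_comm, ← mul_ph A hc k x.2, ph, Finset.mul_sum]
    refine Finset.sum_congr rfl fun y _ => ?_
    rw [SporadicA.NortonTrick.conv hχ]
    ring
  simp only [h2]
  rw [Finset.sum_const, Finset.card_univ, nsmul_eq_mul, Nat.card_eq_fintype_card (α := A)]

end Cfsg.Agent.TH.Spor.CH

namespace Cfsg.Agent.TH.Spor

open Cfsg Cfsg.Agent.H949.SubDeg CH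

/-- **CH** -/
theorem boxCH : BoxCH := by
  intro K _ _ A _ μ c χ hχ hc hμ hn
  classical
  by_contra h0
  apply hn
  have : Fintype K := Fintype.ofFinite K
  have : Fintype (K ⧸ A) := Fintype.ofFinite _
  have hcl := Characters.Core.isIrr_isClassFunction hχ
  have hμ0 : μ ≠ 0 := fun h => by
    have h1 := hμ 1
    rw [h, zero_dvd_iff] at h1
    exact Nat.card_pos.ne' h1
  have hμC : (μ : ℂ) ≠ 0 := by exact_mod_cast hμ0
  have hc0 : c ≠ 0 := fun h => Characters.Core.isIrr_apply_one_ne_zero hχ (by rw [hc, h, Nat.cast_zero])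
  have hcC : (c : ℂ) ≠ 0 := by exact_mod_cast hc0
  obtain ⟨ψ, hψ⟩ : ∃ ψ : K → ℂ, ∀ g, ψ g = ph A χ g / μ := ⟨_, fun _ => rfl⟩
  have h1 : ∀ g, IsIntegral ℤ (ψ g) := fun g => by
    obtain ⟨e, he⟩ := hμ g
    rw [hψ, ph_eq A hcl, he, Nat.cast_mul, mul_assoc, mul_div_cancel_left₀ _ hμC]
    exact (isIntegral_natCast e).mul (isIntegral_hval A g (Characters.Core.isIrr_isCharacter hχ))
  have h2 : ∀ k, (Nat.card K / (μ * c) : ℂ) * ψ k = ∑ Y : K ⧸ A, ψ Y.out⁻¹ * ψ (k * Y.out) := fun k => by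
    have h3 := ph_conv A hχ k
    rw [hc] at h3
    simp only [hψ]
    have h4 : ∀ Y : K ⧸ A, ph A χ Y.out⁻¹ / μ * (ph A χ (k * Y.out) / μ) =
        ph A χ (k * Y.out) * ph A χ Y.out⁻¹ / (μ * μ) := fun Y => by field_simp
    simp only [h4]
    rw [← Finset.sum_div, h3]
    field_simp
  have h3 : IsIntegral (integralClosure ℤ ℂ) (Nat.card K / (μ * c) : ℂ) := by
    refine isIntegral_of_smul_mem_submodule (Submodule.span (integralClosure ℤ ℂ) (Set.range ψ)) (fun h => ?_)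
      (Submodule.fg_span (Set.finite_range ψ)) _ fun n hn => ?_
    · have h4 : ψ 1 = 0 := Submodule.span_eq_bot.1 h _ ⟨1, rfl⟩
      rw [hψ, div_eq_zero_iff] at h4
      refine h0 ?_
      simpa only [ph, one_mul] using h4.resolve_right hμC
    · induction hn using Submodule.span_induction with
      | mem x hx =>
        obtain ⟨k, rfl⟩ := hx
        rw [smul_eq_mul, h2]
        exact Submodule.sum_mem _ fun Y _ => Submodule.smul_mem _ (⟨_, h1 Y.out⁻¹⟩ : integralClosure ℤ ℂ)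
          (Submodule.subset_span ⟨_, rfl⟩)
      | zero => rw [smul_zero]; exact Submodule.zero_mem _
      | add x y _ _ hx hy => rw [smul_add]; exact Submodule.add_mem _ hx hy
      | smul a x _ hx => rw [smul_comm]; exact Submodule.smul_mem _ a hx
  have h4 : IsIntegral ℤ (Nat.card K / (μ * c) : ℂ) := isIntegral_trans _ h3
  have h5 : IsIntegral ℤ ((Nat.card K : ℚ) / (μ * c)) := by
    refine (isIntegral_algHom_iff (Rat.castHom ℂ).toIntAlgHom (Rat.castHom ℂ).injective).1 ?_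
    simpa using h4
  obtain ⟨y, hy⟩ := IsIntegrallyClosed.isIntegral_iff.1 h5
  have h6 : (μ * c : ℚ) ≠ 0 := by exact_mod_cast mul_ne_zero hμ0 hc0
  have h7 : (Nat.card K : ℤ) = (μ * c : ℕ) * y := by
    have h8 : (Nat.card K : ℚ) = μ * c * y := by
      rw [eq_div_iff h6] at hy
      rw [← hy, mul_comm]
      rfl
    exact_mod_cast h8
  exact Int.natCast_dvd_natCast.1 ⟨y, h7⟩

end Cfsg.Agent.TH.Spor
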