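import Cfsg.Agent.TH.Spor.EngC
import Cfsg.Agent.TH.Spor.CH
import Cfsg.Agent.TAB.Co2.Dat

/-!
# S3541, sporadic rows: Co2 (helper26; generated by notes/TH/spor26/gen.py.txt)
-/

set_option autoImplicit false
set_option Elab.async false

namespace Cfsg.Agent.TH.Spor.NCo2

open Cfsg Cfsg.Agent.TAB.Eng Cfsg.Agent.H940.Eng

/-- the types of prime order -/
def P : St :=
  [(23, [(50, 3678732288000, 0)]), (11, [(32, 3845947392000, 0)]), (7, [(21, 755453952000, 0)]), (5, [(13,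
  14101807104, 0), (14, 70509035520, 0)]), (3, [(4, 90675200, 0), (5, 272025600, 0)]), (2, [(1, 56925, 0), (2,
  1024650, 0), (3, 28690200, 0)])]

/-- the types -/
def Z : List Ze :=
  [(1, 2, 56925, [1]), (2, 2, 1024650, [2]), (3, 2, 28690200, [3]), (4, 3, 90675200, [4]), (5, 3, 272025600, [5]),
  (6, 4, 13662000, [1]), (7, 4, 344282400, [2]), (8, 4, 573804000, [2]), (9, 4, 860706000, [1]), (10, 4, 6885648000,
  [2]), (11, 4, 6885648000, [2]), (12, 4, 33051110400, [3]), (13, 5, 14101807104, [13]), (14, 5, 70509035520, [14]),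
  (15, 6, 7344691200, [4, 2]), (16, 6, 8160768000, [4, 1]), (17, 6, 9792921600, [5, 1]), (18, 6, 12241152000, [5,
  1]), (19, 6, 73446912000, [5, 2]), (20, 6, 146893824000, [5, 3]), (21, 7, 755453952000, [21]), (22, 8, 55085184000,
  [2]), (23, 8, 55085184000, [1]), (24, 8, 82627776000, [1]), (25, 8, 82627776000, [1]), (26, 8, 165255552000, [2]),
  (27, 8, 661022208000, [2]), (28, 9, 783433728000, [4]), (29, 10, 352545177600, [13, 2]), (30, 10, 705090355200,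
  [14, 1]), (31, 10, 1057635532800, [14, 3]), (32, 11, 3845947392000, [32]), (33, 12, 48964608000, [4, 1]), (34, 12,
  146893824000, [5, 2]), (35, 12, 146893824000, [4, 2]), (36, 12, 146893824000, [5, 1]), (37, 12, 440681472000, [5,
  2]), (38, 12, 440681472000, [4, 1]), (39, 12, 881362944000, [5, 2]), (40, 12, 881362944000, [4, 2]), (41, 14,
  755453952000, [21, 1]), (42, 14, 3021815808000, [21, 2]), (43, 15, 1410180710400, [14, 5]), (44, 15, 2820361420800,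
  [13, 4]), (45, 16, 1322044416000, [1]), (46, 16, 1322044416000, [1]), (47, 18, 2350301184000, [4, 1]), (48, 20,
  2115271065600, [14, 3]), (49, 20, 2115271065600, [13, 2]), (50, 23, 3678732288000, [50]), (51, 24, 1762725888000,
  [5, 1]), (52, 24, 1762725888000, [4, 2]), (53, 28, 1510907904000, [21, 1]), (54, 30, 1410180710400, [14, 5, 1]),
  (55, 30, 2820361420800, [13, 4, 2])]

/-- local data, large primes -/
def big : List LD :=
  []

/-- local data, the other primes -/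
def sm : List LD :=
  [⟨23, 23, [(11, 1), (23, 1)]⟩, ⟨11, 11, [(2, 1), (5, 1), (11, 1)]⟩, ⟨7, 112, [(2, 4), (3, 1), (7, 1)]⟩]

/-- the candidates -/
def SV : List (ℕ × ℕ) :=
  [(23328, 3), (93312, 3), (93312, 9), (262144, 2), (364500, 15), (373248, 3), (512000, 5), (512000, 25), (1492992,
  3), (5832000, 15), (5971968, 3), (5971968, 9), (6912000, 25), (8192000, 5), (18432000, 5), (23887872, 3),
  (41472000, 5), (49152000, 5), (49545216, 7), (49545216, 14), (63700992, 2), (63700992, 4), (93312000, 5),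
  (93312000, 15), (93312000, 25), (93312000, 45), (93312000, 75), (93312000, 125), (93312000, 225), (93312000, 375),
  (93312000, 1125), (95551488, 3), (110592000, 5), (191102976, 2), (248832000, 5), (294912000, 5), (294912000, 10),
  (294912000, 25), (294912000, 50), (328458240, 99), (479001600, 77), (663552000, 5), (743178240, 28), (1032192000,
  35), (1492992000, 5), (1492992000, 15), (3344302080, 7), (3981312000, 5), (3981312000, 25), (3981312000, 125),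
  (5971968000, 3), (5971968000, 9), (7962624000, 2), (7962624000, 4), (7962624000, 8), (7962624000, 16), (7962624000,
  32), (7962624000, 64), (11147673600, 7), (11147673600, 14), (20891566080, 253), (20891566080, 506), (20891566080,
  1012), (23887872000, 2), (23887872000, 3), (23887872000, 5), (23887872000, 6), (23887872000, 10), (23887872000,
  15), (23887872000, 30), (40874803200, 22), (919683072000, 5), (919683072000, 9), (919683072000, 15),
  (1839366144000, 11)]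

/-- the data -/
def E : En :=
  ⟨42305421312000, 2, P, Z, [(23, 1), (11, 1), (7, 1), (5, 3), (3, 6), (2, 18)], H940.Eng.D.o_co2, big ++ sm, SV⟩

theorem ok1 : okEn TAB.Co2.D (TAB.Sm2.mkRows TAB.Co2.A TAB.Co2.B) [] E = true := by decide +kernel

theorem okA0 : allA (leaf E) [(23, 1), (11, 1), (7, 1), (5, 3), (3, 6), (2, 18)] 1 = true := by decide +kernel

/-- a candidate -/
def c0 : ℕ × ℕ × List Step :=
  (23328, 3, [(0, 0, .ofNat 0, 0, [(.negSucc 0, 14), (.negSucc 0, 28), (.negSucc 0, 47), (.negSucc 0, 48), (.negSucc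
  2, 49), (.negSucc 0, 51)])])

/-- a candidate -/
def c1 : ℕ × ℕ × List Step :=
  (93312, 3, [(0, 0, .ofNat 0, 0, [(.negSucc 1, 14), (.negSucc 0, 27), (.negSucc 2, 28), (.negSucc 1, 47), (.negSucc
  2, 48), (.negSucc 8, 49), (.negSucc 1, 51)])])

/-- a candidate -/
def c2 : ℕ × ℕ × List Step :=
  (93312, 9, [(0, 0, .ofNat 0, 0, [(.negSucc 3, 28), (.negSucc 8, 48)])])

/-- a candidate -/
def c3 : ℕ × ℕ × List Step :=
  (262144, 2, [(0, 0, .ofNat 0, 0, [(.negSucc 0, 45)])])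

/-- a candidate -/
def c4 : ℕ × ℕ × List Step :=
  (364500, 15, [(0, 0, .ofNat 0, 0, [(.ofNat 5, 9), (.negSucc 6, 10), (.negSucc 39, 24), (.negSucc 7, 26), (.negSucc
  21, 27), (.negSucc 0, 29), (.negSucc 11, 32), (.negSucc 3, 33), (.negSucc 10, 34), (.negSucc 56, 35), (.negSucc 13,
  37), (.negSucc 25, 42), (.negSucc 11, 43), (.negSucc 4, 44), (.negSucc 10, 45), (.negSucc 17, 47), (.negSucc 80,
  48), (.negSucc 22, 49), (.negSucc 56, 51)])])

/-- a candidate -/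
def c5 : ℕ × ℕ × List Step :=
  (373248, 3, [(0, 0, .negSucc 25, 0, [(.ofNat 6, 9), (.negSucc 8, 17), (.negSucc 2, 20), (.negSucc 19, 24),
  (.negSucc 6, 27), (.negSucc 14, 28), (.negSucc 1, 29), (.negSucc 20, 35), (.negSucc 8, 36), (.negSucc 20, 42),
  (.negSucc 15, 47), (.negSucc 22, 48), (.negSucc 1, 49), (.negSucc 26, 50), (.negSucc 18, 51), (.ofNat 3, 52),
  (.negSucc 1, 53), (.ofNat 1, 55)])])

/-- a candidate -/
def c6 : ℕ × ℕ × List Step :=
  (512000, 5, [(0, 0, .ofNat 0, 0, [(.negSucc 0, 45), (.negSucc 0, 46)])])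

/-- a candidate -/
def c7 : ℕ × ℕ × List Step :=
  (512000, 25, [(0, 0, .ofNat 0, 0, [(.negSucc 0, 45), (.negSucc 0, 46)])])

/-- a candidate -/
def c8 : ℕ × ℕ × List Step :=
  (1492992, 3, [(0, 0, .negSucc 5, 0, [(.ofNat 4, 9), (.negSucc 1, 14), (.ofNat 2, 15), (.negSucc 2, 17), (.negSucc
  3, 20), (.negSucc 10, 24), (.negSucc 9, 28), (.negSucc 2, 29), (.negSucc 0, 30), (.negSucc 24, 35), (.negSucc 8,
  36), (.negSucc 18, 42), (.ofNat 14, 45), (.negSucc 7, 46), (.negSucc 15, 47), (.negSucc 25, 48), (.negSucc 26, 50),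
  (.negSucc 16, 51), (.ofNat 8, 52), (.negSucc 0, 53)])])

/-- a candidate -/
def c9 : ℕ × ℕ × List Step :=
  (5832000, 15, [(0, 0, .ofNat 376, 0, [(.ofNat 48, 1), (.negSucc 85, 7), (.ofNat 336, 9), (.negSucc 295, 10),
  (.negSucc 84, 11), (.negSucc 52, 15), (.negSucc 26, 17), (.negSucc 327, 24), (.negSucc 128, 25), (.negSucc 54, 28),
  (.negSucc 153, 29), (.negSucc 19, 30), (.negSucc 76, 31), (.negSucc 48, 32), (.negSucc 214, 33), (.negSucc 0, 34),
  (.negSucc 410, 35), (.negSucc 65, 36), (.negSucc 101, 37), (.negSucc 136, 38), (.negSucc 126, 39), (.negSucc 222,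
  41), (.negSucc 260, 42), (.negSucc 266, 43), (.negSucc 191, 44), (.negSucc 438, 45), (.negSucc 361, 47), (.negSucc
  728, 48), (.negSucc 399, 49), (.negSucc 428, 50), (.negSucc 281, 51), (.negSucc 5, 52), (.negSucc 25, 53),
  (.negSucc 27, 55)])])

/-- a candidate -/
def c10 : ℕ × ℕ × List Step :=
  (5971968, 3, [(0, 0, .ofNat 243, 0, [(.ofNat 44, 6), (.ofNat 123, 9), (.ofNat 1, 12), (.negSucc 71, 13), (.ofNat
  12, 15), (.negSucc 8, 17), (.ofNat 32, 21), (.negSucc 58, 23), (.ofNat 12, 26), (.negSucc 31, 29), (.negSucc 14,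
  30), (.ofNat 77, 31), (.negSucc 109, 35), (.negSucc 87, 36), (.ofNat 70, 40), (.negSucc 42, 41), (.negSucc 48, 42),
  (.ofNat 169, 45), (.negSucc 39, 47), (.negSucc 113, 48), (.negSucc 188, 50), (.negSucc 8, 51), (.ofNat 18, 52),
  (.negSucc 5, 53), (.ofNat 18, 54), (.negSucc 14, 55)])])

/-- a candidate -/
def c11 : ℕ × ℕ × List Step :=
  (5971968, 9, [(0, 0, .ofNat 81, 0, [(.ofNat 40, 2), (.ofNat 40, 6), (.ofNat 40, 9), (.negSucc 39, 20), (.negSucc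
  39, 28), (.negSucc 39, 35), (.ofNat 40, 40), (.negSucc 39, 42), (.ofNat 40, 45), (.ofNat 40, 46), (.negSucc 39,
  48), (.negSucc 19, 55)])])

/-- a candidate -/
def c12 : ℕ × ℕ × List Step :=
  (6912000, 25, [(0, 0, .ofNat 59, 0, [(.ofNat 8, 9), (.negSucc 64, 10), (.negSucc 22, 16), (.negSucc 40, 18),
  (.ofNat 30, 19), (.negSucc 18, 20), (.ofNat 18, 21), (.negSucc 55, 24), (.negSucc 5, 26), (.negSucc 1, 28),
  (.negSucc 8, 32), (.negSucc 68, 37), (.negSucc 41, 38), (.negSucc 55, 41), (.negSucc 15, 42), (.negSucc 45, 44),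
  (.negSucc 80, 45), (.negSucc 64, 47), (.negSucc 68, 48), (.negSucc 9, 52), (.ofNat 1, 55)])])

/-- a candidate -/
def c13 : ℕ × ℕ × List Step :=
  (8192000, 5, [(0, 0, .ofNat 243, 0, [(.negSucc 156, 9), (.ofNat 90, 13), (.negSucc 70, 15), (.negSucc 43, 16),
  (.ofNat 66, 19), (.ofNat 5, 23), (.ofNat 26, 27), (.ofNat 45, 36), (.negSucc 62, 38), (.negSucc 25, 39), (.negSucc
  18, 44), (.negSucc 114, 46), (.negSucc 83, 47), (.negSucc 43, 48), (.negSucc 75, 49)])])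

/-- a candidate -/
def c14 : ℕ × ℕ × List Step :=
  (18432000, 5, [(0, 0, .ofNat 240, 0, [(.ofNat 50, 6), (.negSucc 63, 7), (.ofNat 12, 9), (.negSucc 162, 10), (.ofNat
  13, 11), (.negSucc 30, 15), (.negSucc 12, 16), (.negSucc 76, 18), (.ofNat 92, 19), (.negSucc 39, 20), (.negSucc
  114, 23), (.negSucc 242, 24), (.negSucc 18, 25), (.ofNat 26, 30), (.negSucc 36, 38), (.ofNat 88, 40), (.negSucc 89,
  41), (.negSucc 25, 42), (.negSucc 6, 45), (.ofNat 40, 46), (.negSucc 74, 47), (.negSucc 126, 48), (.negSucc 56,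
  49), (.negSucc 0, 50), (.ofNat 13, 54)])])

/-- a candidate -/
def c15 : ℕ × ℕ × List Step :=
  (23887872, 3, [(0, 0, .ofNat 243, 0, [(.ofNat 61, 6), (.ofNat 61, 9), (.negSucc 90, 13), (.ofNat 30, 21), (.negSucc
  60, 23), (.ofNat 61, 24), (.ofNat 61, 28), (.ofNat 91, 31), (.negSucc 60, 35), (.negSucc 60, 36), (.ofNat 61, 40),
  (.ofNat 182, 45), (.negSucc 60, 48), (.negSucc 121, 50), (.negSucc 14, 55)])])

/-- a candidate -/
def c16 : ℕ × ℕ × List Step :=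
  (41472000, 5, [(0, 0, .ofNat 243, 0, [(.ofNat 13, 2), (.negSucc 0, 3), (.ofNat 32, 6), (.negSucc 45, 7), (.ofNat 5,
  9), (.negSucc 162, 10), (.ofNat 26, 13), (.ofNat 4, 14), (.negSucc 51, 15), (.negSucc 28, 16), (.negSucc 33, 18),
  (.ofNat 64, 19), (.negSucc 13, 20), (.negSucc 78, 23), (.negSucc 199, 24), (.negSucc 0, 25), (.ofNat 9, 30),
  (.negSucc 3, 32), (.ofNat 28, 34), (.negSucc 0, 39), (.ofNat 119, 40), (.negSucc 80, 41), (.negSucc 3, 45), (.ofNat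
  133, 46), (.negSucc 69, 48), (.negSucc 12, 49), (.ofNat 11, 51), (.negSucc 1, 52), (.negSucc 22, 53), (.negSucc 6,
  55)])])

/-- a candidate -/
def c17 : ℕ × ℕ × List Step :=
  (49152000, 5, [(0, 0, .ofNat 243, 0, [(.ofNat 27, 5), (.ofNat 20, 6), (.negSucc 10, 7), (.negSucc 2, 8), (.negSucc
  143, 10), (.negSucc 44, 15), (.negSucc 10, 17), (.negSucc 75, 18), (.ofNat 88, 19), (.negSucc 3, 23), (.negSucc
  167, 24), (.negSucc 94, 25), (.negSucc 27, 26), (.ofNat 11, 30), (.ofNat 20, 32), (.ofNat 39, 34), (.ofNat 30, 36),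
  (.negSucc 0, 37), (.negSucc 33, 39), (.ofNat 91, 40), (.negSucc 2, 42), (.ofNat 139, 46), (.negSucc 64, 48),
  (.negSucc 22, 49), (.ofNat 21, 50), (.ofNat 14, 51), (.ofNat 15, 52)])])

/-- a candidate -/
def c18 : ℕ × ℕ × List Step :=
  (49545216, 7, [(0, 0, .ofNat 243, 0, [(.negSucc 47, 5), (.ofNat 124, 6), (.ofNat 5, 9), (.negSucc 155, 10),
  (.negSucc 108, 13), (.negSucc 11, 16), (.ofNat 5, 17), (.negSucc 107, 23), (.ofNat 181, 24), (.ofNat 27, 27),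
  (.ofNat 46, 28), (.ofNat 42, 31), (.negSucc 36, 33), (.ofNat 39, 34), (.negSucc 75, 36), (.negSucc 69, 41),
  (.negSucc 19, 42), (.ofNat 38, 51), (.ofNat 10, 53)])])

/-- a candidate -/
def c19 : ℕ × ℕ × List Step :=
  (49545216, 14, [(0, 0, .ofNat 243, 0, [(.ofNat 9, 4), (.negSucc 185, 5), (.ofNat 85, 6), (.negSucc 187, 10),
  (.ofNat 37, 17), (.negSucc 21, 18), (.ofNat 1, 21), (.ofNat 10, 22), (.ofNat 124, 24), (.ofNat 21, 26), (.ofNat 79,
  27), (.ofNat 7, 28), (.negSucc 36, 33), (.ofNat 79, 34), (.negSucc 79, 36), (.negSucc 77, 41), (.negSucc 20, 42),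
  (.negSucc 25, 46), (.ofNat 98, 51)])])

/-- a candidate -/
def c20 : ℕ × ℕ × List Step :=
  (63700992, 2, [(0, 0, .ofNat 81, 0, [(.negSucc 26, 5), (.ofNat 7, 6), (.ofNat 15, 9), (.negSucc 46, 10), (.ofNat
  13, 11), (.ofNat 3, 18), (.ofNat 13, 19), (.ofNat 1, 32), (.ofNat 14, 34), (.ofNat 20, 40), (.negSucc 4, 41),
  (.negSucc 0, 42), (.ofNat 7, 43), (.negSucc 8, 48), (.ofNat 16, 51), (.negSucc 5, 53), (.negSucc 10, 55)])])

/-- a candidate -/
def c21 : ℕ × ℕ × List Step :=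
  (63700992, 4, [(0, 0, .ofNat 81, 0, [(.negSucc 26, 5), (.ofNat 7, 6), (.ofNat 15, 9), (.negSucc 46, 10), (.ofNat
  13, 11), (.ofNat 3, 18), (.ofNat 13, 19), (.ofNat 1, 32), (.ofNat 14, 34), (.ofNat 20, 40), (.negSucc 4, 41),
  (.negSucc 0, 42), (.ofNat 7, 43), (.negSucc 8, 48), (.ofNat 16, 51), (.negSucc 5, 53), (.negSucc 10, 55)])])

/-- a candidate -/
def c22 : ℕ × ℕ × List Step :=
  (93312000, 5, [(0, 0, .ofNat 1, 0, [(.ofNat 1, 9), (.negSucc 0, 24), (.negSucc 0, 35), (.ofNat 1, 40), (.ofNat 1,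
  46), (.negSucc 0, 48)])])

/-- a candidate -/
def c23 : ℕ × ℕ × List Step :=
  (93312000, 15, [(0, 0, .ofNat 1, 0, [(.ofNat 1, 9), (.negSucc 0, 24), (.negSucc 0, 35), (.ofNat 1, 40), (.ofNat 1,
  46), (.negSucc 0, 48)])])

/-- a candidate -/
def c24 : ℕ × ℕ × List Step :=
  (93312000, 25, [(0, 0, .ofNat 1, 0, [(.ofNat 1, 9), (.negSucc 0, 24), (.negSucc 0, 35), (.ofNat 1, 40), (.ofNat 1,
  46), (.negSucc 0, 48)])])

/-- a candidate -/
def c25 : ℕ × ℕ × List Step :=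
  (93312000, 45, [(0, 0, .ofNat 1, 0, [(.ofNat 1, 9), (.negSucc 0, 24), (.negSucc 0, 35), (.ofNat 1, 40), (.ofNat 1,
  46), (.negSucc 0, 48)])])

/-- a candidate -/
def c26 : ℕ × ℕ × List Step :=
  (93312000, 75, [(0, 0, .ofNat 1, 0, [(.ofNat 1, 9), (.negSucc 0, 24), (.negSucc 0, 35), (.ofNat 1, 40), (.ofNat 1,
  46), (.negSucc 0, 48)])])

/-- a candidate -/
def c27 : ℕ × ℕ × List Step :=
  (93312000, 125, [(0, 0, .ofNat 1, 0, [(.ofNat 1, 9), (.negSucc 0, 24), (.negSucc 0, 35), (.ofNat 1, 40), (.ofNat 1,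
  46), (.negSucc 0, 48)])])

/-- a candidate -/
def c28 : ℕ × ℕ × List Step :=
  (93312000, 225, [(0, 0, .ofNat 1, 0, [(.ofNat 1, 9), (.negSucc 0, 24), (.negSucc 0, 35), (.ofNat 1, 40), (.ofNat 1,
  46), (.negSucc 0, 48)])])

/-- a candidate -/
def c29 : ℕ × ℕ × List Step :=
  (93312000, 375, [(0, 0, .ofNat 1, 0, [(.ofNat 1, 9), (.negSucc 0, 24), (.negSucc 0, 35), (.ofNat 1, 40), (.ofNat 1,
  46), (.negSucc 0, 48)])])

/-- candidates -/
def CL0 : List (ℕ × ℕ × List Step) :=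
  [c0, c1, c2, c3, c4, c5, c6, c7, c8, c9, c10, c11, c12, c13, c14, c15, c16, c17, c18, c19, c20, c21, c22, c23, c24,
  c25, c26, c27, c28, c29]

theorem okC0 : okL TAB.Co2.D (TAB.Sm2.mkRows TAB.Co2.A TAB.Co2.B) 2 P Z CL0 = true := by decide +kernel

/-- a candidate -/
def c30 : ℕ × ℕ × List Step :=
  (93312000, 1125, [(0, 0, .ofNat 1, 0, [(.ofNat 1, 9), (.negSucc 0, 24), (.negSucc 0, 35), (.ofNat 1, 40), (.ofNat
  1, 46), (.negSucc 0, 48)])])

/-- a candidate -/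
def c31 : ℕ × ℕ × List Step :=
  (95551488, 3, [(0, 0, .ofNat 243, 0, [(.negSucc 100, 5), (.ofNat 40, 6), (.ofNat 81, 9), (.negSucc 100, 10),
  (.negSucc 60, 13), (.negSucc 14, 14), (.ofNat 17, 17), (.ofNat 20, 18), (.ofNat 13, 21), (.ofNat 59, 24), (.ofNat
  24, 27), (.ofNat 26, 28), (.negSucc 8, 29), (.negSucc 6, 30), (.negSucc 12, 33), (.ofNat 48, 34), (.negSucc 35,
  36), (.ofNat 45, 40), (.negSucc 40, 41), (.negSucc 15, 42), (.negSucc 0, 43), (.ofNat 1, 47), (.negSucc 13, 48),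
  (.ofNat 42, 51), (.negSucc 34, 55)])])

/-- a candidate -/
def c32 : ℕ × ℕ × List Step :=
  (110592000, 5, [(0, 0, .ofNat 1, 0, [(.ofNat 1, 9), (.negSucc 0, 24), (.negSucc 0, 35), (.ofNat 1, 40), (.ofNat 1,
  46), (.negSucc 0, 48)])])

/-- a candidate -/
def c33 : ℕ × ℕ × List Step :=
  (191102976, 2, [(0, 0, .ofNat 243, 0, [(.negSucc 108, 5), (.ofNat 33, 6), (.ofNat 81, 9), (.negSucc 106, 10),
  (.negSucc 57, 13), (.negSucc 8, 14), (.ofNat 19, 17), (.ofNat 18, 18), (.ofNat 17, 21), (.ofNat 63, 24), (.ofNat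
  20, 27), (.ofNat 12, 28), (.negSucc 10, 29), (.negSucc 2, 30), (.negSucc 15, 33), (.ofNat 57, 34), (.negSucc 29,
  36), (.negSucc 2, 38), (.ofNat 41, 40), (.negSucc 36, 41), (.negSucc 13, 42), (.negSucc 1, 43), (.ofNat 11, 47),
  (.negSucc 8, 48), (.ofNat 46, 51), (.negSucc 36, 55)])])

/-- a candidate -/
def c34 : ℕ × ℕ × List Step :=
  (248832000, 5, [(0, 0, .ofNat 1, 0, [(.ofNat 1, 9), (.negSucc 0, 24), (.negSucc 0, 35), (.ofNat 1, 40), (.ofNat 1,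
  46), (.negSucc 0, 48)])])

/-- a candidate -/
def c35 : ℕ × ℕ × List Step :=
  (294912000, 5, [(0, 0, .ofNat 1, 0, [(.ofNat 1, 9), (.negSucc 0, 24), (.negSucc 0, 35), (.ofNat 1, 40), (.ofNat 1,
  46), (.negSucc 0, 48)])])

/-- a candidate -/
def c36 : ℕ × ℕ × List Step :=
  (294912000, 10, [(0, 0, .ofNat 1, 0, [(.ofNat 1, 9), (.negSucc 0, 24), (.negSucc 0, 35), (.ofNat 1, 40), (.ofNat 1,
  46), (.negSucc 0, 48)])])

/-- a candidate -/
def c37 : ℕ × ℕ × List Step :=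
  (294912000, 25, [(0, 0, .ofNat 1, 0, [(.ofNat 1, 9), (.negSucc 0, 24), (.negSucc 0, 35), (.ofNat 1, 40), (.ofNat 1,
  46), (.negSucc 0, 48)])])

/-- a candidate -/
def c38 : ℕ × ℕ × List Step :=
  (294912000, 50, [(0, 0, .ofNat 1, 0, [(.ofNat 1, 9), (.negSucc 0, 24), (.negSucc 0, 35), (.ofNat 1, 40), (.ofNat 1,
  46), (.negSucc 0, 48)])])

/-- a candidate -/
def c39 : ℕ × ℕ × List Step :=
  (328458240, 99, [(0, 0, .ofNat 1, 0, [(.ofNat 1, 9), (.negSucc 0, 24), (.negSucc 0, 35), (.ofNat 1, 40), (.ofNat 1,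
  46), (.negSucc 0, 48)])])

/-- a candidate -/
def c40 : ℕ × ℕ × List Step :=
  (479001600, 77, [(0, 0, .ofNat 81, 0, [(.negSucc 80, 3), (.ofNat 81, 14), (.negSucc 80, 33), (.ofNat 81, 34),
  (.negSucc 80, 45), (.ofNat 81, 48), (.negSucc 39, 52), (.negSucc 80, 53), (.negSucc 80, 54)])])

/-- a candidate -/
def c41 : ℕ × ℕ × List Step :=
  (663552000, 5, [(0, 0, .ofNat 1, 0, [(.ofNat 1, 9), (.negSucc 0, 24), (.negSucc 0, 35), (.ofNat 1, 40), (.ofNat 1,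
  46), (.negSucc 0, 48)])])

/-- a candidate -/
def c42 : ℕ × ℕ × List Step :=
  (743178240, 28, [(0, 0, .ofNat 243, 0, [(.ofNat 75, 2), (.negSucc 19, 5), (.ofNat 180, 6), (.negSucc 239, 10),
  (.negSucc 17, 12), (.ofNat 64, 17), (.negSucc 98, 18), (.negSucc 15, 20), (.negSucc 2, 21), (.negSucc 153, 23),
  (.ofNat 149, 24), (.ofNat 235, 27), (.ofNat 3, 31), (.negSucc 51, 33), (.ofNat 50, 34), (.ofNat 35, 35), (.negSucc
  5, 37), (.negSucc 89, 41), (.negSucc 4, 42), (.negSucc 27, 43), (.ofNat 10, 46), (.negSucc 139, 49), (.ofNat 66,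
  51), (.negSucc 5, 52), (.negSucc 42, 53)])])

/-- a candidate -/
def c43 : ℕ × ℕ × List Step :=
  (1032192000, 35, [(0, 0, .ofNat 1, 0, [(.ofNat 1, 1), (.negSucc 0, 7), (.negSucc 0, 10), (.ofNat 1, 27), (.ofNat 1,
  35), (.negSucc 0, 41), (.negSucc 0, 45), (.ofNat 1, 51), (.ofNat 1, 54)])])

/-- a candidate -/
def c44 : ℕ × ℕ × List Step :=
  (1492992000, 5, [(0, 0, .ofNat 1, 0, [(.ofNat 1, 9), (.negSucc 0, 24), (.negSucc 0, 35), (.ofNat 1, 40), (.ofNat 1,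
  46), (.negSucc 0, 48)])])

/-- a candidate -/
def c45 : ℕ × ℕ × List Step :=
  (1492992000, 15, [(0, 0, .ofNat 1, 0, [(.ofNat 1, 9), (.negSucc 0, 24), (.negSucc 0, 35), (.ofNat 1, 40), (.ofNat
  1, 46), (.negSucc 0, 48)])])

/-- a candidate -/
def c46 : ℕ × ℕ × List Step :=
  (3344302080, 7, [(0, 0, .ofNat 81, 0, [(.ofNat 15, 2), (.ofNat 3, 5), (.ofNat 54, 6), (.negSucc 62, 10), (.negSucc
  24, 13), (.negSucc 2, 16), (.negSucc 22, 18), (.negSucc 1, 19), (.negSucc 21, 20), (.negSucc 8, 21), (.negSucc 52,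
  23), (.ofNat 63, 24), (.ofNat 56, 27), (.negSucc 5, 29), (.negSucc 9, 30), (.ofNat 17, 31), (.negSucc 5, 32),
  (.negSucc 9, 33), (.ofNat 26, 34), (.ofNat 14, 35), (.negSucc 26, 41), (.ofNat 2, 46), (.negSucc 48, 49), (.ofNat
  6, 51), (.negSucc 1, 52), (.negSucc 13, 53)])])

/-- a candidate -/
def c47 : ℕ × ℕ × List Step :=
  (3981312000, 5, [(0, 0, .ofNat 1, 0, [(.ofNat 1, 9), (.negSucc 0, 24), (.negSucc 0, 35), (.ofNat 1, 40), (.ofNat 1,
  46), (.negSucc 0, 48)])])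

/-- a candidate -/
def c48 : ℕ × ℕ × List Step :=
  (3981312000, 25, [(0, 0, .ofNat 1, 0, [(.ofNat 1, 9), (.negSucc 0, 24), (.negSucc 0, 35), (.ofNat 1, 40), (.ofNat
  1, 46), (.negSucc 0, 48)])])

/-- a candidate -/
def c49 : ℕ × ℕ × List Step :=
  (3981312000, 125, [(0, 0, .ofNat 1, 0, [(.ofNat 1, 9), (.negSucc 0, 24), (.negSucc 0, 35), (.ofNat 1, 40), (.ofNat
  1, 46), (.negSucc 0, 48)])])

/-- a candidate -/
def c50 : ℕ × ℕ × List Step :=
  (5971968000, 3, [(0, 0, .ofNat 81, 0, [(.ofNat 10, 2), (.negSucc 19, 3), (.ofNat 33, 6), (.negSucc 0, 7), (.ofNat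
  34, 9), (.negSucc 18, 10), (.negSucc 13, 13), (.negSucc 1, 16), (.negSucc 15, 18), (.negSucc 15, 20), (.negSucc 28,
  23), (.ofNat 1, 25), (.ofNat 28, 27), (.ofNat 6, 31), (.negSucc 10, 33), (.ofNat 9, 34), (.negSucc 12, 35), (.ofNat
  2, 36), (.negSucc 0, 39), (.ofNat 33, 40), (.negSucc 12, 41), (.ofNat 2, 42), (.ofNat 35, 46), (.negSucc 19, 48),
  (.negSucc 19, 49), (.ofNat 15, 51), (.negSucc 4, 52), (.negSucc 11, 53)])])

/-- a candidate -/
def c51 : ℕ × ℕ × List Step :=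
  (5971968000, 9, [(0, 0, .ofNat 81, 0, [(.ofNat 19, 2), (.negSucc 16, 3), (.ofNat 33, 6), (.negSucc 9, 7), (.ofNat
  26, 9), (.negSucc 21, 10), (.ofNat 15, 14), (.negSucc 2, 16), (.negSucc 22, 18), (.negSucc 6, 20), (.negSucc 26,
  23), (.ofNat 42, 27), (.negSucc 17, 33), (.ofNat 14, 34), (.negSucc 10, 35), (.ofNat 29, 40), (.negSucc 13, 41),
  (.ofNat 3, 44), (.ofNat 31, 46), (.ofNat 3, 47), (.negSucc 7, 48), (.negSucc 15, 49), (.ofNat 14, 51), (.negSucc 5,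
  52), (.negSucc 16, 53)])])

/-- a candidate -/
def c52 : ℕ × ℕ × List Step :=
  (7962624000, 2, [(0, 0, .ofNat 27, 0, [(.ofNat 3, 2), (.negSucc 6, 3), (.ofNat 11, 6), (.ofNat 11, 9), (.negSucc 5,
  10), (.negSucc 4, 13), (.negSucc 0, 16), (.negSucc 4, 18), (.negSucc 4, 20), (.negSucc 9, 23), (.ofNat 9, 27),
  (.ofNat 2, 31), (.negSucc 3, 33), (.ofNat 3, 34), (.negSucc 3, 35), (.ofNat 1, 36), (.ofNat 11, 40), (.negSucc 3,
  41), (.ofNat 1, 42), (.ofNat 12, 46), (.negSucc 6, 48), (.negSucc 6, 49), (.ofNat 5, 51), (.negSucc 1, 52),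
  (.negSucc 3, 53)])])

/-- a candidate -/
def c53 : ℕ × ℕ × List Step :=
  (7962624000, 4, [(0, 0, .ofNat 27, 0, [(.ofNat 3, 2), (.negSucc 6, 3), (.ofNat 11, 6), (.ofNat 11, 9), (.negSucc 5,
  10), (.negSucc 4, 13), (.negSucc 0, 16), (.negSucc 4, 18), (.negSucc 4, 20), (.negSucc 9, 23), (.ofNat 9, 27),
  (.ofNat 2, 31), (.negSucc 3, 33), (.ofNat 3, 34), (.negSucc 3, 35), (.ofNat 1, 36), (.ofNat 11, 40), (.negSucc 3,
  41), (.ofNat 1, 42), (.ofNat 12, 46), (.negSucc 6, 48), (.negSucc 6, 49), (.ofNat 5, 51), (.negSucc 1, 52),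
  (.negSucc 3, 53)])])

/-- a candidate -/
def c54 : ℕ × ℕ × List Step :=
  (7962624000, 8, [(0, 0, .ofNat 27, 0, [(.ofNat 3, 2), (.negSucc 6, 3), (.ofNat 11, 6), (.ofNat 11, 9), (.negSucc 5,
  10), (.negSucc 4, 13), (.negSucc 0, 16), (.negSucc 4, 18), (.negSucc 4, 20), (.negSucc 9, 23), (.ofNat 9, 27),
  (.ofNat 2, 31), (.negSucc 3, 33), (.ofNat 3, 34), (.negSucc 3, 35), (.ofNat 1, 36), (.ofNat 11, 40), (.negSucc 3,
  41), (.ofNat 1, 42), (.ofNat 12, 46), (.negSucc 6, 48), (.negSucc 6, 49), (.ofNat 5, 51), (.negSucc 1, 52),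
  (.negSucc 3, 53)])])

/-- a candidate -/
def c55 : ℕ × ℕ × List Step :=
  (7962624000, 16, [(0, 0, .ofNat 1, 0, [(.ofNat 1, 9), (.negSucc 0, 24), (.negSucc 0, 35), (.ofNat 1, 40), (.ofNat
  1, 46), (.negSucc 0, 48)])])

/-- a candidate -/
def c56 : ℕ × ℕ × List Step :=
  (7962624000, 32, [(0, 0, .ofNat 1, 0, [(.ofNat 1, 9), (.negSucc 0, 24), (.negSucc 0, 35), (.ofNat 1, 40), (.ofNat
  1, 46), (.negSucc 0, 48)])])

/-- a candidate -/
def c57 : ℕ × ℕ × List Step :=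
  (7962624000, 64, [(0, 0, .ofNat 1, 0, [(.ofNat 1, 9), (.negSucc 0, 24), (.negSucc 0, 35), (.ofNat 1, 40), (.ofNat
  1, 46), (.negSucc 0, 48)])])

/-- a candidate -/
def c58 : ℕ × ℕ × List Step :=
  (11147673600, 7, [(0, 0, .ofNat 81, 0, [(.ofNat 40, 1), (.negSucc 39, 3), (.negSucc 39, 7), (.negSucc 39, 10),
  (.ofNat 40, 14), (.ofNat 40, 27), (.negSucc 39, 33), (.ofNat 40, 34), (.ofNat 40, 35), (.negSucc 39, 41), (.negSucc
  80, 45), (.ofNat 40, 48), (.ofNat 40, 51), (.negSucc 19, 52), (.negSucc 39, 53)])])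

/-- a candidate -/
def c59 : ℕ × ℕ × List Step :=
  (11147673600, 14, [(0, 0, .ofNat 81, 0, [(.ofNat 40, 1), (.negSucc 39, 3), (.negSucc 39, 7), (.negSucc 39, 10),
  (.ofNat 40, 14), (.ofNat 40, 27), (.negSucc 39, 33), (.ofNat 40, 34), (.ofNat 40, 35), (.negSucc 39, 41), (.negSucc
  80, 45), (.ofNat 40, 48), (.ofNat 40, 51), (.negSucc 19, 52), (.negSucc 39, 53)])])

/-- candidates -/
def CL1 : List (ℕ × ℕ × List Step) :=
  [c30, c31, c32, c33, c34, c35, c36, c37, c38, c39, c40, c41, c42, c43, c44, c45, c46, c47, c48, c49, c50, c51, c52,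
  c53, c54, c55, c56, c57, c58, c59]

theorem okC1 : okL TAB.Co2.D (TAB.Sm2.mkRows TAB.Co2.A TAB.Co2.B) 2 P Z CL1 = true := by decide +kernel

/-- a candidate -/
def c60 : ℕ × ℕ × List Step :=
  (20891566080, 253, [(0, 0, .negSucc 910, 0, [(.ofNat 797, 3), (.negSucc 178, 4), (.negSucc 487, 5), (.negSucc 178,
  7), (.negSucc 715, 8), (.negSucc 1569, 9), (.negSucc 2838, 10), (.negSucc 4229, 11), (.negSucc 2684, 12), (.negSucc
  2366, 13), (.negSucc 4644, 14), (.negSucc 2375, 15), (.negSucc 4921, 16), (.negSucc 11006, 17), (.negSucc 11454,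
  18), (.negSucc 14496, 19), (.negSucc 18889, 20), (.negSucc 16595, 21), (.negSucc 21883, 22), (.negSucc 23038, 23),
  (.negSucc 24454, 24), (.negSucc 23917, 25), (.negSucc 21476, 26), (.negSucc 26219, 27), (.negSucc 31410, 28),
  (.negSucc 37926, 29), (.negSucc 29189, 30), (.negSucc 33972, 31), (.negSucc 36893, 32), (.negSucc 40676, 33),
  (.negSucc 38617, 34), (.negSucc 50674, 35), (.negSucc 59794, 36), (.negSucc 57231, 37), (.negSucc 57475, 38),
  (.negSucc 55035, 39), (.negSucc 77976, 40), (.negSucc 109981, 41), (.negSucc 112682, 42), (.negSucc 152537, 43),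
  (.negSucc 142530, 44), (.negSucc 156287, 45), (.negSucc 171817, 46), (.negSucc 173770, 47), (.negSucc 177146, 48),
  (.negSucc 173379, 49), (.negSucc 171817, 50), (.negSucc 176829, 51), (.negSucc 40, 53), (.negSucc 7370, 54),
  (.negSucc 18670, 55)])])

/-- a candidate -/
def c61 : ℕ × ℕ × List Step :=
  (20891566080, 506, [(21, 5, .ofNat 27354, 0, [(.ofNat 27591, 1), (.negSucc 35, 4), (.negSucc 418, 5), (.negSucc
  27544, 7), (.negSucc 339, 8), (.negSucc 28487, 10), (.negSucc 942, 11), (.ofNat 920, 12), (.ofNat 555, 13), (.ofNat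
  877, 14), (.ofNat 974, 15), (.ofNat 2284, 16), (.ofNat 2074, 18), (.ofNat 2248, 19), (.ofNat 263, 20), (.ofNat
  2369, 21), (.ofNat 3647, 22), (.ofNat 2169, 23), (.ofNat 2235, 24), (.ofNat 2393, 25), (.ofNat 5140, 26), (.ofNat
  31176, 27), (.ofNat 7104, 28), (.ofNat 3678, 29), (.ofNat 6602, 30), (.ofNat 4691, 31), (.ofNat 8367, 32), (.ofNat
  10599, 33), (.ofNat 5628, 34), (.ofNat 33472, 35), (.ofNat 6494, 36), (.ofNat 11917, 37), (.ofNat 5759, 38),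
  (.ofNat 11606, 39), (.ofNat 12428, 40), (.negSucc 12033, 41), (.ofNat 18738, 42), (.ofNat 27140, 43), (.ofNat
  27157, 44), (.ofNat 28871, 46), (.ofNat 26707, 47), (.ofNat 33398, 48), (.ofNat 28931, 49), (.ofNat 30874, 50),
  (.ofNat 59049, 51), (.ofNat 277, 52), (.ofNat 726, 53), (.ofNat 28940, 54), (.ofNat 3484, 55)])])

/-- a candidate -/
def c62 : ℕ × ℕ × List Step :=
  (20891566080, 1012, [(21, 3, .ofNat 82061, 0, [(.ofNat 82773, 1), (.negSucc 106, 4), (.negSucc 1256, 5), (.negSucc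
  82634, 7), (.negSucc 1018, 8), (.negSucc 85462, 10), (.negSucc 2827, 11), (.ofNat 2760, 12), (.ofNat 1664, 13),
  (.ofNat 2630, 14), (.ofNat 2921, 15), (.ofNat 6851, 16), (.ofNat 6223, 18), (.ofNat 6744, 19), (.ofNat 790, 20),
  (.ofNat 7108, 21), (.ofNat 10942, 22), (.ofNat 6507, 23), (.ofNat 6706, 24), (.ofNat 7179, 25), (.ofNat 15420, 26),
  (.ofNat 93527, 27), (.ofNat 21311, 28), (.ofNat 11035, 29), (.ofNat 19805, 30), (.ofNat 14073, 31), (.ofNat 25100,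
  32), (.ofNat 31796, 33), (.ofNat 16884, 34), (.ofNat 100415, 35), (.ofNat 19482, 36), (.ofNat 35752, 37), (.ofNat
  17277, 38), (.ofNat 34817, 39), (.ofNat 37283, 40), (.negSucc 36101, 41), (.ofNat 56214, 42), (.ofNat 81419, 43),
  (.ofNat 81471, 44), (.ofNat 86614, 46), (.ofNat 80120, 47), (.ofNat 100194, 48), (.ofNat 86792, 49), (.ofNat 92622,
  50), (.ofNat 177147, 51), (.ofNat 832, 52), (.ofNat 2177, 53), (.ofNat 86819, 54), (.ofNat 10453, 55)])])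

/-- a candidate -/
def c63 : ℕ × ℕ × List Step :=
  (23887872000, 2, [(0, 0, .ofNat 27, 0, [(.ofNat 3, 2), (.negSucc 6, 3), (.ofNat 11, 6), (.ofNat 11, 9), (.negSucc
  5, 10), (.negSucc 4, 13), (.negSucc 0, 16), (.negSucc 4, 18), (.negSucc 4, 20), (.negSucc 9, 23), (.ofNat 9, 27),
  (.ofNat 2, 31), (.negSucc 3, 33), (.ofNat 3, 34), (.negSucc 3, 35), (.ofNat 1, 36), (.ofNat 11, 40), (.negSucc 3,
  41), (.ofNat 1, 42), (.ofNat 12, 46), (.negSucc 6, 48), (.negSucc 6, 49), (.ofNat 5, 51), (.negSucc 1, 52),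
  (.negSucc 3, 53)])])

/-- a candidate -/
def c64 : ℕ × ℕ × List Step :=
  (23887872000, 3, [(0, 0, .ofNat 1, 0, [(.ofNat 1, 9), (.negSucc 0, 24), (.negSucc 0, 35), (.ofNat 1, 40), (.ofNat
  1, 46), (.negSucc 0, 48)])])

/-- a candidate -/
def c65 : ℕ × ℕ × List Step :=
  (23887872000, 5, [(0, 0, .ofNat 1, 0, [(.ofNat 1, 9), (.negSucc 0, 24), (.negSucc 0, 35), (.ofNat 1, 40), (.ofNat
  1, 46), (.negSucc 0, 48)])])

/-- a candidate -/
def c66 : ℕ × ℕ × List Step :=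
  (23887872000, 6, [(0, 0, .ofNat 1, 0, [(.ofNat 1, 9), (.negSucc 0, 24), (.negSucc 0, 35), (.ofNat 1, 40), (.ofNat
  1, 46), (.negSucc 0, 48)])])

/-- a candidate -/
def c67 : ℕ × ℕ × List Step :=
  (23887872000, 10, [(0, 0, .ofNat 1, 0, [(.ofNat 1, 9), (.negSucc 0, 24), (.negSucc 0, 35), (.ofNat 1, 40), (.ofNat
  1, 46), (.negSucc 0, 48)])])

/-- a candidate -/
def c68 : ℕ × ℕ × List Step :=
  (23887872000, 15, [(0, 0, .ofNat 1, 0, [(.ofNat 1, 9), (.negSucc 0, 24), (.negSucc 0, 35), (.ofNat 1, 40), (.ofNat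
  1, 46), (.negSucc 0, 48)])])

/-- a candidate -/
def c69 : ℕ × ℕ × List Step :=
  (23887872000, 30, [(0, 0, .ofNat 1, 0, [(.ofNat 1, 9), (.negSucc 0, 24), (.negSucc 0, 35), (.ofNat 1, 40), (.ofNat
  1, 46), (.negSucc 0, 48)])])

/-- a candidate -/
def c70 : ℕ × ℕ × List Step :=
  (40874803200, 22, [(0, 0, .ofNat 27, 0, [(.negSucc 26, 3), (.ofNat 27, 14), (.negSucc 26, 33), (.ofNat 27, 34),
  (.negSucc 26, 45), (.ofNat 27, 48), (.negSucc 12, 52), (.negSucc 26, 53), (.negSucc 26, 54)])])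

/-- a candidate -/
def c71 : ℕ × ℕ × List Step :=
  (919683072000, 5, [(0, 0, .ofNat 9, 0, [(.negSucc 8, 3), (.ofNat 9, 14), (.negSucc 8, 33), (.ofNat 9, 34),
  (.negSucc 8, 45), (.ofNat 9, 48), (.negSucc 3, 52), (.negSucc 8, 53), (.negSucc 8, 54)])])

/-- a candidate -/
def c72 : ℕ × ℕ × List Step :=
  (919683072000, 9, [(0, 0, .ofNat 9, 0, [(.negSucc 8, 3), (.ofNat 9, 14), (.negSucc 8, 33), (.ofNat 9, 34),
  (.negSucc 8, 45), (.ofNat 9, 48), (.negSucc 3, 52), (.negSucc 8, 53), (.negSucc 8, 54)])])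

/-- a candidate -/
def c73 : ℕ × ℕ × List Step :=
  (919683072000, 15, [(0, 0, .ofNat 9, 0, [(.negSucc 8, 3), (.ofNat 9, 14), (.negSucc 8, 33), (.ofNat 9, 34),
  (.negSucc 8, 45), (.ofNat 9, 48), (.negSucc 3, 52), (.negSucc 8, 53), (.negSucc 8, 54)])])

/-- a candidate -/
def c74 : ℕ × ℕ × List Step :=
  (1839366144000, 11, [(0, 0, .ofNat 9, 0, [(.negSucc 8, 3), (.ofNat 9, 14), (.negSucc 8, 33), (.ofNat 9, 34),
  (.negSucc 8, 45), (.ofNat 9, 48), (.negSucc 3, 52), (.negSucc 8, 53), (.negSucc 8, 54)])])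

/-- candidates -/
def CL2 : List (ℕ × ℕ × List Step) :=
  [c60, c61, c62, c63, c64, c65, c66, c67, c68, c69, c70, c71, c72, c73, c74]

theorem okC2 : okL TAB.Co2.D (TAB.Sm2.mkRows TAB.Co2.A TAB.Co2.B) 2 P Z CL2 = true := by decide +kernel

theorem okB : ∀ ld ∈ big, bigE E ld = true :=
  fa_nil

theorem okA : ∀ a ∈ divsT [], allA (leaf E) [(23, 1), (11, 1), (7, 1), (5, 3), (3, 6), (2, 18)] a = true := by
  rw [show divsT [] = [1] by decide +kernel]
  exact fa_cons okA0 <| fa_nil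

/-- the pairs -/
def pj (L : List (ℕ × ℕ × List Step)) : List (ℕ × ℕ) := L.map fun x => (x.1, x.2.1)

theorem okC : ∀ x ∈ E.SV, ∃ CL, okL TAB.Co2.D (TAB.Sm2.mkRows TAB.Co2.A TAB.Co2.B) E.j E.P E.Z CL = true ∧ x ∈ pj CL := by
  rw [show E.SV = [pj CL0, pj CL1, pj CL2].flatten by decide +kernel]
  exact forall_flatten <| fa_cons (fun _ h => ⟨_, okC0, h⟩) <| fa_cons (fun _ h => ⟨_, okC1, h⟩) <| fa_cons (fun _ h => ⟨_, okC2, h⟩) <| fa_nil

/-- **no configuration** -/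
theorem noW {K : Type} [Group K] [Finite K] (h : In K TAB.Co2.D (TAB.Sm2.mkRows TAB.Co2.A TAB.Co2.B)) : NoW K 2 :=
  noW_of (E := E) boxCH h.inC ok1 (H940.Eng.D.ords_co2 base)
    (fun ld h => ⟨List.mem_append_left _ h, okB ld h⟩) (by decide +kernel) okA okC

end Cfsg.Agent.TH.Spor.NCo2
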