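import Cfsg.Agent.TH.Spor.EngC
import Cfsg.Agent.TH.Spor.CH
import Cfsg.Agent.TAB.Co3.Dat

/-!
# S3541, sporadic rows: Co3 (helper26; generated by notes/TH/spor26/gen.py.txt)
-/

set_option autoImplicit false
set_option Elab.async false

namespace Cfsg.Agent.TH.Spor.NCo3

open Cfsg Cfsg.Agent.TAB.Eng Cfsg.Agent.H940.Eng

/-- the types of prime order -/
def P : St :=
  [(23, [(34, 43110144000, 0)]), (11, [(23, 45069696000, 0)]), (7, [(15, 11803968000, 0)]), (5, [(8, 330511104, 0),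
  (9, 1652555520, 0)]), (3, [(3, 1416800, 0), (4, 17001600, 0), (5, 109296000, 0)]), (2, [(1, 170775, 0), (2,
  2608200, 0)])]

/-- the types -/
def Z : List Ze :=
  [(1, 2, 170775, [1]), (2, 2, 2608200, [2]), (3, 3, 1416800, [3]), (4, 3, 17001600, [4]), (5, 3, 109296000, [5]),
  (6, 4, 21517650, [1]), (7, 4, 322764750, [1]), (8, 5, 330511104, [8]), (9, 5, 1652555520, [9]), (10, 6, 114760800,
  [3, 1]), (11, 6, 382536000, [3, 1]), (12, 6, 2295216000, [4, 1]), (13, 6, 4590432000, [4, 2]), (14, 6, 6885648000,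
  [5, 2]), (15, 7, 11803968000, [15]), (16, 8, 2582118000, [1]), (17, 8, 2582118000, [1]), (18, 8, 15492708000, [1]),
  (19, 9, 3060288000, [3]), (20, 9, 6120576000, [3]), (21, 10, 8262777600, [8, 1]), (22, 10, 24788332800, [9, 2]),
  (23, 11, 45069696000, [23]), (24, 12, 3442824000, [3, 1]), (25, 12, 10328472000, [3, 1]), (26, 12, 13771296000, [4,
  1]), (27, 14, 35411904000, [15, 1]), (28, 15, 16525555200, [8, 3]), (29, 15, 33051110400, [9, 4]), (30, 18,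
  27542592000, [3, 1]), (31, 20, 49576665600, [8, 1]), (32, 21, 23607936000, [15, 5]), (33, 22, 45069696000, [23,
  2]), (34, 23, 43110144000, [34]), (35, 24, 20656944000, [3, 1]), (36, 24, 20656944000, [3, 1]), (37, 30,
  16525555200, [8, 3, 1])]

/-- local data, large primes -/
def big : List LD :=
  []

/-- local data, the other primes -/
def sm : List LD :=
  [⟨23, 23, [(11, 1), (23, 1)]⟩, ⟨11, 22, [(2, 1), (5, 1), (11, 1)]⟩, ⟨7, 252, [(2, 2), (3, 2), (7, 1)]⟩]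

/-- the candidates -/
def SV : List (ℕ × ℕ) :=
  [(1024, 2), (1024, 4), (69984, 3), (69984, 9), (81000, 25), (279936, 3), (486000, 5), (576000, 5), (746496, 2),
  (746496, 4), (1093500, 5), (1093500, 15), (1093500, 25), (1093500, 45), (1093500, 75), (1093500, 125), (1093500,
  225), (1093500, 375), (1093500, 1125), (1119744, 3), (1296000, 5), (2239488, 2), (2916000, 5), (3456000, 5),
  (3456000, 10), (3456000, 25), (3456000, 50), (3849120, 99), (7776000, 5), (12096000, 35), (17496000, 5), (17496000,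
  15), (46656000, 5), (46656000, 25), (46656000, 125), (54432000, 7), (69984000, 9), (93312000, 4), (93312000, 8),
  (93312000, 16), (93312000, 32), (93312000, 64), (130636800, 7), (130636800, 14), (244823040, 253), (244823040,
  506), (244823040, 1012), (279936000, 2), (279936000, 3), (279936000, 5), (279936000, 6), (279936000, 10),
  (279936000, 15), (279936000, 30), (1796256000, 11), (1796256000, 55), (10777536000, 5), (10777536000, 9),
  (10777536000, 15), (21555072000, 11)]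

/-- the data -/
def E : En :=
  ⟨495766656000, 2, P, Z, [(23, 1), (11, 1), (7, 1), (5, 3), (3, 7), (2, 10)], H940.Eng.D.o_co3, big ++ sm, SV⟩

theorem ok1 : okEn TAB.Co3.D (TAB.Sm2.mkRows TAB.Co3.A TAB.Co3.B) [] E = true := by decide +kernel

theorem okA0 : allA (leaf E) [(23, 1), (11, 1), (7, 1), (5, 3), (3, 7), (2, 10)] 1 = true := by decide +kernel

/-- a candidate -/
def c0 : ℕ × ℕ × List Step :=
  (1024, 2, [(0, 0, .ofNat 0, 0, [(.negSucc 0, 25), (.negSucc 0, 31), (.negSucc 0, 32)])])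

/-- a candidate -/
def c1 : ℕ × ℕ × List Step :=
  (1024, 4, [(0, 0, .ofNat 0, 0, [(.negSucc 0, 25), (.negSucc 0, 31), (.negSucc 0, 32)])])

/-- a candidate -/
def c2 : ℕ × ℕ × List Step :=
  (69984, 3, [(0, 0, .ofNat 0, 0, [(.negSucc 0, 20)])])

/-- a candidate -/
def c3 : ℕ × ℕ × List Step :=
  (69984, 9, [(0, 0, .ofNat 0, 0, [(.negSucc 0, 20)])])

/-- a candidate -/
def c4 : ℕ × ℕ × List Step :=
  (81000, 25, [(0, 0, .negSucc 17, 0, [(.negSucc 80, 11), (.negSucc 5, 12), (.negSucc 31, 14), (.ofNat 4, 17),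
  (.negSucc 38, 19), (.negSucc 17, 22), (.negSucc 23, 31), (.negSucc 23, 32), (.negSucc 15, 36)])])

/-- a candidate -/
def c5 : ℕ × ℕ × List Step :=
  (279936, 3, [(0, 0, .ofNat 0, 0, [(.negSucc 0, 20)])])

/-- a candidate -/
def c6 : ℕ × ℕ × List Step :=
  (486000, 5, [(0, 0, .ofNat 0, 0, [(.ofNat 7, 6), (.negSucc 6, 11), (.negSucc 3, 17), (.negSucc 3, 19), (.negSucc 2,
  26), (.negSucc 6, 27), (.negSucc 6, 28), (.negSucc 26, 30), (.negSucc 6, 31), (.negSucc 14, 32)])])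

/-- a candidate -/
def c7 : ℕ × ℕ × List Step :=
  (576000, 5, [(0, 0, .ofNat 3, 0, [(.ofNat 4, 6), (.negSucc 1, 9), (.negSucc 0, 11), (.negSucc 2, 13), (.negSucc 0,
  18), (.negSucc 2, 26), (.negSucc 4, 27), (.negSucc 4, 28), (.negSucc 2, 29), (.negSucc 8, 30), (.negSucc 4, 31),
  (.negSucc 8, 32), (.negSucc 1, 35)])])

/-- a candidate -/
def c8 : ℕ × ℕ × List Step :=
  (746496, 2, [(0, 0, .ofNat 243, 0, [(.ofNat 243, 5), (.ofNat 68, 6), (.negSucc 79, 9), (.negSucc 162, 11),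
  (.negSucc 39, 24), (.negSucc 94, 26), (.negSucc 8, 30), (.negSucc 67, 32)])])

/-- a candidate -/
def c9 : ℕ × ℕ × List Step :=
  (746496, 4, [(0, 0, .ofNat 3, 0, [(.ofNat 1, 1), (.ofNat 1, 5), (.ofNat 1, 6), (.negSucc 2, 11), (.ofNat 1, 12),
  (.ofNat 1, 14), (.negSucc 0, 18), (.negSucc 0, 32)])])

/-- a candidate -/
def c10 : ℕ × ℕ × List Step :=
  (1093500, 5, [(0, 0, .ofNat 21, 0, [(.ofNat 11, 8), (.ofNat 11, 10), (.negSucc 9, 11), (.negSucc 9, 16), (.negSucc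
  5, 17), (.negSucc 9, 19), (.negSucc 1, 20), (.negSucc 9, 25), (.negSucc 9, 27), (.negSucc 22, 30), (.negSucc 26,
  32)])])

/-- a candidate -/
def c11 : ℕ × ℕ × List Step :=
  (1093500, 15, [(0, 0, .ofNat 0, 0, [(.negSucc 63, 4), (.negSucc 136, 11), (.ofNat 2, 13), (.negSucc 70, 14),
  (.negSucc 32, 17), (.negSucc 134, 18), (.negSucc 10, 19), (.negSucc 183, 20), (.negSucc 187, 22), (.negSucc 134,
  25), (.negSucc 121, 26), (.negSucc 206, 28), (.negSucc 242, 30), (.negSucc 134, 31), (.negSucc 146, 32), (.negSucc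
  134, 33)])])

/-- a candidate -/
def c12 : ℕ × ℕ × List Step :=
  (1093500, 25, [(0, 0, .ofNat 4, 0, [(.negSucc 26, 11), (.negSucc 13, 14), (.negSucc 2, 16), (.negSucc 9, 18),
  (.negSucc 5, 19), (.ofNat 7, 24), (.negSucc 5, 25), (.negSucc 6, 27), (.negSucc 1, 28), (.negSucc 2, 31), (.negSucc
  15, 32), (.negSucc 1, 33)])])

/-- a candidate -/
def c13 : ℕ × ℕ × List Step :=
  (1093500, 45, [(0, 0, .ofNat 0, 0, [(.negSucc 14, 7), (.negSucc 24, 11), (.negSucc 8, 14), (.negSucc 13, 20),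
  (.negSucc 3, 22), (.negSucc 13, 26), (.negSucc 8, 28), (.negSucc 12, 30), (.negSucc 26, 32)])])

/-- a candidate -/
def c14 : ℕ × ℕ × List Step :=
  (1093500, 75, [(0, 0, .ofNat 4, 0, [(.negSucc 26, 11), (.negSucc 13, 14), (.negSucc 2, 16), (.negSucc 9, 18),
  (.negSucc 5, 19), (.negSucc 14, 22), (.ofNat 7, 24), (.negSucc 5, 25), (.negSucc 6, 27), (.negSucc 1, 28),
  (.negSucc 2, 31), (.negSucc 15, 32), (.negSucc 1, 33)])])

/-- a candidate -/
def c15 : ℕ × ℕ × List Step :=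
  (1093500, 125, [(0, 0, .ofNat 243, 0, [(.ofNat 122, 2), (.ofNat 97, 3), (.negSucc 193, 12), (.ofNat 73, 15),
  (.negSucc 72, 16), (.negSucc 48, 18), (.negSucc 159, 22), (.negSucc 18, 24), (.ofNat 126, 25), (.negSucc 33, 27),
  (.ofNat 15, 30), (.negSucc 23, 33), (.ofNat 63, 37)])])

/-- a candidate -/
def c16 : ℕ × ℕ × List Step :=
  (1093500, 225, [(0, 0, .ofNat 0, 0, [(.negSucc 0, 11), (.negSucc 0, 14), (.negSucc 0, 19), (.negSucc 0, 22)])])

/-- a candidate -/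
def c17 : ℕ × ℕ × List Step :=
  (1093500, 375, [(0, 0, .ofNat 243, 0, [(.ofNat 122, 2), (.ofNat 97, 3), (.negSucc 193, 12), (.ofNat 73, 15),
  (.negSucc 72, 16), (.negSucc 48, 18), (.negSucc 159, 22), (.negSucc 18, 24), (.ofNat 126, 25), (.negSucc 33, 27),
  (.ofNat 15, 30), (.negSucc 23, 33), (.ofNat 63, 37)])])

/-- a candidate -/
def c18 : ℕ × ℕ × List Step :=
  (1093500, 1125, [(0, 0, .ofNat 243, 0, [(.ofNat 145, 2), (.ofNat 98, 3), (.ofNat 98, 6), (.negSucc 225, 12),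
  (.ofNat 17, 13), (.ofNat 64, 15), (.negSucc 189, 22), (.negSucc 89, 24), (.ofNat 5, 25), (.negSucc 42, 27), (.ofNat
  11, 30), (.ofNat 92, 37)])])

/-- a candidate -/
def c19 : ℕ × ℕ × List Step :=
  (1119744, 3, [(0, 0, .ofNat 9, 0, [(.ofNat 2, 2), (.ofNat 5, 5), (.negSucc 2, 9), (.negSucc 6, 11), (.ofNat 3, 12),
  (.negSucc 0, 20), (.negSucc 1, 24), (.negSucc 0, 26), (.ofNat 1, 27), (.negSucc 0, 30), (.negSucc 1, 33)])])

/-- a candidate -/
def c20 : ℕ × ℕ × List Step :=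
  (1296000, 5, [(0, 0, .ofNat 81, 0, [(.negSucc 25, 4), (.negSucc 31, 11), (.ofNat 19, 12), (.negSucc 48, 13),
  (.negSucc 6, 17), (.negSucc 18, 19), (.negSucc 15, 20), (.negSucc 15, 26), (.negSucc 18, 27), (.negSucc 19, 30),
  (.negSucc 48, 31), (.negSucc 48, 32), (.ofNat 13, 33), (.negSucc 33, 34), (.negSucc 12, 36)])])

/-- a candidate -/
def c21 : ℕ × ℕ × List Step :=
  (2239488, 2, [(0, 0, .ofNat 3, 0, [(.ofNat 1, 2), (.ofNat 2, 5), (.negSucc 1, 9), (.negSucc 1, 11), (.ofNat 1,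
  12)])])

/-- a candidate -/
def c22 : ℕ × ℕ × List Step :=
  (2916000, 5, [(0, 0, .ofNat 27, 0, [(.ofNat 5, 2), (.negSucc 5, 4), (.ofNat 5, 8), (.negSucc 18, 11), (.ofNat 12,
  12), (.negSucc 8, 13), (.ofNat 1, 14), (.negSucc 3, 17), (.negSucc 5, 18), (.negSucc 2, 19), (.negSucc 5, 23),
  (.negSucc 9, 31), (.negSucc 4, 32), (.negSucc 10, 34), (.negSucc 2, 36)])])

/-- a candidate -/
def c23 : ℕ × ℕ × List Step :=
  (3456000, 5, [(0, 0, .ofNat 243, 0, [(.ofNat 121, 2), (.negSucc 120, 11), (.ofNat 121, 12), (.negSucc 120, 13),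
  (.negSucc 120, 23), (.ofNat 122, 25), (.negSucc 60, 34), (.negSucc 121, 35)])])

/-- a candidate -/
def c24 : ℕ × ℕ × List Step :=
  (3456000, 10, [(0, 0, .ofNat 243, 0, [(.ofNat 121, 2), (.negSucc 120, 11), (.ofNat 121, 12), (.negSucc 120, 13),
  (.negSucc 120, 23), (.ofNat 122, 25), (.negSucc 60, 34), (.negSucc 121, 35)])])

/-- a candidate -/
def c25 : ℕ × ℕ × List Step :=
  (3456000, 25, [(0, 0, .ofNat 243, 0, [(.ofNat 121, 2), (.negSucc 120, 11), (.ofNat 121, 12), (.negSucc 120, 13),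
  (.negSucc 120, 23), (.ofNat 122, 25), (.negSucc 60, 34), (.negSucc 121, 35)])])

/-- a candidate -/
def c26 : ℕ × ℕ × List Step :=
  (3456000, 50, [(0, 0, .ofNat 243, 0, [(.ofNat 121, 2), (.negSucc 120, 11), (.ofNat 121, 12), (.negSucc 120, 13),
  (.negSucc 120, 23), (.ofNat 121, 25), (.negSucc 60, 34), (.negSucc 121, 35)])])

/-- a candidate -/
def c27 : ℕ × ℕ × List Step :=
  (3849120, 99, [(0, 0, .ofNat 1, 0, [(.ofNat 1, 2), (.negSucc 0, 13), (.negSucc 0, 22), (.ofNat 1, 25), (.negSucc 0,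
  35)])])

/-- a candidate -/
def c28 : ℕ × ℕ × List Step :=
  (7776000, 5, [(0, 0, .ofNat 81, 0, [(.ofNat 40, 2), (.negSucc 39, 11), (.ofNat 40, 12), (.negSucc 39, 13),
  (.negSucc 39, 23), (.ofNat 41, 25), (.negSucc 19, 34), (.negSucc 40, 35)])])

/-- a candidate -/
def c29 : ℕ × ℕ × List Step :=
  (12096000, 35, [(0, 0, .ofNat 27, 0, [(.negSucc 26, 11), (.ofNat 27, 12), (.ofNat 27, 22), (.negSucc 26, 23),
  (.negSucc 12, 34)])])

/-- candidates -/
def CL0 : List (ℕ × ℕ × List Step) :=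
  [c0, c1, c2, c3, c4, c5, c6, c7, c8, c9, c10, c11, c12, c13, c14, c15, c16, c17, c18, c19, c20, c21, c22, c23, c24,
  c25, c26, c27, c28, c29]

theorem okC0 : okL TAB.Co3.D (TAB.Sm2.mkRows TAB.Co3.A TAB.Co3.B) 2 P Z CL0 = true := by decide +kernel

/-- a candidate -/
def c30 : ℕ × ℕ × List Step :=
  (17496000, 5, [(0, 0, .ofNat 81, 0, [(.ofNat 40, 2), (.negSucc 39, 11), (.ofNat 40, 12), (.negSucc 39, 13),
  (.negSucc 39, 23), (.ofNat 41, 25), (.negSucc 19, 34), (.negSucc 40, 35)])])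

/-- a candidate -/
def c31 : ℕ × ℕ × List Step :=
  (17496000, 15, [(0, 0, .ofNat 81, 0, [(.ofNat 40, 2), (.negSucc 39, 11), (.ofNat 40, 12), (.negSucc 39, 13),
  (.negSucc 39, 23), (.ofNat 40, 25), (.negSucc 19, 34), (.negSucc 40, 35)])])

/-- a candidate -/
def c32 : ℕ × ℕ × List Step :=
  (46656000, 5, [(0, 0, .ofNat 81, 0, [(.ofNat 40, 2), (.negSucc 39, 11), (.ofNat 40, 12), (.negSucc 39, 13),
  (.negSucc 39, 23), (.ofNat 40, 25), (.negSucc 19, 34), (.negSucc 40, 35)])])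

/-- a candidate -/
def c33 : ℕ × ℕ × List Step :=
  (46656000, 25, [(0, 0, .ofNat 81, 0, [(.ofNat 40, 2), (.negSucc 39, 11), (.ofNat 40, 12), (.negSucc 39, 13),
  (.negSucc 39, 23), (.ofNat 40, 25), (.negSucc 19, 34), (.negSucc 40, 35)])])

/-- a candidate -/
def c34 : ℕ × ℕ × List Step :=
  (46656000, 125, [(0, 0, .ofNat 5, 0, [(.ofNat 4, 2), (.negSucc 8, 11), (.ofNat 5, 12), (.negSucc 0, 21), (.ofNat 1,
  27), (.negSucc 5, 34), (.negSucc 0, 35)])])

/-- a candidate -/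
def c35 : ℕ × ℕ × List Step :=
  (54432000, 7, [(0, 0, .ofNat 9, 0, [(.negSucc 8, 11), (.ofNat 9, 12), (.ofNat 9, 22), (.negSucc 8, 23), (.negSucc
  3, 34)])])

/-- a candidate -/
def c36 : ℕ × ℕ × List Step :=
  (69984000, 9, [(0, 0, .ofNat 81, 0, [(.ofNat 40, 2), (.negSucc 39, 11), (.ofNat 40, 12), (.negSucc 39, 13),
  (.negSucc 39, 23), (.ofNat 40, 25), (.negSucc 19, 34), (.negSucc 40, 35)])])

/-- a candidate -/
def c37 : ℕ × ℕ × List Step :=
  (93312000, 4, [(0, 0, .ofNat 81, 0, [(.ofNat 40, 2), (.negSucc 39, 11), (.ofNat 40, 12), (.negSucc 39, 13),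
  (.negSucc 39, 23), (.ofNat 40, 25), (.negSucc 19, 34), (.negSucc 40, 35)])])

/-- a candidate -/
def c38 : ℕ × ℕ × List Step :=
  (93312000, 8, [(0, 0, .ofNat 81, 0, [(.ofNat 40, 2), (.negSucc 39, 11), (.ofNat 40, 12), (.negSucc 39, 13),
  (.negSucc 39, 23), (.ofNat 40, 25), (.negSucc 19, 34), (.negSucc 40, 35)])])

/-- a candidate -/
def c39 : ℕ × ℕ × List Step :=
  (93312000, 16, [(0, 0, .ofNat 81, 0, [(.ofNat 40, 2), (.negSucc 39, 11), (.ofNat 40, 12), (.negSucc 39, 13),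
  (.negSucc 39, 23), (.ofNat 40, 25), (.negSucc 19, 34), (.negSucc 40, 35)])])

/-- a candidate -/
def c40 : ℕ × ℕ × List Step :=
  (93312000, 32, [(0, 0, .ofNat 81, 0, [(.ofNat 40, 2), (.negSucc 39, 11), (.ofNat 40, 12), (.negSucc 39, 13),
  (.negSucc 39, 23), (.ofNat 40, 25), (.negSucc 19, 34), (.negSucc 40, 35)])])

/-- a candidate -/
def c41 : ℕ × ℕ × List Step :=
  (93312000, 64, [(0, 0, .ofNat 81, 0, [(.ofNat 40, 2), (.negSucc 39, 11), (.ofNat 40, 12), (.negSucc 39, 13),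
  (.negSucc 39, 23), (.ofNat 40, 25), (.negSucc 19, 34), (.negSucc 40, 35)])])

/-- a candidate -/
def c42 : ℕ × ℕ × List Step :=
  (130636800, 7, [(0, 0, .ofNat 9, 0, [(.negSucc 8, 11), (.ofNat 9, 12), (.ofNat 9, 22), (.negSucc 8, 23), (.negSucc
  3, 34)])])

/-- a candidate -/
def c43 : ℕ × ℕ × List Step :=
  (130636800, 14, [(0, 0, .ofNat 9, 0, [(.negSucc 8, 11), (.ofNat 9, 12), (.ofNat 9, 22), (.negSucc 8, 23), (.negSucc
  3, 34)])])

/-- a candidate -/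
def c44 : ℕ × ℕ × List Step :=
  (244823040, 253, [(0, 0, .negSucc 155, 0, [(.negSucc 155, 5), (.negSucc 155, 6), (.negSucc 311, 7), (.negSucc 468,
  8), (.negSucc 624, 9), (.negSucc 780, 10), (.negSucc 1874, 11), (.negSucc 2030, 12), (.negSucc 2342, 13), (.negSucc
  2342, 14), (.negSucc 2342, 15), (.negSucc 2342, 16), (.negSucc 3123, 17), (.negSucc 4685, 18), (.negSucc 4685, 19),
  (.negSucc 5935, 20), (.negSucc 6248, 21), (.negSucc 7185, 22), (.negSucc 6872, 23), (.negSucc 9997, 24), (.negSucc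
  9997, 25), (.negSucc 13746, 26), (.negSucc 14058, 27), (.negSucc 17183, 28), (.negSucc 17183, 29), (.negSucc 19370,
  30), (.negSucc 19213, 31), (.negSucc 19526, 32), (.negSucc 19682, 33), (.negSucc 311, 35), (.negSucc 624, 36),
  (.negSucc 1561, 37)])])

/-- a candidate -/
def c45 : ℕ × ℕ × List Step :=
  (244823040, 506, [(0, 0, .negSucc 155, 0, [(.negSucc 155, 5), (.negSucc 155, 6), (.negSucc 311, 7), (.negSucc 468,
  8), (.negSucc 624, 9), (.negSucc 780, 10), (.negSucc 1874, 11), (.negSucc 2030, 12), (.negSucc 2342, 13), (.negSucc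
  2342, 14), (.negSucc 2342, 15), (.negSucc 2342, 16), (.negSucc 3123, 17), (.negSucc 4685, 18), (.negSucc 4685, 19),
  (.negSucc 5935, 20), (.negSucc 6248, 21), (.negSucc 7185, 22), (.negSucc 6872, 23), (.negSucc 9997, 24), (.negSucc
  9997, 25), (.negSucc 13746, 26), (.negSucc 14058, 27), (.negSucc 17183, 28), (.negSucc 17183, 29), (.negSucc 19370,
  30), (.negSucc 19213, 31), (.negSucc 19526, 32), (.negSucc 19682, 33), (.negSucc 311, 35), (.negSucc 624, 36),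
  (.negSucc 1561, 37)])])

/-- a candidate -/
def c46 : ℕ × ℕ × List Step :=
  (244823040, 1012, [(0, 0, .negSucc 155, 0, [(.negSucc 155, 5), (.negSucc 155, 6), (.negSucc 311, 7), (.negSucc 468,
  8), (.negSucc 624, 9), (.negSucc 780, 10), (.negSucc 1874, 11), (.negSucc 2030, 12), (.negSucc 2342, 13), (.negSucc
  2342, 14), (.negSucc 2342, 15), (.negSucc 2342, 16), (.negSucc 3123, 17), (.negSucc 4685, 18), (.negSucc 4685, 19),
  (.negSucc 5935, 20), (.negSucc 6248, 21), (.negSucc 7185, 22), (.negSucc 6872, 23), (.negSucc 9997, 24), (.negSucc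
  9997, 25), (.negSucc 13746, 26), (.negSucc 14058, 27), (.negSucc 17183, 28), (.negSucc 17183, 29), (.negSucc 19370,
  30), (.negSucc 19213, 31), (.negSucc 19526, 32), (.negSucc 19682, 33), (.negSucc 311, 35), (.negSucc 624, 36),
  (.negSucc 1561, 37)])])

/-- a candidate -/
def c47 : ℕ × ℕ × List Step :=
  (279936000, 2, [(0, 0, .ofNat 81, 0, [(.ofNat 20, 2), (.negSucc 6, 4), (.ofNat 22, 5), (.ofNat 22, 6), (.ofNat 28,
  8), (.negSucc 24, 9), (.negSucc 37, 11), (.ofNat 31, 12), (.negSucc 22, 13), (.negSucc 0, 16), (.negSucc 3, 18),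
  (.negSucc 17, 23), (.negSucc 18, 24), (.ofNat 3, 27), (.negSucc 6, 31), (.ofNat 20, 33), (.negSucc 16, 35),
  (.negSucc 2, 36)])])

/-- a candidate -/
def c48 : ℕ × ℕ × List Step :=
  (279936000, 3, [(0, 0, .ofNat 81, 0, [(.ofNat 20, 2), (.negSucc 6, 4), (.ofNat 22, 5), (.ofNat 22, 6), (.ofNat 28,
  8), (.negSucc 24, 9), (.negSucc 37, 11), (.ofNat 31, 12), (.negSucc 22, 13), (.negSucc 0, 16), (.negSucc 3, 18),
  (.negSucc 17, 23), (.negSucc 18, 24), (.ofNat 3, 27), (.negSucc 6, 31), (.ofNat 20, 33), (.negSucc 16, 35),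
  (.negSucc 2, 36)])])

/-- a candidate -/
def c49 : ℕ × ℕ × List Step :=
  (279936000, 5, [(0, 0, .ofNat 81, 0, [(.ofNat 40, 2), (.negSucc 39, 11), (.ofNat 40, 12), (.negSucc 39, 13),
  (.negSucc 39, 23), (.ofNat 40, 25), (.negSucc 19, 34), (.negSucc 40, 35)])])

/-- a candidate -/
def c50 : ℕ × ℕ × List Step :=
  (279936000, 6, [(0, 0, .ofNat 81, 0, [(.ofNat 40, 2), (.negSucc 39, 11), (.ofNat 40, 12), (.negSucc 39, 13),
  (.negSucc 39, 23), (.ofNat 40, 25), (.negSucc 19, 34), (.negSucc 40, 35)])])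

/-- a candidate -/
def c51 : ℕ × ℕ × List Step :=
  (279936000, 10, [(0, 0, .ofNat 81, 0, [(.ofNat 40, 2), (.negSucc 39, 11), (.ofNat 40, 12), (.negSucc 39, 13),
  (.negSucc 39, 23), (.ofNat 40, 25), (.negSucc 19, 34), (.negSucc 40, 35)])])

/-- a candidate -/
def c52 : ℕ × ℕ × List Step :=
  (279936000, 15, [(0, 0, .ofNat 81, 0, [(.ofNat 40, 2), (.negSucc 39, 11), (.ofNat 40, 12), (.negSucc 39, 13),
  (.negSucc 39, 23), (.ofNat 40, 25), (.negSucc 19, 34), (.negSucc 40, 35)])])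

/-- a candidate -/
def c53 : ℕ × ℕ × List Step :=
  (279936000, 30, [(0, 0, .ofNat 81, 0, [(.ofNat 40, 2), (.negSucc 39, 11), (.ofNat 40, 12), (.negSucc 39, 13),
  (.negSucc 39, 23), (.ofNat 40, 25), (.negSucc 19, 34), (.negSucc 40, 35)])])

/-- a candidate -/
def c54 : ℕ × ℕ × List Step :=
  (1796256000, 11, [(0, 0, .ofNat 27, 0, [(.negSucc 26, 4), (.ofNat 27, 8), (.negSucc 26, 22), (.ofNat 27, 23),
  (.ofNat 27, 30), (.negSucc 26, 31), (.negSucc 26, 34), (.ofNat 27, 35), (.negSucc 12, 36)])])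

/-- a candidate -/
def c55 : ℕ × ℕ × List Step :=
  (1796256000, 55, [(0, 0, .ofNat 27, 0, [(.negSucc 26, 4), (.ofNat 27, 8), (.negSucc 26, 22), (.ofNat 27, 23),
  (.ofNat 27, 30), (.negSucc 26, 31), (.negSucc 26, 34), (.ofNat 27, 35), (.negSucc 12, 36)])])

/-- a candidate -/
def c56 : ℕ × ℕ × List Step :=
  (10777536000, 5, [(0, 0, .ofNat 9, 0, [(.negSucc 8, 4), (.ofNat 9, 8), (.negSucc 8, 22), (.ofNat 9, 23), (.ofNat 9,
  30), (.negSucc 8, 31), (.negSucc 8, 34), (.ofNat 9, 35), (.negSucc 3, 36)])])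

/-- a candidate -/
def c57 : ℕ × ℕ × List Step :=
  (10777536000, 9, [(0, 0, .ofNat 9, 0, [(.negSucc 8, 4), (.ofNat 9, 8), (.negSucc 8, 22), (.ofNat 9, 23), (.ofNat 9,
  30), (.negSucc 8, 31), (.negSucc 8, 34), (.ofNat 9, 35), (.negSucc 3, 36)])])

/-- a candidate -/
def c58 : ℕ × ℕ × List Step :=
  (10777536000, 15, [(0, 0, .ofNat 9, 0, [(.negSucc 8, 4), (.ofNat 9, 8), (.negSucc 8, 22), (.ofNat 9, 23), (.ofNat
  9, 30), (.negSucc 8, 31), (.negSucc 8, 34), (.ofNat 9, 35), (.negSucc 3, 36)])])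

/-- a candidate -/
def c59 : ℕ × ℕ × List Step :=
  (21555072000, 11, [(0, 0, .ofNat 9, 0, [(.negSucc 8, 4), (.ofNat 9, 8), (.negSucc 8, 22), (.ofNat 9, 23), (.ofNat
  9, 30), (.negSucc 8, 31), (.negSucc 8, 34), (.ofNat 9, 35), (.negSucc 3, 36)])])

/-- candidates -/
def CL1 : List (ℕ × ℕ × List Step) :=
  [c30, c31, c32, c33, c34, c35, c36, c37, c38, c39, c40, c41, c42, c43, c44, c45, c46, c47, c48, c49, c50, c51, c52,
  c53, c54, c55, c56, c57, c58, c59]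

theorem okC1 : okL TAB.Co3.D (TAB.Sm2.mkRows TAB.Co3.A TAB.Co3.B) 2 P Z CL1 = true := by decide +kernel

theorem okB : ∀ ld ∈ big, bigE E ld = true :=
  fa_nil

theorem okA : ∀ a ∈ divsT [], allA (leaf E) [(23, 1), (11, 1), (7, 1), (5, 3), (3, 7), (2, 10)] a = true := by
  rw [show divsT [] = [1] by decide +kernel]
  exact fa_cons okA0 <| fa_nil

/-- the pairs -/
def pj (L : List (ℕ × ℕ × List Step)) : List (ℕ × ℕ) := L.map fun x => (x.1, x.2.1)

theorem okC : ∀ x ∈ E.SV, ∃ CL, okL TAB.Co3.D (TAB.Sm2.mkRows TAB.Co3.A TAB.Co3.B) E.j E.P E.Z CL = true ∧ x ∈ pj CL := by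
  rw [show E.SV = [pj CL0, pj CL1].flatten by decide +kernel]
  exact forall_flatten <| fa_cons (fun _ h => ⟨_, okC0, h⟩) <| fa_cons (fun _ h => ⟨_, okC1, h⟩) <| fa_nil

/-- **no configuration** -/
theorem noW {K : Type} [Group K] [Finite K] (h : In K TAB.Co3.D (TAB.Sm2.mkRows TAB.Co3.A TAB.Co3.B)) : NoW K 2 :=
  noW_of (E := E) boxCH h.inC ok1 (H940.Eng.D.ords_co3 base)
    (fun ld h => ⟨List.mem_append_left _ h, okB ld h⟩) (by decide +kernel) okA okC

end Cfsg.Agent.TH.Spor.NCo3
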