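import Cfsg.Agent.TH.Spor.EngC
import Cfsg.Agent.TH.Spor.CH
import Cfsg.Agent.TAB.F22.Dat

/-!
# S3541, sporadic rows: Fi22 (helper26; generated by notes/TH/spor26/gen.py.txt)
-/

set_option autoImplicit false
set_option Elab.async false

namespace Cfsg.Agent.TH.Spor.NFi22

open Cfsg Cfsg.Agent.TAB.Eng Cfsg.Agent.H940.Eng

/-- the types of prime order -/
def P : St :=
  [(13, [(46, 9932577177600, 0)]), (11, [(35, 5869250150400, 0)]), (7, [(25, 1537184563200, 0)]), (5, [(13,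
  107602919424, 0)]), (3, [(4, 3690086400, 0), (5, 25625600, 0), (6, 461260800, 0), (7, 3294720, 0)]), (2, [(1,
  36486450, 0), (2, 1216215, 0), (3, 3510, 0)])]

/-- the types -/
def Z : List Ze :=
  [(1, 2, 36486450, [1]), (2, 2, 1216215, [2]), (3, 2, 3510, [3]), (4, 3, 3690086400, [4]), (5, 3, 25625600, [5]),
  (6, 3, 461260800, [6]), (7, 3, 3294720, [7]), (8, 4, 14010796800, [1]), (9, 4, 5254048800, [2]), (10, 4,
  21016195200, [2]), (11, 4, 1401079680, [2]), (12, 4, 583783200, [2]), (13, 5, 107602919424, [13]), (14, 6,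
  298896998400, [4, 1]), (15, 6, 18681062400, [5, 1]), (16, 6, 149448499200, [6, 1]), (17, 6, 18681062400, [7, 1]),
  (18, 6, 74724249600, [6, 2]), (19, 6, 16605388800, [6, 3]), (20, 6, 6227020800, [5, 2]), (21, 6, 37362124800, [6,
  1]), (22, 6, 9340531200, [7, 2]), (23, 6, 691891200, [5, 3]), (24, 6, 415134720, [7, 3]), (25, 7, 1537184563200,
  [25]), (26, 8, 2017554739200, [1]), (27, 8, 504388684800, [2]), (28, 8, 168129561600, [2]), (29, 8, 168129561600,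
  [2]), (30, 9, 2391175987200, [4]), (31, 9, 398529331200, [5]), (32, 9, 199264665600, [5]), (33, 10, 1614043791360,
  [13, 2]), (34, 10, 1076029194240, [13, 3]), (35, 11, 5869250150400, [35]), (36, 12, 1793381990400, [4, 1]), (37,
  12, 896690995200, [6, 2]), (38, 12, 448345497600, [6, 1]), (39, 12, 672518246400, [7, 2]), (40, 12, 112086374400,
  [7, 2]), (41, 12, 112086374400, [7, 2]), (42, 12, 896690995200, [5, 1]), (43, 12, 672518246400, [5, 2]), (44, 12,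
  224172748800, [7, 2]), (45, 12, 74724249600, [5, 2]), (46, 13, 9932577177600, [46]), (47, 14, 4611553689600, [25,
  3]), (48, 15, 2152058388480, [13, 7]), (49, 16, 4035109478400, [2]), (50, 18, 1195587993600, [5, 3]), (51, 18,
  1793381990400, [5, 2]), (52, 18, 1195587993600, [5, 3]), (53, 20, 3228087582720, [13, 2]), (54, 21, 3074369126400,
  [25, 7]), (55, 22, 5869250150400, [35, 3]), (56, 24, 1345036492800, [7, 2]), (57, 24, 1345036492800, [7, 2]), (58,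
  30, 2152058388480, [13, 7, 3])]

/-- local data, large primes -/
def big : List LD :=
  []

/-- local data, the other primes -/
def sm : List LD :=
  [⟨13, 13, [(2, 1), (3, 1), (13, 1)]⟩, ⟨11, 22, [(2, 1), (5, 1), (11, 1)]⟩, ⟨7, 252, [(2, 2), (3, 2), (7, 1)]⟩]

/-- the candidates -/
def SV : List (ℕ × ℕ) :=
  [(19683, 3), (78732, 3), (131072, 2), (194400, 25), (303264, 13), (314928, 3), (314928, 9), (319488, 13), (393216,
  16), (393216, 32), (580608, 7), (614400, 25), (984150, 5), (1032192, 7), (1166400, 5), (1259712, 3), (1382400, 5),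
  (1469664, 7), (1638400, 5), (2612736, 7), (2624400, 5), (2624400, 25), (3110400, 5), (3538944, 2), (3538944, 4),
  (3538944, 8), (3686400, 5), (4644864, 7), (5038848, 3), (6998400, 5), (8188128, 13), (8257536, 7), (8257536, 14),
  (8257536, 28), (8294400, 5), (8294400, 25), (8626176, 13), (9830400, 5), (9830400, 10), (9830400, 20), (9830400,
  40), (10616832, 2), (11757312, 7), (15746400, 5), (18662400, 5), (20155392, 3), (20155392, 9), (20155392, 27),
  (20901888, 7), (22118400, 5), (29030400, 35), (31850496, 2), (31850496, 4), (31850496, 8), (31850496, 16),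
  (37158912, 7), (41990400, 5), (46006272, 13), (46006272, 26), (46006272, 52), (49766400, 5), (80621568, 3),
  (94058496, 7), (95551488, 2), (95846400, 65), (111974400, 5), (111974400, 25), (114633792, 91), (114633792, 273),
  (132710400, 5), (167215104, 7), (232906752, 13), (251942400, 5), (286654464, 2), (286654464, 4), (286654464, 8),
  (298598400, 5), (322486272, 3), (485222400, 65), (671846400, 5), (752467968, 7), (796262400, 5), (796262400, 10),
  (796262400, 20), (796262400, 40), (859963392, 2), (1045094400, 35), (1045094400, 175), (1242169344, 13),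
  (1242169344, 26), (1289945088, 3), (1289945088, 9), (1791590400, 5), (2579890176, 2), (2579890176, 4), (2579890176,
  8), (2579890176, 16), (2579890176, 32), (2579890176, 64), (3113510400, 715), (4031078400, 5), (6019743744, 7),
  (6019743744, 14), (6019743744, 28), (7166361600, 16), (10749542400, 5), (12899450880, 9), (12899450880, 12),
  (12899450880, 18), (12899450880, 36), (13101004800, 13), (33538572288, 13), (33538572288, 26), (33538572288, 52),
  (37623398400, 7), (37623398400, 35), (47297986560, 11), (47297986560, 22), (47297986560, 44), (64497254400, 2),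
  (64497254400, 4), (64497254400, 5), (64497254400, 8), (64497254400, 10), (64497254400, 20), (64497254400, 25),
  (64497254400, 40), (64497254400, 50), (64497254400, 100), (64497254400, 200), (69872025600, 13), (90296156160, 7),
  (90296156160, 14), (90296156160, 21), (90296156160, 42), (183414067200, 13), (183414067200, 39), (183414067200,
  117), (225740390400, 15)]

/-- the data -/
def E : En :=
  ⟨64561751654400, 2, P, Z, [(13, 1), (11, 1), (7, 1), (5, 2), (3, 9), (2, 17)], H940.Eng.D.o_fi22, big ++ sm, SV⟩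

theorem ok1 : okEn TAB.F22.dat (TAB.Sm2.mkRows TAB.F22.rowA TAB.F22.rowB) [] E = true := by decide +kernel

theorem okA0 : allA (leaf E) [(11, 1), (7, 1), (5, 2), (3, 9), (2, 17)] 1 = true := by decide +kernel

theorem okA1 : allA (leaf E) [(11, 1), (7, 1), (5, 2), (3, 9), (2, 17)] 13 = true := by decide +kernel

/-- a candidate -/
def c0 : ℕ × ℕ × List Step :=
  (19683, 3, [(0, 0, .ofNat 0, 0, [(.negSucc 0, 44)])])

/-- a candidate -/
def c1 : ℕ × ℕ × List Step :=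
  (78732, 3, [(0, 0, .negSucc 80, 0, [(.ofNat 1, 15), (.ofNat 2, 18), (.negSucc 3, 26), (.negSucc 16, 44), (.negSucc
  1, 52)])])

/-- a candidate -/
def c2 : ℕ × ℕ × List Step :=
  (131072, 2, [(0, 0, .ofNat 0, 0, [(.negSucc 0, 43)])])

/-- a candidate -/
def c3 : ℕ × ℕ × List Step :=
  (194400, 25, [(0, 0, .negSucc 13, 0, [(.ofNat 11, 4), (.ofNat 12, 13), (.ofNat 1, 19), (.negSucc 6, 26), (.negSucc
  7, 37), (.negSucc 2, 39), (.negSucc 8, 45), (.negSucc 26, 50), (.negSucc 21, 51)])])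

/-- a candidate -/
def c4 : ℕ × ℕ × List Step :=
  (303264, 13, [(0, 0, .ofNat 0, 0, [(.ofNat 17, 13), (.negSucc 3, 31), (.negSucc 5, 37), (.negSucc 5, 39), (.negSucc
  5, 41), (.negSucc 3, 45), (.negSucc 10, 48), (.negSucc 10, 50), (.negSucc 26, 51), (.negSucc 1, 52)])])

/-- a candidate -/
def c5 : ℕ × ℕ × List Step :=
  (314928, 3, [(0, 0, .ofNat 0, 0, [(.negSucc 8, 44), (.negSucc 0, 45), (.negSucc 0, 52)])])

/-- a candidate -/
def c6 : ℕ × ℕ × List Step :=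
  (314928, 9, [(0, 0, .negSucc 242, 0, [(.ofNat 29, 4), (.negSucc 41, 23), (.negSucc 93, 26), (.negSucc 81, 32),
  (.negSucc 205, 34), (.negSucc 129, 37), (.negSucc 54, 38), (.negSucc 3, 39), (.negSucc 39, 45), (.negSucc 60, 46),
  (.negSucc 89, 48), (.negSucc 56, 50), (.negSucc 33, 51), (.negSucc 188, 52), (.negSucc 112, 58)])])

/-- a candidate -/
def c7 : ℕ × ℕ × List Step :=
  (319488, 13, [(0, 0, .ofNat 0, 0, [(.negSucc 1, 27), (.negSucc 1, 36), (.negSucc 9, 42), (.negSucc 26, 50),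
  (.negSucc 13, 51)])])

/-- a candidate -/
def c8 : ℕ × ℕ × List Step :=
  (393216, 16, [(0, 0, .ofNat 0, 0, [(.negSucc 1, 27), (.negSucc 1, 36), (.negSucc 9, 42), (.negSucc 26, 50),
  (.negSucc 13, 51)])])

/-- a candidate -/
def c9 : ℕ × ℕ × List Step :=
  (393216, 32, [(0, 0, .ofNat 0, 0, [(.negSucc 23, 42), (.ofNat 10, 47), (.negSucc 80, 50), (.negSucc 43, 51),
  (.ofNat 2, 56)])])

/-- a candidate -/
def c10 : ℕ × ℕ × List Step :=
  (580608, 7, [(0, 0, .negSucc 3, 0, [(.ofNat 1, 3), (.ofNat 1, 4), (.ofNat 4, 13), (.negSucc 3, 26), (.negSucc 0,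
  37), (.negSucc 1, 45), (.negSucc 3, 50), (.negSucc 8, 51)])])

/-- a candidate -/
def c11 : ℕ × ℕ × List Step :=
  (614400, 25, [(0, 0, .ofNat 0, 0, [(.negSucc 1, 27), (.negSucc 1, 36), (.negSucc 9, 42), (.negSucc 26, 50),
  (.negSucc 13, 51)])])

/-- a candidate -/
def c12 : ℕ × ℕ × List Step :=
  (984150, 5, [(0, 0, .ofNat 0, 0, [(.negSucc 8, 21), (.negSucc 0, 36), (.negSucc 5, 49)])])

/-- a candidate -/
def c13 : ℕ × ℕ × List Step :=
  (1032192, 7, [(0, 0, .ofNat 0, 0, [(.negSucc 2, 27), (.negSucc 2, 36), (.negSucc 10, 42), (.negSucc 26, 50),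
  (.negSucc 16, 51)])])

/-- a candidate -/
def c14 : ℕ × ℕ × List Step :=
  (1166400, 5, [(0, 0, .ofNat 0, 0, [(.negSucc 3, 21), (.negSucc 3, 31), (.negSucc 2, 37), (.negSucc 27, 42),
  (.negSucc 3, 45), (.negSucc 9, 48), (.negSucc 80, 50), (.negSucc 80, 51), (.negSucc 3, 52), (.negSucc 3, 54),
  (.negSucc 0, 58)])])

/-- a candidate -/
def c15 : ℕ × ℕ × List Step :=
  (1259712, 3, [(0, 0, .ofNat 0, 0, [(.negSucc 335, 12), (.negSucc 238, 23), (.negSucc 182, 28), (.negSucc 196, 30),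
  (.ofNat 192, 31), (.negSucc 248, 32), (.negSucc 96, 34), (.negSucc 60, 35), (.negSucc 225, 37), (.negSucc 72, 39),
  (.negSucc 102, 41), (.negSucc 205, 45), (.negSucc 440, 48), (.negSucc 728, 52), (.negSucc 41, 58)])])

/-- a candidate -/
def c16 : ℕ × ℕ × List Step :=
  (1382400, 5, [(0, 0, .ofNat 0, 0, [(.negSucc 3, 21), (.negSucc 3, 31), (.negSucc 2, 37), (.negSucc 27, 42),
  (.negSucc 3, 45), (.negSucc 9, 48), (.negSucc 80, 50), (.negSucc 80, 51), (.negSucc 3, 52), (.negSucc 3, 54),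
  (.negSucc 0, 58)])])

/-- a candidate -/
def c17 : ℕ × ℕ × List Step :=
  (1469664, 7, [(0, 0, .ofNat 0, 0, [(.ofNat 19, 13), (.negSucc 5, 19), (.negSucc 1, 23), (.negSucc 12, 26),
  (.negSucc 191, 29), (.negSucc 3, 30), (.negSucc 5, 34), (.negSucc 5, 35), (.negSucc 64, 37), (.negSucc 68, 39),
  (.negSucc 6, 41), (.negSucc 123, 45), (.negSucc 7, 48), (.negSucc 728, 50), (.negSucc 492, 51), (.negSucc 3, 53),
  (.negSucc 59, 58)])])

/-- a candidate -/
def c18 : ℕ × ℕ × List Step :=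
  (1638400, 5, [(0, 0, .ofNat 0, 0, [(.negSucc 0, 50), (.negSucc 0, 51)])])

/-- a candidate -/
def c19 : ℕ × ℕ × List Step :=
  (2612736, 7, [(0, 0, .ofNat 0, 0, [(.ofNat 52, 13), (.negSucc 0, 23), (.negSucc 0, 26), (.negSucc 11, 31),
  (.negSucc 16, 37), (.negSucc 18, 39), (.negSucc 17, 41), (.negSucc 11, 45), (.negSucc 33, 48), (.negSucc 32, 50),
  (.negSucc 80, 51), (.negSucc 6, 52)])])

/-- a candidate -/
def c20 : ℕ × ℕ × List Step :=
  (2624400, 5, [(0, 0, .ofNat 6, 0, [(.negSucc 34, 21), (.negSucc 5, 23), (.negSucc 30, 31), (.negSucc 2, 33),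
  (.negSucc 27, 37), (.negSucc 246, 42), (.negSucc 38, 45), (.negSucc 85, 48), (.negSucc 724, 50), (.negSucc 728,
  51), (.negSucc 37, 52), (.negSucc 36, 54), (.negSucc 10, 58)])])

/-- a candidate -/
def c21 : ℕ × ℕ × List Step :=
  (2624400, 25, [(0, 0, .ofNat 0, 0, [(.ofNat 18, 4), (.negSucc 126, 12), (.ofNat 15, 18), (.negSucc 172, 23),
  (.negSucc 20, 28), (.negSucc 59, 30), (.ofNat 29, 31), (.negSucc 54, 32), (.negSucc 107, 34), (.negSucc 8, 35),
  (.negSucc 74, 38), (.negSucc 61, 39), (.negSucc 39, 41), (.negSucc 79, 45), (.negSucc 227, 48), (.negSucc 20, 51),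
  (.negSucc 242, 52)])])

/-- a candidate -/
def c22 : ℕ × ℕ × List Step :=
  (3110400, 5, [(0, 0, .ofNat 53, 0, [(.negSucc 102, 21), (.negSucc 52, 23), (.negSucc 80, 31), (.negSucc 45, 37),
  (.negSucc 765, 42), (.negSucc 109, 45), (.negSucc 252, 48), (.negSucc 2176, 50), (.negSucc 2186, 51), (.negSucc
  118, 52), (.negSucc 109, 54), (.negSucc 40, 58)])])

/-- a candidate -/
def c23 : ℕ × ℕ × List Step :=
  (3538944, 2, [(0, 0, .ofNat 0, 0, [(.negSucc 3, 6), (.negSucc 1, 31), (.negSucc 0, 35), (.negSucc 27, 42),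
  (.negSucc 2, 45), (.negSucc 3, 48), (.negSucc 2, 49), (.negSucc 80, 50), (.negSucc 42, 51)])])

/-- a candidate -/
def c24 : ℕ × ℕ × List Step :=
  (3538944, 4, [(0, 0, .ofNat 0, 0, [(.negSucc 3, 6), (.negSucc 1, 31), (.negSucc 0, 35), (.negSucc 27, 42),
  (.negSucc 2, 45), (.negSucc 3, 48), (.negSucc 2, 49), (.negSucc 80, 50), (.negSucc 42, 51)])])

/-- a candidate -/
def c25 : ℕ × ℕ × List Step :=
  (3538944, 8, [(0, 0, .negSucc 212, 0, [(.ofNat 105, 3), (.ofNat 62, 4), (.negSucc 118, 10), (.negSucc 456, 11),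
  (.ofNat 29, 13), (.ofNat 48, 19), (.ofNat 123, 20), (.negSucc 100, 22), (.negSucc 108, 25), (.negSucc 30, 26),
  (.negSucc 155, 30), (.negSucc 110, 31), (.negSucc 439, 36), (.negSucc 104, 37), (.ofNat 38, 40), (.negSucc 90, 41),
  (.negSucc 162, 42), (.negSucc 28, 44), (.negSucc 195, 45), (.negSucc 143, 47), (.negSucc 165, 49), (.negSucc 728,
  50), (.negSucc 525, 51), (.ofNat 21, 54), (.negSucc 418, 56), (.ofNat 15, 57)])])

/-- a candidate -/
def c26 : ℕ × ℕ × List Step :=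
  (3686400, 5, [(0, 0, .ofNat 202, 0, [(.negSucc 10, 16), (.negSucc 35, 21), (.negSucc 105, 23), (.negSucc 39, 31),
  (.negSucc 30, 33), (.negSucc 84, 34), (.negSucc 50, 35), (.negSucc 141, 37), (.negSucc 695, 42), (.negSucc 95, 45),
  (.negSucc 312, 48), (.negSucc 55, 49), (.negSucc 2090, 50), (.negSucc 2186, 51), (.negSucc 252, 52), (.negSucc 155,
  54)])])

/-- a candidate -/
def c27 : ℕ × ℕ × List Step :=
  (4644864, 7, [(0, 0, .ofNat 0, 0, [(.ofNat 42, 4), (.ofNat 15, 9), (.negSucc 25, 11), (.ofNat 1, 20), (.negSucc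
  101, 22), (.ofNat 21, 24), (.negSucc 128, 25), (.negSucc 59, 27), (.negSucc 72, 36), (.ofNat 4, 41), (.negSucc 215,
  42), (.negSucc 26, 45), (.negSucc 167, 47), (.negSucc 115, 49), (.negSucc 181, 50), (.negSucc 242, 51), (.negSucc
  102, 56), (.ofNat 9, 57)])])

/-- a candidate -/
def c28 : ℕ × ℕ × List Step :=
  (5038848, 3, [(0, 0, .ofNat 14, 0, [(.ofNat 7, 9), (.negSucc 148, 12), (.ofNat 7, 18), (.negSucc 13, 19), (.negSucc
  63, 23), (.negSucc 25, 28), (.negSucc 24, 29), (.negSucc 56, 30), (.negSucc 145, 32), (.negSucc 42, 34), (.negSucc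
  109, 35), (.negSucc 57, 39), (.negSucc 68, 43), (.negSucc 203, 45), (.negSucc 34, 46), (.negSucc 151, 47),
  (.negSucc 213, 48), (.negSucc 82, 50), (.negSucc 82, 51), (.negSucc 242, 52), (.negSucc 6, 53), (.negSucc 107,
  58)])])

/-- a candidate -/
def c29 : ℕ × ℕ × List Step :=
  (6998400, 5, [(0, 0, .ofNat 441, 0, [(.negSucc 16, 8), (.ofNat 123, 9), (.negSucc 59, 17), (.ofNat 177, 18),
  (.negSucc 78, 20), (.negSucc 61, 21), (.negSucc 451, 23), (.negSucc 47, 26), (.ofNat 108, 27), (.negSucc 113, 33),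
  (.negSucc 133, 34), (.negSucc 34, 36), (.negSucc 236, 37), (.negSucc 91, 38), (.negSucc 402, 42), (.negSucc 121,
  43), (.negSucc 282, 45), (.negSucc 16, 46), (.negSucc 352, 47), (.negSucc 462, 48), (.negSucc 359, 49), (.negSucc
  431, 50), (.negSucc 728, 51), (.negSucc 583, 52), (.negSucc 91, 54), (.negSucc 69, 56)])])

/-- candidates -/
def CL0 : List (ℕ × ℕ × List Step) :=
  [c0, c1, c2, c3, c4, c5, c6, c7, c8, c9, c10, c11, c12, c13, c14, c15, c16, c17, c18, c19, c20, c21, c22, c23, c24,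
  c25, c26, c27, c28, c29]

theorem okC0 : okL TAB.F22.dat (TAB.Sm2.mkRows TAB.F22.rowA TAB.F22.rowB) 2 P Z CL0 = true := by decide +kernel

/-- a candidate -/
def c30 : ℕ × ℕ × List Step :=
  (8188128, 13, [(0, 0, .ofNat 729, 0, [(.ofNat 411, 4), (.ofNat 44, 5), (.negSucc 309, 8), (.ofNat 156, 9),
  (.negSucc 171, 12), (.ofNat 73, 15), (.negSucc 110, 19), (.negSucc 95, 21), (.negSucc 559, 23), (.negSucc 35, 24),
  (.negSucc 51, 28), (.negSucc 299, 30), (.ofNat 224, 31), (.negSucc 250, 34), (.negSucc 64, 38), (.negSucc 123, 39),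
  (.negSucc 509, 42), (.negSucc 123, 43), (.negSucc 304, 45), (.negSucc 399, 48), (.negSucc 389, 49), (.negSucc 679,
  51), (.negSucc 514, 52), (.ofNat 89, 57)])])

/-- a candidate -/
def c31 : ℕ × ℕ × List Step :=
  (8257536, 7, [(0, 0, .ofNat 575, 0, [(.ofNat 54, 2), (.negSucc 399, 6), (.ofNat 10, 7), (.negSucc 225, 8), (.ofNat
  58, 9), (.ofNat 7, 18), (.ofNat 76, 20), (.ofNat 178, 26), (.negSucc 20, 29), (.negSucc 196, 31), (.negSucc 141,
  33), (.ofNat 283, 38), (.negSucc 149, 39), (.negSucc 184, 42), (.ofNat 42, 44), (.negSucc 40, 45), (.negSucc 401,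
  47), (.negSucc 249, 48), (.negSucc 149, 49), (.negSucc 252, 50), (.negSucc 728, 51), (.negSucc 58, 54), (.negSucc
  184, 56)])])

/-- a candidate -/
def c32 : ℕ × ℕ × List Step :=
  (8257536, 14, [(0, 0, .ofNat 150, 0, [(.negSucc 126, 6), (.ofNat 29, 7), (.ofNat 35, 9), (.negSucc 62, 11), (.ofNat
  76, 20), (.ofNat 70, 26), (.negSucc 98, 31), (.negSucc 54, 33), (.ofNat 50, 38), (.negSucc 51, 39), (.negSucc 39,
  41), (.negSucc 73, 42), (.negSucc 37, 45), (.negSucc 130, 47), (.negSucc 123, 48), (.negSucc 55, 49), (.negSucc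
  139, 50), (.negSucc 242, 51), (.negSucc 24, 54), (.negSucc 56, 56)])])

/-- a candidate -/
def c33 : ℕ × ℕ × List Step :=
  (8257536, 28, [(0, 0, .ofNat 106, 0, [(.ofNat 27, 4), (.negSucc 140, 6), (.ofNat 8, 7), (.ofNat 27, 9), (.negSucc
  68, 11), (.ofNat 26, 13), (.ofNat 94, 20), (.ofNat 41, 26), (.negSucc 119, 31), (.negSucc 77, 33), (.ofNat 58, 38),
  (.negSucc 41, 41), (.negSucc 97, 42), (.negSucc 60, 45), (.negSucc 126, 47), (.negSucc 55, 48), (.negSucc 77, 49),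
  (.negSucc 167, 50), (.negSucc 242, 51), (.negSucc 0, 54), (.negSucc 48, 56)])])

/-- a candidate -/
def c34 : ℕ × ℕ × List Step :=
  (8294400, 5, [(0, 0, .ofNat 170, 0, [(.ofNat 26, 3), (.negSucc 51, 8), (.ofNat 34, 9), (.negSucc 15, 14), (.negSucc
  31, 17), (.ofNat 20, 18), (.negSucc 17, 20), (.negSucc 23, 21), (.negSucc 145, 23), (.ofNat 51, 27), (.negSucc 18,
  30), (.negSucc 22, 32), (.negSucc 68, 33), (.negSucc 87, 34), (.negSucc 3, 36), (.negSucc 43, 37), (.negSucc 44,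
  38), (.negSucc 135, 42), (.negSucc 88, 45), (.negSucc 99, 47), (.negSucc 101, 48), (.negSucc 91, 49), (.negSucc
  110, 50), (.negSucc 242, 51), (.negSucc 174, 52), (.negSucc 18, 55), (.negSucc 66, 56)])])

/-- a candidate -/
def c35 : ℕ × ℕ × List Step :=
  (8294400, 25, [(0, 0, .ofNat 0, 0, [(.ofNat 432, 3), (.ofNat 677, 4), (.ofNat 408, 9), (.ofNat 57, 10), (.ofNat 15,
  19), (.ofNat 164, 24), (.ofNat 205, 25), (.ofNat 30, 26), (.ofNat 57, 27), (.ofNat 215, 28), (.ofNat 191, 29),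
  (.ofNat 185, 30), (.negSucc 446, 31), (.negSucc 186, 37), (.ofNat 215, 38), (.ofNat 284, 40), (.negSucc 531, 42),
  (.ofNat 202, 44), (.negSucc 337, 45), (.negSucc 484, 47), (.negSucc 728, 50), (.negSucc 659, 51), (.ofNat 20, 54),
  (.negSucc 210, 56), (.ofNat 364, 57), (.ofNat 367, 58)])])

/-- a candidate -/
def c36 : ℕ × ℕ × List Step :=
  (8626176, 13, [(0, 0, .ofNat 5, 0, [(.ofNat 102, 3), (.ofNat 99, 5), (.negSucc 543, 11), (.ofNat 102, 20),
  (.negSucc 55, 22), (.ofNat 12, 24), (.negSucc 7, 26), (.negSucc 234, 30), (.negSucc 66, 31), (.negSucc 373, 36),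
  (.ofNat 16, 38), (.ofNat 153, 40), (.negSucc 39, 41), (.negSucc 215, 42), (.negSucc 295, 43), (.negSucc 172, 45),
  (.negSucc 185, 47), (.negSucc 116, 49), (.negSucc 728, 50), (.negSucc 368, 51), (.ofNat 246, 52), (.ofNat 15, 54),
  (.negSucc 405, 56), (.ofNat 20, 57)])])

/-- a candidate -/
def c37 : ℕ × ℕ × List Step :=
  (9830400, 5, [(0, 0, .ofNat 243, 0, [(.ofNat 1, 1), (.ofNat 45, 3), (.ofNat 10, 4), (.negSucc 75, 6), (.negSucc 30,
  8), (.negSucc 16, 10), (.negSucc 11, 15), (.negSucc 72, 17), (.negSucc 5, 18), (.negSucc 0, 21), (.negSucc 137,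
  23), (.ofNat 1, 26), (.negSucc 50, 33), (.negSucc 50, 34), (.negSucc 64, 37), (.ofNat 31, 44), (.negSucc 61, 45),
  (.negSucc 88, 48), (.negSucc 76, 49), (.negSucc 110, 50), (.negSucc 201, 51), (.negSucc 148, 52)])])

/-- a candidate -/
def c38 : ℕ × ℕ × List Step :=
  (9830400, 10, [(0, 0, .ofNat 243, 0, [(.ofNat 109, 1), (.ofNat 24, 4), (.negSucc 110, 6), (.negSucc 23, 8),
  (.negSucc 51, 10), (.negSucc 10, 15), (.negSucc 0, 16), (.negSucc 54, 17), (.negSucc 5, 18), (.negSucc 20, 21),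
  (.negSucc 161, 23), (.negSucc 3, 25), (.ofNat 26, 26), (.ofNat 24, 28), (.negSucc 51, 33), (.ofNat 5, 44),
  (.negSucc 3, 47), (.negSucc 72, 48), (.negSucc 56, 49), (.negSucc 84, 50), (.negSucc 36, 51), (.negSucc 133,
  52)])])

/-- a candidate -/
def c39 : ℕ × ℕ × List Step :=
  (9830400, 20, [(0, 0, .ofNat 243, 0, [(.ofNat 109, 1), (.ofNat 24, 4), (.negSucc 110, 6), (.negSucc 23, 8),
  (.negSucc 51, 10), (.negSucc 10, 15), (.negSucc 0, 16), (.negSucc 54, 17), (.negSucc 5, 18), (.negSucc 20, 21),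
  (.negSucc 161, 23), (.negSucc 3, 25), (.ofNat 26, 26), (.ofNat 24, 28), (.negSucc 51, 33), (.ofNat 5, 44),
  (.negSucc 3, 47), (.negSucc 72, 48), (.negSucc 56, 49), (.negSucc 84, 50), (.negSucc 36, 51), (.negSucc 133,
  52)])])

/-- a candidate -/
def c40 : ℕ × ℕ × List Step :=
  (9830400, 40, [(0, 0, .ofNat 243, 0, [(.ofNat 82, 1), (.ofNat 65, 3), (.negSucc 32, 16), (.negSucc 93, 17),
  (.negSucc 19, 18), (.negSucc 19, 21), (.negSucc 150, 23), (.ofNat 5, 24), (.ofNat 65, 27), (.ofNat 2, 28), (.ofNat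
  36, 29), (.ofNat 6, 31), (.negSucc 90, 33), (.negSucc 49, 34), (.negSucc 16, 36), (.negSucc 7, 42), (.negSucc 64,
  48), (.negSucc 16, 49), (.negSucc 176, 50), (.negSucc 93, 51), (.negSucc 100, 52), (.negSucc 28, 54)])])

/-- a candidate -/
def c41 : ℕ × ℕ × List Step :=
  (10616832, 2, [(0, 0, .ofNat 243, 0, [(.ofNat 49, 2), (.negSucc 95, 6), (.ofNat 11, 7), (.ofNat 69, 14), (.ofNat
  14, 18), (.negSucc 62, 22), (.negSucc 60, 25), (.ofNat 75, 26), (.ofNat 1, 28), (.ofNat 15, 29), (.negSucc 73, 33),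
  (.ofNat 90, 38), (.negSucc 12, 41), (.ofNat 4, 44), (.negSucc 87, 49), (.ofNat 9, 52), (.negSucc 12, 54), (.ofNat
  19, 57)])])

/-- a candidate -/
def c42 : ℕ × ℕ × List Step :=
  (11757312, 7, [(0, 0, .ofNat 729, 0, [(.ofNat 100, 2), (.ofNat 336, 4), (.ofNat 13, 5), (.ofNat 261, 9), (.ofNat
  106, 10), (.negSucc 178, 12), (.ofNat 39, 14), (.negSucc 100, 19), (.negSucc 604, 23), (.ofNat 51, 26), (.ofNat
  313, 27), (.negSucc 199, 32), (.negSucc 171, 34), (.negSucc 322, 39), (.negSucc 90, 41), (.negSucc 120, 44),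
  (.negSucc 388, 45), (.ofNat 12, 46), (.negSucc 319, 47), (.negSucc 514, 48), (.negSucc 160, 50), (.negSucc 247,
  51), (.negSucc 207, 52), (.negSucc 132, 53), (.ofNat 72, 57)])])

/-- a candidate -/
def c43 : ℕ × ℕ × List Step :=
  (15746400, 5, [(0, 0, .ofNat 243, 0, [(.ofNat 121, 1), (.negSucc 121, 8), (.negSucc 121, 20), (.negSucc 121, 23),
  (.ofNat 122, 31), (.ofNat 122, 41), (.ofNat 122, 44), (.negSucc 121, 52), (.negSucc 60, 56)])])

/-- a candidate -/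
def c44 : ℕ × ℕ × List Step :=
  (18662400, 5, [(0, 0, .ofNat 243, 0, [(.ofNat 121, 1), (.negSucc 121, 8), (.negSucc 121, 20), (.negSucc 121, 23),
  (.ofNat 122, 31), (.ofNat 122, 41), (.ofNat 122, 44), (.negSucc 121, 52), (.negSucc 60, 56)])])

/-- a candidate -/
def c45 : ℕ × ℕ × List Step :=
  (20155392, 3, [(0, 0, .ofNat 1, 0, [(.ofNat 1, 2), (.ofNat 1, 10), (.ofNat 1, 38), (.negSucc 0, 39), (.negSucc 0,
  43), (.negSucc 0, 44), (.negSucc 0, 47), (.ofNat 1, 50), (.ofNat 1, 52)])])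

/-- a candidate -/
def c46 : ℕ × ℕ × List Step :=
  (20155392, 9, [(0, 0, .ofNat 1, 0, [(.ofNat 1, 2), (.ofNat 1, 10), (.ofNat 1, 38), (.negSucc 0, 39), (.negSucc 0,
  43), (.negSucc 0, 44), (.negSucc 0, 47), (.ofNat 1, 50), (.ofNat 1, 52)])])

/-- a candidate -/
def c47 : ℕ × ℕ × List Step :=
  (20155392, 27, [(0, 0, .ofNat 1, 0, [(.ofNat 1, 2), (.ofNat 1, 10), (.ofNat 1, 38), (.negSucc 0, 39), (.negSucc 0,
  43), (.negSucc 0, 44), (.negSucc 0, 47), (.ofNat 1, 50), (.ofNat 1, 52)])])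

/-- a candidate -/
def c48 : ℕ × ℕ × List Step :=
  (20901888, 7, [(0, 0, .ofNat 729, 0, [(.ofNat 31, 2), (.ofNat 355, 4), (.ofNat 13, 5), (.ofNat 296, 9), (.ofNat 45,
  10), (.ofNat 65, 13), (.negSucc 113, 19), (.negSucc 299, 23), (.negSucc 9, 25), (.ofNat 279, 26), (.ofNat 145, 27),
  (.ofNat 12, 28), (.ofNat 144, 29), (.ofNat 102, 31), (.negSucc 42, 32), (.ofNat 29, 37), (.ofNat 122, 38),
  (.negSucc 113, 39), (.ofNat 16, 41), (.negSucc 262, 42), (.ofNat 130, 46), (.negSucc 63, 47), (.negSucc 182, 48),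
  (.ofNat 78, 49), (.negSucc 63, 51), (.negSucc 20, 52), (.negSucc 4, 56), (.ofNat 112, 57), (.ofNat 144, 58)])])

/-- a candidate -/
def c49 : ℕ × ℕ × List Step :=
  (22118400, 5, [(0, 0, .ofNat 729, 0, [(.ofNat 243, 1), (.negSucc 242, 6), (.negSucc 242, 8), (.negSucc 242, 20),
  (.negSucc 242, 23), (.ofNat 243, 26), (.ofNat 243, 43), (.ofNat 243, 44), (.negSucc 242, 52), (.ofNat 121, 53),
  (.negSucc 120, 56)])])

/-- a candidate -/
def c50 : ℕ × ℕ × List Step :=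
  (29030400, 35, [(0, 0, .ofNat 729, 0, [(.negSucc 728, 8), (.ofNat 729, 41), (.ofNat 729, 44), (.negSucc 728, 51),
  (.negSucc 363, 56)])])

/-- a candidate -/
def c51 : ℕ × ℕ × List Step :=
  (31850496, 2, [(0, 0, .ofNat 729, 0, [(.ofNat 70, 4), (.ofNat 62, 5), (.negSucc 512, 6), (.ofNat 22, 7), (.ofNat
  30, 9), (.ofNat 44, 13), (.ofNat 55, 14), (.negSucc 142, 22), (.ofNat 303, 26), (.negSucc 21, 27), (.ofNat 35, 28),
  (.negSucc 164, 33), (.ofNat 322, 38), (.negSucc 67, 39), (.ofNat 84, 40), (.negSucc 128, 41), (.ofNat 20, 44),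
  (.negSucc 159, 47), (.negSucc 17, 49), (.ofNat 201, 52), (.ofNat 62, 53), (.negSucc 9, 54), (.negSucc 29, 55),
  (.negSucc 80, 56), (.ofNat 25, 57), (.ofNat 44, 58)])])

/-- a candidate -/
def c52 : ℕ × ℕ × List Step :=
  (31850496, 4, [(0, 0, .ofNat 729, 0, [(.ofNat 70, 4), (.ofNat 62, 5), (.negSucc 512, 6), (.ofNat 22, 7), (.ofNat
  30, 9), (.ofNat 44, 13), (.ofNat 55, 14), (.negSucc 142, 22), (.ofNat 303, 26), (.negSucc 21, 27), (.ofNat 35, 28),
  (.negSucc 164, 33), (.ofNat 322, 38), (.negSucc 67, 39), (.ofNat 84, 40), (.negSucc 128, 41), (.ofNat 20, 44),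
  (.negSucc 159, 47), (.negSucc 17, 49), (.ofNat 201, 52), (.ofNat 62, 53), (.negSucc 9, 54), (.negSucc 29, 55),
  (.negSucc 80, 56), (.ofNat 25, 57), (.ofNat 44, 58)])])

/-- a candidate -/
def c53 : ℕ × ℕ × List Step :=
  (31850496, 8, [(0, 0, .ofNat 243, 0, [(.ofNat 5, 2), (.ofNat 58, 4), (.ofNat 135, 5), (.ofNat 32, 9), (.ofNat 114,
  10), (.negSucc 98, 11), (.ofNat 11, 13), (.ofNat 27, 16), (.ofNat 28, 20), (.ofNat 26, 24), (.ofNat 103, 26),
  (.ofNat 91, 27), (.ofNat 22, 28), (.ofNat 26, 29), (.negSucc 69, 30), (.ofNat 27, 35), (.negSucc 5, 36), (.ofNat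
  27, 38), (.negSucc 118, 39), (.ofNat 75, 40), (.ofNat 27, 41), (.negSucc 106, 42), (.negSucc 122, 43), (.negSucc 5,
  47), (.ofNat 20, 51), (.ofNat 142, 52), (.ofNat 5, 54), (.negSucc 22, 55), (.negSucc 21, 56), (.ofNat 40, 57),
  (.ofNat 73, 58)])])

/-- a candidate -/
def c54 : ℕ × ℕ × List Step :=
  (31850496, 16, [(0, 0, .ofNat 1, 0, [(.ofNat 1, 2), (.ofNat 1, 10), (.ofNat 1, 38), (.negSucc 0, 39), (.negSucc 0,
  43), (.negSucc 0, 44), (.negSucc 0, 47), (.ofNat 1, 50), (.ofNat 1, 52)])])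

/-- a candidate -/
def c55 : ℕ × ℕ × List Step :=
  (37158912, 7, [(0, 0, .ofNat 729, 0, [(.ofNat 204, 4), (.ofNat 4, 5), (.negSucc 704, 6), (.ofNat 30, 7), (.ofNat
  11, 12), (.ofNat 65, 14), (.ofNat 25, 18), (.ofNat 354, 26), (.ofNat 24, 28), (.negSucc 63, 31), (.negSucc 220,
  33), (.ofNat 289, 38), (.negSucc 97, 39), (.negSucc 145, 41), (.ofNat 17, 44), (.negSucc 85, 47), (.negSucc 106,
  49), (.negSucc 25, 51), (.ofNat 306, 52), (.ofNat 79, 53), (.negSucc 30, 56), (.ofNat 21, 58)])])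

/-- a candidate -/
def c56 : ℕ × ℕ × List Step :=
  (41990400, 5, [(0, 0, .ofNat 243, 0, [(.ofNat 121, 1), (.negSucc 121, 8), (.negSucc 121, 20), (.negSucc 121, 23),
  (.ofNat 122, 31), (.ofNat 122, 41), (.ofNat 122, 44), (.negSucc 121, 52), (.negSucc 60, 56)])])

/-- a candidate -/
def c57 : ℕ × ℕ × List Step :=
  (46006272, 13, [(0, 0, .ofNat 729, 0, [(.negSucc 728, 8), (.ofNat 729, 41), (.ofNat 729, 44), (.negSucc 728, 51),
  (.negSucc 363, 56)])])

/-- a candidate -/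
def c58 : ℕ × ℕ × List Step :=
  (46006272, 26, [(0, 0, .ofNat 729, 0, [(.ofNat 21, 2), (.ofNat 270, 4), (.ofNat 51, 5), (.negSucc 572, 6), (.ofNat
  2, 7), (.negSucc 145, 11), (.ofNat 122, 13), (.ofNat 21, 14), (.ofNat 58, 15), (.negSucc 47, 20), (.negSucc 63,
  22), (.ofNat 3, 24), (.ofNat 230, 26), (.negSucc 38, 27), (.ofNat 41, 29), (.ofNat 88, 31), (.negSucc 152, 33),
  (.ofNat 143, 36), (.ofNat 425, 38), (.negSucc 108, 39), (.negSucc 36, 42), (.negSucc 393, 43), (.negSucc 49, 45),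
  (.negSucc 243, 47), (.negSucc 131, 49), (.ofNat 331, 52), (.ofNat 14, 55), (.negSucc 45, 56), (.ofNat 69, 57),
  (.negSucc 6, 58)])])

/-- a candidate -/
def c59 : ℕ × ℕ × List Step :=
  (46006272, 52, [(0, 0, .ofNat 243, 0, [(.ofNat 6, 2), (.ofNat 98, 4), (.ofNat 8, 5), (.negSucc 227, 6), (.ofNat 15,
  7), (.negSucc 52, 11), (.ofNat 68, 13), (.ofNat 21, 14), (.ofNat 24, 15), (.negSucc 17, 20), (.negSucc 14, 22),
  (.ofNat 9, 24), (.ofNat 54, 26), (.negSucc 34, 27), (.ofNat 3, 29), (.ofNat 8, 30), (.ofNat 30, 31), (.negSucc 64,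
  33), (.ofNat 56, 36), (.ofNat 145, 38), (.negSucc 146, 43), (.ofNat 14, 44), (.negSucc 54, 45), (.negSucc 116, 47),
  (.negSucc 48, 49), (.ofNat 93, 52), (.ofNat 7, 57), (.ofNat 8, 58)])])

/-- candidates -/
def CL1 : List (ℕ × ℕ × List Step) :=
  [c30, c31, c32, c33, c34, c35, c36, c37, c38, c39, c40, c41, c42, c43, c44, c45, c46, c47, c48, c49, c50, c51, c52,
  c53, c54, c55, c56, c57, c58, c59]

theorem okC1 : okL TAB.F22.dat (TAB.Sm2.mkRows TAB.F22.rowA TAB.F22.rowB) 2 P Z CL1 = true := by decide +kernel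

/-- a candidate -/
def c60 : ℕ × ℕ × List Step :=
  (49766400, 5, [(0, 0, .ofNat 243, 0, [(.ofNat 121, 1), (.negSucc 121, 8), (.negSucc 121, 20), (.negSucc 121, 23),
  (.ofNat 122, 31), (.ofNat 122, 41), (.ofNat 122, 44), (.negSucc 121, 52), (.negSucc 60, 56)])])

/-- a candidate -/
def c61 : ℕ × ℕ × List Step :=
  (80621568, 3, [(0, 0, .ofNat 230, 0, [(.ofNat 104, 4), (.ofNat 27, 5), (.ofNat 111, 10), (.negSucc 152, 12),
  (.ofNat 56, 13), (.ofNat 16, 15), (.negSucc 19, 19), (.ofNat 15, 22), (.negSucc 73, 23), (.negSucc 135, 25),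
  (.ofNat 243, 26), (.negSucc 15, 27), (.negSucc 23, 30), (.negSucc 3, 35), (.ofNat 7, 36), (.ofNat 4, 37), (.ofNat
  38, 38), (.negSucc 48, 39), (.negSucc 42, 41), (.negSucc 16, 42), (.negSucc 26, 44), (.negSucc 36, 45), (.negSucc
  6, 46), (.negSucc 80, 47), (.ofNat 15, 48), (.ofNat 3, 49), (.ofNat 19, 50), (.ofNat 86, 51), (.ofNat 85, 52),
  (.ofNat 48, 53), (.ofNat 6, 55), (.negSucc 4, 56)])])

/-- a candidate -/
def c62 : ℕ × ℕ × List Step :=
  (94058496, 7, [(0, 0, .ofNat 1, 0, [(.ofNat 1, 2), (.ofNat 1, 10), (.ofNat 1, 38), (.negSucc 0, 39), (.negSucc 0,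
  43), (.negSucc 0, 44), (.negSucc 0, 47), (.ofNat 1, 50), (.ofNat 1, 52)])])

/-- a candidate -/
def c63 : ℕ × ℕ × List Step :=
  (95551488, 2, [(0, 0, .ofNat 243, 0, [(.ofNat 6, 1), (.ofNat 75, 4), (.ofNat 1, 5), (.negSucc 166, 6), (.ofNat 5,
  9), (.ofNat 32, 14), (.negSucc 16, 19), (.ofNat 7, 21), (.negSucc 103, 23), (.ofNat 89, 26), (.ofNat 29, 28),
  (.negSucc 36, 33), (.ofNat 46, 38), (.negSucc 28, 39), (.ofNat 14, 46), (.negSucc 36, 47), (.negSucc 23, 49),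
  (.ofNat 9, 52), (.ofNat 5, 53), (.negSucc 11, 56), (.ofNat 4, 58)])])

/-- a candidate -/
def c64 : ℕ × ℕ × List Step :=
  (95846400, 65, [(0, 0, .ofNat 729, 0, [(.ofNat 365, 1), (.negSucc 363, 8), (.negSucc 363, 20), (.negSucc 363, 23),
  (.ofNat 364, 31), (.ofNat 364, 41), (.ofNat 365, 44), (.negSucc 363, 52), (.negSucc 181, 56)])])

/-- a candidate -/
def c65 : ℕ × ℕ × List Step :=
  (111974400, 5, [(0, 0, .ofNat 729, 0, [(.ofNat 365, 1), (.negSucc 363, 8), (.negSucc 363, 20), (.negSucc 363, 23),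
  (.ofNat 364, 31), (.ofNat 364, 41), (.ofNat 365, 44), (.negSucc 363, 52), (.negSucc 181, 56)])])

/-- a candidate -/
def c66 : ℕ × ℕ × List Step :=
  (111974400, 25, [(0, 0, .ofNat 2312, 0, [(.ofNat 2358, 4), (.ofNat 1090, 10), (.ofNat 928, 11), (.ofNat 629, 14),
  (.ofNat 817, 15), (.negSucc 1042, 19), (.ofNat 1240, 21), (.ofNat 2210, 22), (.negSucc 2516, 23), (.ofNat 127, 24),
  (.ofNat 819, 25), (.negSucc 683, 26), (.negSucc 574, 27), (.ofNat 186, 28), (.ofNat 1083, 30), (.ofNat 2834, 31),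
  (.negSucc 50, 32), (.negSucc 1104, 34), (.ofNat 954, 36), (.ofNat 181, 37), (.ofNat 1178, 38), (.ofNat 1312, 39),
  (.ofNat 1335, 40), (.ofNat 2359, 41), (.ofNat 1942, 42), (.ofNat 1652, 44), (.ofNat 156, 45), (.ofNat 2112, 46),
  (.ofNat 2580, 48), (.ofNat 1011, 49), (.ofNat 6561, 50), (.ofNat 5929, 51), (.ofNat 492, 52), (.ofNat 624, 55),
  (.ofNat 892, 56), (.ofNat 647, 57), (.ofNat 1492, 58)])])

/-- a candidate -/
def c67 : ℕ × ℕ × List Step :=
  (114633792, 91, [(0, 0, .ofNat 126, 0, [(.negSucc 40, 1), (.ofNat 2, 5), (.negSucc 21, 7), (.negSucc 242, 8),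
  (.ofNat 65, 10), (.negSucc 52, 12), (.ofNat 9, 13), (.negSucc 3, 17), (.negSucc 32, 19), (.negSucc 56, 26), (.ofNat
  2, 28), (.negSucc 3, 30), (.ofNat 56, 33), (.ofNat 34, 36), (.ofNat 21, 37), (.ofNat 104, 38), (.negSucc 2, 39),
  (.ofNat 44, 40), (.ofNat 222, 41), (.ofNat 17, 42), (.negSucc 30, 43), (.ofNat 133, 44), (.ofNat 25, 45), (.ofNat
  18, 46), (.ofNat 48, 49), (.ofNat 104, 50), (.negSucc 167, 51), (.ofNat 147, 52), (.negSucc 11, 53), (.ofNat 12,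
  54), (.ofNat 35, 55)])])

/-- a candidate -/
def c68 : ℕ × ℕ × List Step :=
  (114633792, 273, [(0, 0, .ofNat 178, 0, [(.ofNat 80, 4), (.ofNat 5, 5), (.ofNat 245, 10), (.negSucc 128, 12),
  (.ofNat 66, 13), (.ofNat 119, 17), (.negSucc 176, 19), (.ofNat 53, 22), (.negSucc 187, 23), (.negSucc 180, 26),
  (.negSucc 5, 28), (.negSucc 84, 29), (.negSucc 87, 30), (.ofNat 621, 31), (.negSucc 142, 35), (.ofNat 307, 37),
  (.ofNat 408, 38), (.negSucc 149, 39), (.ofNat 22, 40), (.ofNat 544, 41), (.ofNat 45, 42), (.negSucc 153, 43),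
  (.negSucc 18, 44), (.ofNat 153, 45), (.ofNat 152, 46), (.ofNat 182, 48), (.ofNat 63, 49), (.ofNat 231, 50), (.ofNat
  63, 51), (.ofNat 729, 52), (.negSucc 85, 53), (.ofNat 79, 55), (.ofNat 10, 57), (.ofNat 22, 58)])])

/-- a candidate -/
def c69 : ℕ × ℕ × List Step :=
  (132710400, 5, [(0, 0, .ofNat 729, 0, [(.ofNat 243, 1), (.negSucc 242, 6), (.negSucc 242, 8), (.negSucc 242, 20),
  (.negSucc 242, 23), (.ofNat 243, 26), (.ofNat 243, 43), (.ofNat 243, 44), (.negSucc 242, 52), (.ofNat 121, 53),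
  (.negSucc 120, 56)])])

/-- a candidate -/
def c70 : ℕ × ℕ × List Step :=
  (167215104, 7, [(0, 0, .ofNat 243, 0, [(.ofNat 99, 4), (.ofNat 30, 5), (.negSucc 204, 6), (.negSucc 19, 11),
  (.ofNat 10, 14), (.ofNat 15, 15), (.negSucc 9, 19), (.negSucc 49, 23), (.ofNat 10, 25), (.ofNat 94, 26), (.ofNat 5,
  29), (.negSucc 12, 30), (.negSucc 42, 31), (.ofNat 11, 36), (.ofNat 59, 38), (.negSucc 28, 39), (.negSucc 39, 41),
  (.negSucc 21, 45), (.negSucc 20, 47), (.ofNat 4, 48), (.negSucc 52, 49), (.ofNat 4, 50), (.ofNat 76, 52), (.ofNat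
  20, 53), (.negSucc 2, 56), (.ofNat 16, 57)])])

/-- a candidate -/
def c71 : ℕ × ℕ × List Step :=
  (232906752, 13, [(0, 0, .ofNat 1, 0, [(.ofNat 1, 1), (.negSucc 0, 20), (.negSucc 0, 23), (.ofNat 1, 31), (.ofNat 1,
  51), (.negSucc 0, 52)])])

/-- a candidate -/
def c72 : ℕ × ℕ × List Step :=
  (251942400, 5, [(0, 0, .ofNat 729, 0, [(.ofNat 365, 1), (.negSucc 363, 8), (.negSucc 363, 20), (.negSucc 363, 23),
  (.ofNat 364, 31), (.ofNat 364, 41), (.ofNat 365, 44), (.negSucc 363, 52), (.negSucc 181, 56)])])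

/-- a candidate -/
def c73 : ℕ × ℕ × List Step :=
  (286654464, 2, [(0, 0, .ofNat 243, 0, [(.ofNat 1, 1), (.ofNat 64, 4), (.ofNat 41, 5), (.negSucc 183, 6), (.ofNat
  14, 9), (.negSucc 42, 20), (.negSucc 78, 23), (.ofNat 15, 25), (.ofNat 69, 26), (.negSucc 12, 30), (.negSucc 3,
  33), (.ofNat 9, 36), (.ofNat 54, 38), (.negSucc 29, 39), (.negSucc 35, 41), (.negSucc 19, 45), (.negSucc 16, 47),
  (.negSucc 49, 49), (.ofNat 6, 50), (.ofNat 47, 51), (.ofNat 26, 52), (.ofNat 20, 53), (.ofNat 10, 57), (.ofNat 2,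
  58)])])

/-- a candidate -/
def c74 : ℕ × ℕ × List Step :=
  (286654464, 4, [(0, 0, .ofNat 243, 0, [(.ofNat 1, 1), (.ofNat 64, 4), (.ofNat 41, 5), (.negSucc 183, 6), (.ofNat
  14, 9), (.negSucc 42, 20), (.negSucc 78, 23), (.ofNat 15, 25), (.ofNat 69, 26), (.negSucc 12, 30), (.negSucc 3,
  33), (.ofNat 9, 36), (.ofNat 54, 38), (.negSucc 29, 39), (.negSucc 35, 41), (.negSucc 19, 45), (.negSucc 16, 47),
  (.negSucc 49, 49), (.ofNat 6, 50), (.ofNat 47, 51), (.ofNat 26, 52), (.ofNat 20, 53), (.ofNat 10, 57), (.ofNat 2,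
  58)])])

/-- a candidate -/
def c75 : ℕ × ℕ × List Step :=
  (286654464, 8, [(0, 0, .ofNat 1, 0, [(.ofNat 1, 1), (.negSucc 0, 20), (.negSucc 0, 23), (.ofNat 1, 31), (.ofNat 1,
  51), (.negSucc 0, 52)])])

/-- a candidate -/
def c76 : ℕ × ℕ × List Step :=
  (298598400, 5, [(0, 0, .ofNat 729, 0, [(.ofNat 365, 1), (.negSucc 363, 8), (.negSucc 363, 20), (.negSucc 363, 23),
  (.ofNat 364, 31), (.ofNat 364, 41), (.ofNat 365, 44), (.negSucc 363, 52), (.negSucc 181, 56)])])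

/-- a candidate -/
def c77 : ℕ × ℕ × List Step :=
  (322486272, 3, [(0, 0, .ofNat 1, 0, [(.ofNat 1, 1), (.negSucc 0, 20), (.negSucc 0, 23), (.ofNat 1, 31), (.ofNat 1,
  51), (.negSucc 0, 52)])])

/-- a candidate -/
def c78 : ℕ × ℕ × List Step :=
  (485222400, 65, [(0, 0, .ofNat 729, 0, [(.ofNat 365, 1), (.negSucc 363, 8), (.negSucc 363, 20), (.negSucc 363, 23),
  (.ofNat 364, 31), (.ofNat 364, 41), (.ofNat 365, 44), (.negSucc 363, 52), (.negSucc 181, 56)])])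

/-- a candidate -/
def c79 : ℕ × ℕ × List Step :=
  (671846400, 5, [(0, 0, .ofNat 243, 0, [(.ofNat 122, 1), (.negSucc 120, 8), (.negSucc 120, 20), (.negSucc 120, 23),
  (.ofNat 121, 31), (.ofNat 121, 41), (.ofNat 122, 44), (.negSucc 120, 52), (.negSucc 60, 56)])])

/-- a candidate -/
def c80 : ℕ × ℕ × List Step :=
  (752467968, 7, [(0, 0, .ofNat 243, 0, [(.ofNat 121, 2), (.ofNat 122, 4), (.ofNat 122, 10), (.negSucc 121, 12),
  (.negSucc 120, 25), (.ofNat 243, 26), (.negSucc 121, 31), (.ofNat 122, 38), (.negSucc 121, 39), (.negSucc 120, 41),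
  (.negSucc 121, 44), (.negSucc 120, 47), (.ofNat 121, 50), (.ofNat 122, 52), (.ofNat 61, 53)])])

/-- a candidate -/
def c81 : ℕ × ℕ × List Step :=
  (796262400, 5, [(0, 0, .ofNat 243, 0, [(.ofNat 81, 1), (.negSucc 80, 6), (.negSucc 80, 8), (.negSucc 80, 20),
  (.negSucc 80, 23), (.ofNat 81, 26), (.ofNat 81, 43), (.ofNat 81, 44), (.negSucc 80, 52), (.ofNat 40, 53), (.negSucc
  39, 56)])])

/-- a candidate -/
def c82 : ℕ × ℕ × List Step :=
  (796262400, 10, [(0, 0, .ofNat 243, 0, [(.ofNat 81, 1), (.negSucc 80, 6), (.negSucc 80, 8), (.negSucc 80, 20),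
  (.negSucc 80, 23), (.ofNat 81, 26), (.ofNat 81, 43), (.ofNat 81, 44), (.negSucc 80, 52), (.ofNat 40, 53), (.negSucc
  39, 56)])])

/-- a candidate -/
def c83 : ℕ × ℕ × List Step :=
  (796262400, 20, [(0, 0, .ofNat 243, 0, [(.ofNat 81, 1), (.negSucc 80, 6), (.negSucc 80, 8), (.negSucc 80, 20),
  (.negSucc 80, 23), (.ofNat 81, 26), (.ofNat 81, 43), (.ofNat 81, 44), (.negSucc 80, 52), (.ofNat 40, 53), (.negSucc
  39, 56)])])

/-- a candidate -/
def c84 : ℕ × ℕ × List Step :=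
  (796262400, 40, [(0, 0, .ofNat 243, 0, [(.ofNat 122, 1), (.negSucc 120, 8), (.negSucc 120, 20), (.negSucc 120, 23),
  (.ofNat 121, 31), (.ofNat 121, 41), (.ofNat 122, 44), (.negSucc 120, 52), (.negSucc 60, 56)])])

/-- a candidate -/
def c85 : ℕ × ℕ × List Step :=
  (859963392, 2, [(0, 0, .ofNat 243, 0, [(.ofNat 1, 1), (.ofNat 64, 4), (.ofNat 41, 5), (.negSucc 183, 6), (.ofNat
  14, 9), (.negSucc 42, 20), (.negSucc 78, 23), (.ofNat 15, 25), (.ofNat 69, 26), (.negSucc 12, 30), (.negSucc 3,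
  33), (.ofNat 9, 36), (.ofNat 54, 38), (.negSucc 29, 39), (.negSucc 35, 41), (.negSucc 19, 45), (.negSucc 16, 47),
  (.negSucc 49, 49), (.ofNat 6, 50), (.ofNat 47, 51), (.ofNat 26, 52), (.ofNat 20, 53), (.ofNat 10, 57), (.ofNat 2,
  58)])])

/-- a candidate -/
def c86 : ℕ × ℕ × List Step :=
  (1045094400, 35, [(0, 0, .ofNat 243, 0, [(.negSucc 242, 8), (.ofNat 243, 41), (.ofNat 243, 44), (.negSucc 242, 51),
  (.negSucc 120, 56)])])

/-- a candidate -/
def c87 : ℕ × ℕ × List Step :=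
  (1045094400, 175, [(4, 354, .ofNat 215, 0, [(.ofNat 353, 2), (.ofNat 102, 3), (.ofNat 168, 4), (.ofNat 89, 9),
  (.ofNat 197, 10), (.ofNat 324, 11), (.ofNat 35, 13), (.ofNat 18, 14), (.ofNat 18, 16), (.ofNat 12, 17), (.ofNat
  102, 19), (.negSucc 108, 20), (.ofNat 30, 21), (.negSucc 64, 22), (.negSucc 102, 23), (.ofNat 42, 24), (.ofNat 42,
  25), (.negSucc 143, 26), (.ofNat 114, 27), (.ofNat 36, 28), (.ofNat 36, 29), (.ofNat 143, 30), (.negSucc 107, 32),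
  (.ofNat 101, 33), (.ofNat 18, 34), (.ofNat 42, 36), (.negSucc 50, 37), (.ofNat 178, 38), (.ofNat 65, 40), (.ofNat
  143, 41), (.ofNat 293, 42), (.ofNat 174, 44), (.negSucc 84, 45), (.ofNat 196, 46), (.ofNat 208, 48), (.ofNat 244,
  49), (.ofNat 729, 50), (.ofNat 490, 51), (.ofNat 48, 54), (.ofNat 18, 55), (.ofNat 42, 56), (.ofNat 71, 57),
  (.ofNat 189, 58)]), (0, 0, .ofNat 870, 0, [(.ofNat 322, 3), (.ofNat 565, 4), (.ofNat 224, 7), (.ofNat 547, 9),
  (.ofNat 1192, 10), (.negSucc 2041, 11), (.ofNat 443, 14), (.ofNat 1268, 15), (.negSucc 97, 19), (.ofNat 574, 23),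
  (.ofNat 904, 26), (.ofNat 312, 27), (.ofNat 1003, 28), (.ofNat 1022, 29), (.ofNat 855, 30), (.ofNat 493, 32),
  (.ofNat 191, 33), (.ofNat 1155, 34), (.ofNat 1149, 36), (.ofNat 3706, 37), (.ofNat 1371, 38), (.ofNat 283, 39),
  (.ofNat 2578, 40), (.ofNat 1789, 41), (.ofNat 953, 42), (.ofNat 2224, 44), (.ofNat 1038, 45), (.ofNat 1899, 46),
  (.ofNat 925, 47), (.ofNat 2282, 48), (.ofNat 2492, 49), (.ofNat 2038, 51), (.ofNat 6561, 52), (.ofNat 36, 53),
  (.ofNat 167, 54), (.ofNat 561, 55), (.ofNat 359, 56), (.ofNat 580, 57), (.ofNat 44, 58)])])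

/-- a candidate -/
def c88 : ℕ × ℕ × List Step :=
  (1242169344, 13, [(0, 0, .ofNat 81, 0, [(.negSucc 26, 8), (.ofNat 27, 13), (.negSucc 26, 19), (.negSucc 26, 20),
  (.negSucc 26, 23), (.negSucc 26, 27), (.ofNat 54, 31), (.ofNat 27, 38), (.ofNat 27, 41), (.negSucc 26, 47),
  (.negSucc 13, 56)])])

/-- a candidate -/
def c89 : ℕ × ℕ × List Step :=
  (1242169344, 26, [(0, 0, .ofNat 1, 0, [(.ofNat 1, 1), (.negSucc 0, 20), (.negSucc 0, 23), (.ofNat 1, 31), (.ofNat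
  1, 51), (.negSucc 0, 52)])])

/-- candidates -/
def CL2 : List (ℕ × ℕ × List Step) :=
  [c60, c61, c62, c63, c64, c65, c66, c67, c68, c69, c70, c71, c72, c73, c74, c75, c76, c77, c78, c79, c80, c81, c82,
  c83, c84, c85, c86, c87, c88, c89]

theorem okC2 : okL TAB.F22.dat (TAB.Sm2.mkRows TAB.F22.rowA TAB.F22.rowB) 2 P Z CL2 = true := by decide +kernel

/-- a candidate -/
def c90 : ℕ × ℕ × List Step :=
  (1289945088, 3, [(0, 0, .ofNat 243, 0, [(.ofNat 81, 5), (.negSucc 80, 6), (.ofNat 81, 10), (.ofNat 81, 13),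
  (.negSucc 80, 20), (.negSucc 80, 23), (.ofNat 81, 26), (.negSucc 80, 41), (.negSucc 80, 45), (.negSucc 80, 47),
  (.ofNat 162, 51), (.ofNat 41, 53)])])

/-- a candidate -/
def c91 : ℕ × ℕ × List Step :=
  (1289945088, 9, [(0, 0, .ofNat 243, 0, [(.ofNat 81, 5), (.negSucc 80, 6), (.ofNat 81, 10), (.ofNat 81, 13),
  (.negSucc 80, 20), (.negSucc 80, 23), (.ofNat 81, 26), (.negSucc 80, 41), (.negSucc 80, 45), (.negSucc 80, 47),
  (.ofNat 162, 51), (.ofNat 41, 53)])])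

/-- a candidate -/
def c92 : ℕ × ℕ × List Step :=
  (1791590400, 5, [(0, 0, .ofNat 243, 0, [(.ofNat 81, 1), (.negSucc 80, 6), (.negSucc 80, 8), (.negSucc 80, 20),
  (.negSucc 80, 23), (.ofNat 81, 26), (.ofNat 81, 43), (.ofNat 81, 44), (.negSucc 80, 52), (.ofNat 40, 53), (.negSucc
  39, 56)])])

/-- a candidate -/
def c93 : ℕ × ℕ × List Step :=
  (2579890176, 2, [(0, 0, .ofNat 81, 0, [(.ofNat 8, 5), (.negSucc 23, 6), (.negSucc 23, 8), (.ofNat 8, 10), (.ofNat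
  16, 13), (.negSucc 7, 19), (.negSucc 15, 20), (.negSucc 15, 23), (.ofNat 24, 26), (.negSucc 7, 27), (.ofNat 8, 38),
  (.ofNat 16, 43), (.ofNat 16, 44), (.negSucc 7, 45), (.negSucc 15, 47), (.ofNat 12, 53), (.negSucc 11, 56)])])

/-- a candidate -/
def c94 : ℕ × ℕ × List Step :=
  (2579890176, 4, [(0, 0, .ofNat 81, 0, [(.ofNat 8, 5), (.negSucc 23, 6), (.negSucc 23, 8), (.ofNat 8, 10), (.ofNat
  16, 13), (.negSucc 7, 19), (.negSucc 15, 20), (.negSucc 15, 23), (.ofNat 24, 26), (.negSucc 7, 27), (.ofNat 8, 38),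
  (.ofNat 16, 43), (.ofNat 16, 44), (.negSucc 7, 45), (.negSucc 15, 47), (.ofNat 12, 53), (.negSucc 11, 56)])])

/-- a candidate -/
def c95 : ℕ × ℕ × List Step :=
  (2579890176, 8, [(0, 0, .ofNat 81, 0, [(.negSucc 26, 8), (.ofNat 27, 13), (.negSucc 26, 19), (.negSucc 26, 20),
  (.negSucc 26, 23), (.negSucc 26, 27), (.ofNat 54, 31), (.ofNat 27, 38), (.ofNat 27, 41), (.negSucc 26, 47),
  (.negSucc 13, 56)])])

/-- a candidate -/
def c96 : ℕ × ℕ × List Step :=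
  (2579890176, 16, [(0, 0, .ofNat 81, 0, [(.negSucc 26, 8), (.ofNat 27, 13), (.negSucc 26, 19), (.negSucc 26, 20),
  (.negSucc 26, 23), (.negSucc 26, 27), (.ofNat 54, 31), (.ofNat 27, 38), (.ofNat 27, 41), (.negSucc 26, 47),
  (.negSucc 13, 56)])])

/-- a candidate -/
def c97 : ℕ × ℕ × List Step :=
  (2579890176, 32, [(0, 0, .ofNat 81, 0, [(.negSucc 80, 8), (.ofNat 81, 41), (.ofNat 81, 44), (.negSucc 80, 51),
  (.negSucc 39, 56)])])

/-- a candidate -/
def c98 : ℕ × ℕ × List Step :=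
  (2579890176, 64, [(0, 0, .ofNat 81, 0, [(.negSucc 80, 8), (.ofNat 81, 41), (.ofNat 81, 44), (.negSucc 80, 51),
  (.negSucc 39, 56)])])

/-- a candidate -/
def c99 : ℕ × ℕ × List Step :=
  (3113510400, 715, [(0, 0, .ofNat 0, 0, [(.negSucc 185, 3), (.negSucc 1608, 5), (.negSucc 4173, 6), (.negSucc 192,
  7), (.negSucc 637, 9), (.negSucc 199, 10), (.negSucc 1134, 11), (.negSucc 8103, 12), (.ofNat 939, 13), (.negSucc
  436, 14), (.negSucc 1986, 15), (.ofNat 673, 16), (.negSucc 13238, 17), (.negSucc 729, 18), (.negSucc 2496, 19),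
  (.negSucc 1891, 20), (.negSucc 12418, 21), (.negSucc 13872, 23), (.ofNat 1699, 24), (.negSucc 15529, 25), (.negSucc
  19459, 26), (.negSucc 5572, 28), (.negSucc 35530, 29), (.negSucc 16321, 30), (.negSucc 4086, 31), (.negSucc 11,
  32), (.negSucc 23510, 33), (.negSucc 14366, 34), (.negSucc 2004, 35), (.negSucc 592, 36), (.negSucc 231, 37),
  (.negSucc 2894, 38), (.ofNat 886, 39), (.negSucc 1603, 40), (.negSucc 36679, 41), (.negSucc 59048, 42), (.negSucc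
  10399, 43), (.negSucc 20824, 44), (.negSucc 49976, 45), (.negSucc 10324, 46), (.negSucc 13271, 47), (.negSucc 7495,
  48), (.negSucc 29001, 49), (.negSucc 9964, 50), (.negSucc 42228, 51), (.negSucc 30550, 52), (.negSucc 774, 53),
  (.negSucc 2355, 54), (.negSucc 5136, 55), (.negSucc 3417, 56), (.negSucc 15039, 57), (.negSucc 19804, 58)])])

/-- a candidate -/
def c100 : ℕ × ℕ × List Step :=
  (4031078400, 5, [(0, 0, .ofNat 243, 0, [(.ofNat 122, 1), (.negSucc 120, 8), (.negSucc 120, 20), (.negSucc 120, 23),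
  (.ofNat 121, 31), (.ofNat 121, 41), (.ofNat 122, 44), (.negSucc 120, 52), (.negSucc 60, 56)])])

/-- a candidate -/
def c101 : ℕ × ℕ × List Step :=
  (6019743744, 7, [(0, 0, .ofNat 81, 0, [(.ofNat 13, 5), (.negSucc 26, 6), (.negSucc 26, 8), (.ofNat 13, 10), (.ofNat
  13, 13), (.negSucc 12, 20), (.negSucc 12, 23), (.ofNat 27, 26), (.negSucc 12, 31), (.ofNat 13, 43), (.ofNat 27,
  44), (.negSucc 12, 45), (.negSucc 12, 47), (.ofNat 13, 53), (.negSucc 12, 56)])])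

/-- a candidate -/
def c102 : ℕ × ℕ × List Step :=
  (6019743744, 14, [(0, 0, .ofNat 81, 0, [(.negSucc 80, 6), (.ofNat 81, 26), (.negSucc 80, 31), (.negSucc 80, 41),
  (.ofNat 81, 43), (.ofNat 40, 53)])])

/-- a candidate -/
def c103 : ℕ × ℕ × List Step :=
  (6019743744, 28, [(0, 0, .ofNat 81, 0, [(.negSucc 80, 6), (.ofNat 81, 26), (.negSucc 80, 31), (.negSucc 80, 41),
  (.ofNat 81, 43), (.ofNat 40, 53)])])

/-- a candidate -/
def c104 : ℕ × ℕ × List Step :=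
  (7166361600, 16, [(0, 0, .ofNat 81, 0, [(.ofNat 27, 1), (.negSucc 26, 6), (.negSucc 26, 8), (.negSucc 26, 20),
  (.negSucc 26, 23), (.ofNat 27, 26), (.ofNat 27, 43), (.ofNat 27, 44), (.negSucc 26, 52), (.ofNat 13, 53), (.negSucc
  12, 56)])])

/-- a candidate -/
def c105 : ℕ × ℕ × List Step :=
  (10749542400, 5, [(0, 0, .ofNat 81, 0, [(.ofNat 27, 1), (.negSucc 26, 6), (.negSucc 26, 8), (.negSucc 26, 20),
  (.negSucc 26, 23), (.ofNat 27, 26), (.ofNat 27, 43), (.ofNat 27, 44), (.negSucc 26, 52), (.ofNat 13, 53), (.negSucc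
  12, 56)])])

/-- a candidate -/
def c106 : ℕ × ℕ × List Step :=
  (12899450880, 9, [(0, 0, .ofNat 81, 0, [(.ofNat 27, 1), (.negSucc 26, 6), (.negSucc 26, 8), (.negSucc 26, 20),
  (.negSucc 26, 23), (.ofNat 27, 26), (.ofNat 27, 43), (.ofNat 27, 44), (.negSucc 26, 52), (.ofNat 13, 53), (.negSucc
  12, 56)])])

/-- a candidate -/
def c107 : ℕ × ℕ × List Step :=
  (12899450880, 12, [(0, 0, .ofNat 81, 0, [(.ofNat 27, 1), (.negSucc 26, 6), (.negSucc 26, 8), (.negSucc 26, 20),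
  (.negSucc 26, 23), (.ofNat 27, 26), (.ofNat 27, 43), (.ofNat 27, 44), (.negSucc 26, 52), (.ofNat 13, 53), (.negSucc
  12, 56)])])

/-- a candidate -/
def c108 : ℕ × ℕ × List Step :=
  (12899450880, 18, [(0, 0, .ofNat 81, 0, [(.ofNat 27, 1), (.negSucc 26, 6), (.negSucc 26, 8), (.negSucc 26, 20),
  (.negSucc 26, 23), (.ofNat 27, 26), (.ofNat 27, 43), (.ofNat 27, 44), (.negSucc 26, 52), (.ofNat 13, 53), (.negSucc
  12, 56)])])

/-- a candidate -/
def c109 : ℕ × ℕ × List Step :=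
  (12899450880, 36, [(0, 0, .ofNat 81, 0, [(.ofNat 27, 1), (.negSucc 26, 6), (.negSucc 26, 8), (.negSucc 26, 20),
  (.negSucc 26, 23), (.ofNat 27, 26), (.ofNat 27, 43), (.ofNat 27, 44), (.negSucc 26, 52), (.ofNat 13, 53), (.negSucc
  12, 56)])])

/-- a candidate -/
def c110 : ℕ × ℕ × List Step :=
  (13101004800, 13, [(0, 0, .ofNat 243, 0, [(.ofNat 122, 1), (.negSucc 120, 8), (.negSucc 120, 20), (.negSucc 120,
  23), (.ofNat 121, 31), (.ofNat 121, 41), (.ofNat 122, 44), (.negSucc 120, 52), (.negSucc 60, 56)])])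

/-- a candidate -/
def c111 : ℕ × ℕ × List Step :=
  (33538572288, 13, [(0, 0, .ofNat 81, 0, [(.negSucc 26, 8), (.ofNat 27, 13), (.negSucc 26, 19), (.negSucc 26, 20),
  (.negSucc 26, 23), (.negSucc 26, 27), (.ofNat 54, 31), (.ofNat 27, 38), (.ofNat 27, 41), (.negSucc 26, 47),
  (.negSucc 13, 56)])])

/-- a candidate -/
def c112 : ℕ × ℕ × List Step :=
  (33538572288, 26, [(0, 0, .ofNat 81, 0, [(.negSucc 26, 8), (.ofNat 27, 13), (.negSucc 26, 19), (.negSucc 26, 20),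
  (.negSucc 26, 23), (.negSucc 26, 27), (.ofNat 54, 31), (.ofNat 27, 38), (.ofNat 27, 41), (.negSucc 26, 47),
  (.negSucc 13, 56)])])

/-- a candidate -/
def c113 : ℕ × ℕ × List Step :=
  (33538572288, 52, [(0, 0, .ofNat 81, 0, [(.negSucc 26, 8), (.ofNat 27, 13), (.negSucc 26, 19), (.negSucc 26, 20),
  (.negSucc 26, 23), (.negSucc 26, 27), (.ofNat 54, 31), (.ofNat 27, 38), (.ofNat 27, 41), (.negSucc 26, 47),
  (.negSucc 13, 56)])])

/-- a candidate -/
def c114 : ℕ × ℕ × List Step :=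
  (37623398400, 7, [(0, 0, .ofNat 27, 0, [(.negSucc 13, 6), (.negSucc 13, 8), (.ofNat 14, 26), (.negSucc 13, 31),
  (.ofNat 13, 43), (.ofNat 14, 44), (.negSucc 13, 51), (.ofNat 7, 53), (.negSucc 6, 56)])])

/-- a candidate -/
def c115 : ℕ × ℕ × List Step :=
  (37623398400, 35, [(0, 0, .ofNat 27, 0, [(.negSucc 13, 6), (.negSucc 13, 8), (.ofNat 14, 26), (.negSucc 13, 31),
  (.ofNat 13, 43), (.ofNat 14, 44), (.negSucc 13, 51), (.ofNat 7, 53), (.negSucc 6, 56)])])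

/-- a candidate -/
def c116 : ℕ × ℕ × List Step :=
  (47297986560, 11, [(0, 0, .ofNat 81, 0, [(.ofNat 40, 1), (.negSucc 39, 6), (.negSucc 39, 20), (.negSucc 39, 23),
  (.ofNat 41, 26), (.negSucc 39, 41), (.ofNat 40, 43), (.ofNat 40, 51), (.negSucc 39, 52), (.ofNat 20, 53)])])

/-- a candidate -/
def c117 : ℕ × ℕ × List Step :=
  (47297986560, 22, [(0, 0, .ofNat 81, 0, [(.ofNat 40, 1), (.negSucc 39, 6), (.negSucc 39, 20), (.negSucc 39, 23),
  (.ofNat 41, 26), (.negSucc 39, 41), (.ofNat 40, 43), (.ofNat 40, 51), (.negSucc 39, 52), (.ofNat 20, 53)])])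

/-- a candidate -/
def c118 : ℕ × ℕ × List Step :=
  (47297986560, 44, [(0, 0, .ofNat 81, 0, [(.ofNat 40, 1), (.negSucc 39, 6), (.negSucc 39, 20), (.negSucc 39, 23),
  (.ofNat 41, 26), (.negSucc 39, 41), (.ofNat 40, 43), (.ofNat 40, 51), (.negSucc 39, 52), (.ofNat 20, 53)])])

/-- a candidate -/
def c119 : ℕ × ℕ × List Step :=
  (64497254400, 2, [(0, 0, .ofNat 27, 0, [(.ofNat 9, 1), (.negSucc 8, 6), (.negSucc 8, 8), (.negSucc 8, 20),
  (.negSucc 8, 23), (.ofNat 9, 26), (.ofNat 9, 43), (.ofNat 9, 44), (.negSucc 8, 52), (.ofNat 4, 53), (.negSucc 3,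
  56)])])

/-- candidates -/
def CL3 : List (ℕ × ℕ × List Step) :=
  [c90, c91, c92, c93, c94, c95, c96, c97, c98, c99, c100, c101, c102, c103, c104, c105, c106, c107, c108, c109,
  c110, c111, c112, c113, c114, c115, c116, c117, c118, c119]

theorem okC3 : okL TAB.F22.dat (TAB.Sm2.mkRows TAB.F22.rowA TAB.F22.rowB) 2 P Z CL3 = true := by decide +kernel

/-- a candidate -/
def c120 : ℕ × ℕ × List Step :=
  (64497254400, 4, [(0, 0, .ofNat 27, 0, [(.ofNat 9, 1), (.negSucc 8, 6), (.negSucc 8, 8), (.negSucc 8, 20),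
  (.negSucc 8, 23), (.ofNat 9, 26), (.ofNat 9, 43), (.ofNat 9, 44), (.negSucc 8, 52), (.ofNat 4, 53), (.negSucc 3,
  56)])])

/-- a candidate -/
def c121 : ℕ × ℕ × List Step :=
  (64497254400, 5, [(0, 0, .ofNat 27, 0, [(.ofNat 9, 1), (.negSucc 8, 6), (.negSucc 8, 8), (.negSucc 8, 20),
  (.negSucc 8, 23), (.ofNat 9, 26), (.ofNat 9, 43), (.ofNat 9, 44), (.negSucc 8, 52), (.ofNat 4, 53), (.negSucc 3,
  56)])])

/-- a candidate -/
def c122 : ℕ × ℕ × List Step :=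
  (64497254400, 8, [(0, 0, .ofNat 27, 0, [(.ofNat 9, 1), (.negSucc 8, 6), (.negSucc 8, 8), (.negSucc 8, 20),
  (.negSucc 8, 23), (.ofNat 9, 26), (.ofNat 9, 43), (.ofNat 9, 44), (.negSucc 8, 52), (.ofNat 4, 53), (.negSucc 3,
  56)])])

/-- a candidate -/
def c123 : ℕ × ℕ × List Step :=
  (64497254400, 10, [(0, 0, .ofNat 27, 0, [(.ofNat 9, 1), (.negSucc 8, 6), (.negSucc 8, 8), (.negSucc 8, 20),
  (.negSucc 8, 23), (.ofNat 9, 26), (.ofNat 9, 43), (.ofNat 9, 44), (.negSucc 8, 52), (.ofNat 4, 53), (.negSucc 3,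
  56)])])

/-- a candidate -/
def c124 : ℕ × ℕ × List Step :=
  (64497254400, 20, [(0, 0, .ofNat 27, 0, [(.ofNat 9, 1), (.negSucc 8, 6), (.negSucc 8, 8), (.negSucc 8, 20),
  (.negSucc 8, 23), (.ofNat 9, 26), (.ofNat 9, 43), (.ofNat 9, 44), (.negSucc 8, 52), (.ofNat 4, 53), (.negSucc 3,
  56)])])

/-- a candidate -/
def c125 : ℕ × ℕ × List Step :=
  (64497254400, 25, [(0, 0, .ofNat 81, 0, [(.ofNat 27, 1), (.negSucc 26, 6), (.negSucc 26, 8), (.negSucc 26, 20),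
  (.negSucc 26, 23), (.ofNat 27, 26), (.ofNat 27, 43), (.ofNat 27, 44), (.negSucc 26, 52), (.ofNat 14, 53), (.negSucc
  13, 56)])])

/-- a candidate -/
def c126 : ℕ × ℕ × List Step :=
  (64497254400, 40, [(0, 0, .ofNat 81, 0, [(.ofNat 41, 1), (.negSucc 39, 8), (.negSucc 39, 20), (.negSucc 39, 23),
  (.ofNat 40, 31), (.ofNat 40, 41), (.ofNat 41, 44), (.negSucc 39, 52), (.negSucc 19, 56)])])

/-- a candidate -/
def c127 : ℕ × ℕ × List Step :=
  (64497254400, 50, [(0, 0, .ofNat 81, 0, [(.ofNat 27, 1), (.negSucc 26, 6), (.negSucc 26, 8), (.negSucc 26, 20),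
  (.negSucc 26, 23), (.ofNat 27, 26), (.ofNat 27, 43), (.ofNat 27, 44), (.negSucc 26, 52), (.ofNat 14, 53), (.negSucc
  13, 56)])])

/-- a candidate -/
def c128 : ℕ × ℕ × List Step :=
  (64497254400, 100, [(0, 0, .ofNat 81, 0, [(.ofNat 27, 1), (.negSucc 26, 6), (.negSucc 26, 8), (.negSucc 26, 20),
  (.negSucc 26, 23), (.ofNat 27, 26), (.ofNat 27, 43), (.ofNat 27, 44), (.negSucc 26, 52), (.ofNat 14, 53), (.negSucc
  13, 56)])])

/-- a candidate -/
def c129 : ℕ × ℕ × List Step :=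
  (64497254400, 200, [(0, 0, .ofNat 3, 0, [(.ofNat 2, 1), (.negSucc 1, 8), (.negSucc 1, 20), (.negSucc 1, 23),
  (.ofNat 2, 31), (.ofNat 2, 41), (.ofNat 2, 44), (.negSucc 1, 52), (.negSucc 0, 56)])])

/-- a candidate -/
def c130 : ℕ × ℕ × List Step :=
  (69872025600, 13, [(0, 0, .ofNat 81, 0, [(.ofNat 41, 1), (.negSucc 39, 8), (.negSucc 39, 20), (.negSucc 39, 23),
  (.ofNat 40, 31), (.ofNat 40, 41), (.ofNat 41, 44), (.negSucc 39, 52), (.negSucc 19, 56)])])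

/-- a candidate -/
def c131 : ℕ × ℕ × List Step :=
  (90296156160, 7, [(0, 0, .ofNat 27, 0, [(.negSucc 13, 6), (.negSucc 13, 8), (.ofNat 14, 26), (.negSucc 13, 31),
  (.ofNat 13, 43), (.ofNat 14, 44), (.negSucc 13, 51), (.ofNat 7, 53), (.negSucc 6, 56)])])

/-- a candidate -/
def c132 : ℕ × ℕ × List Step :=
  (90296156160, 14, [(0, 0, .ofNat 27, 0, [(.negSucc 13, 6), (.negSucc 13, 8), (.ofNat 14, 26), (.negSucc 13, 31),
  (.ofNat 13, 43), (.ofNat 14, 44), (.negSucc 13, 51), (.ofNat 7, 53), (.negSucc 6, 56)])])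

/-- a candidate -/
def c133 : ℕ × ℕ × List Step :=
  (90296156160, 21, [(0, 0, .ofNat 27, 0, [(.negSucc 13, 6), (.negSucc 13, 8), (.ofNat 14, 26), (.negSucc 13, 31),
  (.ofNat 13, 43), (.ofNat 14, 44), (.negSucc 13, 51), (.ofNat 7, 53), (.negSucc 6, 56)])])

/-- a candidate -/
def c134 : ℕ × ℕ × List Step :=
  (90296156160, 42, [(0, 0, .ofNat 27, 0, [(.negSucc 13, 6), (.negSucc 13, 8), (.ofNat 14, 26), (.negSucc 13, 31),
  (.ofNat 13, 43), (.ofNat 14, 44), (.negSucc 13, 51), (.ofNat 7, 53), (.negSucc 6, 56)])])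

/-- a candidate -/
def c135 : ℕ × ℕ × List Step :=
  (183414067200, 13, [(0, 0, .ofNat 9, 0, [(.negSucc 8, 8), (.ofNat 9, 41), (.ofNat 9, 44), (.negSucc 8, 51),
  (.negSucc 4, 56)])])

/-- a candidate -/
def c136 : ℕ × ℕ × List Step :=
  (183414067200, 39, [(0, 0, .ofNat 9, 0, [(.negSucc 8, 8), (.ofNat 9, 41), (.ofNat 9, 44), (.negSucc 8, 51),
  (.negSucc 4, 56)])])

/-- a candidate -/
def c137 : ℕ × ℕ × List Step :=
  (183414067200, 117, [(0, 0, .ofNat 9, 0, [(.negSucc 8, 8), (.ofNat 9, 41), (.ofNat 9, 44), (.negSucc 8, 51),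
  (.negSucc 4, 56)])])

/-- a candidate -/
def c138 : ℕ × ℕ × List Step :=
  (225740390400, 15, [(0, 0, .ofNat 81, 0, [(.negSucc 39, 6), (.negSucc 39, 8), (.ofNat 40, 26), (.negSucc 39, 31),
  (.ofNat 40, 43), (.ofNat 40, 44), (.negSucc 39, 51), (.ofNat 20, 53), (.negSucc 19, 56)])])

/-- candidates -/
def CL4 : List (ℕ × ℕ × List Step) :=
  [c120, c121, c122, c123, c124, c125, c126, c127, c128, c129, c130, c131, c132, c133, c134, c135, c136, c137, c138]

theorem okC4 : okL TAB.F22.dat (TAB.Sm2.mkRows TAB.F22.rowA TAB.F22.rowB) 2 P Z CL4 = true := by decide +kernel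

theorem okB : ∀ ld ∈ big, bigE E ld = true :=
  fa_nil

theorem okA : ∀ a ∈ divsT [(13, 1)], allA (leaf E) [(11, 1), (7, 1), (5, 2), (3, 9), (2, 17)] a = true := by
  rw [show divsT [(13, 1)] = [1, 13] by decide +kernel]
  exact fa_cons okA0 <| fa_cons okA1 <| fa_nil

/-- the pairs -/
def pj (L : List (ℕ × ℕ × List Step)) : List (ℕ × ℕ) := L.map fun x => (x.1, x.2.1)

theorem okC : ∀ x ∈ E.SV, ∃ CL, okL TAB.F22.dat (TAB.Sm2.mkRows TAB.F22.rowA TAB.F22.rowB) E.j E.P E.Z CL = true ∧ x ∈ pj CL := by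
  rw [show E.SV = [pj CL0, pj CL1, pj CL2, pj CL3, pj CL4].flatten by decide +kernel]
  exact forall_flatten <| fa_cons (fun _ h => ⟨_, okC0, h⟩) <| fa_cons (fun _ h => ⟨_, okC1, h⟩) <| fa_cons (fun _ h => ⟨_, okC2, h⟩) <| fa_cons (fun _ h => ⟨_, okC3, h⟩) <|
    fa_cons (fun _ h => ⟨_, okC4, h⟩) <| fa_nil

/-- **no configuration** -/
theorem noW {K : Type} [Group K] [Finite K] (h : In K TAB.F22.dat (TAB.Sm2.mkRows TAB.F22.rowA TAB.F22.rowB)) : NoW K 2 :=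
  noW_of (E := E) boxCH h.inC ok1 (H940.Eng.D.ords_fi22 base)
    (fun ld h => ⟨List.mem_append_left _ h, okB ld h⟩) (by decide +kernel) okA okC

end Cfsg.Agent.TH.Spor.NFi22
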