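import Cfsg.Agent.TH.Spor.EngC
import Cfsg.Agent.TH.Spor.CH
import Cfsg.Agent.TAB.F23.Tab

/-!
# S3541, sporadic rows: Fi23 (helper26; generated by notes/TH/spor26/gen.py.txt)
-/

set_option autoImplicit false
set_option Elab.async false

namespace Cfsg.Agent.TH.Spor.NFi23

open Cfsg Cfsg.Agent.TAB.Eng Cfsg.Agent.H940.Eng

/-- the types of prime order -/
def P : St :=
  [(23, [(75, 355606128112435200, 0)]), (17, [(61, 240557086664294400, 0)]), (13, [(55, 104858217263923200, 0)]),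
  (11, [(39, 92942510756659200, 0)]), (7, [(27, 4868417230110720, 0)]), (5, [(12, 162280574337024, 0)]), (3, [(4,
  4328471347200, 0), (5, 108211783680, 0), (6, 2504902400, 0), (7, 297285120, 0)]), (2, [(1, 12839581755, 0), (2,
  55582605, 0), (3, 31671, 0)])]

/-- the types -/
def Z : List Ze :=
  [(1, 2, 12839581755, [1]), (2, 2, 55582605, [2]), (3, 2, 31671, [3]), (4, 3, 4328471347200, [4]), (5, 3,
  108211783680, [5]), (6, 3, 2504902400, [6]), (7, 3, 297285120, [7]), (8, 4, 110933986363200, [1]), (9, 4,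
  44373594545280, [2]), (10, 4, 12325998484800, [1]), (11, 4, 704342770560, [2]), (12, 5, 162280574337024, [12]),
  (13, 6, 116868726374400, [4, 3]), (14, 6, 3155455612108800, [4, 1]), (15, 6, 1051818537369600, [4, 1]), (16, 6,
  788863903027200, [5, 1]), (17, 6, 262954634342400, [5, 2]), (18, 6, 65738658585600, [6, 1]), (19, 6,
  394431951513600, [5, 1]), (20, 6, 98607987878400, [7, 1]), (21, 6, 10956443097600, [6, 2]), (22, 6, 811588377600,
  [6, 3]), (23, 6, 16434664646400, [6, 1]), (24, 6, 26295463434240, [5, 1]), (25, 6, 6573865858560, [7, 2]), (26, 6,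
  104347077120, [7, 3]), (27, 7, 4868417230110720, [27]), (28, 8, 10649662690867200, [1]), (29, 8, 10649662690867200,
  [1]), (30, 8, 10649662690867200, [1]), (31, 9, 25243644896870400, [4]), (32, 9, 701212358246400, [6]), (33, 9,
  701212358246400, [6]), (34, 9, 2804849432985600, [6]), (35, 9, 233737452748800, [6]), (36, 10, 17039460305387520,
  [12, 1]), (37, 10, 17039460305387520, [12, 2]), (38, 10, 3407892061077504, [12, 3]), (39, 11, 92942510756659200,
  [39]), (40, 12, 56798201017958400, [4, 1]), (41, 12, 28399100508979200, [5, 2]), (42, 12, 14199550254489600, [5,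
  1]), (43, 12, 9466366836326400, [5, 2]), (44, 12, 4733183418163200, [5, 1]), (45, 12, 1183295854540800, [7, 1]),
  (46, 12, 3549887563622400, [7, 1]), (47, 12, 18932733672652800, [4, 1]), (48, 12, 14199550254489600, [6, 1]), (49,
  12, 3549887563622400, [6, 1]), (50, 12, 7099775127244800, [7, 2]), (51, 12, 1183295854540800, [6, 1]), (52, 12,
  1577727806054400, [6, 1]), (53, 12, 473318341816320, [7, 2]), (54, 12, 1577727806054400, [6, 2]), (55, 13,
  104858217263923200, [55]), (56, 14, 73026258451660800, [27, 2]), (57, 14, 48684172301107200, [27, 3]), (58, 15,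
  11359640203591680, [12, 7]), (59, 15, 45438560814366720, [12, 5]), (60, 16, 255591904580812800, [1]), (61, 17,
  240557086664294400, [61]), (62, 18, 75730934690611200, [4, 3]), (63, 18, 18932733672652800, [6, 2]), (64, 18,
  18932733672652800, [6, 1]), (65, 18, 12621822448435200, [6, 3]), (66, 18, 18932733672652800, [6, 2]), (67, 18,
  6310911224217600, [6, 3]), (68, 18, 75730934690611200, [6, 1]), (69, 18, 18932733672652800, [6, 1]), (70, 20,
  102236761832325120, [12, 2]), (71, 20, 34078920610775040, [12, 2]), (72, 21, 97368344602214400, [27, 7]), (73, 22,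
  92942510756659200, [39, 2]), (74, 22, 185885021513318400, [39, 3]), (75, 23, 355606128112435200, [75]), (76, 24,
  85197301526937600, [7, 1]), (77, 24, 85197301526937600, [7, 1]), (78, 24, 85197301526937600, [6, 1]), (79, 26,
  314574651791769600, [55, 3]), (80, 27, 151461869381222400, [6]), (81, 28, 146052516903321600, [27, 2]), (82, 30,
  34078920610775040, [12, 7, 2]), (83, 30, 68157841221550080, [12, 7, 3]), (84, 30, 136315682443100160, [12, 5, 1]),
  (85, 35, 116842013522657280, [27, 12]), (86, 36, 113596402035916800, [6, 2]), (87, 36, 113596402035916800, [6, 1]),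
  (88, 39, 209716434527846400, [55, 7]), (89, 42, 97368344602214400, [27, 7, 3]), (90, 60, 68157841221550080, [12, 7,
  2]), (91, 6, 14608590796800, [5, 3])]

/-- local data, large primes -/
def big : List LD :=
  [⟨23, 23, [(11, 1), (23, 1)]⟩, ⟨17, 17, [(2, 4), (17, 1)]⟩]

/-- local data, the other primes -/
def sm : List LD :=
  [⟨13, 468, [(2, 2), (3, 2), (13, 1)]⟩, ⟨11, 88, [(2, 3), (5, 1), (11, 1)]⟩, ⟨7, 5040, [(2, 4), (3, 2), (5, 1), (7,
  1)]⟩]

/-- the candidates -/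
def SV : List (ℕ × ℕ) :=
  [(69632, 17), (262144, 2), (262144, 4), (3188646, 3), (3188646, 9), (3188646, 27), (12754584, 3), (49128768, 13),
  (51018336, 3), (51757056, 13), (68812800, 35), (70858800, 5), (83980800, 5), (99532800, 5), (159432300, 5),
  (188956800, 5), (191102976, 2), (191102976, 4), (204073344, 3), (204073344, 9), (223948800, 5), (248005800, 35),
  (265420800, 5), (276037632, 13), (276037632, 26), (276037632, 52), (276037632, 104), (425152800, 5), (503884800,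
  5), (573308928, 2), (597196800, 5), (783820800, 35), (816293376, 3), (1002700800, 85), (1002700800, 170),
  (1002700800, 340), (1133740800, 5), (1326476736, 13), (1343692800, 5), (1397440512, 13), (1592524800, 5),
  (1592524800, 10), (1719926784, 2), (1719926784, 4), (2550916800, 5), (3023308800, 5), (3265173504, 3), (3583180800,
  5), (5159780352, 2), (6802444800, 5), (7453016064, 13), (7453016064, 26), (8062156800, 5), (8928208800, 35),
  (8928208800, 105), (8928208800, 315), (13060694016, 3), (13060694016, 9), (15479341056, 2), (15479341056, 4),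
  (15527116800, 65), (18139852800, 5), (21499084800, 5), (28217548800, 35), (37730893824, 13), (40814668800, 5),
  (46438023168, 2), (48372940800, 5), (52242776064, 3), (78606028800, 65), (108839116800, 5), (128994508800, 5),
  (128994508800, 10), (130606940160, 2187), (139314069504, 2), (139314069504, 4), (201231433728, 13), (201231433728,
  26), (201231433728, 52), (201231433728, 104), (201231433728, 208), (208971104256, 3), (290237644800, 5),
  (417942208512, 2), (653034700800, 5), (1015831756800, 35), (1741425868800, 5), (5433248710656, 13), (5433248710656,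
  26), (8126654054400, 28), (8126654054400, 56), (8126654054400, 112), (10448555212800, 5), (10448555212800, 10),
  (36569943244800, 7), (36569943244800, 21), (36569943244800, 35), (36569943244800, 63), (36569943244800, 105),
  (36569943244800, 175), (36569943244800, 225), (36569943244800, 315), (36569943244800, 525), (36569943244800, 1575),
  (190163704872960, 672), (190163704872960, 768), (190163704872960, 896), (190163704872960, 1024), (190163704872960,
  1344), (190163704872960, 1536), (190163704872960, 1792), (190163704872960, 2688), (190163704872960, 3072),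
  (190163704872960, 3584), (190163704872960, 5376), (190163704872960, 7168), (190163704872960, 10752)]

/-- the data -/
def E : En :=
  ⟨4089470473293004800, 2, P, Z, [(23, 1), (17, 1), (13, 1), (11, 1), (7, 1), (5, 2), (3, 13), (2, 18)],
  H940.Eng.D.o_fi23, big ++ sm, SV⟩

theorem ok1 : okEn TAB.F23.D TAB.F23.R [] E = true := by decide +kernel

theorem okA0 : allA (leaf E) [(11, 1), (7, 1), (5, 2), (3, 13), (2, 18)] 1 = true := by decide +kernel

theorem okA1 : allA (leaf E) [(11, 1), (7, 1), (5, 2), (3, 13), (2, 18)] 13 = true := by decide +kernel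

theorem okB23 : bigE E ⟨23, 23, [(11, 1), (23, 1)]⟩ = true := by
  decide +kernel

theorem okB17 : bigE E ⟨17, 17, [(2, 4), (17, 1)]⟩ = true := by
  decide +kernel

/-- a candidate -/
def c0 : ℕ × ℕ × List Step :=
  (69632, 17, [(0, 0, .ofNat 0, 0, [(.negSucc 0, 53)])])

/-- a candidate -/
def c1 : ℕ × ℕ × List Step :=
  (262144, 2, [(0, 0, .ofNat 0, 0, [(.negSucc 0, 91)])])

/-- a candidate -/
def c2 : ℕ × ℕ × List Step :=
  (262144, 4, [(0, 0, .ofNat 0, 0, [(.negSucc 0, 91)])])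

/-- a candidate -/
def c3 : ℕ × ℕ × List Step :=
  (3188646, 3, [(0, 0, .ofNat 0, 0, [(.negSucc 0, 81)])])

/-- a candidate -/
def c4 : ℕ × ℕ × List Step :=
  (3188646, 9, [(0, 0, .ofNat 0, 0, [(.negSucc 0, 81)])])

/-- a candidate -/
def c5 : ℕ × ℕ × List Step :=
  (3188646, 27, [(0, 0, .ofNat 0, 0, [(.negSucc 0, 71), (.negSucc 0, 82)])])

/-- a candidate -/
def c6 : ℕ × ℕ × List Step :=
  (12754584, 3, [(0, 0, .ofNat 0, 0, [(.negSucc 0, 81)])])

/-- a candidate -/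
def c7 : ℕ × ℕ × List Step :=
  (49128768, 13, [(0, 0, .ofNat 0, 0, [(.negSucc 0, 55), (.negSucc 0, 56), (.negSucc 0, 67), (.negSucc 0, 68),
  (.negSucc 2, 91)])])

/-- a candidate -/
def c8 : ℕ × ℕ × List Step :=
  (51018336, 3, [(0, 0, .ofNat 0, 0, [(.negSucc 58, 5), (.negSucc 27, 22), (.negSucc 52, 25), (.ofNat 7, 31),
  (.negSucc 14, 48), (.negSucc 13, 55), (.negSucc 46, 58), (.negSucc 249, 60), (.negSucc 39, 63), (.negSucc 129, 64),
  (.negSucc 36, 66), (.negSucc 38, 68), (.negSucc 342, 71), (.negSucc 22, 75), (.negSucc 48, 76), (.negSucc 728, 82),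
  (.negSucc 128, 83), (.negSucc 46, 84), (.negSucc 131, 85), (.ofNat 7, 86)])])

/-- a candidate -/
def c9 : ℕ × ℕ × List Step :=
  (51757056, 13, [(0, 0, .ofNat 0, 0, [(.negSucc 19, 63), (.negSucc 14, 67), (.negSucc 12, 68), (.negSucc 3, 74),
  (.negSucc 0, 76), (.negSucc 0, 82), (.negSucc 26, 91)])])

/-- a candidate -/
def c10 : ℕ × ℕ × List Step :=
  (68812800, 35, [(0, 0, .ofNat 0, 0, [(.negSucc 2186, 63), (.negSucc 176, 65), (.negSucc 708, 67), (.negSucc 531,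
  68), (.negSucc 531, 70), (.negSucc 353, 74), (.negSucc 531, 84), (.negSucc 621, 85), (.negSucc 1912, 91)])])

/-- a candidate -/
def c11 : ℕ × ℕ × List Step :=
  (70858800, 5, [(0, 0, .ofNat 0, 0, [(.negSucc 9, 59), (.negSucc 80, 63), (.negSucc 29, 76), (.negSucc 66, 79),
  (.negSucc 19, 82), (.negSucc 53, 84), (.negSucc 64, 85)])])

/-- a candidate -/
def c12 : ℕ × ℕ × List Step :=
  (83980800, 5, [(0, 0, .ofNat 0, 0, [(.negSucc 9, 59), (.negSucc 80, 63), (.negSucc 29, 76), (.negSucc 66, 79),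
  (.negSucc 19, 82), (.negSucc 53, 84), (.negSucc 64, 85)])])

/-- a candidate -/
def c13 : ℕ × ℕ × List Step :=
  (99532800, 5, [(0, 0, .ofNat 0, 0, [(.negSucc 8, 63), (.negSucc 0, 74), (.negSucc 2, 76), (.negSucc 5, 79),
  (.negSucc 2, 82), (.negSucc 4, 84), (.negSucc 7, 85)])])

/-- a candidate -/
def c14 : ℕ × ℕ × List Step :=
  (159432300, 5, [(0, 0, .ofNat 0, 0, [(.negSucc 9, 59), (.negSucc 80, 63), (.negSucc 29, 76), (.negSucc 66, 79),
  (.negSucc 19, 82), (.negSucc 53, 84), (.negSucc 64, 85)])])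

/-- a candidate -/
def c15 : ℕ × ℕ × List Step :=
  (188956800, 5, [(0, 0, .ofNat 0, 0, [(.negSucc 0, 59), (.negSucc 0, 60), (.negSucc 8, 63), (.negSucc 3, 67),
  (.negSucc 1, 68), (.negSucc 2, 70), (.negSucc 0, 74), (.negSucc 1, 84), (.negSucc 2, 85), (.negSucc 8, 91)])])

/-- a candidate -/
def c16 : ℕ × ℕ × List Step :=
  (191102976, 2, [(0, 0, .ofNat 0, 0, [(.negSucc 45, 24), (.negSucc 48, 52), (.negSucc 30, 56), (.negSucc 8, 60),
  (.negSucc 73, 63), (.negSucc 107, 67), (.negSucc 80, 68), (.negSucc 17, 70), (.negSucc 117, 76), (.negSucc 8, 82),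
  (.negSucc 11, 85), (.negSucc 242, 91)])])

/-- a candidate -/
def c17 : ℕ × ℕ × List Step :=
  (191102976, 4, [(0, 0, .ofNat 0, 0, [(.negSucc 0, 55), (.negSucc 0, 56), (.negSucc 0, 67), (.negSucc 0, 68),
  (.negSucc 2, 91)])])

/-- a candidate -/
def c18 : ℕ × ℕ × List Step :=
  (204073344, 3, [(0, 0, .ofNat 0, 0, [(.negSucc 175, 5), (.negSucc 84, 22), (.negSucc 159, 25), (.ofNat 21, 31),
  (.negSucc 43, 48), (.negSucc 42, 55), (.negSucc 140, 58), (.negSucc 748, 60), (.negSucc 118, 63), (.negSucc 390,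
  64), (.negSucc 110, 66), (.negSucc 117, 68), (.negSucc 1029, 71), (.negSucc 68, 75), (.negSucc 145, 76), (.negSucc
  2186, 82), (.negSucc 385, 83), (.negSucc 141, 84), (.negSucc 395, 85), (.ofNat 21, 86)])])

/-- a candidate -/
def c19 : ℕ × ℕ × List Step :=
  (204073344, 9, [(0, 0, .ofNat 0, 0, [(.negSucc 713, 5), (.negSucc 456, 22), (.negSucc 245, 23), (.negSucc 356, 25),
  (.negSucc 418, 28), (.negSucc 603, 48), (.negSucc 2043, 60), (.negSucc 826, 64), (.negSucc 356, 66), (.negSucc 456,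
  68), (.negSucc 3148, 71), (.negSucc 713, 76), (.negSucc 6560, 82), (.negSucc 859, 83), (.negSucc 702, 84),
  (.negSucc 996, 85)])])

/-- a candidate -/
def c20 : ℕ × ℕ × List Step :=
  (223948800, 5, [(0, 0, .ofNat 0, 0, [(.negSucc 26, 63), (.negSucc 1, 74), (.negSucc 8, 76), (.negSucc 16, 79),
  (.negSucc 8, 82), (.negSucc 14, 84), (.negSucc 22, 85)])])

/-- a candidate -/
def c21 : ℕ × ℕ × List Step :=
  (248005800, 35, [(0, 0, .ofNat 0, 0, [(.negSucc 50, 39), (.negSucc 79, 51), (.negSucc 44, 58), (.negSucc 60, 60),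
  (.negSucc 0, 63), (.negSucc 40, 67), (.negSucc 16, 70), (.negSucc 81, 71), (.negSucc 1, 72), (.negSucc 16, 76),
  (.negSucc 67, 80), (.negSucc 50, 81), (.negSucc 242, 82), (.negSucc 209, 85), (.negSucc 27, 90)])])

/-- a candidate -/
def c22 : ℕ × ℕ × List Step :=
  (265420800, 5, [(0, 0, .ofNat 0, 0, [(.negSucc 80, 63), (.negSucc 6, 74), (.negSucc 27, 76), (.negSucc 51, 79),
  (.negSucc 27, 82), (.negSucc 45, 84), (.negSucc 69, 85)])])

/-- a candidate -/
def c23 : ℕ × ℕ × List Step :=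
  (276037632, 13, [(0, 0, .ofNat 0, 0, [(.negSucc 271, 48), (.negSucc 368, 51), (.negSucc 168, 58), (.negSucc 358,
  60), (.negSucc 1440, 71), (.negSucc 30, 72), (.negSucc 30, 79), (.negSucc 2186, 82), (.negSucc 66, 84), (.negSucc
  1327, 85), (.negSucc 117, 90)])])

/-- a candidate -/
def c24 : ℕ × ℕ × List Step :=
  (276037632, 26, [(0, 0, .ofNat 0, 0, [(.negSucc 5291, 5), (.negSucc 571, 37), (.negSucc 2907, 38), (.negSucc 1144,
  48), (.negSucc 66, 49), (.negSucc 2272, 54), (.negSucc 1238, 55), (.negSucc 120, 60), (.negSucc 2334, 61),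
  (.negSucc 1259, 67), (.negSucc 890, 68), (.negSucc 3666, 69), (.negSucc 3213, 70), (.negSucc 5832, 71), (.negSucc
  3736, 72), (.negSucc 96, 73), (.negSucc 2077, 74), (.negSucc 3939, 76), (.negSucc 1832, 77), (.negSucc 180, 78),
  (.negSucc 1002, 79), (.negSucc 4048, 80), (.negSucc 6560, 82), (.negSucc 6504, 83), (.negSucc 3604, 85), (.negSucc
  2078, 90), (.negSucc 416, 91)])])

/-- a candidate -/
def c25 : ℕ × ℕ × List Step :=
  (276037632, 52, [(0, 0, .ofNat 0, 0, [(.negSucc 223, 5), (.negSucc 11, 37), (.negSucc 134, 38), (.negSucc 44, 48),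
  (.negSucc 16, 56), (.negSucc 6, 63), (.negSucc 36, 68), (.negSucc 62, 69), (.negSucc 48, 70), (.negSucc 172, 71),
  (.negSucc 82, 72), (.negSucc 57, 73), (.negSucc 56, 74), (.negSucc 183, 76), (.negSucc 84, 77), (.negSucc 6, 78),
  (.negSucc 85, 80), (.negSucc 242, 82), (.negSucc 117, 83), (.negSucc 31, 90), (.negSucc 35, 91)])])

/-- a candidate -/
def c26 : ℕ × ℕ × List Step :=
  (276037632, 104, [(0, 0, .negSucc 1755, 0, [(.ofNat 449, 2), (.negSucc 878, 21), (.ofNat 207, 30), (.ofNat 482,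
  31), (.ofNat 594, 33), (.negSucc 242, 37), (.negSucc 375, 42), (.negSucc 346, 45), (.ofNat 594, 46), (.negSucc 632,
  48), (.negSucc 320, 55), (.negSucc 1055, 56), (.negSucc 1362, 67), (.negSucc 1679, 68), (.negSucc 39, 69),
  (.negSucc 867, 71), (.negSucc 1996, 72), (.negSucc 1042, 73), (.negSucc 794, 74), (.negSucc 385, 75), (.negSucc
  1215, 76), (.negSucc 1427, 77), (.negSucc 1673, 80), (.negSucc 981, 82), (.ofNat 233, 86), (.negSucc 76, 89),
  (.negSucc 328, 90), (.negSucc 2186, 91)])])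

/-- a candidate -/
def c27 : ℕ × ℕ × List Step :=
  (425152800, 5, [(0, 0, .ofNat 40, 0, [(.negSucc 18, 59), (.negSucc 39, 60), (.negSucc 60, 63), (.negSucc 39, 67),
  (.negSucc 39, 70), (.negSucc 0, 74), (.negSucc 19, 82), (.negSucc 79, 85), (.negSucc 80, 91)])])

/-- a candidate -/
def c28 : ℕ × ℕ × List Step :=
  (503884800, 5, [(0, 0, .ofNat 0, 0, [(.negSucc 194, 51), (.ofNat 70, 52), (.negSucc 140, 58), (.negSucc 422, 60),
  (.negSucc 36, 67), (.negSucc 221, 70), (.negSucc 219, 71), (.negSucc 3, 76), (.negSucc 5, 77), (.negSucc 11, 78),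
  (.negSucc 75, 79), (.negSucc 195, 81), (.negSucc 728, 82), (.negSucc 36, 84), (.negSucc 487, 85), (.negSucc 67,
  90), (.negSucc 16, 91)])])

/-- a candidate -/
def c29 : ℕ × ℕ × List Step :=
  (573308928, 2, [(0, 0, .ofNat 0, 0, [(.negSucc 26, 5), (.ofNat 10, 14), (.negSucc 3, 33), (.ofNat 3, 36), (.ofNat
  12, 45), (.negSucc 1, 63), (.negSucc 6, 67), (.negSucc 6, 70), (.negSucc 19, 76), (.negSucc 14, 82)])])

/-- candidates -/
def CL0 : List (ℕ × ℕ × List Step) :=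
  [c0, c1, c2, c3, c4, c5, c6, c7, c8, c9, c10, c11, c12, c13, c14, c15, c16, c17, c18, c19, c20, c21, c22, c23, c24,
  c25, c26, c27, c28, c29]

theorem okC0 : okL TAB.F23.D TAB.F23.R 2 P Z CL0 = true := by decide +kernel

/-- a candidate -/
def c30 : ℕ × ℕ × List Step :=
  (597196800, 5, [(0, 0, .ofNat 0, 0, [(.negSucc 70, 22), (.negSucc 20, 37), (.negSucc 2, 40), (.negSucc 35, 49),
  (.negSucc 20, 50), (.negSucc 261, 51), (.negSucc 35, 56), (.negSucc 260, 58), (.negSucc 349, 60), (.negSucc 30,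
  63), (.negSucc 2, 67), (.negSucc 209, 71), (.negSucc 62, 74), (.negSucc 8, 76), (.negSucc 58, 78), (.negSucc 198,
  80), (.negSucc 362, 81), (.negSucc 728, 82), (.negSucc 610, 85), (.negSucc 132, 90)])])

/-- a candidate -/
def c31 : ℕ × ℕ × List Step :=
  (783820800, 35, [(0, 0, .ofNat 0, 0, [(.ofNat 94, 2), (.ofNat 712, 15), (.negSucc 93, 24), (.ofNat 711, 31),
  (.ofNat 248, 32), (.ofNat 11, 34), (.negSucc 75, 35), (.negSucc 527, 47), (.negSucc 1113, 50), (.negSucc 1280, 54),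
  (.negSucc 846, 55), (.negSucc 1253, 56), (.negSucc 717, 58), (.negSucc 535, 60), (.negSucc 863, 62), (.negSucc 8,
  63), (.negSucc 922, 67), (.negSucc 355, 68), (.negSucc 1745, 69), (.negSucc 1642, 70), (.negSucc 1245, 71),
  (.negSucc 2186, 72), (.negSucc 918, 73), (.negSucc 1257, 74), (.negSucc 1905, 76), (.negSucc 1494, 77), (.negSucc
  1085, 78), (.negSucc 962, 79), (.negSucc 1755, 81), (.negSucc 2028, 82), (.negSucc 1889, 84), (.negSucc 927, 85),
  (.negSucc 909, 89), (.negSucc 1329, 90), (.negSucc 2009, 91)])])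

/-- a candidate -/
def c32 : ℕ × ℕ × List Step :=
  (816293376, 3, [(0, 0, .ofNat 0, 0, [(.negSucc 202, 5), (.negSucc 118, 22), (.negSucc 622, 25), (.negSucc 91, 28),
  (.ofNat 177, 31), (.negSucc 177, 55), (.negSucc 602, 58), (.negSucc 2465, 60), (.negSucc 489, 63), (.negSucc 1182,
  64), (.negSucc 189, 66), (.negSucc 320, 68), (.negSucc 2, 69), (.negSucc 2867, 71), (.negSucc 101, 75), (.negSucc
  287, 76), (.negSucc 6560, 82), (.negSucc 1336, 83), (.negSucc 255, 84), (.negSucc 1140, 85), (.ofNat 204, 86)])])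

/-- a candidate -/
def c33 : ℕ × ℕ × List Step :=
  (1002700800, 85, [(0, 0, .ofNat 722, 0, [(.negSucc 1121, 5), (.negSucc 285, 8), (.negSucc 13, 12), (.negSucc 219,
  18), (.negSucc 266, 20), (.negSucc 70, 24), (.negSucc 202, 35), (.negSucc 509, 38), (.negSucc 14, 47), (.negSucc
  109, 48), (.negSucc 41, 56), (.negSucc 1, 57), (.negSucc 291, 58), (.negSucc 1013, 60), (.negSucc 251, 61),
  (.negSucc 353, 63), (.negSucc 474, 67), (.negSucc 91, 68), (.negSucc 232, 69), (.negSucc 1892, 70), (.negSucc 739,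
  71), (.negSucc 868, 72), (.negSucc 518, 74), (.negSucc 200, 75), (.negSucc 783, 76), (.negSucc 424, 77), (.negSucc
  377, 78), (.negSucc 276, 80), (.negSucc 790, 81), (.negSucc 2186, 82), (.negSucc 251, 83), (.negSucc 1378, 84),
  (.negSucc 1417, 85), (.negSucc 70, 86), (.negSucc 531, 89), (.negSucc 374, 90)])])

/-- a candidate -/
def c34 : ℕ × ℕ × List Step :=
  (1002700800, 170, [(0, 0, .ofNat 873, 0, [(.negSucc 1401, 5), (.negSucc 46, 12), (.negSucc 102, 20), (.negSucc 208,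
  22), (.negSucc 255, 31), (.ofNat 43, 32), (.negSucc 528, 35), (.negSucc 849, 38), (.negSucc 177, 42), (.negSucc
  501, 45), (.negSucc 23, 46), (.negSucc 464, 48), (.negSucc 146, 57), (.negSucc 1022, 60), (.negSucc 349, 61),
  (.negSucc 609, 63), (.negSucc 149, 65), (.negSucc 1049, 67), (.negSucc 124, 69), (.negSucc 1492, 70), (.negSucc
  1046, 71), (.negSucc 766, 72), (.negSucc 161, 73), (.negSucc 468, 74), (.negSucc 380, 75), (.negSucc 239, 76),
  (.negSucc 728, 77), (.negSucc 773, 78), (.negSucc 268, 79), (.negSucc 797, 80), (.negSucc 359, 81), (.negSucc 2186,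
  82), (.negSucc 987, 83), (.negSucc 1352, 84), (.negSucc 1480, 85), (.negSucc 217, 87), (.negSucc 413, 89),
  (.negSucc 505, 90), (.negSucc 249, 91)])])

/-- a candidate -/
def c35 : ℕ × ℕ × List Step :=
  (1002700800, 340, [(0, 0, .ofNat 826, 0, [(.negSucc 1595, 5), (.ofNat 184, 14), (.negSucc 186, 20), (.negSucc 165,
  22), (.negSucc 393, 31), (.negSucc 72, 33), (.negSucc 353, 35), (.negSucc 962, 38), (.negSucc 175, 42), (.negSucc
  352, 45), (.negSucc 108, 48), (.negSucc 58, 52), (.negSucc 54, 57), (.negSucc 1400, 60), (.negSucc 429, 63),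
  (.negSucc 977, 67), (.negSucc 16, 68), (.negSucc 1359, 70), (.negSucc 804, 71), (.negSucc 722, 72), (.negSucc 167,
  73), (.negSucc 313, 74), (.negSucc 233, 75), (.negSucc 250, 76), (.negSucc 607, 77), (.negSucc 407, 78), (.negSucc
  139, 79), (.negSucc 595, 80), (.negSucc 322, 81), (.negSucc 2186, 82), (.negSucc 905, 83), (.negSucc 1272, 84),
  (.negSucc 1255, 85), (.negSucc 233, 87), (.negSucc 449, 89), (.negSucc 403, 90), (.negSucc 261, 91)])])

/-- a candidate -/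
def c36 : ℕ × ℕ × List Step :=
  (1133740800, 5, [(0, 0, .ofNat 1639, 0, [(.negSucc 469, 5), (.ofNat 689, 6), (.negSucc 126, 22), (.negSucc 102,
  30), (.negSucc 61, 39), (.negSucc 245, 50), (.negSucc 1005, 51), (.ofNat 41, 52), (.negSucc 394, 53), (.negSucc 84,
  58), (.negSucc 367, 60), (.negSucc 695, 67), (.negSucc 361, 70), (.negSucc 297, 71), (.negSucc 236, 74), (.negSucc
  471, 77), (.negSucc 3, 78), (.negSucc 588, 80), (.negSucc 389, 81), (.negSucc 2186, 82), (.negSucc 285, 84),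
  (.negSucc 1803, 85), (.negSucc 283, 90)])])

/-- a candidate -/
def c37 : ℕ × ℕ × List Step :=
  (1326476736, 13, [(0, 0, .ofNat 389, 0, [(.ofNat 125, 1), (.ofNat 21, 2), (.negSucc 728, 5), (.ofNat 48, 14),
  (.negSucc 23, 20), (.negSucc 433, 21), (.negSucc 54, 36), (.negSucc 105, 38), (.ofNat 139, 45), (.negSucc 19, 48),
  (.negSucc 19, 52), (.negSucc 124, 53), (.negSucc 11, 54), (.negSucc 423, 60), (.negSucc 4, 62), (.negSucc 121, 63),
  (.negSucc 98, 66), (.negSucc 118, 67), (.negSucc 294, 70), (.negSucc 221, 71), (.negSucc 220, 76), (.negSucc 186,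
  77), (.negSucc 108, 80), (.negSucc 621, 82), (.negSucc 554, 83), (.negSucc 253, 84), (.negSucc 71, 85), (.negSucc
  99, 90)])])

/-- a candidate -/
def c38 : ℕ × ℕ × List Step :=
  (1343692800, 5, [(0, 0, .ofNat 243, 0, [(.ofNat 36, 6), (.negSucc 11, 22), (.ofNat 150, 28), (.ofNat 79, 31),
  (.ofNat 24, 34), (.negSucc 45, 50), (.negSucc 116, 51), (.negSucc 46, 53), (.negSucc 43, 58), (.negSucc 43, 60),
  (.negSucc 12, 67), (.negSucc 21, 69), (.negSucc 1, 73), (.negSucc 19, 74), (.negSucc 19, 77), (.negSucc 36, 81),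
  (.negSucc 125, 82), (.negSucc 12, 84), (.negSucc 28, 85), (.ofNat 6, 86), (.negSucc 22, 90)])])

/-- a candidate -/
def c39 : ℕ × ℕ × List Step :=
  (1397440512, 13, [(0, 0, .ofNat 6561, 0, [(.ofNat 1661, 1), (.ofNat 649, 6), (.ofNat 975, 14), (.ofNat 2702, 15),
  (.ofNat 1758, 16), (.negSucc 3881, 21), (.negSucc 2014, 22), (.negSucc 465, 27), (.ofNat 920, 30), (.ofNat 1973,
  31), (.ofNat 1360, 33), (.negSucc 1038, 37), (.negSucc 1161, 38), (.negSucc 2814, 42), (.ofNat 782, 45), (.ofNat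
  1857, 46), (.ofNat 86, 51), (.negSucc 44, 54), (.negSucc 945, 55), (.negSucc 2995, 60), (.negSucc 231, 63), (.ofNat
  214, 66), (.negSucc 598, 67), (.negSucc 545, 68), (.negSucc 105, 69), (.negSucc 4998, 70), (.negSucc 1166, 71),
  (.negSucc 4689, 72), (.negSucc 849, 73), (.negSucc 223, 74), (.negSucc 1639, 77), (.negSucc 3350, 82), (.negSucc
  3799, 83), (.negSucc 1120, 89), (.negSucc 1486, 90), (.negSucc 1472, 91)])])

/-- a candidate -/
def c40 : ℕ × ℕ × List Step :=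
  (1592524800, 5, [(0, 0, .ofNat 729, 0, [(.negSucc 62, 5), (.ofNat 71, 6), (.ofNat 245, 28), (.negSucc 121, 30),
  (.ofNat 108, 31), (.ofNat 171, 34), (.negSucc 7, 36), (.negSucc 223, 50), (.negSucc 368, 51), (.ofNat 68, 52),
  (.negSucc 66, 53), (.negSucc 66, 60), (.negSucc 66, 67), (.negSucc 53, 69), (.negSucc 63, 77), (.negSucc 361, 82),
  (.negSucc 49, 84), (.ofNat 34, 86)])])

/-- a candidate -/
def c41 : ℕ × ℕ × List Step :=
  (1592524800, 10, [(0, 0, .ofNat 1626, 0, [(.ofNat 37, 2), (.negSucc 1713, 5), (.ofNat 57, 6), (.negSucc 267, 12),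
  (.ofNat 39, 14), (.negSucc 278, 20), (.negSucc 174, 22), (.ofNat 274, 31), (.ofNat 457, 32), (.negSucc 173, 35),
  (.ofNat 236, 37), (.negSucc 813, 38), (.negSucc 210, 47), (.negSucc 84, 58), (.negSucc 1380, 60), (.negSucc 396,
  63), (.negSucc 831, 67), (.negSucc 320, 69), (.negSucc 1020, 70), (.negSucc 788, 71), (.negSucc 1184, 72),
  (.negSucc 1, 73), (.negSucc 211, 74), (.negSucc 440, 76), (.negSucc 375, 77), (.negSucc 520, 78), (.negSucc 476,
  80), (.negSucc 2186, 82), (.negSucc 584, 83), (.negSucc 1285, 84), (.negSucc 168, 85), (.negSucc 45, 87), (.negSucc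
  80, 89), (.negSucc 507, 90)])])

/-- a candidate -/
def c42 : ℕ × ℕ × List Step :=
  (1719926784, 2, [(0, 0, .ofNat 0, 0, [(.ofNat 273, 1), (.ofNat 255, 2), (.negSucc 526, 5), (.ofNat 126, 6), (.ofNat
  194, 11), (.negSucc 217, 12), (.ofNat 385, 15), (.negSucc 229, 20), (.negSucc 722, 21), (.negSucc 352, 25), (.ofNat
  440, 31), (.ofNat 320, 34), (.negSucc 327, 38), (.ofNat 330, 39), (.ofNat 435, 45), (.negSucc 212, 51), (.negSucc
  677, 53), (.negSucc 98, 54), (.negSucc 239, 55), (.negSucc 81, 61), (.negSucc 650, 70), (.negSucc 176, 71),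
  (.negSucc 328, 72), (.negSucc 145, 74), (.negSucc 333, 76), (.negSucc 62, 77), (.negSucc 24, 78), (.negSucc 524,
  82), (.negSucc 728, 83), (.negSucc 61, 85), (.ofNat 346, 86), (.negSucc 322, 88), (.negSucc 268, 90)])])

/-- a candidate -/
def c43 : ℕ × ℕ × List Step :=
  (1719926784, 4, [(0, 0, .ofNat 243, 0, [(.ofNat 76, 1), (.ofNat 5, 2), (.negSucc 174, 5), (.ofNat 50, 6), (.ofNat
  18, 11), (.negSucc 10, 12), (.ofNat 50, 14), (.ofNat 33, 15), (.negSucc 46, 21), (.negSucc 38, 22), (.negSucc 3,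
  25), (.ofNat 37, 31), (.negSucc 75, 38), (.ofNat 23, 39), (.ofNat 21, 44), (.ofNat 70, 45), (.negSucc 10, 53),
  (.negSucc 7, 55), (.negSucc 74, 60), (.negSucc 12, 67), (.negSucc 133, 70), (.negSucc 60, 71), (.negSucc 54, 72),
  (.negSucc 20, 73), (.negSucc 86, 76), (.negSucc 41, 77), (.negSucc 32, 80), (.negSucc 149, 82), (.negSucc 65, 83),
  (.negSucc 17, 90)])])

/-- a candidate -/
def c44 : ℕ × ℕ × List Step :=
  (2550916800, 5, [(0, 0, .ofNat 243, 0, [(.ofNat 21, 2), (.negSucc 36, 5), (.ofNat 42, 6), (.ofNat 104, 28),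
  (.negSucc 40, 30), (.ofNat 6, 31), (.ofNat 57, 34), (.negSucc 4, 36), (.negSucc 32, 50), (.negSucc 127, 51),
  (.ofNat 41, 52), (.negSucc 8, 53), (.negSucc 2, 60), (.negSucc 23, 67), (.negSucc 5, 75), (.negSucc 77, 82),
  (.ofNat 25, 86), (.negSucc 0, 90)])])

/-- a candidate -/
def c45 : ℕ × ℕ × List Step :=
  (3023308800, 5, [(0, 0, .ofNat 6561, 0, [(.ofNat 1320, 1), (.ofNat 807, 2), (.ofNat 1548, 6), (.negSucc 328, 11),
  (.ofNat 1974, 14), (.ofNat 191, 15), (.ofNat 649, 16), (.ofNat 439, 17), (.ofNat 1176, 19), (.ofNat 614, 21),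
  (.ofNat 800, 23), (.ofNat 1429, 28), (.ofNat 3066, 31), (.ofNat 468, 34), (.negSucc 682, 35), (.ofNat 772, 37),
  (.negSucc 863, 38), (.negSucc 153, 45), (.negSucc 2509, 48), (.negSucc 777, 55), (.negSucc 1959, 58), (.negSucc
  248, 59), (.negSucc 3394, 60), (.negSucc 2937, 62), (.negSucc 1887, 63), (.ofNat 1771, 65), (.negSucc 557, 67),
  (.negSucc 812, 69), (.negSucc 5481, 70), (.negSucc 3747, 72), (.negSucc 1199, 73), (.negSucc 376, 74), (.negSucc
  1911, 77), (.negSucc 531, 78), (.negSucc 2058, 80), (.negSucc 1024, 81), (.negSucc 3313, 82), (.negSucc 3025, 84),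
  (.negSucc 6, 87), (.negSucc 2298, 89), (.negSucc 813, 90), (.negSucc 368, 91)])])

/-- a candidate -/
def c46 : ℕ × ℕ × List Step :=
  (3265173504, 3, [(0, 0, .ofNat 2187, 0, [(.ofNat 188, 4), (.ofNat 328, 11), (.negSucc 32, 13), (.ofNat 109, 17),
  (.ofNat 578, 18), (.negSucc 102, 19), (.negSucc 290, 22), (.negSucc 193, 25), (.negSucc 441, 28), (.ofNat 335, 34),
  (.negSucc 124, 36), (.ofNat 33, 39), (.ofNat 213, 45), (.negSucc 135, 50), (.negSucc 303, 54), (.negSucc 192, 55),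
  (.ofNat 311, 56), (.negSucc 307, 58), (.negSucc 21, 65), (.ofNat 261, 69), (.negSucc 141, 78), (.ofNat 283, 79),
  (.negSucc 53, 80), (.negSucc 182, 82), (.ofNat 368, 86), (.negSucc 68, 88)])])

/-- a candidate -/
def c47 : ℕ × ℕ × List Step :=
  (3583180800, 5, [(0, 0, .ofNat 729, 0, [(.ofNat 87, 1), (.ofNat 144, 2), (.negSucc 486, 5), (.ofNat 127, 6),
  (.ofNat 49, 11), (.negSucc 151, 12), (.ofNat 149, 14), (.ofNat 108, 16), (.negSucc 37, 20), (.negSucc 113, 22),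
  (.ofNat 45, 23), (.ofNat 10, 28), (.ofNat 55, 31), (.ofNat 42, 32), (.ofNat 25, 34), (.negSucc 95, 35), (.ofNat 58,
  37), (.negSucc 229, 38), (.negSucc 48, 44), (.negSucc 69, 47), (.negSucc 34, 53), (.ofNat 75, 56), (.negSucc 27,
  58), (.negSucc 356, 60), (.negSucc 24, 62), (.negSucc 32, 64), (.negSucc 238, 67), (.negSucc 287, 70), (.negSucc
  145, 71), (.negSucc 217, 72), (.negSucc 1, 77), (.negSucc 480, 82), (.negSucc 21, 83), (.negSucc 193, 84), (.ofNat
  105, 86), (.negSucc 41, 87), (.negSucc 1, 88), (.negSucc 49, 90)])])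

/-- a candidate -/
def c48 : ℕ × ℕ × List Step :=
  (5159780352, 2, [(0, 0, .ofNat 729, 0, [(.ofNat 307, 1), (.ofNat 135, 2), (.negSucc 340, 5), (.ofNat 115, 6),
  (.ofNat 64, 11), (.negSucc 57, 12), (.ofNat 129, 14), (.ofNat 52, 15), (.negSucc 42, 20), (.negSucc 187, 21),
  (.negSucc 116, 22), (.negSucc 17, 25), (.ofNat 57, 31), (.ofNat 48, 37), (.negSucc 70, 38), (.ofNat 182, 39),
  (.ofNat 63, 45), (.negSucc 98, 53), (.negSucc 24, 55), (.negSucc 242, 60), (.negSucc 16, 61), (.negSucc 190, 62),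
  (.ofNat 43, 68), (.ofNat 38, 69), (.negSucc 256, 70), (.negSucc 13, 72), (.negSucc 0, 73), (.negSucc 54, 77),
  (.ofNat 5, 81), (.negSucc 224, 82), (.negSucc 70, 83), (.ofNat 8, 86), (.negSucc 114, 88)])])

/-- a candidate -/
def c49 : ℕ × ℕ × List Step :=
  (6802444800, 5, [(0, 0, .ofNat 729, 0, [(.ofNat 210, 1), (.ofNat 143, 2), (.negSucc 336, 5), (.ofNat 125, 6),
  (.negSucc 178, 9), (.ofNat 177, 11), (.negSucc 354, 13), (.ofNat 87, 14), (.negSucc 90, 26), (.ofNat 274, 28),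
  (.ofNat 64, 31), (.ofNat 29, 32), (.ofNat 16, 33), (.ofNat 78, 34), (.negSucc 92, 36), (.ofNat 75, 37), (.negSucc
  177, 38), (.ofNat 20, 41), (.negSucc 17, 44), (.negSucc 17, 47), (.negSucc 94, 50), (.ofNat 30, 52), (.negSucc 17,
  53), (.negSucc 60, 57), (.negSucc 15, 59), (.negSucc 9, 69), (.negSucc 62, 70), (.negSucc 87, 71), (.negSucc 136,
  72), (.negSucc 14, 73), (.negSucc 241, 82), (.ofNat 42, 86), (.negSucc 33, 89)])])

/-- a candidate -/
def c50 : ℕ × ℕ × List Step :=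
  (7453016064, 13, [(0, 0, .ofNat 243, 0, [(.ofNat 106, 1), (.negSucc 126, 5), (.ofNat 16, 6), (.negSucc 11, 12),
  (.ofNat 82, 14), (.negSucc 50, 21), (.negSucc 63, 22), (.ofNat 10, 24), (.negSucc 0, 25), (.negSucc 28, 28),
  (.negSucc 2, 30), (.ofNat 18, 31), (.ofNat 22, 34), (.negSucc 29, 36), (.negSucc 35, 38), (.ofNat 8, 39), (.ofNat
  21, 40), (.ofNat 67, 45), (.negSucc 10, 47), (.negSucc 28, 53), (.negSucc 9, 58), (.negSucc 151, 60), (.ofNat 1,
  68), (.ofNat 28, 69), (.negSucc 116, 70), (.negSucc 11, 71), (.negSucc 35, 72), (.negSucc 3, 77), (.negSucc 90,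
  82), (.negSucc 22, 84), (.ofNat 6, 86), (.negSucc 17, 90)])])

/-- a candidate -/
def c51 : ℕ × ℕ × List Step :=
  (7453016064, 26, [(0, 0, .ofNat 6561, 0, [(.ofNat 2932, 1), (.ofNat 159, 3), (.negSucc 5317, 5), (.ofNat 16, 6),
  (.ofNat 566, 8), (.negSucc 924, 12), (.ofNat 1366, 14), (.ofNat 338, 15), (.negSucc 224, 20), (.negSucc 1335, 21),
  (.negSucc 2983, 22), (.ofNat 379, 24), (.negSucc 201, 25), (.negSucc 1878, 28), (.ofNat 203, 37), (.negSucc 1554,
  38), (.ofNat 1795, 39), (.negSucc 130, 41), (.ofNat 466, 44), (.negSucc 1344, 53), (.ofNat 668, 56), (.negSucc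
  3639, 60), (.negSucc 36, 63), (.negSucc 243, 65), (.ofNat 813, 68), (.ofNat 14, 69), (.negSucc 1688, 70), (.negSucc
  1159, 71), (.negSucc 63, 72), (.negSucc 416, 74), (.negSucc 160, 80), (.ofNat 97, 81), (.negSucc 2663, 82), (.ofNat
  27, 86), (.negSucc 909, 88)])])

/-- a candidate -/
def c52 : ℕ × ℕ × List Step :=
  (8062156800, 5, [(0, 0, .ofNat 1, 0, [(.ofNat 1, 14), (.negSucc 0, 22), (.ofNat 1, 56), (.negSucc 0, 60), (.negSucc
  0, 70), (.ofNat 1, 76)])])

/-- a candidate -/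
def c53 : ℕ × ℕ × List Step :=
  (8928208800, 35, [(0, 0, .ofNat 2187, 0, [(.ofNat 286, 1), (.ofNat 149, 2), (.negSucc 1128, 5), (.ofNat 161, 6),
  (.negSucc 236, 7), (.negSucc 609, 9), (.ofNat 34, 10), (.ofNat 784, 11), (.negSucc 403, 12), (.negSucc 1066, 13),
  (.ofNat 195, 14), (.negSucc 140, 20), (.ofNat 935, 28), (.ofNat 136, 31), (.ofNat 31, 32), (.negSucc 37, 33),
  (.ofNat 176, 34), (.negSucc 11, 36), (.ofNat 138, 37), (.negSucc 324, 38), (.ofNat 113, 41), (.negSucc 356, 50),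
  (.negSucc 574, 53), (.ofNat 46, 55), (.negSucc 453, 67), (.negSucc 46, 70), (.negSucc 71, 71), (.negSucc 28, 72),
  (.ofNat 15, 74), (.ofNat 50, 81), (.negSucc 520, 82), (.negSucc 104, 83), (.ofNat 239, 86), (.negSucc 68, 87)])])

/-- a candidate -/
def c54 : ℕ × ℕ × List Step :=
  (8928208800, 105, [(0, 0, .ofNat 2187, 0, [(.ofNat 2187, 11), (.negSucc 2186, 13), (.ofNat 2187, 28), (.negSucc
  2186, 50), (.ofNat 2187, 60), (.negSucc 1092, 89)])])

/-- a candidate -/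
def c55 : ℕ × ℕ × List Step :=
  (8928208800, 315, [(0, 0, .ofNat 2187, 0, [(.ofNat 2187, 11), (.negSucc 2186, 13), (.ofNat 2187, 28), (.negSucc
  2186, 50), (.ofNat 2187, 60), (.negSucc 1092, 89)])])

/-- a candidate -/
def c56 : ℕ × ℕ × List Step :=
  (13060694016, 3, [(0, 0, .ofNat 2187, 0, [(.ofNat 271, 1), (.negSucc 537, 5), (.ofNat 2, 8), (.ofNat 430, 9),
  (.ofNat 663, 11), (.negSucc 858, 13), (.ofNat 761, 14), (.ofNat 706, 15), (.negSucc 142, 21), (.negSucc 462, 22),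
  (.negSucc 251, 23), (.negSucc 331, 25), (.ofNat 46, 29), (.ofNat 139, 34), (.ofNat 685, 39), (.negSucc 65, 42),
  (.ofNat 71, 44), (.ofNat 127, 45), (.negSucc 579, 50), (.negSucc 101, 55), (.ofNat 515, 56), (.negSucc 6, 57),
  (.ofNat 22, 58), (.ofNat 115, 59), (.negSucc 179, 62), (.negSucc 280, 65), (.negSucc 19, 66), (.ofNat 65, 69),
  (.negSucc 452, 70), (.negSucc 20, 75), (.ofNat 371, 76), (.negSucc 47, 79), (.ofNat 184, 81), (.ofNat 170, 85),
  (.ofNat 9, 86), (.negSucc 311, 88), (.negSucc 282, 89)])])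

/-- a candidate -/
def c57 : ℕ × ℕ × List Step :=
  (13060694016, 9, [(0, 0, .ofNat 2187, 0, [(.ofNat 173, 1), (.negSucc 525, 5), (.ofNat 454, 9), (.ofNat 660, 11),
  (.negSucc 881, 13), (.ofNat 780, 14), (.ofNat 706, 15), (.negSucc 180, 21), (.negSucc 466, 22), (.negSucc 266, 23),
  (.negSucc 301, 25), (.ofNat 50, 29), (.negSucc 27, 30), (.ofNat 148, 34), (.ofNat 645, 39), (.negSucc 100, 42),
  (.ofNat 123, 44), (.ofNat 130, 45), (.negSucc 587, 50), (.negSucc 21, 53), (.negSucc 85, 55), (.ofNat 525, 56),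
  (.ofNat 119, 59), (.negSucc 188, 62), (.negSucc 253, 65), (.negSucc 45, 66), (.ofNat 19, 69), (.negSucc 495, 70),
  (.ofNat 15, 74), (.negSucc 64, 75), (.ofNat 433, 76), (.ofNat 166, 81), (.ofNat 150, 85), (.ofNat 8, 86), (.negSucc
  316, 88), (.negSucc 255, 89), (.ofNat 2, 90)])])

/-- a candidate -/
def c58 : ℕ × ℕ × List Step :=
  (15479341056, 2, [(0, 0, .ofNat 2187, 0, [(.ofNat 813, 1), (.ofNat 297, 2), (.negSucc 1020, 5), (.ofNat 312, 6),
  (.ofNat 290, 11), (.negSucc 225, 12), (.ofNat 463, 14), (.ofNat 158, 15), (.negSucc 11, 20), (.negSucc 589, 21),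
  (.negSucc 423, 22), (.negSucc 6, 25), (.ofNat 171, 31), (.ofNat 39, 33), (.ofNat 35, 34), (.ofNat 139, 37),
  (.negSucc 134, 38), (.ofNat 644, 39), (.ofNat 3, 40), (.ofNat 112, 45), (.negSucc 238, 53), (.negSucc 20, 55),
  (.ofNat 61, 59), (.negSucc 676, 60), (.negSucc 97, 61), (.negSucc 518, 62), (.ofNat 2, 63), (.ofNat 98, 66),
  (.ofNat 200, 68), (.ofNat 197, 69), (.negSucc 658, 70), (.negSucc 132, 77), (.negSucc 541, 82), (.negSucc 457,
  88)])])

/-- a candidate -/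
def c59 : ℕ × ℕ × List Step :=
  (15479341056, 4, [(0, 0, .ofNat 243, 0, [(.ofNat 86, 1), (.ofNat 34, 2), (.negSucc 114, 5), (.ofNat 34, 6), (.ofNat
  34, 11), (.negSucc 23, 12), (.ofNat 56, 14), (.ofNat 22, 15), (.negSucc 59, 21), (.negSucc 50, 22), (.negSucc 6,
  25), (.ofNat 13, 31), (.ofNat 6, 34), (.ofNat 10, 37), (.negSucc 15, 38), (.ofNat 76, 39), (.ofNat 21, 45),
  (.negSucc 13, 53), (.ofNat 3, 59), (.negSucc 79, 60), (.negSucc 49, 62), (.ofNat 10, 66), (.ofNat 20, 68), (.ofNat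
  26, 69), (.negSucc 76, 70), (.negSucc 2, 75), (.negSucc 15, 77), (.ofNat 1, 81), (.negSucc 64, 82), (.ofNat 6, 85),
  (.negSucc 53, 88)])])

/-- candidates -/
def CL1 : List (ℕ × ℕ × List Step) :=
  [c30, c31, c32, c33, c34, c35, c36, c37, c38, c39, c40, c41, c42, c43, c44, c45, c46, c47, c48, c49, c50, c51, c52,
  c53, c54, c55, c56, c57, c58, c59]

theorem okC1 : okL TAB.F23.D TAB.F23.R 2 P Z CL1 = true := by decide +kernel

/-- a candidate -/
def c60 : ℕ × ℕ × List Step :=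
  (15527116800, 65, [(0, 0, .ofNat 1, 0, [(.ofNat 1, 14), (.negSucc 0, 22), (.ofNat 1, 56), (.negSucc 0, 60),
  (.negSucc 0, 70), (.ofNat 1, 76)])])

/-- a candidate -/
def c61 : ℕ × ℕ × List Step :=
  (18139852800, 5, [(0, 0, .ofNat 6561, 0, [(.ofNat 1454, 1), (.ofNat 755, 2), (.negSucc 2966, 5), (.ofNat 777, 6),
  (.negSucc 1734, 9), (.ofNat 1475, 11), (.negSucc 3190, 13), (.ofNat 804, 14), (.negSucc 70, 23), (.negSucc 78, 25),
  (.negSucc 449, 26), (.ofNat 2225, 28), (.ofNat 1275, 31), (.ofNat 220, 34), (.negSucc 12, 35), (.ofNat 1506, 37),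
  (.negSucc 1641, 38), (.ofNat 1181, 41), (.negSucc 179, 46), (.negSucc 991, 50), (.negSucc 198, 53), (.ofNat 262,
  56), (.negSucc 74, 57), (.negSucc 691, 58), (.negSucc 101, 64), (.negSucc 32, 70), (.negSucc 1186, 71), (.negSucc
  484, 72), (.negSucc 564, 73), (.negSucc 47, 74), (.ofNat 355, 81), (.negSucc 1481, 82), (.ofNat 243, 85), (.ofNat
  477, 86), (.negSucc 449, 88), (.negSucc 113, 89), (.negSucc 201, 90)])])

/-- a candidate -/
def c62 : ℕ × ℕ × List Step :=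
  (21499084800, 5, [(0, 0, .ofNat 6561, 0, [(.ofNat 1439, 1), (.ofNat 1698, 2), (.negSucc 4878, 5), (.ofNat 1427, 6),
  (.ofNat 575, 11), (.negSucc 1758, 12), (.ofNat 1534, 14), (.ofNat 432, 16), (.ofNat 341, 17), (.negSucc 417, 20),
  (.ofNat 998, 21), (.ofNat 569, 28), (.ofNat 1240, 34), (.ofNat 1029, 37), (.negSucc 2202, 38), (.ofNat 340, 40),
  (.ofNat 162, 41), (.ofNat 145, 45), (.negSucc 412, 47), (.negSucc 216, 51), (.ofNat 409, 52), (.ofNat 414, 56),
  (.negSucc 144, 58), (.negSucc 1978, 60), (.negSucc 705, 62), (.negSucc 707, 67), (.ofNat 461, 68), (.negSucc 574,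
  70), (.negSucc 363, 71), (.negSucc 691, 72), (.negSucc 50, 77), (.ofNat 665, 79), (.ofNat 44, 80), (.ofNat 655,
  81), (.negSucc 2646, 82), (.ofNat 1040, 85), (.ofNat 1103, 86), (.negSucc 399, 87)])])

/-- a candidate -/
def c63 : ℕ × ℕ × List Step :=
  (28217548800, 35, [(0, 0, .ofNat 6561, 0, [(.ofNat 2152, 1), (.ofNat 5755, 2), (.ofNat 5726, 6), (.ofNat 2252, 8),
  (.ofNat 1356, 10), (.ofNat 1719, 16), (.ofNat 1632, 18), (.negSucc 1629, 19), (.ofNat 2624, 20), (.negSucc 1517,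
  21), (.negSucc 403, 22), (.ofNat 898, 23), (.negSucc 1123, 24), (.negSucc 1227, 27), (.ofNat 1730, 28), (.ofNat
  2032, 31), (.negSucc 733, 34), (.negSucc 4363, 35), (.ofNat 4728, 37), (.negSucc 2923, 38), (.negSucc 2132, 40),
  (.ofNat 67, 44), (.negSucc 1880, 45), (.ofNat 113, 46), (.negSucc 646, 49), (.ofNat 3575, 50), (.ofNat 1827, 51),
  (.ofNat 389, 52), (.negSucc 1154, 53), (.negSucc 1899, 54), (.negSucc 529, 57), (.ofNat 1788, 58), (.ofNat 576,
  59), (.negSucc 3329, 60), (.negSucc 4794, 62), (.ofNat 872, 63), (.negSucc 832, 64), (.ofNat 520, 65), (.ofNat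
  1088, 66), (.negSucc 3122, 67), (.ofNat 369, 68), (.negSucc 516, 69), (.negSucc 651, 70), (.ofNat 2210, 71),
  (.negSucc 1990, 72), (.negSucc 2016, 73), (.ofNat 1141, 74), (.ofNat 597, 75), (.ofNat 2892, 76), (.ofNat 1196,
  78), (.ofNat 678, 81), (.ofNat 1387, 83), (.negSucc 1007, 84), (.ofNat 4054, 85), (.ofNat 236, 86), (.ofNat 166,
  87), (.negSucc 408, 88), (.negSucc 642, 89), (.negSucc 179, 90), (.ofNat 860, 91)])])

/-- a candidate -/
def c64 : ℕ × ℕ × List Step :=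
  (37730893824, 13, [(0, 0, .ofNat 2187, 0, [(.ofNat 733, 1), (.ofNat 57, 3), (.negSucc 1079, 5), (.ofNat 62, 8),
  (.ofNat 256, 11), (.negSucc 699, 13), (.ofNat 344, 14), (.ofNat 454, 15), (.ofNat 36, 17), (.negSucc 195, 21),
  (.negSucc 176, 22), (.negSucc 176, 23), (.negSucc 57, 25), (.negSucc 85, 26), (.ofNat 100, 31), (.negSucc 31, 33),
  (.ofNat 126, 34), (.ofNat 194, 37), (.negSucc 465, 38), (.ofNat 435, 39), (.negSucc 66, 54), (.ofNat 158, 56),
  (.ofNat 154, 59), (.negSucc 412, 60), (.negSucc 60, 62), (.ofNat 70, 64), (.negSucc 43, 65), (.ofNat 220, 68),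
  (.ofNat 178, 69), (.negSucc 193, 70), (.ofNat 133, 79), (.ofNat 32, 81), (.negSucc 336, 82), (.negSucc 452, 88),
  (.ofNat 153, 91)])])

/-- a candidate -/
def c65 : ℕ × ℕ × List Step :=
  (40814668800, 5, [(0, 0, .ofNat 2187, 0, [(.ofNat 362, 1), (.ofNat 164, 2), (.negSucc 1080, 5), (.ofNat 125, 6),
  (.negSucc 298, 7), (.negSucc 563, 9), (.ofNat 31, 10), (.ofNat 792, 11), (.negSucc 335, 12), (.negSucc 1055, 13),
  (.ofNat 298, 14), (.ofNat 39, 19), (.negSucc 212, 20), (.negSucc 17, 23), (.negSucc 3, 26), (.ofNat 987, 28),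
  (.ofNat 41, 31), (.ofNat 281, 34), (.negSucc 37, 36), (.ofNat 30, 37), (.negSucc 343, 38), (.ofNat 18, 40), (.ofNat
  38, 41), (.negSucc 387, 50), (.negSucc 363, 53), (.negSucc 363, 67), (.negSucc 75, 69), (.negSucc 187, 70), (.ofNat
  98, 81), (.negSucc 490, 82), (.ofNat 202, 86), (.negSucc 76, 87), (.ofNat 47, 91)])])

/-- a candidate -/
def c66 : ℕ × ℕ × List Step :=
  (46438023168, 2, [(0, 0, .ofNat 243, 0, [(.ofNat 41, 1), (.negSucc 121, 5), (.ofNat 51, 11), (.negSucc 66, 12),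
  (.negSucc 138, 13), (.ofNat 10, 14), (.ofNat 22, 15), (.negSucc 5, 20), (.negSucc 31, 21), (.negSucc 11, 22),
  (.ofNat 10, 37), (.negSucc 36, 38), (.ofNat 34, 39), (.negSucc 14, 41), (.ofNat 7, 43), (.ofNat 26, 45), (.ofNat 2,
  46), (.negSucc 25, 54), (.ofNat 1, 59), (.negSucc 2, 65), (.ofNat 12, 66), (.ofNat 3, 69), (.negSucc 16, 72),
  (.negSucc 3, 73), (.negSucc 39, 82), (.ofNat 17, 86), (.negSucc 36, 88)])])

/-- a candidate -/
def c67 : ℕ × ℕ × List Step :=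
  (48372940800, 5, [(0, 0, .ofNat 1, 0, [(.ofNat 1, 14), (.negSucc 0, 22), (.ofNat 1, 56), (.negSucc 0, 60),
  (.negSucc 0, 70), (.ofNat 1, 76)])])

/-- a candidate -/
def c68 : ℕ × ℕ × List Step :=
  (52242776064, 3, [(0, 0, .ofNat 729, 0, [(.ofNat 104, 1), (.negSucc 230, 5), (.ofNat 21, 8), (.ofNat 169, 9),
  (.ofNat 205, 11), (.negSucc 22, 12), (.negSucc 259, 13), (.ofNat 215, 14), (.ofNat 208, 15), (.ofNat 9, 19),
  (.negSucc 172, 22), (.negSucc 81, 23), (.negSucc 104, 25), (.ofNat 3, 29), (.negSucc 9, 30), (.negSucc 45, 33),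
  (.ofNat 40, 34), (.negSucc 46, 38), (.ofNat 177, 39), (.ofNat 35, 44), (.ofNat 85, 45), (.negSucc 152, 50),
  (.negSucc 1, 53), (.ofNat 171, 56), (.ofNat 1, 59), (.negSucc 60, 62), (.negSucc 57, 65), (.negSucc 34, 67),
  (.ofNat 3, 68), (.ofNat 31, 69), (.negSucc 75, 70), (.negSucc 12, 75), (.ofNat 118, 76), (.negSucc 2, 79), (.ofNat
  123, 81), (.ofNat 92, 85), (.ofNat 28, 86), (.negSucc 57, 88), (.negSucc 32, 89)])])

/-- a candidate -/
def c69 : ℕ × ℕ × List Step :=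
  (78606028800, 65, [(0, 0, .ofNat 648, 0, [(.ofNat 3087, 6), (.ofNat 354, 8), (.negSucc 989, 11), (.ofNat 2265, 12),
  (.ofNat 7833, 14), (.ofNat 4515, 15), (.ofNat 3022, 16), (.negSucc 4699, 19), (.ofNat 1092, 20), (.negSucc 4077,
  21), (.ofNat 633, 23), (.negSucc 783, 24), (.ofNat 340, 26), (.negSucc 5320, 29), (.ofNat 803, 30), (.negSucc 1240,
  31), (.negSucc 5317, 32), (.ofNat 10352, 34), (.negSucc 54, 35), (.ofNat 121, 36), (.negSucc 1424, 42), (.ofNat
  4111, 43), (.negSucc 4964, 45), (.negSucc 1138, 46), (.ofNat 852, 47), (.negSucc 2890, 49), (.ofNat 5713, 50),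
  (.ofNat 21, 51), (.negSucc 2254, 53), (.negSucc 2134, 54), (.negSucc 1876, 55), (.ofNat 1573, 56), (.ofNat 3574,
  57), (.negSucc 2920, 58), (.ofNat 3877, 59), (.negSucc 19682, 60), (.ofNat 1171, 61), (.negSucc 8002, 62), (.ofNat
  2852, 63), (.negSucc 3148, 64), (.ofNat 47, 65), (.ofNat 2712, 66), (.negSucc 1000, 67), (.ofNat 9269, 68), (.ofNat
  2752, 69), (.negSucc 7877, 70), (.ofNat 11257, 71), (.ofNat 4121, 72), (.ofNat 11, 73), (.negSucc 519, 74),
  (.negSucc 1720, 75), (.ofNat 13349, 76), (.negSucc 1920, 77), (.ofNat 3401, 78), (.ofNat 1307, 79), (.ofNat 3122,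
  80), (.ofNat 5270, 82), (.negSucc 1111, 84), (.ofNat 376, 85), (.negSucc 1660, 86), (.ofNat 1635, 87), (.ofNat 966,
  88), (.negSucc 674, 89), (.negSucc 1527, 90)])])

/-- a candidate -/
def c70 : ℕ × ℕ × List Step :=
  (108839116800, 5, [(0, 0, .ofNat 3, 0, [(.ofNat 2, 11), (.negSucc 1, 13), (.ofNat 2, 14), (.negSucc 1, 22), (.ofNat
  2, 28), (.negSucc 1, 50), (.ofNat 2, 56), (.negSucc 1, 70), (.ofNat 2, 76), (.negSucc 0, 89)])])

/-- a candidate -/
def c71 : ℕ × ℕ × List Step :=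
  (128994508800, 5, [(0, 0, .ofNat 1, 0, [(.ofNat 1, 14), (.negSucc 0, 22), (.ofNat 1, 56), (.negSucc 0, 60),
  (.negSucc 0, 70), (.ofNat 1, 76)])])

/-- a candidate -/
def c72 : ℕ × ℕ × List Step :=
  (128994508800, 10, [(0, 0, .ofNat 1, 0, [(.ofNat 1, 14), (.negSucc 0, 22), (.ofNat 1, 56), (.negSucc 0, 60),
  (.negSucc 0, 70), (.ofNat 1, 76)])])

/-- a candidate -/
def c73 : ℕ × ℕ × List Step :=
  (130606940160, 2187, [(0, 0, .ofNat 7044, 0, [(.ofNat 1927, 1), (.ofNat 5220, 2), (.ofNat 2082, 6), (.ofNat 456,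
  8), (.negSucc 972, 11), (.ofNat 10245, 14), (.negSucc 464, 15), (.negSucc 1887, 21), (.negSucc 9232, 22), (.negSucc
  1240, 24), (.negSucc 251, 27), (.ofNat 1013, 28), (.ofNat 1623, 29), (.ofNat 555, 30), (.negSucc 1804, 33),
  (.negSucc 133, 34), (.ofNat 104, 35), (.ofNat 938, 36), (.negSucc 10, 37), (.ofNat 5691, 38), (.ofNat 1284, 40),
  (.ofNat 1614, 41), (.negSucc 506, 42), (.ofNat 1545, 44), (.negSucc 649, 46), (.ofNat 306, 47), (.negSucc 4018,
  49), (.negSucc 2842, 50), (.ofNat 882, 51), (.ofNat 1085, 52), (.negSucc 1777, 54), (.ofNat 2164, 55), (.ofNat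
  13572, 56), (.ofNat 3175, 57), (.ofNat 1600, 58), (.ofNat 2815, 59), (.negSucc 8145, 60), (.ofNat 4023, 61),
  (.ofNat 2368, 62), (.ofNat 2550, 63), (.ofNat 4884, 64), (.ofNat 5654, 65), (.ofNat 2672, 66), (.negSucc 1965, 67),
  (.ofNat 7453, 69), (.ofNat 10903, 71), (.ofNat 2050, 72), (.ofNat 5206, 73), (.ofNat 4660, 74), (.ofNat 4801, 75),
  (.ofNat 19683, 76), (.ofNat 4974, 77), (.ofNat 5412, 78), (.ofNat 4373, 79), (.ofNat 6797, 80), (.ofNat 9307, 81),
  (.ofNat 11037, 82), (.ofNat 9529, 83), (.ofNat 6087, 84), (.ofNat 11720, 85), (.ofNat 3678, 86), (.ofNat 2231, 87),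
  (.ofNat 631, 88), (.ofNat 6680, 89), (.ofNat 3956, 90), (.ofNat 192, 91)])])

/-- a candidate -/
def c74 : ℕ × ℕ × List Step :=
  (139314069504, 2, [(0, 0, .ofNat 243, 0, [(.ofNat 43, 1), (.negSucc 135, 5), (.ofNat 1, 6), (.ofNat 64, 11),
  (.negSucc 37, 12), (.negSucc 133, 13), (.ofNat 26, 15), (.negSucc 5, 20), (.negSucc 43, 21), (.negSucc 12, 22),
  (.negSucc 5, 25), (.ofNat 23, 37), (.negSucc 50, 38), (.ofNat 54, 39), (.ofNat 5, 45), (.negSucc 8, 48), (.negSucc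
  13, 54), (.ofNat 7, 59), (.negSucc 0, 62), (.negSucc 2, 65), (.ofNat 1, 66), (.ofNat 10, 69), (.ofNat 2, 79),
  (.ofNat 7, 81), (.negSucc 28, 82), (.ofNat 3, 86), (.negSucc 44, 88), (.ofNat 22, 91)])])

/-- a candidate -/
def c75 : ℕ × ℕ × List Step :=
  (139314069504, 4, [(0, 0, .ofNat 243, 0, [(.ofNat 43, 1), (.negSucc 135, 5), (.ofNat 1, 6), (.ofNat 64, 11),
  (.negSucc 37, 12), (.negSucc 133, 13), (.ofNat 26, 15), (.negSucc 5, 20), (.negSucc 43, 21), (.negSucc 12, 22),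
  (.negSucc 5, 25), (.ofNat 23, 37), (.negSucc 50, 38), (.ofNat 54, 39), (.ofNat 5, 45), (.negSucc 8, 48), (.negSucc
  13, 54), (.ofNat 7, 59), (.negSucc 0, 62), (.negSucc 2, 65), (.ofNat 1, 66), (.ofNat 10, 69), (.ofNat 2, 79),
  (.ofNat 7, 81), (.negSucc 28, 82), (.ofNat 3, 86), (.negSucc 44, 88), (.ofNat 22, 91)])])

/-- a candidate -/
def c76 : ℕ × ℕ × List Step :=
  (201231433728, 13, [(0, 0, .ofNat 729, 0, [(.ofNat 339, 1), (.ofNat 52, 3), (.negSucc 465, 5), (.ofNat 65, 8),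
  (.negSucc 16, 9), (.ofNat 13, 11), (.negSucc 51, 12), (.ofNat 102, 14), (.ofNat 92, 15), (.negSucc 9, 20),
  (.negSucc 20, 21), (.negSucc 132, 22), (.ofNat 37, 24), (.negSucc 41, 25), (.negSucc 160, 28), (.negSucc 30, 30),
  (.ofNat 126, 34), (.negSucc 23, 36), (.ofNat 65, 37), (.negSucc 190, 38), (.ofNat 194, 39), (.ofNat 6, 40), (.ofNat
  11, 50), (.negSucc 14, 58), (.ofNat 5, 59), (.negSucc 326, 60), (.negSucc 118, 62), (.negSucc 36, 65), (.ofNat 6,
  66), (.ofNat 191, 68), (.negSucc 101, 70), (.negSucc 1, 72), (.negSucc 22, 80), (.negSucc 206, 82), (.negSucc 24,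
  87), (.negSucc 139, 88), (.ofNat 67, 91)])])

/-- a candidate -/
def c77 : ℕ × ℕ × List Step :=
  (201231433728, 26, [(0, 0, .ofNat 1, 0, [(.ofNat 1, 14), (.negSucc 0, 22), (.ofNat 1, 56), (.negSucc 0, 60),
  (.negSucc 0, 70), (.ofNat 1, 76)])])

/-- a candidate -/
def c78 : ℕ × ℕ × List Step :=
  (201231433728, 52, [(0, 0, .ofNat 1, 0, [(.ofNat 1, 14), (.negSucc 0, 22), (.ofNat 1, 56), (.negSucc 0, 60),
  (.negSucc 0, 70), (.ofNat 1, 76)])])

/-- a candidate -/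
def c79 : ℕ × ℕ × List Step :=
  (201231433728, 104, [(0, 0, .ofNat 1, 0, [(.ofNat 1, 14), (.negSucc 0, 22), (.ofNat 1, 56), (.negSucc 0, 60),
  (.negSucc 0, 70), (.ofNat 1, 76)])])

/-- a candidate -/
def c80 : ℕ × ℕ × List Step :=
  (201231433728, 208, [(0, 0, .ofNat 1, 0, [(.ofNat 1, 14), (.negSucc 0, 22), (.ofNat 1, 56), (.negSucc 0, 60),
  (.negSucc 0, 70), (.ofNat 1, 76)])])

/-- a candidate -/
def c81 : ℕ × ℕ × List Step :=
  (208971104256, 3, [(0, 0, .ofNat 2187, 0, [(.ofNat 255, 1), (.negSucc 726, 5), (.ofNat 25, 8), (.ofNat 528, 9),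
  (.ofNat 638, 11), (.negSucc 159, 12), (.negSucc 803, 13), (.ofNat 540, 14), (.ofNat 616, 15), (.ofNat 60, 19),
  (.negSucc 454, 22), (.negSucc 263, 23), (.negSucc 55, 24), (.negSucc 350, 25), (.negSucc 28, 30), (.negSucc 2, 32),
  (.negSucc 53, 33), (.ofNat 75, 34), (.negSucc 174, 38), (.ofNat 576, 39), (.ofNat 122, 44), (.ofNat 291, 45),
  (.negSucc 417, 50), (.negSucc 17, 53), (.negSucc 29, 55), (.ofNat 494, 56), (.negSucc 5, 57), (.negSucc 147, 62),
  (.negSucc 276, 65), (.negSucc 42, 67), (.ofNat 26, 68), (.ofNat 78, 69), (.negSucc 190, 70), (.negSucc 70, 75),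
  (.ofNat 290, 76), (.ofNat 330, 81), (.ofNat 317, 85), (.ofNat 135, 86), (.negSucc 138, 88), (.negSucc 59, 89)])])

/-- a candidate -/
def c82 : ℕ × ℕ × List Step :=
  (290237644800, 5, [(0, 0, .ofNat 729, 0, [(.ofNat 81, 1), (.ofNat 72, 2), (.negSucc 381, 5), (.ofNat 84, 6),
  (.ofNat 11, 8), (.negSucc 199, 9), (.ofNat 21, 10), (.ofNat 220, 11), (.negSucc 165, 12), (.negSucc 377, 13),
  (.ofNat 80, 14), (.negSucc 24, 20), (.negSucc 30, 22), (.negSucc 30, 27), (.ofNat 329, 28), (.ofNat 75, 31),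
  (.ofNat 8, 34), (.negSucc 16, 35), (.ofNat 101, 37), (.negSucc 133, 38), (.negSucc 27, 45), (.ofNat 8, 49),
  (.negSucc 99, 50), (.negSucc 184, 53), (.ofNat 26, 56), (.negSucc 2, 64), (.ofNat 27, 65), (.negSucc 177, 67),
  (.negSucc 16, 69), (.negSucc 46, 72), (.ofNat 50, 76), (.ofNat 24, 79), (.ofNat 15, 81), (.negSucc 112, 82),
  (.ofNat 71, 86), (.negSucc 4, 87), (.negSucc 19, 88)])])

/-- a candidate -/
def c83 : ℕ × ℕ × List Step :=
  (417942208512, 2, [(0, 0, .ofNat 243, 0, [(.ofNat 40, 1), (.negSucc 113, 5), (.negSucc 27, 7), (.ofNat 74, 11),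
  (.negSucc 37, 12), (.negSucc 146, 13), (.ofNat 32, 15), (.ofNat 1, 17), (.ofNat 9, 19), (.negSucc 39, 21),
  (.negSucc 7, 25), (.negSucc 0, 33), (.negSucc 32, 38), (.ofNat 67, 39), (.negSucc 14, 48), (.negSucc 9, 54),
  (.ofNat 5, 59), (.negSucc 2, 62), (.ofNat 1, 64), (.negSucc 3, 65), (.ofNat 1, 66), (.ofNat 4, 69), (.negSucc 0,
  73), (.ofNat 11, 81), (.negSucc 29, 82), (.ofNat 2, 86), (.negSucc 49, 88), (.ofNat 14, 91)])])

/-- a candidate -/
def c84 : ℕ × ℕ × List Step :=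
  (653034700800, 5, [(0, 0, .ofNat 81, 0, [(.ofNat 10, 1), (.ofNat 5, 2), (.negSucc 41, 5), (.ofNat 2, 6), (.negSucc
  9, 7), (.negSucc 21, 9), (.ofNat 31, 11), (.negSucc 13, 12), (.negSucc 38, 13), (.ofNat 12, 14), (.ofNat 3, 19),
  (.negSucc 7, 20), (.negSucc 1, 27), (.ofNat 36, 28), (.ofNat 1, 31), (.ofNat 11, 34), (.negSucc 0, 36), (.ofNat 2,
  37), (.negSucc 11, 38), (.ofNat 1, 41), (.ofNat 1, 48), (.negSucc 13, 50), (.negSucc 13, 53), (.negSucc 14, 67),
  (.negSucc 0, 69), (.negSucc 3, 70), (.ofNat 1, 76), (.ofNat 5, 81), (.negSucc 15, 82), (.ofNat 10, 86), (.negSucc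
  3, 87)])])

/-- a candidate -/
def c85 : ℕ × ℕ × List Step :=
  (1015831756800, 35, [(0, 0, .ofNat 729, 0, [(.ofNat 729, 11), (.negSucc 728, 13), (.ofNat 729, 28), (.negSucc 728,
  50), (.ofNat 729, 60), (.negSucc 363, 89)])])

/-- a candidate -/
def c86 : ℕ × ℕ × List Step :=
  (1741425868800, 5, [(0, 0, .ofNat 81, 0, [(.ofNat 40, 11), (.negSucc 39, 13), (.ofNat 40, 14), (.negSucc 39, 22),
  (.ofNat 40, 28), (.negSucc 39, 50), (.ofNat 40, 56), (.negSucc 39, 70), (.ofNat 40, 76), (.negSucc 19, 89)])])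

/-- a candidate -/
def c87 : ℕ × ℕ × List Step :=
  (5433248710656, 13, [(0, 0, .ofNat 729, 0, [(.ofNat 159, 1), (.ofNat 17, 3), (.negSucc 259, 5), (.negSucc 178, 7),
  (.ofNat 97, 11), (.negSucc 17, 12), (.negSucc 128, 13), (.ofNat 195, 14), (.ofNat 195, 15), (.negSucc 3, 20),
  (.negSucc 7, 22), (.negSucc 108, 23), (.negSucc 50, 28), (.ofNat 147, 34), (.negSucc 6, 35), (.negSucc 111, 38),
  (.ofNat 144, 39), (.ofNat 31, 41), (.ofNat 83, 45), (.ofNat 6, 46), (.negSucc 64, 53), (.negSucc 23, 54), (.ofNat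
  41, 59), (.negSucc 282, 60), (.negSucc 138, 62), (.ofNat 18, 64), (.negSucc 78, 65), (.ofNat 62, 68), (.negSucc 69,
  70), (.ofNat 20, 81), (.negSucc 79, 82), (.negSucc 17, 84), (.ofNat 54, 85), (.ofNat 62, 86), (.negSucc 54, 87),
  (.negSucc 61, 88), (.ofNat 28, 91)])])

/-- a candidate -/
def c88 : ℕ × ℕ × List Step :=
  (5433248710656, 26, [(0, 0, .ofNat 729, 0, [(.ofNat 176, 1), (.negSucc 205, 5), (.negSucc 236, 7), (.ofNat 28, 11),
  (.negSucc 18, 12), (.negSucc 114, 13), (.ofNat 244, 14), (.ofNat 216, 15), (.negSucc 0, 21), (.negSucc 9, 22),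
  (.negSucc 100, 23), (.negSucc 30, 25), (.negSucc 12, 27), (.negSucc 130, 28), (.negSucc 1, 29), (.negSucc 18, 32),
  (.negSucc 9, 33), (.ofNat 198, 34), (.negSucc 22, 37), (.negSucc 56, 38), (.ofNat 215, 39), (.ofNat 21, 41),
  (.ofNat 76, 45), (.ofNat 8, 46), (.negSucc 377, 60), (.negSucc 212, 62), (.negSucc 109, 65), (.ofNat 122, 68),
  (.negSucc 94, 70), (.negSucc 19, 73), (.negSucc 3, 74), (.ofNat 73, 76), (.negSucc 38, 80), (.ofNat 101, 81),
  (.negSucc 6, 82), (.negSucc 11, 84), (.ofNat 75, 85), (.ofNat 18, 86), (.negSucc 87, 88)])])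

/-- a candidate -/
def c89 : ℕ × ℕ × List Step :=
  (8126654054400, 28, [(0, 0, .ofNat 243, 0, [(.ofNat 243, 11), (.negSucc 242, 13), (.ofNat 243, 28), (.negSucc 242,
  50), (.ofNat 243, 60), (.negSucc 120, 89)])])

/-- candidates -/
def CL2 : List (ℕ × ℕ × List Step) :=
  [c60, c61, c62, c63, c64, c65, c66, c67, c68, c69, c70, c71, c72, c73, c74, c75, c76, c77, c78, c79, c80, c81, c82,
  c83, c84, c85, c86, c87, c88, c89]

theorem okC2 : okL TAB.F23.D TAB.F23.R 2 P Z CL2 = true := by decide +kernel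

/-- a candidate -/
def c90 : ℕ × ℕ × List Step :=
  (8126654054400, 56, [(0, 0, .ofNat 243, 0, [(.ofNat 243, 11), (.negSucc 242, 13), (.ofNat 243, 28), (.negSucc 242,
  50), (.ofNat 243, 60), (.negSucc 120, 89)])])

/-- a candidate -/
def c91 : ℕ × ℕ × List Step :=
  (8126654054400, 112, [(0, 0, .ofNat 243, 0, [(.ofNat 243, 11), (.negSucc 242, 13), (.ofNat 243, 28), (.negSucc 242,
  50), (.ofNat 243, 60), (.negSucc 120, 89)])])

/-- a candidate -/
def c92 : ℕ × ℕ × List Step :=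
  (10448555212800, 5, [(0, 0, .ofNat 729, 0, [(.ofNat 121, 1), (.ofNat 122, 2), (.negSucc 242, 5), (.negSucc 120, 7),
  (.negSucc 120, 9), (.ofNat 243, 11), (.negSucc 121, 12), (.negSucc 242, 13), (.ofNat 121, 14), (.ofNat 122, 19),
  (.ofNat 122, 21), (.ofNat 243, 28), (.ofNat 121, 34), (.negSucc 120, 38), (.ofNat 121, 49), (.negSucc 120, 50),
  (.negSucc 120, 53), (.negSucc 120, 62), (.negSucc 120, 67), (.ofNat 121, 81), (.negSucc 120, 82), (.ofNat 121, 85),
  (.ofNat 121, 86), (.negSucc 60, 87)])])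

/-- a candidate -/
def c93 : ℕ × ℕ × List Step :=
  (10448555212800, 10, [(0, 0, .ofNat 729, 0, [(.ofNat 121, 1), (.ofNat 122, 2), (.negSucc 242, 5), (.negSucc 120,
  7), (.negSucc 120, 9), (.ofNat 243, 11), (.negSucc 121, 12), (.negSucc 242, 13), (.ofNat 121, 14), (.ofNat 122,
  19), (.ofNat 122, 21), (.ofNat 243, 28), (.ofNat 121, 34), (.negSucc 120, 38), (.ofNat 121, 49), (.negSucc 120,
  50), (.negSucc 120, 53), (.negSucc 120, 62), (.negSucc 120, 67), (.ofNat 121, 81), (.negSucc 120, 82), (.ofNat 121,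
  85), (.ofNat 121, 86), (.negSucc 60, 87)])])

/-- a candidate -/
def c94 : ℕ × ℕ × List Step :=
  (36569943244800, 7, [(0, 0, .ofNat 729, 0, [(.ofNat 121, 1), (.ofNat 122, 2), (.negSucc 242, 5), (.negSucc 120, 7),
  (.negSucc 120, 9), (.ofNat 243, 11), (.negSucc 121, 12), (.negSucc 242, 13), (.ofNat 121, 14), (.ofNat 122, 19),
  (.ofNat 122, 21), (.ofNat 243, 28), (.ofNat 121, 34), (.negSucc 120, 38), (.ofNat 121, 49), (.negSucc 120, 50),
  (.negSucc 120, 53), (.negSucc 120, 62), (.negSucc 120, 67), (.ofNat 121, 81), (.negSucc 120, 82), (.ofNat 121, 85),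
  (.ofNat 121, 86), (.negSucc 60, 87)])])

/-- a candidate -/
def c95 : ℕ × ℕ × List Step :=
  (36569943244800, 21, [(0, 0, .ofNat 243, 0, [(.ofNat 243, 11), (.negSucc 242, 13), (.ofNat 243, 28), (.negSucc 242,
  50), (.ofNat 243, 60), (.negSucc 120, 89)])])

/-- a candidate -/
def c96 : ℕ × ℕ × List Step :=
  (36569943244800, 35, [(0, 0, .ofNat 729, 0, [(.ofNat 121, 1), (.ofNat 122, 2), (.negSucc 242, 5), (.negSucc 120,
  7), (.negSucc 120, 9), (.ofNat 243, 11), (.negSucc 121, 12), (.negSucc 242, 13), (.ofNat 121, 14), (.ofNat 122,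
  19), (.ofNat 122, 21), (.ofNat 243, 28), (.ofNat 121, 34), (.negSucc 120, 38), (.ofNat 121, 49), (.negSucc 120,
  50), (.negSucc 120, 53), (.negSucc 120, 62), (.negSucc 120, 67), (.ofNat 121, 81), (.negSucc 120, 82), (.ofNat 121,
  85), (.ofNat 121, 86), (.negSucc 60, 87)])])

/-- a candidate -/
def c97 : ℕ × ℕ × List Step :=
  (36569943244800, 63, [(0, 0, .ofNat 243, 0, [(.ofNat 243, 11), (.negSucc 242, 13), (.ofNat 243, 28), (.negSucc 242,
  50), (.ofNat 243, 60), (.negSucc 120, 89)])])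

/-- a candidate -/
def c98 : ℕ × ℕ × List Step :=
  (36569943244800, 105, [(0, 0, .ofNat 243, 0, [(.ofNat 243, 11), (.negSucc 242, 13), (.ofNat 243, 28), (.negSucc
  242, 50), (.ofNat 243, 60), (.negSucc 120, 89)])])

/-- a candidate -/
def c99 : ℕ × ℕ × List Step :=
  (36569943244800, 175, [(0, 0, .ofNat 81, 0, [(.ofNat 11, 1), (.negSucc 28, 5), (.negSucc 1, 6), (.negSucc 28, 7),
  (.negSucc 15, 9), (.ofNat 42, 11), (.negSucc 6, 12), (.negSucc 50, 13), (.ofNat 12, 14), (.ofNat 1, 15), (.negSucc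
  6, 20), (.negSucc 1, 24), (.ofNat 37, 28), (.ofNat 15, 34), (.negSucc 2, 35), (.negSucc 5, 37), (.negSucc 5, 38),
  (.negSucc 32, 50), (.negSucc 12, 62), (.ofNat 10, 64), (.negSucc 3, 67), (.negSucc 5, 82), (.negSucc 1, 84),
  (.ofNat 12, 85), (.ofNat 6, 86), (.negSucc 9, 89)])])

/-- a candidate -/
def c100 : ℕ × ℕ × List Step :=
  (36569943244800, 225, [(0, 0, .ofNat 243, 0, [(.ofNat 243, 11), (.negSucc 242, 13), (.ofNat 243, 28), (.negSucc
  242, 50), (.ofNat 243, 60), (.negSucc 120, 89)])])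

/-- a candidate -/
def c101 : ℕ × ℕ × List Step :=
  (36569943244800, 315, [(0, 0, .ofNat 243, 0, [(.ofNat 243, 11), (.negSucc 242, 13), (.ofNat 243, 28), (.negSucc
  242, 50), (.ofNat 243, 60), (.negSucc 120, 89)])])

/-- a candidate -/
def c102 : ℕ × ℕ × List Step :=
  (36569943244800, 525, [(0, 0, .ofNat 243, 0, [(.ofNat 243, 11), (.negSucc 242, 13), (.ofNat 243, 28), (.negSucc
  242, 50), (.ofNat 243, 60), (.negSucc 120, 89)])])

/-- a candidate -/
def c103 : ℕ × ℕ × List Step :=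
  (36569943244800, 1575, [(0, 0, .ofNat 243, 0, [(.ofNat 243, 11), (.negSucc 242, 13), (.ofNat 243, 28), (.negSucc
  242, 50), (.ofNat 243, 60), (.negSucc 120, 89)])])

/-- a candidate -/
def c104 : ℕ × ℕ × List Step :=
  (190163704872960, 672, [(0, 0, .ofNat 81, 0, [(.ofNat 20, 1), (.ofNat 20, 2), (.negSucc 40, 5), (.negSucc 19, 7),
  (.negSucc 19, 9), (.negSucc 19, 12), (.ofNat 20, 14), (.ofNat 20, 19), (.ofNat 20, 21), (.ofNat 20, 34), (.negSucc
  19, 38), (.ofNat 20, 49), (.ofNat 20, 50), (.negSucc 19, 53), (.negSucc 40, 60), (.negSucc 19, 62), (.negSucc 19,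
  67), (.ofNat 20, 81), (.negSucc 19, 82), (.ofNat 20, 85), (.ofNat 20, 86), (.negSucc 9, 87), (.ofNat 20, 89)])])

/-- a candidate -/
def c105 : ℕ × ℕ × List Step :=
  (190163704872960, 768, [(0, 0, .ofNat 243, 0, [(.ofNat 121, 1), (.negSucc 121, 5), (.negSucc 120, 7), (.negSucc
  121, 9), (.ofNat 122, 21), (.ofNat 121, 22), (.ofNat 121, 34), (.negSucc 121, 38), (.ofNat 122, 49), (.ofNat 122,
  50), (.negSucc 121, 56), (.negSucc 121, 60), (.negSucc 120, 62), (.ofNat 121, 68), (.negSucc 120, 76), (.negSucc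
  121, 82), (.negSucc 60, 87), (.ofNat 122, 91)])])

/-- a candidate -/
def c106 : ℕ × ℕ × List Step :=
  (190163704872960, 896, [(0, 0, .ofNat 81, 0, [(.ofNat 20, 1), (.ofNat 20, 2), (.negSucc 40, 5), (.negSucc 19, 7),
  (.negSucc 19, 9), (.negSucc 19, 12), (.ofNat 20, 14), (.ofNat 20, 19), (.ofNat 20, 21), (.ofNat 20, 34), (.negSucc
  19, 38), (.ofNat 20, 49), (.ofNat 20, 50), (.negSucc 19, 53), (.negSucc 40, 60), (.negSucc 19, 62), (.negSucc 19,
  67), (.ofNat 20, 81), (.negSucc 19, 82), (.ofNat 20, 85), (.ofNat 20, 86), (.negSucc 9, 87), (.ofNat 20, 89)])])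

/-- a candidate -/
def c107 : ℕ × ℕ × List Step :=
  (190163704872960, 1024, [(0, 0, .ofNat 243, 0, [(.ofNat 121, 1), (.negSucc 121, 5), (.negSucc 120, 7), (.negSucc
  121, 9), (.ofNat 122, 21), (.ofNat 121, 22), (.ofNat 121, 34), (.negSucc 121, 38), (.ofNat 122, 49), (.ofNat 122,
  50), (.negSucc 121, 56), (.negSucc 121, 60), (.negSucc 120, 62), (.ofNat 121, 68), (.negSucc 120, 76), (.negSucc
  121, 82), (.negSucc 60, 87), (.ofNat 122, 91)])])

/-- a candidate -/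
def c108 : ℕ × ℕ × List Step :=
  (190163704872960, 1344, [(0, 0, .ofNat 81, 0, [(.ofNat 20, 1), (.ofNat 20, 2), (.negSucc 40, 5), (.negSucc 19, 7),
  (.negSucc 19, 9), (.negSucc 19, 12), (.ofNat 20, 14), (.ofNat 20, 19), (.ofNat 20, 21), (.ofNat 20, 34), (.negSucc
  19, 38), (.ofNat 20, 49), (.ofNat 20, 50), (.negSucc 19, 53), (.negSucc 40, 60), (.negSucc 19, 62), (.negSucc 19,
  67), (.ofNat 20, 81), (.negSucc 19, 82), (.ofNat 20, 85), (.ofNat 20, 86), (.negSucc 9, 87), (.ofNat 20, 89)])])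

/-- a candidate -/
def c109 : ℕ × ℕ × List Step :=
  (190163704872960, 1536, [(0, 0, .ofNat 243, 0, [(.ofNat 121, 1), (.negSucc 121, 5), (.negSucc 120, 7), (.negSucc
  121, 9), (.ofNat 122, 21), (.ofNat 121, 22), (.ofNat 121, 34), (.negSucc 121, 38), (.ofNat 122, 49), (.ofNat 122,
  50), (.negSucc 121, 56), (.negSucc 121, 60), (.negSucc 120, 62), (.ofNat 121, 68), (.negSucc 120, 76), (.negSucc
  121, 82), (.negSucc 60, 87), (.ofNat 122, 91)])])

/-- a candidate -/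
def c110 : ℕ × ℕ × List Step :=
  (190163704872960, 1792, [(0, 0, .ofNat 81, 0, [(.ofNat 20, 1), (.ofNat 20, 2), (.negSucc 40, 5), (.negSucc 19, 7),
  (.negSucc 19, 9), (.negSucc 19, 12), (.ofNat 20, 14), (.ofNat 20, 19), (.ofNat 20, 21), (.ofNat 20, 34), (.negSucc
  19, 38), (.ofNat 20, 49), (.ofNat 20, 50), (.negSucc 19, 53), (.negSucc 40, 60), (.negSucc 19, 62), (.negSucc 19,
  67), (.ofNat 20, 81), (.negSucc 19, 82), (.ofNat 20, 85), (.ofNat 20, 86), (.negSucc 9, 87), (.ofNat 20, 89)])])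

/-- a candidate -/
def c111 : ℕ × ℕ × List Step :=
  (190163704872960, 2688, [(0, 0, .ofNat 81, 0, [(.ofNat 20, 1), (.ofNat 20, 2), (.negSucc 40, 5), (.negSucc 19, 7),
  (.negSucc 19, 9), (.negSucc 19, 12), (.ofNat 20, 14), (.ofNat 20, 19), (.ofNat 20, 21), (.ofNat 20, 34), (.negSucc
  19, 38), (.ofNat 20, 49), (.ofNat 20, 50), (.negSucc 19, 53), (.negSucc 40, 60), (.negSucc 19, 62), (.negSucc 19,
  67), (.ofNat 20, 81), (.negSucc 19, 82), (.ofNat 20, 85), (.ofNat 20, 86), (.negSucc 9, 87), (.ofNat 20, 89)])])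

/-- a candidate -/
def c112 : ℕ × ℕ × List Step :=
  (190163704872960, 3072, [(0, 0, .ofNat 243, 0, [(.ofNat 121, 1), (.negSucc 121, 5), (.negSucc 120, 7), (.negSucc
  121, 9), (.ofNat 122, 21), (.ofNat 121, 22), (.ofNat 121, 34), (.negSucc 121, 38), (.ofNat 122, 49), (.ofNat 122,
  50), (.negSucc 121, 56), (.negSucc 121, 60), (.negSucc 120, 62), (.ofNat 121, 68), (.negSucc 120, 76), (.negSucc
  121, 82), (.negSucc 60, 87), (.ofNat 122, 91)])])

/-- a candidate -/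
def c113 : ℕ × ℕ × List Step :=
  (190163704872960, 3584, [(0, 0, .ofNat 81, 0, [(.ofNat 20, 1), (.ofNat 20, 2), (.negSucc 40, 5), (.negSucc 19, 7),
  (.negSucc 19, 9), (.negSucc 19, 12), (.ofNat 20, 14), (.ofNat 20, 19), (.ofNat 20, 21), (.ofNat 20, 34), (.negSucc
  19, 38), (.ofNat 20, 49), (.ofNat 20, 50), (.negSucc 19, 53), (.negSucc 40, 60), (.negSucc 19, 62), (.negSucc 19,
  67), (.ofNat 20, 81), (.negSucc 19, 82), (.ofNat 20, 85), (.ofNat 20, 86), (.negSucc 9, 87), (.ofNat 20, 89)])])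

/-- a candidate -/
def c114 : ℕ × ℕ × List Step :=
  (190163704872960, 5376, [(0, 0, .ofNat 81, 0, [(.ofNat 20, 1), (.ofNat 20, 2), (.negSucc 40, 5), (.negSucc 19, 7),
  (.negSucc 19, 9), (.negSucc 19, 12), (.ofNat 20, 14), (.ofNat 20, 19), (.ofNat 20, 21), (.ofNat 20, 34), (.negSucc
  19, 38), (.ofNat 20, 49), (.ofNat 20, 50), (.negSucc 19, 53), (.negSucc 40, 60), (.negSucc 19, 62), (.negSucc 19,
  67), (.ofNat 20, 81), (.negSucc 19, 82), (.ofNat 20, 85), (.ofNat 20, 86), (.negSucc 9, 87), (.ofNat 20, 89)])])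

/-- a candidate -/
def c115 : ℕ × ℕ × List Step :=
  (190163704872960, 7168, [(0, 0, .ofNat 81, 0, [(.ofNat 20, 1), (.ofNat 20, 2), (.negSucc 40, 5), (.negSucc 19, 7),
  (.negSucc 19, 9), (.negSucc 19, 12), (.ofNat 20, 14), (.ofNat 20, 19), (.ofNat 20, 21), (.ofNat 20, 34), (.negSucc
  19, 38), (.ofNat 20, 49), (.ofNat 20, 50), (.negSucc 19, 53), (.negSucc 40, 60), (.negSucc 19, 62), (.negSucc 19,
  67), (.ofNat 20, 81), (.negSucc 19, 82), (.ofNat 20, 85), (.ofNat 20, 86), (.negSucc 9, 87), (.ofNat 20, 89)])])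

/-- a candidate -/
def c116 : ℕ × ℕ × List Step :=
  (190163704872960, 10752, [(0, 0, .ofNat 81, 0, [(.ofNat 20, 1), (.ofNat 20, 2), (.negSucc 40, 5), (.negSucc 19, 7),
  (.negSucc 19, 9), (.negSucc 19, 12), (.ofNat 20, 14), (.ofNat 20, 19), (.ofNat 20, 21), (.ofNat 20, 34), (.negSucc
  19, 38), (.ofNat 20, 49), (.ofNat 20, 50), (.negSucc 19, 53), (.negSucc 40, 60), (.negSucc 19, 62), (.negSucc 19,
  67), (.ofNat 20, 81), (.negSucc 19, 82), (.ofNat 20, 85), (.ofNat 20, 86), (.negSucc 9, 87), (.ofNat 20, 89)])])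

/-- candidates -/
def CL3 : List (ℕ × ℕ × List Step) :=
  [c90, c91, c92, c93, c94, c95, c96, c97, c98, c99, c100, c101, c102, c103, c104, c105, c106, c107, c108, c109,
  c110, c111, c112, c113, c114, c115, c116]

theorem okC3 : okL TAB.F23.D TAB.F23.R 2 P Z CL3 = true := by decide +kernel

theorem okB : ∀ ld ∈ big, bigE E ld = true :=
  fa_cons okB23 <| fa_cons okB17 <| fa_nil

theorem okA : ∀ a ∈ divsT [(13, 1)], allA (leaf E) [(11, 1), (7, 1), (5, 2), (3, 13), (2, 18)] a = true := by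
  rw [show divsT [(13, 1)] = [1, 13] by decide +kernel]
  exact fa_cons okA0 <| fa_cons okA1 <| fa_nil

/-- the pairs -/
def pj (L : List (ℕ × ℕ × List Step)) : List (ℕ × ℕ) := L.map fun x => (x.1, x.2.1)

theorem okC : ∀ x ∈ E.SV, ∃ CL, okL TAB.F23.D TAB.F23.R E.j E.P E.Z CL = true ∧ x ∈ pj CL := by
  rw [show E.SV = [pj CL0, pj CL1, pj CL2, pj CL3].flatten by decide +kernel]
  exact forall_flatten <| fa_cons (fun _ h => ⟨_, okC0, h⟩) <| fa_cons (fun _ h => ⟨_, okC1, h⟩) <| fa_cons (fun _ h => ⟨_, okC2, h⟩) <| fa_cons (fun _ h => ⟨_, okC3, h⟩) <|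
    fa_nil

/-- **no configuration** -/
theorem noW {K : Type} [Group K] [Finite K] (h : In K TAB.F23.D TAB.F23.R) : NoW K 2 :=
  noW_of (E := E) boxCH h.inC ok1 (H940.Eng.D.ords_fi23 base)
    (fun ld h => ⟨List.mem_append_left _ h, okB ld h⟩) (by decide +kernel) okA okC

end Cfsg.Agent.TH.Spor.NFi23
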