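import Cfsg.Agent.TH.Spor.EngC
import Cfsg.Agent.TH.Spor.CH
import Cfsg.Agent.TAB.HN.Tab

/-!
# S3541, sporadic rows: HN (helper26; generated by notes/TH/spor26/gen.py.txt)
-/

set_option autoImplicit false
set_option Elab.async false

namespace Cfsg.Agent.TH.Spor.NHN

open Cfsg Cfsg.Agent.TAB.Eng Cfsg.Agent.H940.Eng

/-- the types of prime order -/
def P : St :=
  [(19, [(32, 28740096000000, 0)]), (11, [(25, 12410496000000, 0)]), (7, [(15, 650073600000, 0)]), (5, [(8,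
  433382400, 0), (9, 546061824, 0), (10, 36404121600, 0), (11, 109212364800, 0)]), (3, [(3, 501600000, 0), (4,
  9363200000, 0)]), (2, [(1, 1539000, 0), (2, 74064375, 0)])]

/-- the types -/
def Z : List Ze :=
  [(1, 2, 1539000, [1]), (2, 2, 74064375, [2]), (3, 3, 501600000, [3]), (4, 3, 9363200000, [4]), (5, 4, 17775450000,
  [2]), (6, 4, 47401200000, [1]), (7, 4, 71101800000, [2]), (8, 5, 433382400, [8]), (9, 5, 546061824, [9]), (10, 5,
  36404121600, [10]), (11, 5, 109212364800, [11]), (12, 6, 189604800000, [3, 1]), (13, 6, 474012000000, [3, 2]), (14,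
  6, 758419200000, [4, 2]), (15, 7, 650073600000, [15]), (16, 8, 3412886400000, [1]), (17, 8, 4266108000000, [2]),
  (18, 9, 10112256000000, [4]), (19, 10, 136515456000, [9, 1]), (20, 10, 227525760000, [8, 1]), (21, 10,
  341288640000, [9, 2]), (22, 10, 910103040000, [10, 2]), (23, 10, 2730309120000, [11, 1]), (24, 10, 5460618240000,
  [11, 2]), (25, 11, 12410496000000, [25]), (26, 12, 3792096000000, [3, 1]), (27, 12, 5688144000000, [3, 2]), (28,
  12, 22752576000000, [4, 2]), (29, 14, 9751104000000, [15, 1]), (30, 15, 1516838400000, [8, 3]), (31, 15,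
  18202060800000, [10, 4]), (32, 19, 28740096000000, [32]), (33, 20, 6825772800000, [9, 2]), (34, 20, 6825772800000,
  [8, 1]), (35, 20, 27303091200000, [10, 2]), (36, 21, 13001472000000, [15, 3]), (37, 22, 12410496000000, [25, 1]),
  (38, 25, 21842472960000, [9]), (39, 30, 4550515200000, [8, 3, 1]), (40, 30, 18202060800000, [10, 4, 2]), (41, 35,
  15601766400000, [15, 8]), (42, 40, 13651545600000, [8, 1])]

/-- local data, large primes -/
def big : List LD :=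
  []

/-- local data, the other primes -/
def sm : List LD :=
  [⟨19, 19, [(3, 2), (19, 1)]⟩, ⟨11, 44, [(2, 2), (5, 1), (11, 1)]⟩, ⟨7, 2520, [(2, 3), (3, 2), (5, 1), (7, 1)]⟩]

/-- the candidates -/
def SV : List (ℕ × ℕ) :=
  [(16384, 2), (1492992, 3), (2000000, 5), (3796875, 625), (3796875, 3125), (5971968, 3), (5971968, 9), (5971968,
  27), (5971968, 81), (5971968, 243), (22781250, 15), (22781250, 27), (22781250, 45), (22781250, 135), (26127360,
  21), (26127360, 63), (26127360, 189), (32000000, 5), (46448640, 14), (46448640, 28), (54743040, 11), (59719680, 9),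
  (59719680, 18), (87091200, 7), (93312000, 9), (94500000, 7), (94500000, 35), (99000000, 11), (120960000, 7),
  (145800000, 3), (145800000, 9), (145800000, 27), (145800000, 81), (149299200, 3), (153600000, 4), (153600000, 8),
  (162000000, 5), (162000000, 25), (162000000, 125), (163296000, 7), (163296000, 21), (167062500, 11), (168000000,
  7), (177408000, 77), (192000000, 5), (209018880, 7), (226800000, 7), (233280000, 3), (256000000, 2), (276480000,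
  2), (276480000, 4), (290304000, 7), (298598400, 2), (364500000, 3), (364500000, 5), (364500000, 15), (373248000,
  3), (403200000, 7), (425250000, 7), (432000000, 5), (460800000, 2), (497664000, 2), (497664000, 4), (497664000, 8),
  (497664000, 16), (544320000, 7), (583200000, 3), (656916480, 11), (656916480, 22), (656916480, 44), (656916480,
  88), (696729600, 7), (696729600, 14), (704000000, 11), (756000000, 7), (768000000, 2), (768000000, 4), (829440000,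
  2), (933120000, 3), (933120000, 9), (933120000, 27), (967680000, 7), (972000000, 5), (1152000000, 5), (1188000000,
  11), (1306368000, 7), (1344000000, 7), (1382400000, 2), (1382400000, 4), (1382400000, 8), (1382400000, 16),
  (1382400000, 32), (1382400000, 64), (1382400000, 128), (1458000000, 3), (1458000000, 9), (1492992000, 2),
  (1492992000, 3), (1492992000, 6), (1814400000, 7), (2004750000, 11), (2004750000, 33), (2304000000, 2),
  (2332800000, 3), (2488320000, 2), (2488320000, 4), (2592000000, 5), (3225600000, 7), (3225600000, 14), (3225600000,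
  28), (3402000000, 7), (3402000000, 35), (3592512000, 77), (3592512000, 231), (3732480000, 3), (4147200000, 2),
  (4354560000, 7), (5832000000, 3), (5832000000, 5), (5832000000, 15), (6048000000, 7), (6912000000, 2), (6912000000,
  4), (6912000000, 5), (6912000000, 10), (6912000000, 20), (6912000000, 25), (6912000000, 50), (6912000000, 100),
  (6912000000, 125), (6912000000, 250), (6912000000, 500), (7464960000, 2), (8448000000, 11), (8448000000, 22),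
  (9331200000, 3), (9331200000, 9), (10450944000, 7), (10450944000, 14), (10450944000, 21), (10450944000, 28),
  (10450944000, 42), (10450944000, 84), (12441600000, 2), (12441600000, 4), (12441600000, 8), (14515200000, 7),
  (15552000000, 5), (20412000000, 125), (20736000000, 2), (23328000000, 3), (26127360000, 27), (26127360000, 81),
  (26127360000, 243), (27216000000, 7), (37324800000, 2), (37324800000, 3), (37324800000, 6), (48384000000, 7),
  (48384000000, 14), (62208000000, 2), (62208000000, 4), (93312000000, 3), (93312000000, 5), (93312000000, 9),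
  (93312000000, 15), (93312000000, 25), (93312000000, 45), (93312000000, 75), (93312000000, 225), (145152000000, 5),
  (145152000000, 8), (145152000000, 10), (145152000000, 20), (145152000000, 40), (171072000000, 11), (171072000000,
  55), (186624000000, 2), (217728000000, 7), (326592000000, 5), (435456000000, 2), (653184000000, 3), (1306368000000,
  2), (1306368000000, 4), (1306368000000, 8), (1306368000000, 16), (2052864000000, 11), (2052864000000, 12),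
  (2052864000000, 22), (2052864000000, 33), (2052864000000, 44), (2052864000000, 66)]

/-- the data -/
def E : En :=
  ⟨273030912000000, 2, P, Z, [(19, 1), (11, 1), (7, 1), (5, 6), (3, 6), (2, 14)], H940.Eng.D.o_hn, big ++ sm, SV⟩

theorem ok1 : okEn TAB.HN.dat TAB.HN.rows [] E = true := by decide +kernel

theorem okA0 : allA (leaf E) [(11, 1), (7, 1), (5, 6), (3, 6), (2, 14)] 1 = true := by decide +kernel

theorem okA1 : allA (leaf E) [(11, 1), (7, 1), (5, 6), (3, 6), (2, 14)] 19 = true := by decide +kernel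

/-- a candidate -/
def c0 : ℕ × ℕ × List Step :=
  (16384, 2, [(0, 0, .ofNat 0, 0, [(.negSucc 0, 35)])])

/-- a candidate -/
def c1 : ℕ × ℕ × List Step :=
  (1492992, 3, [(0, 0, .ofNat 0, 0, [(.negSucc 0, 40)])])

/-- a candidate -/
def c2 : ℕ × ℕ × List Step :=
  (2000000, 5, [(0, 0, .ofNat 0, 0, [(.negSucc 0, 17), (.negSucc 8, 29), (.negSucc 1, 32), (.negSucc 0, 39)])])

/-- a candidate -/
def c3 : ℕ × ℕ × List Step :=
  (3796875, 625, [(0, 0, .ofNat 0, 0, [(.negSucc 0, 34), (.negSucc 0, 42)])])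

/-- a candidate -/
def c4 : ℕ × ℕ × List Step :=
  (3796875, 3125, [(0, 0, .ofNat 0, 0, [(.negSucc 6, 20), (.negSucc 0, 30), (.negSucc 8, 40), (.negSucc 2, 41),
  (.negSucc 5, 42)])])

/-- a candidate -/
def c5 : ℕ × ℕ × List Step :=
  (5971968, 3, [(0, 0, .ofNat 0, 0, [(.negSucc 0, 40)])])

/-- a candidate -/
def c6 : ℕ × ℕ × List Step :=
  (5971968, 9, [(0, 0, .ofNat 0, 0, [(.negSucc 0, 40)])])

/-- a candidate -/
def c7 : ℕ × ℕ × List Step :=
  (5971968, 27, [(0, 0, .ofNat 0, 0, [(.negSucc 242, 7), (.negSucc 242, 23), (.negSucc 6, 25), (.negSucc 28, 30),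
  (.negSucc 29, 31), (.negSucc 166, 40)])])

/-- a candidate -/
def c8 : ℕ × ℕ × List Step :=
  (5971968, 81, [(0, 0, .ofNat 0, 0, [(.negSucc 1, 8), (.negSucc 2, 30), (.negSucc 0, 40)])])

/-- a candidate -/
def c9 : ℕ × ℕ × List Step :=
  (5971968, 243, [(0, 0, .ofNat 0, 0, [(.negSucc 65, 12), (.negSucc 25, 25), (.negSucc 242, 35)])])

/-- a candidate -/
def c10 : ℕ × ℕ × List Step :=
  (22781250, 15, [(0, 0, .ofNat 0, 0, [(.negSucc 73, 5), (.negSucc 20, 6), (.ofNat 42, 7), (.ofNat 2, 8), (.ofNat 81,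
  13), (.negSucc 12, 16), (.negSucc 18, 20), (.ofNat 8, 21), (.negSucc 45, 26), (.negSucc 14, 31), (.ofNat 1, 33),
  (.negSucc 5, 35), (.negSucc 10, 36), (.negSucc 5, 38)])])

/-- a candidate -/
def c11 : ℕ × ℕ × List Step :=
  (22781250, 27, [(0, 0, .ofNat 9, 0, [(.negSucc 2, 2), (.negSucc 0, 6), (.ofNat 4, 13), (.negSucc 0, 25), (.negSucc
  5, 26), (.negSucc 0, 28), (.negSucc 2, 35)])])

/-- a candidate -/
def c12 : ℕ × ℕ × List Step :=
  (22781250, 45, [(0, 0, .ofNat 9, 0, [(.negSucc 70, 5), (.ofNat 32, 7), (.ofNat 5, 12), (.ofNat 29, 13), (.negSucc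
  0, 16), (.negSucc 8, 19), (.ofNat 4, 23), (.negSucc 62, 26), (.ofNat 15, 27), (.negSucc 13, 29), (.negSucc 14, 31),
  (.ofNat 4, 34), (.negSucc 8, 35), (.negSucc 33, 36), (.negSucc 68, 38), (.negSucc 80, 39), (.negSucc 41, 41)])])

/-- a candidate -/
def c13 : ℕ × ℕ × List Step :=
  (22781250, 135, [(0, 0, .ofNat 0, 0, [(.negSucc 118, 5), (.negSucc 178, 22), (.negSucc 68, 26), (.negSucc 59, 32),
  (.negSucc 68, 33), (.negSucc 101, 36), (.negSucc 540, 38), (.negSucc 728, 39), (.negSucc 12, 40), (.negSucc 220,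
  41)])])

/-- a candidate -/
def c14 : ℕ × ℕ × List Step :=
  (26127360, 21, [(0, 0, .ofNat 729, 0, [(.negSucc 220, 6), (.negSucc 686, 7), (.negSucc 186, 18), (.negSucc 152,
  22), (.negSucc 39, 25), (.negSucc 312, 28), (.negSucc 20, 30), (.negSucc 270, 31), (.ofNat 130, 32), (.negSucc 391,
  35), (.negSucc 133, 37), (.negSucc 133, 39), (.negSucc 398, 40)])])

/-- a candidate -/
def c15 : ℕ × ℕ × List Step :=
  (26127360, 63, [(0, 0, .ofNat 80, 0, [(.ofNat 6, 4), (.negSucc 80, 7), (.ofNat 15, 17), (.negSucc 18, 18),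
  (.negSucc 14, 22), (.negSucc 4, 25), (.negSucc 39, 28), (.negSucc 25, 31), (.ofNat 10, 32), (.negSucc 49, 35),
  (.negSucc 14, 37), (.negSucc 36, 40), (.negSucc 3, 41)])])

/-- a candidate -/
def c16 : ℕ × ℕ × List Step :=
  (26127360, 189, [(0, 0, .ofNat 80, 0, [(.ofNat 6, 4), (.negSucc 80, 7), (.ofNat 15, 17), (.negSucc 18, 18),
  (.negSucc 14, 22), (.negSucc 4, 25), (.negSucc 39, 28), (.negSucc 25, 31), (.ofNat 10, 32), (.negSucc 49, 35),
  (.negSucc 14, 37), (.negSucc 36, 40), (.negSucc 3, 41)])])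

/-- a candidate -/
def c17 : ℕ × ℕ × List Step :=
  (32000000, 5, [(0, 0, .ofNat 4, 0, [(.ofNat 5, 1), (.ofNat 4, 6), (.negSucc 18, 11), (.negSucc 1, 12), (.negSucc
  12, 14), (.negSucc 3, 17), (.ofNat 3, 21), (.negSucc 6, 23), (.negSucc 3, 24), (.ofNat 14, 26), (.negSucc 12, 35),
  (.negSucc 1, 37), (.negSucc 26, 39), (.negSucc 1, 40)])])

/-- a candidate -/
def c18 : ℕ × ℕ × List Step :=
  (46448640, 14, [(0, 0, .ofNat 243, 0, [(.negSucc 41, 2), (.negSucc 203, 7), (.negSucc 15, 13), (.ofNat 50, 16),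
  (.ofNat 10, 20), (.negSucc 25, 23), (.negSucc 66, 28), (.ofNat 20, 29), (.negSucc 3, 31), (.ofNat 39, 32)])])

/-- a candidate -/
def c19 : ℕ × ℕ × List Step :=
  (46448640, 28, [(0, 0, .ofNat 243, 0, [(.negSucc 41, 2), (.negSucc 203, 7), (.negSucc 15, 13), (.ofNat 50, 16),
  (.ofNat 10, 20), (.negSucc 25, 23), (.negSucc 66, 28), (.ofNat 20, 29), (.negSucc 3, 31), (.ofNat 39, 32)])])

/-- a candidate -/
def c20 : ℕ × ℕ × List Step :=
  (54743040, 11, [(0, 0, .ofNat 81, 0, [(.negSucc 24, 2), (.negSucc 2, 3), (.negSucc 64, 7), (.negSucc 2, 13),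
  (.ofNat 17, 27), (.negSucc 19, 28), (.negSucc 5, 31), (.ofNat 16, 32)])])

/-- a candidate -/
def c21 : ℕ × ℕ × List Step :=
  (59719680, 9, [(0, 0, .ofNat 1, 0, [(.negSucc 0, 2), (.negSucc 0, 7)])])

/-- a candidate -/
def c22 : ℕ × ℕ × List Step :=
  (59719680, 18, [(0, 0, .ofNat 81, 0, [(.negSucc 44, 2), (.negSucc 15, 3), (.ofNat 19, 4), (.negSucc 60, 7),
  (.negSucc 4, 13), (.negSucc 13, 18), (.ofNat 7, 20), (.ofNat 11, 27), (.ofNat 13, 32), (.negSucc 1, 35), (.ofNat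
  14, 42)])])

/-- a candidate -/
def c23 : ℕ × ℕ × List Step :=
  (87091200, 7, [(0, 0, .ofNat 2187, 0, [(.ofNat 222, 3), (.negSucc 1053, 7), (.ofNat 667, 8), (.negSucc 642, 12),
  (.negSucc 373, 16), (.ofNat 462, 20), (.ofNat 342, 21), (.ofNat 606, 27), (.negSucc 394, 28), (.ofNat 650, 29),
  (.ofNat 428, 32), (.negSucc 1029, 35), (.negSucc 19, 37), (.negSucc 19, 39)])])

/-- a candidate -/
def c24 : ℕ × ℕ × List Step :=
  (93312000, 9, [(0, 0, .ofNat 243, 0, [(.negSucc 178, 5), (.negSucc 54, 7), (.ofNat 32, 8), (.ofNat 21, 17),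
  (.negSucc 44, 18), (.negSucc 9, 24), (.negSucc 4, 25), (.negSucc 9, 26), (.ofNat 123, 27), (.negSucc 29, 31),
  (.ofNat 98, 32), (.negSucc 132, 35), (.negSucc 20, 37), (.negSucc 9, 38), (.ofNat 111, 42)])])

/-- a candidate -/
def c25 : ℕ × ℕ × List Step :=
  (94500000, 7, [(0, 0, .ofNat 243, 0, [(.negSucc 39, 2), (.ofNat 33, 3), (.negSucc 72, 7), (.ofNat 51, 8), (.negSucc
  137, 12), (.negSucc 41, 14), (.negSucc 29, 16), (.ofNat 86, 20), (.ofNat 59, 21), (.ofNat 33, 27), (.negSucc 21,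
  28), (.ofNat 9, 32), (.negSucc 108, 35), (.negSucc 41, 41)])])

/-- a candidate -/
def c26 : ℕ × ℕ × List Step :=
  (94500000, 35, [(0, 0, .ofNat 729, 0, [(.ofNat 58, 1), (.ofNat 55, 3), (.negSucc 399, 5), (.ofNat 97, 6), (.ofNat
  178, 8), (.negSucc 90, 11), (.negSucc 207, 14), (.negSucc 240, 17), (.negSucc 42, 18), (.ofNat 38, 19), (.ofNat 25,
  20), (.negSucc 46, 23), (.negSucc 83, 24), (.negSucc 90, 26), (.ofNat 142, 27), (.ofNat 33, 29), (.ofNat 175, 32),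
  (.ofNat 173, 33), (.negSucc 55, 35), (.negSucc 136, 36), (.negSucc 136, 39), (.negSucc 120, 40), (.negSucc 35,
  42)])])

/-- a candidate -/
def c27 : ℕ × ℕ × List Step :=
  (99000000, 11, [(0, 0, .ofNat 729, 0, [(.ofNat 20, 1), (.negSucc 47, 2), (.negSucc 224, 5), (.ofNat 164, 8),
  (.negSucc 25, 12), (.negSucc 192, 14), (.negSucc 120, 16), (.negSucc 212, 17), (.negSucc 6, 18), (.ofNat 58, 20),
  (.ofNat 110, 21), (.negSucc 38, 22), (.ofNat 202, 23), (.ofNat 276, 27), (.ofNat 233, 32), (.negSucc 78, 35),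
  (.negSucc 21, 39), (.negSucc 79, 40)])])

/-- a candidate -/
def c28 : ℕ × ℕ × List Step :=
  (120960000, 7, [(0, 0, .ofNat 729, 0, [(.ofNat 92, 1), (.ofNat 266, 3), (.negSucc 178, 7), (.ofNat 140, 8),
  (.negSucc 279, 12), (.negSucc 182, 14), (.negSucc 40, 15), (.negSucc 84, 16), (.ofNat 162, 20), (.ofNat 133, 21),
  (.ofNat 21, 23), (.ofNat 116, 27), (.negSucc 68, 28), (.ofNat 100, 32), (.negSucc 217, 35)])])

/-- a candidate -/
def c29 : ℕ × ℕ × List Step :=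
  (145800000, 3, [(0, 0, .ofNat 68, 0, [(.ofNat 10, 4), (.negSucc 17, 6), (.negSucc 80, 7), (.ofNat 6, 17), (.negSucc
  2, 18), (.ofNat 5, 20), (.ofNat 6, 21), (.negSucc 5, 24), (.negSucc 55, 28), (.ofNat 21, 29), (.ofNat 25, 32),
  (.ofNat 13, 34), (.negSucc 17, 35), (.ofNat 19, 42)])])

/-- candidates -/
def CL0 : List (ℕ × ℕ × List Step) :=
  [c0, c1, c2, c3, c4, c5, c6, c7, c8, c9, c10, c11, c12, c13, c14, c15, c16, c17, c18, c19, c20, c21, c22, c23, c24,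
  c25, c26, c27, c28, c29]

theorem okC0 : okL TAB.HN.dat TAB.HN.rows 2 P Z CL0 = true := by decide +kernel

/-- a candidate -/
def c30 : ℕ × ℕ × List Step :=
  (145800000, 9, [(0, 0, .ofNat 27, 0, [(.ofNat 1, 4), (.negSucc 18, 5), (.negSucc 4, 7), (.ofNat 4, 8), (.ofNat 2,
  17), (.negSucc 3, 18), (.negSucc 1, 24), (.negSucc 1, 26), (.ofNat 13, 27), (.ofNat 3, 29), (.negSucc 0, 31),
  (.ofNat 9, 32), (.negSucc 12, 35), (.negSucc 1, 37), (.negSucc 1, 38), (.ofNat 15, 42)])])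

/-- a candidate -/
def c31 : ℕ × ℕ × List Step :=
  (145800000, 27, [(0, 0, .ofNat 243, 0, [(.ofNat 5, 4), (.negSucc 178, 5), (.negSucc 37, 7), (.ofNat 42, 8),
  (.negSucc 0, 10), (.negSucc 10, 13), (.negSucc 2, 16), (.ofNat 15, 17), (.negSucc 28, 18), (.ofNat 6, 20), (.ofNat
  1, 21), (.negSucc 18, 24), (.negSucc 14, 26), (.ofNat 123, 27), (.ofNat 26, 29), (.ofNat 75, 32), (.negSucc 112,
  35), (.negSucc 14, 37), (.negSucc 14, 38), (.ofNat 146, 42)])])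

/-- a candidate -/
def c32 : ℕ × ℕ × List Step :=
  (145800000, 81, [(0, 0, .ofNat 243, 0, [(.ofNat 40, 4), (.ofNat 40, 8), (.negSucc 80, 16), (.ofNat 40, 21), (.ofNat
  81, 23), (.negSucc 80, 24), (.negSucc 80, 26), (.ofNat 162, 27), (.ofNat 81, 29), (.negSucc 80, 35), (.negSucc 80,
  36), (.negSucc 80, 37), (.negSucc 80, 38), (.negSucc 80, 39), (.ofNat 81, 40), (.ofNat 81, 42)])])

/-- a candidate -/
def c33 : ℕ × ℕ × List Step :=
  (149299200, 3, [(0, 0, .ofNat 1, 0, [(.negSucc 0, 2), (.negSucc 0, 7)])])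

/-- a candidate -/
def c34 : ℕ × ℕ × List Step :=
  (153600000, 4, [(0, 0, .ofNat 243, 0, [(.ofNat 20, 1), (.negSucc 19, 2), (.ofNat 71, 8), (.negSucc 103, 12),
  (.negSucc 69, 14), (.negSucc 0, 15), (.negSucc 56, 16), (.negSucc 39, 17), (.ofNat 5, 18), (.ofNat 4, 20), (.ofNat
  41, 21), (.ofNat 118, 23), (.ofNat 92, 27), (.ofNat 2, 29), (.ofNat 41, 32), (.negSucc 39, 39)])])

/-- a candidate -/
def c35 : ℕ × ℕ × List Step :=
  (153600000, 8, [(0, 0, .ofNat 729, 0, [(.ofNat 87, 1), (.ofNat 212, 8), (.ofNat 21, 9), (.ofNat 27, 10), (.negSucc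
  163, 11), (.negSucc 141, 12), (.negSucc 206, 14), (.negSucc 135, 17), (.ofNat 9, 18), (.ofNat 110, 20), (.ofNat 86,
  21), (.ofNat 248, 23), (.ofNat 3, 25), (.negSucc 163, 26), (.ofNat 190, 27), (.ofNat 142, 32), (.ofNat 43, 36),
  (.negSucc 135, 39), (.ofNat 4, 40), (.negSucc 42, 42)])])

/-- a candidate -/
def c36 : ℕ × ℕ × List Step :=
  (162000000, 5, [(0, 0, .ofNat 243, 0, [(.ofNat 3, 1), (.negSucc 170, 5), (.ofNat 51, 6), (.negSucc 14, 7), (.ofNat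
  83, 8), (.negSucc 18, 11), (.negSucc 31, 14), (.negSucc 22, 15), (.negSucc 21, 17), (.negSucc 35, 18), (.ofNat 7,
  20), (.negSucc 0, 23), (.negSucc 18, 26), (.ofNat 92, 27), (.ofNat 83, 32), (.ofNat 25, 33), (.negSucc 32, 36),
  (.negSucc 17, 39), (.negSucc 30, 40), (.ofNat 48, 42)])])

/-- a candidate -/
def c37 : ℕ × ℕ × List Step :=
  (162000000, 25, [(0, 0, .ofNat 243, 0, [(.ofNat 3, 1), (.negSucc 170, 5), (.ofNat 51, 6), (.negSucc 14, 7), (.ofNat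
  83, 8), (.negSucc 18, 11), (.negSucc 31, 14), (.negSucc 22, 15), (.negSucc 21, 17), (.negSucc 35, 18), (.ofNat 7,
  20), (.negSucc 0, 23), (.negSucc 18, 26), (.ofNat 92, 27), (.ofNat 83, 32), (.ofNat 25, 33), (.negSucc 32, 36),
  (.negSucc 17, 39), (.negSucc 30, 40), (.ofNat 48, 42)])])

/-- a candidate -/
def c38 : ℕ × ℕ × List Step :=
  (162000000, 125, [(0, 0, .ofNat 81, 0, [(.negSucc 80, 5), (.ofNat 40, 12), (.negSucc 19, 18), (.ofNat 40, 27),
  (.negSucc 39, 31), (.ofNat 40, 32), (.ofNat 40, 33), (.negSucc 39, 40), (.ofNat 40, 42)])])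

/-- a candidate -/
def c39 : ℕ × ℕ × List Step :=
  (163296000, 7, [(0, 0, .ofNat 81, 0, [(.ofNat 1, 3), (.negSucc 35, 7), (.ofNat 34, 8), (.ofNat 1, 10), (.negSucc
  42, 12), (.negSucc 17, 16), (.ofNat 20, 20), (.ofNat 9, 21), (.ofNat 20, 27), (.negSucc 9, 28), (.ofNat 25, 29),
  (.ofNat 25, 32), (.negSucc 34, 35)])])

/-- a candidate -/
def c40 : ℕ × ℕ × List Step :=
  (163296000, 21, [(0, 0, .ofNat 243, 0, [(.negSucc 60, 6), (.negSucc 56, 7), (.ofNat 52, 8), (.negSucc 74, 12),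
  (.negSucc 17, 18), (.negSucc 28, 19), (.ofNat 52, 20), (.ofNat 50, 21), (.ofNat 48, 23), (.negSucc 51, 24),
  (.negSucc 30, 25), (.negSucc 51, 26), (.ofNat 13, 27), (.negSucc 34, 28), (.ofNat 23, 29), (.ofNat 58, 32), (.ofNat
  52, 34), (.negSucc 132, 35), (.negSucc 61, 37), (.negSucc 61, 39), (.ofNat 26, 42)])])

/-- a candidate -/
def c41 : ℕ × ℕ × List Step :=
  (167062500, 11, [(0, 0, .ofNat 27, 0, [(.negSucc 1, 2), (.negSucc 1, 5), (.ofNat 6, 8), (.ofNat 2, 9), (.negSucc 1,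
  10), (.negSucc 3, 14), (.negSucc 1, 16), (.negSucc 2, 17), (.ofNat 2, 20), (.ofNat 6, 23), (.negSucc 7, 26),
  (.ofNat 10, 27), (.ofNat 1, 33), (.negSucc 7, 34)])])

/-- a candidate -/
def c42 : ℕ × ℕ × List Step :=
  (168000000, 7, [(0, 0, .ofNat 81, 0, [(.ofNat 11, 1), (.negSucc 0, 2), (.ofNat 17, 3), (.negSucc 22, 5), (.ofNat
  23, 8), (.negSucc 3, 9), (.negSucc 5, 11), (.negSucc 40, 12), (.negSucc 15, 14), (.negSucc 8, 17), (.ofNat 33, 20),
  (.ofNat 10, 21), (.negSucc 5, 26), (.ofNat 10, 27), (.ofNat 13, 32), (.negSucc 20, 35), (.negSucc 8, 39)])])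

/-- a candidate -/
def c43 : ℕ × ℕ × List Step :=
  (177408000, 77, [(0, 0, .ofNat 243, 0, [(.ofNat 52, 4), (.ofNat 155, 8), (.ofNat 120, 10), (.ofNat 5, 11),
  (.negSucc 89, 12), (.ofNat 4, 14), (.ofNat 10, 15), (.negSucc 9, 16), (.ofNat 12, 17), (.negSucc 55, 18), (.ofNat
  202, 20), (.ofNat 38, 23), (.negSucc 17, 24), (.negSucc 85, 25), (.negSucc 11, 26), (.ofNat 31, 27), (.negSucc 2,
  28), (.negSucc 147, 30), (.negSucc 81, 31), (.ofNat 15, 32), (.ofNat 21, 34), (.negSucc 102, 35), (.ofNat 218, 36),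
  (.negSucc 11, 37), (.ofNat 3, 38), (.negSucc 87, 40)])])

/-- a candidate -/
def c44 : ℕ × ℕ × List Step :=
  (192000000, 5, [(0, 0, .ofNat 243, 0, [(.ofNat 87, 1), (.ofNat 175, 3), (.ofNat 31, 6), (.ofNat 6, 7), (.ofNat 75,
  8), (.negSucc 3, 11), (.negSucc 181, 12), (.negSucc 192, 14), (.negSucc 42, 15), (.negSucc 30, 16), (.negSucc 71,
  17), (.ofNat 53, 19), (.ofNat 31, 20), (.negSucc 7, 21), (.negSucc 48, 23), (.ofNat 17, 25), (.negSucc 3, 26),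
  (.ofNat 179, 31), (.ofNat 1, 32), (.negSucc 48, 36), (.negSucc 71, 39), (.ofNat 43, 40), (.negSucc 83, 42)])])

/-- a candidate -/
def c45 : ℕ × ℕ × List Step :=
  (209018880, 7, [(0, 0, .ofNat 27, 0, [(.negSucc 8, 2), (.negSucc 19, 7), (.negSucc 2, 13), (.ofNat 2, 20),
  (.negSucc 4, 23), (.negSucc 1, 28), (.ofNat 3, 29), (.negSucc 1, 31), (.ofNat 7, 32)])])

/-- a candidate -/
def c46 : ℕ × ℕ × List Step :=
  (226800000, 7, [(0, 0, .ofNat 243, 0, [(.ofNat 33, 1), (.ofNat 97, 3), (.negSucc 57, 7), (.ofNat 48, 8), (.negSucc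
  96, 12), (.negSucc 66, 14), (.negSucc 22, 15), (.negSucc 29, 16), (.ofNat 52, 20), (.ofNat 41, 21), (.ofNat 40,
  27), (.negSucc 11, 28), (.ofNat 36, 32), (.ofNat 4, 33), (.negSucc 50, 35)])])

/-- a candidate -/
def c47 : ℕ × ℕ × List Step :=
  (233280000, 3, [(0, 0, .ofNat 27, 0, [(.negSucc 21, 5), (.negSucc 2, 6), (.negSucc 2, 7), (.ofNat 4, 8), (.negSucc
  0, 16), (.negSucc 3, 18), (.ofNat 2, 20), (.ofNat 1, 21), (.negSucc 0, 24), (.negSucc 0, 26), (.ofNat 14, 27),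
  (.ofNat 4, 29), (.ofNat 8, 32), (.negSucc 10, 35), (.negSucc 0, 38), (.ofNat 16, 42)])])

/-- a candidate -/
def c48 : ℕ × ℕ × List Step :=
  (256000000, 2, [(0, 0, .ofNat 81, 0, [(.ofNat 19, 6), (.negSucc 23, 14), (.negSucc 12, 17), (.ofNat 1, 20), (.ofNat
  4, 21), (.negSucc 6, 24), (.ofNat 22, 32), (.negSucc 19, 39)])])

/-- a candidate -/
def c49 : ℕ × ℕ × List Step :=
  (276480000, 2, [(0, 0, .ofNat 243, 0, [(.negSucc 31, 2), (.ofNat 28, 3), (.negSucc 39, 5), (.negSucc 65, 7),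
  (.ofNat 48, 8), (.negSucc 35, 14), (.negSucc 57, 16), (.negSucc 42, 17), (.ofNat 30, 20), (.ofNat 29, 21), (.ofNat
  97, 27), (.ofNat 36, 29), (.ofNat 66, 32), (.ofNat 11, 33), (.negSucc 36, 35), (.negSucc 9, 39)])])

/-- a candidate -/
def c50 : ℕ × ℕ × List Step :=
  (276480000, 4, [(0, 0, .ofNat 243, 0, [(.negSucc 31, 2), (.ofNat 28, 3), (.negSucc 39, 5), (.negSucc 65, 7),
  (.ofNat 48, 8), (.negSucc 35, 14), (.negSucc 57, 16), (.negSucc 42, 17), (.ofNat 30, 20), (.ofNat 29, 21), (.ofNat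
  97, 27), (.ofNat 36, 29), (.ofNat 66, 32), (.ofNat 11, 33), (.negSucc 36, 35), (.negSucc 9, 39)])])

/-- a candidate -/
def c51 : ℕ × ℕ × List Step :=
  (290304000, 7, [(0, 0, .ofNat 243, 0, [(.negSucc 62, 2), (.ofNat 39, 3), (.negSucc 89, 7), (.ofNat 86, 8),
  (.negSucc 168, 12), (.negSucc 56, 16), (.ofNat 27, 20), (.ofNat 33, 21), (.ofNat 39, 27), (.negSucc 23, 28),
  (.ofNat 59, 29), (.ofNat 83, 32), (.negSucc 77, 35), (.negSucc 2, 37), (.negSucc 2, 39)])])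

/-- a candidate -/
def c52 : ℕ × ℕ × List Step :=
  (298598400, 2, [(0, 0, .ofNat 243, 0, [(.negSucc 27, 2), (.ofNat 16, 3), (.negSucc 83, 5), (.negSucc 37, 7),
  (.ofNat 55, 8), (.negSucc 12, 12), (.negSucc 31, 16), (.negSucc 8, 17), (.negSucc 5, 18), (.ofNat 42, 20), (.ofNat
  29, 21), (.ofNat 89, 27), (.ofNat 51, 29), (.ofNat 65, 32), (.ofNat 17, 33), (.negSucc 42, 35), (.negSucc 8, 39),
  (.negSucc 6, 41), (.ofNat 56, 42)])])

/-- a candidate -/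
def c53 : ℕ × ℕ × List Step :=
  (364500000, 3, [(0, 0, .ofNat 27, 0, [(.negSucc 2, 2), (.negSucc 19, 5), (.negSucc 3, 6), (.negSucc 4, 7), (.ofNat
  2, 8), (.negSucc 0, 10), (.negSucc 1, 16), (.negSucc 3, 18), (.ofNat 1, 20), (.ofNat 1, 21), (.ofNat 15, 27),
  (.ofNat 11, 32), (.negSucc 11, 35), (.ofNat 14, 42)])])

/-- a candidate -/
def c54 : ℕ × ℕ × List Step :=
  (364500000, 5, [(0, 0, .ofNat 81, 0, [(.negSucc 3, 4), (.negSucc 63, 5), (.ofNat 11, 6), (.negSucc 0, 7), (.ofNat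
  22, 8), (.negSucc 9, 9), (.negSucc 2, 10), (.negSucc 0, 11), (.negSucc 15, 14), (.negSucc 14, 17), (.ofNat 9, 20),
  (.negSucc 4, 24), (.negSucc 0, 26), (.ofNat 34, 27), (.ofNat 8, 29), (.ofNat 30, 32), (.ofNat 10, 33), (.negSucc 8,
  35), (.negSucc 0, 36), (.ofNat 9, 42)])])

/-- a candidate -/
def c55 : ℕ × ℕ × List Step :=
  (364500000, 15, [(0, 0, .ofNat 81, 0, [(.negSucc 80, 5), (.ofNat 40, 12), (.negSucc 19, 18), (.ofNat 40, 27),
  (.negSucc 39, 31), (.ofNat 40, 32), (.ofNat 40, 33), (.negSucc 39, 40), (.ofNat 40, 42)])])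

/-- a candidate -/
def c56 : ℕ × ℕ × List Step :=
  (373248000, 3, [(0, 0, .ofNat 27, 0, [(.negSucc 2, 2), (.negSucc 19, 5), (.negSucc 3, 6), (.negSucc 4, 7), (.ofNat
  2, 8), (.negSucc 0, 10), (.negSucc 1, 16), (.negSucc 3, 18), (.ofNat 1, 20), (.ofNat 1, 21), (.ofNat 15, 27),
  (.ofNat 11, 32), (.negSucc 11, 35), (.ofNat 14, 42)])])

/-- a candidate -/
def c57 : ℕ × ℕ × List Step :=
  (403200000, 7, [(0, 0, .ofNat 243, 0, [(.ofNat 20, 1), (.ofNat 18, 3), (.ofNat 79, 8), (.negSucc 144, 12),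
  (.negSucc 67, 14), (.negSucc 8, 15), (.negSucc 38, 16), (.negSucc 37, 17), (.ofNat 42, 20), (.ofNat 43, 21),
  (.ofNat 65, 23), (.ofNat 28, 25), (.ofNat 53, 27), (.ofNat 52, 32), (.negSucc 21, 35), (.negSucc 37, 39), (.negSucc
  8, 42)])])

/-- a candidate -/
def c58 : ℕ × ℕ × List Step :=
  (425250000, 7, [(0, 0, .ofNat 243, 0, [(.negSucc 52, 2), (.ofNat 66, 3), (.negSucc 84, 7), (.ofNat 60, 8),
  (.negSucc 102, 12), (.negSucc 27, 14), (.negSucc 31, 16), (.ofNat 35, 20), (.ofNat 50, 21), (.ofNat 66, 27),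
  (.negSucc 21, 28), (.ofNat 14, 29), (.ofNat 29, 32), (.negSucc 52, 35), (.negSucc 27, 41)])])

/-- a candidate -/
def c59 : ℕ × ℕ × List Step :=
  (432000000, 5, [(0, 0, .ofNat 81, 0, [(.negSucc 61, 5), (.ofNat 14, 6), (.negSucc 6, 7), (.ofNat 28, 8), (.negSucc
  3, 11), (.negSucc 6, 14), (.negSucc 11, 15), (.negSucc 10, 18), (.ofNat 3, 19), (.negSucc 1, 22), (.negSucc 3, 26),
  (.ofNat 37, 27), (.ofNat 30, 32), (.ofNat 4, 33), (.negSucc 8, 36), (.negSucc 2, 39), (.negSucc 1, 40), (.ofNat 28,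
  42)])])

/-- candidates -/
def CL1 : List (ℕ × ℕ × List Step) :=
  [c30, c31, c32, c33, c34, c35, c36, c37, c38, c39, c40, c41, c42, c43, c44, c45, c46, c47, c48, c49, c50, c51, c52,
  c53, c54, c55, c56, c57, c58, c59]

theorem okC1 : okL TAB.HN.dat TAB.HN.rows 2 P Z CL1 = true := by decide +kernel

/-- a candidate -/
def c60 : ℕ × ℕ × List Step :=
  (460800000, 2, [(0, 0, .ofNat 243, 0, [(.ofNat 22, 1), (.negSucc 16, 2), (.ofNat 6, 3), (.ofNat 72, 8), (.negSucc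
  104, 12), (.negSucc 70, 14), (.negSucc 0, 15), (.negSucc 54, 16), (.negSucc 38, 17), (.ofNat 6, 18), (.ofNat 5,
  20), (.ofNat 41, 21), (.ofNat 115, 23), (.ofNat 89, 27), (.ofNat 6, 29), (.ofNat 39, 32), (.negSucc 38, 39)])])

/-- a candidate -/
def c61 : ℕ × ℕ × List Step :=
  (497664000, 2, [(0, 0, .ofNat 81, 0, [(.negSucc 6, 2), (.ofNat 5, 3), (.negSucc 33, 5), (.negSucc 10, 7), (.ofNat
  18, 8), (.negSucc 9, 16), (.negSucc 2, 17), (.negSucc 2, 18), (.ofNat 13, 20), (.ofNat 9, 21), (.ofNat 31, 27),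
  (.ofNat 17, 29), (.ofNat 24, 32), (.ofNat 8, 33), (.negSucc 12, 35), (.negSucc 0, 39), (.ofNat 23, 42)])])

/-- a candidate -/
def c62 : ℕ × ℕ × List Step :=
  (497664000, 4, [(0, 0, .ofNat 81, 0, [(.negSucc 6, 2), (.ofNat 5, 3), (.negSucc 33, 5), (.negSucc 10, 7), (.ofNat
  18, 8), (.negSucc 9, 16), (.negSucc 2, 17), (.negSucc 2, 18), (.ofNat 13, 20), (.ofNat 9, 21), (.ofNat 31, 27),
  (.ofNat 17, 29), (.ofNat 24, 32), (.ofNat 8, 33), (.negSucc 12, 35), (.negSucc 0, 39), (.ofNat 23, 42)])])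

/-- a candidate -/
def c63 : ℕ × ℕ × List Step :=
  (497664000, 8, [(0, 0, .ofNat 729, 0, [(.ofNat 27, 3), (.negSucc 309, 5), (.negSucc 123, 7), (.ofNat 186, 8),
  (.negSucc 92, 16), (.negSucc 2, 17), (.negSucc 42, 18), (.ofNat 133, 20), (.ofNat 81, 21), (.ofNat 1, 23), (.ofNat
  311, 27), (.ofNat 161, 29), (.ofNat 217, 32), (.ofNat 42, 33), (.negSucc 111, 35), (.negSucc 2, 39), (.negSucc 14,
  41), (.ofNat 206, 42)])])

/-- a candidate -/
def c64 : ℕ × ℕ × List Step :=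
  (497664000, 16, [(0, 0, .ofNat 729, 0, [(.ofNat 27, 3), (.negSucc 309, 5), (.negSucc 123, 7), (.ofNat 186, 8),
  (.negSucc 92, 16), (.negSucc 2, 17), (.negSucc 42, 18), (.ofNat 133, 20), (.ofNat 81, 21), (.ofNat 1, 23), (.ofNat
  311, 27), (.ofNat 161, 29), (.ofNat 217, 32), (.ofNat 42, 33), (.negSucc 111, 35), (.negSucc 2, 39), (.negSucc 14,
  41), (.ofNat 206, 42)])])

/-- a candidate -/
def c65 : ℕ × ℕ × List Step :=
  (544320000, 7, [(0, 0, .ofNat 243, 0, [(.ofNat 32, 1), (.ofNat 92, 3), (.negSucc 53, 7), (.ofNat 56, 8), (.negSucc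
  91, 12), (.negSucc 68, 14), (.negSucc 27, 15), (.negSucc 29, 16), (.negSucc 4, 17), (.ofNat 50, 20), (.ofNat 39,
  21), (.ofNat 48, 27), (.ofNat 36, 32), (.ofNat 4, 33), (.negSucc 30, 35), (.negSucc 4, 39)])])

/-- a candidate -/
def c66 : ℕ × ℕ × List Step :=
  (583200000, 3, [(0, 0, .ofNat 27, 0, [(.negSucc 21, 5), (.negSucc 2, 6), (.negSucc 2, 7), (.ofNat 4, 8), (.negSucc
  0, 16), (.negSucc 3, 18), (.ofNat 2, 20), (.ofNat 1, 21), (.negSucc 0, 24), (.negSucc 0, 26), (.ofNat 14, 27),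
  (.ofNat 4, 29), (.ofNat 8, 32), (.negSucc 10, 35), (.negSucc 0, 38), (.ofNat 16, 42)])])

/-- a candidate -/
def c67 : ℕ × ℕ × List Step :=
  (656916480, 11, [(0, 0, .ofNat 27, 0, [(.ofNat 2, 1), (.negSucc 3, 2), (.negSucc 16, 7), (.negSucc 1, 13),
  (.negSucc 3, 14), (.ofNat 2, 20), (.ofNat 1, 27), (.negSucc 2, 28), (.ofNat 6, 32)])])

/-- a candidate -/
def c68 : ℕ × ℕ × List Step :=
  (656916480, 22, [(0, 0, .ofNat 9, 0, [(.negSucc 5, 2), (.negSucc 0, 3), (.ofNat 2, 4), (.negSucc 0, 6), (.negSucc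
  5, 7), (.negSucc 0, 13), (.ofNat 2, 27), (.ofNat 4, 42)])])

/-- a candidate -/
def c69 : ℕ × ℕ × List Step :=
  (656916480, 44, [(0, 0, .ofNat 9, 0, [(.negSucc 5, 2), (.negSucc 0, 3), (.ofNat 2, 4), (.negSucc 0, 6), (.negSucc
  5, 7), (.negSucc 0, 13), (.ofNat 2, 27), (.ofNat 4, 42)])])

/-- a candidate -/
def c70 : ℕ × ℕ × List Step :=
  (656916480, 88, [(0, 0, .ofNat 81, 0, [(.ofNat 3, 1), (.negSucc 5, 3), (.negSucc 74, 5), (.negSucc 2, 6), (.negSucc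
  11, 7), (.ofNat 36, 12), (.ofNat 1, 15), (.negSucc 17, 18), (.negSucc 2, 20), (.negSucc 7, 21), (.negSucc 2, 22),
  (.ofNat 30, 27), (.negSucc 8, 28), (.negSucc 41, 31), (.ofNat 42, 32), (.negSucc 39, 40), (.ofNat 3, 41), (.ofNat
  43, 42)])])

/-- a candidate -/
def c71 : ℕ × ℕ × List Step :=
  (696729600, 7, [(0, 0, .ofNat 81, 0, [(.ofNat 9, 1), (.negSucc 8, 2), (.ofNat 31, 3), (.negSucc 16, 7), (.ofNat 18,
  8), (.negSucc 36, 12), (.negSucc 19, 14), (.negSucc 9, 15), (.negSucc 9, 16), (.negSucc 1, 17), (.ofNat 14, 20),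
  (.ofNat 14, 21), (.ofNat 13, 27), (.ofNat 14, 32), (.negSucc 10, 35), (.negSucc 1, 39)])])

/-- a candidate -/
def c72 : ℕ × ℕ × List Step :=
  (696729600, 14, [(0, 0, .ofNat 243, 0, [(.negSucc 97, 2), (.ofNat 85, 3), (.negSucc 99, 6), (.negSucc 113, 7),
  (.ofNat 11, 8), (.negSucc 3, 12), (.negSucc 15, 16), (.negSucc 18, 18), (.negSucc 11, 19), (.ofNat 4, 20), (.ofNat
  45, 21), (.negSucc 2, 25), (.ofNat 47, 27), (.negSucc 0, 28), (.ofNat 31, 29), (.ofNat 58, 32), (.negSucc 152, 35),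
  (.negSucc 19, 37), (.negSucc 19, 39), (.ofNat 62, 42)])])

/-- a candidate -/
def c73 : ℕ × ℕ × List Step :=
  (704000000, 11, [(0, 0, .ofNat 9, 0, [(.ofNat 2, 3), (.ofNat 2, 8), (.negSucc 1, 14), (.negSucc 0, 16), (.negSucc
  1, 17), (.ofNat 1, 21), (.ofNat 3, 27), (.ofNat 2, 32), (.negSucc 1, 39)])])

/-- a candidate -/
def c74 : ℕ × ℕ × List Step :=
  (756000000, 7, [(0, 0, .ofNat 81, 0, [(.ofNat 9, 1), (.negSucc 8, 2), (.ofNat 31, 3), (.negSucc 16, 7), (.ofNat 18,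
  8), (.negSucc 36, 12), (.negSucc 19, 14), (.negSucc 9, 15), (.negSucc 9, 16), (.negSucc 1, 17), (.ofNat 14, 20),
  (.ofNat 14, 21), (.ofNat 13, 27), (.ofNat 14, 32), (.negSucc 10, 35), (.negSucc 1, 39)])])

/-- a candidate -/
def c75 : ℕ × ℕ × List Step :=
  (768000000, 2, [(0, 0, .ofNat 729, 0, [(.ofNat 28, 1), (.negSucc 168, 5), (.ofNat 168, 8), (.negSucc 30, 12),
  (.negSucc 168, 14), (.negSucc 123, 16), (.negSucc 154, 17), (.ofNat 39, 20), (.ofNat 123, 21), (.negSucc 13, 22),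
  (.ofNat 180, 23), (.negSucc 82, 24), (.ofNat 275, 27), (.ofNat 65, 29), (.ofNat 184, 32), (.negSucc 67, 35),
  (.negSucc 50, 39), (.ofNat 36, 42)])])

/-- a candidate -/
def c76 : ℕ × ℕ × List Step :=
  (768000000, 4, [(0, 0, .ofNat 729, 0, [(.ofNat 28, 1), (.negSucc 168, 5), (.ofNat 168, 8), (.negSucc 30, 12),
  (.negSucc 168, 14), (.negSucc 123, 16), (.negSucc 154, 17), (.ofNat 39, 20), (.ofNat 123, 21), (.negSucc 13, 22),
  (.ofNat 180, 23), (.negSucc 82, 24), (.ofNat 275, 27), (.ofNat 65, 29), (.ofNat 184, 32), (.negSucc 67, 35),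
  (.negSucc 50, 39), (.ofNat 36, 42)])])

/-- a candidate -/
def c77 : ℕ × ℕ × List Step :=
  (829440000, 2, [(0, 0, .ofNat 243, 0, [(.negSucc 37, 2), (.ofNat 46, 3), (.negSucc 65, 5), (.negSucc 56, 7),
  (.ofNat 46, 8), (.negSucc 32, 14), (.negSucc 36, 16), (.negSucc 31, 17), (.ofNat 11, 20), (.ofNat 30, 21),
  (.negSucc 3, 24), (.ofNat 101, 27), (.ofNat 36, 29), (.ofNat 58, 32), (.ofNat 40, 33), (.ofNat 34, 42)])])

/-- a candidate -/
def c78 : ℕ × ℕ × List Step :=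
  (933120000, 3, [(0, 0, .ofNat 27, 0, [(.negSucc 21, 5), (.negSucc 2, 6), (.negSucc 2, 7), (.ofNat 4, 8), (.negSucc
  0, 16), (.negSucc 3, 18), (.ofNat 2, 20), (.ofNat 1, 21), (.negSucc 0, 24), (.negSucc 0, 26), (.ofNat 14, 27),
  (.ofNat 4, 29), (.ofNat 8, 32), (.negSucc 10, 35), (.negSucc 0, 38), (.ofNat 16, 42)])])

/-- a candidate -/
def c79 : ℕ × ℕ × List Step :=
  (933120000, 9, [(0, 0, .ofNat 27, 0, [(.negSucc 20, 5), (.negSucc 4, 7), (.ofNat 4, 8), (.negSucc 1, 16), (.ofNat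
  2, 17), (.negSucc 3, 18), (.ofNat 14, 27), (.ofNat 5, 29), (.negSucc 0, 31), (.ofNat 8, 32), (.negSucc 11, 35),
  (.negSucc 0, 37), (.ofNat 1, 39), (.ofNat 16, 42)])])

/-- a candidate -/
def c80 : ℕ × ℕ × List Step :=
  (933120000, 27, [(0, 0, .ofNat 27, 0, [(.negSucc 20, 5), (.negSucc 4, 7), (.ofNat 4, 8), (.negSucc 1, 16), (.ofNat
  2, 17), (.negSucc 3, 18), (.ofNat 14, 27), (.ofNat 5, 29), (.negSucc 0, 31), (.ofNat 8, 32), (.negSucc 11, 35),
  (.negSucc 0, 37), (.ofNat 1, 39), (.ofNat 16, 42)])])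

/-- a candidate -/
def c81 : ℕ × ℕ × List Step :=
  (967680000, 7, [(0, 0, .ofNat 27, 0, [(.ofNat 3, 1), (.negSucc 2, 2), (.ofNat 10, 3), (.negSucc 5, 7), (.ofNat 6,
  8), (.negSucc 11, 12), (.negSucc 6, 14), (.negSucc 2, 15), (.negSucc 2, 16), (.negSucc 0, 17), (.ofNat 5, 20),
  (.ofNat 5, 21), (.ofNat 4, 27), (.ofNat 5, 32), (.negSucc 3, 35), (.negSucc 0, 39)])])

/-- a candidate -/
def c82 : ℕ × ℕ × List Step :=
  (972000000, 5, [(0, 0, .ofNat 81, 0, [(.negSucc 58, 5), (.ofNat 12, 6), (.negSucc 0, 7), (.ofNat 23, 8), (.negSucc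
  9, 9), (.negSucc 2, 10), (.negSucc 3, 11), (.negSucc 11, 14), (.negSucc 9, 17), (.ofNat 17, 20), (.negSucc 1, 23),
  (.ofNat 4, 25), (.negSucc 3, 26), (.ofNat 30, 27), (.ofNat 14, 29), (.ofNat 29, 32), (.ofNat 15, 33), (.negSucc 6,
  35), (.ofNat 13, 42)])])

/-- a candidate -/
def c83 : ℕ × ℕ × List Step :=
  (1152000000, 5, [(0, 0, .ofNat 81, 0, [(.ofNat 29, 1), (.ofNat 57, 3), (.ofNat 9, 6), (.ofNat 20, 8), (.negSucc 59,
  12), (.negSucc 60, 14), (.negSucc 16, 15), (.negSucc 3, 16), (.negSucc 7, 17), (.ofNat 22, 19), (.ofNat 16, 20),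
  (.negSucc 14, 23), (.ofNat 12, 25), (.ofNat 12, 27), (.negSucc 5, 28), (.ofNat 66, 31), (.ofNat 12, 32), (.negSucc
  7, 36), (.negSucc 7, 39), (.ofNat 27, 40), (.ofNat 13, 41)])])

/-- a candidate -/
def c84 : ℕ × ℕ × List Step :=
  (1188000000, 11, [(0, 0, .ofNat 243, 0, [(.negSucc 26, 2), (.negSucc 173, 5), (.negSucc 33, 6), (.negSucc 47, 7),
  (.ofNat 21, 8), (.negSucc 21, 16), (.negSucc 39, 18), (.ofNat 7, 20), (.ofNat 3, 21), (.ofNat 137, 27), (.ofNat 95,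
  32), (.negSucc 107, 35), (.ofNat 14, 36), (.ofNat 128, 42)])])

/-- a candidate -/
def c85 : ℕ × ℕ × List Step :=
  (1306368000, 7, [(0, 0, .ofNat 81, 0, [(.negSucc 35, 7), (.ofNat 35, 8), (.ofNat 1, 10), (.negSucc 44, 12),
  (.negSucc 18, 16), (.ofNat 20, 20), (.ofNat 9, 21), (.ofNat 20, 27), (.negSucc 8, 28), (.ofNat 26, 29), (.ofNat 26,
  32), (.negSucc 33, 35)])])

/-- a candidate -/
def c86 : ℕ × ℕ × List Step :=
  (1344000000, 7, [(0, 0, .ofNat 81, 0, [(.ofNat 9, 1), (.ofNat 11, 3), (.negSucc 4, 5), (.ofNat 22, 8), (.negSucc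
  38, 12), (.negSucc 22, 14), (.negSucc 2, 15), (.negSucc 12, 16), (.negSucc 9, 17), (.ofNat 14, 20), (.ofNat 14,
  21), (.ofNat 20, 23), (.ofNat 5, 25), (.ofNat 19, 27), (.ofNat 15, 32), (.negSucc 8, 35), (.negSucc 9, 39)])])

/-- a candidate -/
def c87 : ℕ × ℕ × List Step :=
  (1382400000, 2, [(0, 0, .ofNat 243, 0, [(.negSucc 37, 2), (.ofNat 46, 3), (.negSucc 65, 5), (.negSucc 56, 7),
  (.ofNat 46, 8), (.negSucc 32, 14), (.negSucc 36, 16), (.negSucc 31, 17), (.ofNat 11, 20), (.ofNat 30, 21),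
  (.negSucc 3, 24), (.ofNat 101, 27), (.ofNat 36, 29), (.ofNat 58, 32), (.ofNat 40, 33), (.ofNat 34, 42)])])

/-- a candidate -/
def c88 : ℕ × ℕ × List Step :=
  (1382400000, 4, [(0, 0, .ofNat 243, 0, [(.negSucc 37, 2), (.ofNat 46, 3), (.negSucc 65, 5), (.negSucc 56, 7),
  (.ofNat 46, 8), (.negSucc 32, 14), (.negSucc 36, 16), (.negSucc 31, 17), (.ofNat 11, 20), (.ofNat 30, 21),
  (.negSucc 3, 24), (.ofNat 101, 27), (.ofNat 36, 29), (.ofNat 58, 32), (.ofNat 40, 33), (.ofNat 34, 42)])])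

/-- a candidate -/
def c89 : ℕ × ℕ × List Step :=
  (1382400000, 8, [(0, 0, .ofNat 27, 0, [(.negSucc 20, 5), (.negSucc 4, 7), (.ofNat 4, 8), (.negSucc 1, 16), (.ofNat
  2, 17), (.negSucc 3, 18), (.ofNat 14, 27), (.ofNat 5, 29), (.negSucc 0, 31), (.ofNat 8, 32), (.negSucc 11, 35),
  (.negSucc 0, 37), (.ofNat 1, 39), (.ofNat 16, 42)])])

/-- candidates -/
def CL2 : List (ℕ × ℕ × List Step) :=
  [c60, c61, c62, c63, c64, c65, c66, c67, c68, c69, c70, c71, c72, c73, c74, c75, c76, c77, c78, c79, c80, c81, c82,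
  c83, c84, c85, c86, c87, c88, c89]

theorem okC2 : okL TAB.HN.dat TAB.HN.rows 2 P Z CL2 = true := by decide +kernel

/-- a candidate -/
def c90 : ℕ × ℕ × List Step :=
  (1382400000, 16, [(0, 0, .ofNat 27, 0, [(.negSucc 20, 5), (.negSucc 4, 7), (.ofNat 4, 8), (.negSucc 1, 16), (.ofNat
  2, 17), (.negSucc 3, 18), (.ofNat 14, 27), (.ofNat 5, 29), (.negSucc 0, 31), (.ofNat 8, 32), (.negSucc 11, 35),
  (.negSucc 0, 37), (.ofNat 1, 39), (.ofNat 16, 42)])])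

/-- a candidate -/
def c91 : ℕ × ℕ × List Step :=
  (1382400000, 32, [(0, 0, .ofNat 27, 0, [(.negSucc 26, 5), (.ofNat 13, 12), (.negSucc 6, 18), (.ofNat 13, 27),
  (.negSucc 12, 31), (.ofNat 13, 32), (.ofNat 13, 33), (.negSucc 12, 40), (.ofNat 13, 42)])])

/-- a candidate -/
def c92 : ℕ × ℕ × List Step :=
  (1382400000, 64, [(0, 0, .ofNat 27, 0, [(.negSucc 26, 5), (.ofNat 13, 12), (.negSucc 6, 18), (.ofNat 13, 27),
  (.negSucc 12, 31), (.ofNat 13, 32), (.ofNat 13, 33), (.negSucc 12, 40), (.ofNat 13, 42)])])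

/-- a candidate -/
def c93 : ℕ × ℕ × List Step :=
  (1382400000, 128, [(0, 0, .ofNat 27, 0, [(.negSucc 26, 5), (.ofNat 13, 12), (.negSucc 6, 18), (.ofNat 13, 27),
  (.negSucc 12, 31), (.ofNat 13, 32), (.ofNat 13, 33), (.negSucc 12, 40), (.ofNat 13, 42)])])

/-- a candidate -/
def c94 : ℕ × ℕ × List Step :=
  (1458000000, 3, [(0, 0, .ofNat 27, 0, [(.negSucc 2, 2), (.negSucc 19, 5), (.negSucc 3, 6), (.negSucc 4, 7), (.ofNat
  2, 8), (.negSucc 0, 10), (.negSucc 1, 16), (.negSucc 3, 18), (.ofNat 1, 20), (.ofNat 1, 21), (.ofNat 15, 27),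
  (.ofNat 11, 32), (.negSucc 11, 35), (.ofNat 14, 42)])])

/-- a candidate -/
def c95 : ℕ × ℕ × List Step :=
  (1458000000, 9, [(0, 0, .ofNat 27, 0, [(.negSucc 2, 2), (.negSucc 19, 5), (.negSucc 3, 6), (.negSucc 4, 7), (.ofNat
  2, 8), (.negSucc 0, 10), (.negSucc 1, 16), (.negSucc 3, 18), (.ofNat 1, 20), (.ofNat 1, 21), (.ofNat 15, 27),
  (.ofNat 11, 32), (.negSucc 11, 35), (.ofNat 14, 42)])])

/-- a candidate -/
def c96 : ℕ × ℕ × List Step :=
  (1492992000, 2, [(0, 0, .ofNat 81, 0, [(.negSucc 6, 2), (.ofNat 5, 3), (.negSucc 33, 5), (.negSucc 10, 7), (.ofNat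
  18, 8), (.negSucc 9, 16), (.negSucc 2, 17), (.negSucc 2, 18), (.ofNat 13, 20), (.ofNat 9, 21), (.ofNat 31, 27),
  (.ofNat 17, 29), (.ofNat 24, 32), (.ofNat 8, 33), (.negSucc 12, 35), (.negSucc 0, 39), (.ofNat 23, 42)])])

/-- a candidate -/
def c97 : ℕ × ℕ × List Step :=
  (1492992000, 3, [(0, 0, .ofNat 27, 0, [(.negSucc 2, 2), (.negSucc 19, 5), (.negSucc 3, 6), (.negSucc 4, 7), (.ofNat
  2, 8), (.negSucc 0, 10), (.negSucc 1, 16), (.negSucc 3, 18), (.ofNat 1, 20), (.ofNat 1, 21), (.ofNat 15, 27),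
  (.ofNat 11, 32), (.negSucc 11, 35), (.ofNat 14, 42)])])

/-- a candidate -/
def c98 : ℕ × ℕ × List Step :=
  (1492992000, 6, [(0, 0, .ofNat 27, 0, [(.negSucc 2, 2), (.negSucc 19, 5), (.negSucc 3, 6), (.negSucc 4, 7), (.ofNat
  2, 8), (.negSucc 0, 10), (.negSucc 1, 16), (.negSucc 3, 18), (.ofNat 1, 20), (.ofNat 1, 21), (.ofNat 15, 27),
  (.ofNat 11, 32), (.negSucc 11, 35), (.ofNat 14, 42)])])

/-- a candidate -/
def c99 : ℕ × ℕ × List Step :=
  (1814400000, 7, [(0, 0, .ofNat 243, 0, [(.ofNat 25, 4), (.negSucc 89, 7), (.ofNat 42, 8), (.negSucc 49, 12),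
  (.negSucc 21, 16), (.ofNat 42, 17), (.negSucc 21, 18), (.negSucc 8, 19), (.ofNat 38, 20), (.ofNat 47, 21), (.ofNat
  57, 23), (.negSucc 38, 24), (.negSucc 19, 25), (.negSucc 38, 26), (.ofNat 61, 27), (.negSucc 53, 28), (.ofNat 16,
  29), (.ofNat 54, 32), (.ofNat 39, 34), (.negSucc 145, 35), (.negSucc 41, 37), (.ofNat 47, 42)])])

/-- a candidate -/
def c100 : ℕ × ℕ × List Step :=
  (2004750000, 11, [(0, 0, .ofNat 81, 0, [(.negSucc 8, 2), (.negSucc 57, 5), (.negSucc 10, 6), (.negSucc 15, 7),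
  (.ofNat 7, 8), (.negSucc 6, 16), (.negSucc 12, 18), (.ofNat 2, 20), (.ofNat 1, 21), (.ofNat 46, 27), (.ofNat 32,
  32), (.negSucc 35, 35), (.ofNat 5, 36), (.ofNat 43, 42)])])

/-- a candidate -/
def c101 : ℕ × ℕ × List Step :=
  (2004750000, 33, [(0, 0, .ofNat 27, 0, [(.negSucc 26, 5), (.ofNat 13, 12), (.negSucc 6, 18), (.ofNat 13, 27),
  (.negSucc 12, 31), (.ofNat 13, 32), (.ofNat 13, 33), (.negSucc 12, 40), (.ofNat 13, 42)])])

/-- a candidate -/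
def c102 : ℕ × ℕ × List Step :=
  (2304000000, 2, [(0, 0, .ofNat 243, 0, [(.ofNat 8, 1), (.negSucc 57, 5), (.ofNat 60, 8), (.negSucc 15, 12),
  (.negSucc 52, 14), (.negSucc 34, 16), (.negSucc 45, 17), (.ofNat 11, 20), (.ofNat 44, 21), (.negSucc 5, 22),
  (.ofNat 65, 23), (.negSucc 26, 24), (.ofNat 94, 27), (.ofNat 23, 29), (.ofNat 59, 32), (.negSucc 16, 35), (.negSucc
  12, 39), (.ofNat 22, 42)])])

/-- a candidate -/
def c103 : ℕ × ℕ × List Step :=
  (2332800000, 3, [(0, 0, .ofNat 27, 0, [(.negSucc 21, 5), (.negSucc 2, 6), (.negSucc 2, 7), (.ofNat 3, 8), (.negSucc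
  0, 16), (.negSucc 3, 18), (.ofNat 2, 20), (.ofNat 1, 21), (.negSucc 0, 24), (.ofNat 14, 27), (.ofNat 5, 29),
  (.ofNat 8, 32), (.negSucc 10, 35), (.ofNat 16, 42)])])

/-- a candidate -/
def c104 : ℕ × ℕ × List Step :=
  (2488320000, 2, [(0, 0, .ofNat 81, 0, [(.negSucc 12, 2), (.ofNat 15, 3), (.negSucc 21, 5), (.negSucc 18, 7),
  (.ofNat 15, 8), (.negSucc 10, 14), (.negSucc 11, 16), (.negSucc 10, 17), (.ofNat 4, 20), (.ofNat 10, 21), (.negSucc
  0, 24), (.ofNat 34, 27), (.ofNat 12, 29), (.ofNat 19, 32), (.ofNat 13, 33), (.ofNat 11, 42)])])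

/-- a candidate -/
def c105 : ℕ × ℕ × List Step :=
  (2488320000, 4, [(0, 0, .ofNat 27, 0, [(.negSucc 2, 2), (.negSucc 19, 5), (.negSucc 3, 6), (.negSucc 4, 7), (.ofNat
  2, 8), (.negSucc 0, 10), (.negSucc 1, 16), (.negSucc 3, 18), (.ofNat 1, 20), (.ofNat 1, 21), (.ofNat 15, 27),
  (.ofNat 11, 32), (.negSucc 11, 35), (.ofNat 14, 42)])])

/-- a candidate -/
def c106 : ℕ × ℕ × List Step :=
  (2592000000, 5, [(0, 0, .ofNat 27, 0, [(.negSucc 26, 5), (.ofNat 13, 12), (.negSucc 6, 18), (.ofNat 13, 27),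
  (.negSucc 12, 31), (.ofNat 13, 32), (.ofNat 13, 33), (.negSucc 12, 40), (.ofNat 13, 42)])])

/-- a candidate -/
def c107 : ℕ × ℕ × List Step :=
  (3225600000, 7, [(0, 0, .ofNat 81, 0, [(.negSucc 10, 2), (.negSucc 19, 3), (.ofNat 14, 4), (.negSucc 14, 5),
  (.ofNat 21, 8), (.negSucc 18, 12), (.negSucc 8, 16), (.negSucc 9, 18), (.ofNat 11, 20), (.ofNat 12, 21), (.ofNat
  33, 23), (.negSucc 13, 24), (.negSucc 3, 25), (.negSucc 13, 26), (.ofNat 37, 27), (.ofNat 2, 28), (.negSucc 1, 31),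
  (.ofNat 23, 32), (.ofNat 14, 34), (.negSucc 21, 35), (.negSucc 9, 37), (.negSucc 9, 39), (.ofNat 23, 42)])])

/-- a candidate -/
def c108 : ℕ × ℕ × List Step :=
  (3225600000, 14, [(0, 0, .ofNat 21, 0, [(.ofNat 1, 2), (.ofNat 1, 3), (.ofNat 2, 10), (.ofNat 2, 11), (.negSucc 5,
  12), (.negSucc 0, 14), (.negSucc 3, 15), (.negSucc 0, 17), (.negSucc 3, 18), (.ofNat 2, 23), (.negSucc 13, 24),
  (.negSucc 1, 25), (.negSucc 12, 26), (.ofNat 2, 28), (.ofNat 12, 29), (.ofNat 2, 30), (.negSucc 24, 31), (.ofNat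
  11, 32), (.ofNat 5, 33), (.ofNat 27, 34), (.negSucc 13, 36), (.negSucc 13, 37), (.ofNat 13, 38), (.negSucc 13, 39),
  (.ofNat 8, 41)])])

/-- a candidate -/
def c109 : ℕ × ℕ × List Step :=
  (3225600000, 28, [(0, 0, .ofNat 21, 0, [(.ofNat 1, 2), (.ofNat 1, 3), (.ofNat 2, 10), (.ofNat 2, 11), (.negSucc 5,
  12), (.negSucc 0, 14), (.negSucc 3, 15), (.negSucc 0, 17), (.negSucc 3, 18), (.ofNat 2, 23), (.negSucc 13, 24),
  (.negSucc 1, 25), (.negSucc 12, 26), (.ofNat 2, 28), (.ofNat 12, 29), (.ofNat 2, 30), (.negSucc 24, 31), (.ofNat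
  11, 32), (.ofNat 5, 33), (.ofNat 27, 34), (.negSucc 13, 36), (.negSucc 13, 37), (.ofNat 13, 38), (.negSucc 13, 39),
  (.ofNat 8, 41)])])

/-- a candidate -/
def c110 : ℕ × ℕ × List Step :=
  (3402000000, 7, [(0, 0, .ofNat 81, 0, [(.negSucc 32, 2), (.ofNat 29, 3), (.negSucc 33, 6), (.negSucc 37, 7),
  (.ofNat 3, 8), (.negSucc 0, 12), (.negSucc 4, 16), (.negSucc 6, 18), (.negSucc 2, 19), (.ofNat 1, 20), (.ofNat 15,
  21), (.negSucc 0, 25), (.ofNat 16, 27), (.ofNat 10, 29), (.ofNat 19, 32), (.negSucc 51, 35), (.negSucc 6, 37),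
  (.negSucc 6, 39), (.ofNat 21, 42)])])

/-- a candidate -/
def c111 : ℕ × ℕ × List Step :=
  (3402000000, 35, [(0, 0, .ofNat 27, 0, [(.negSucc 26, 5), (.negSucc 13, 18), (.negSucc 26, 31), (.ofNat 27, 32),
  (.ofNat 27, 33), (.ofNat 27, 34), (.ofNat 27, 38), (.negSucc 26, 40)])])

/-- a candidate -/
def c112 : ℕ × ℕ × List Step :=
  (3592512000, 77, [(0, 0, .ofNat 27, 0, [(.negSucc 26, 5), (.negSucc 13, 18), (.negSucc 26, 31), (.ofNat 27, 32),
  (.ofNat 27, 33), (.ofNat 27, 34), (.ofNat 27, 38), (.negSucc 26, 40)])])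

/-- a candidate -/
def c113 : ℕ × ℕ × List Step :=
  (3592512000, 231, [(0, 0, .ofNat 27, 0, [(.negSucc 26, 5), (.negSucc 13, 18), (.negSucc 26, 31), (.ofNat 27, 32),
  (.ofNat 27, 33), (.ofNat 27, 34), (.ofNat 27, 38), (.negSucc 26, 40)])])

/-- a candidate -/
def c114 : ℕ × ℕ × List Step :=
  (3732480000, 3, [(0, 0, .ofNat 27, 0, [(.negSucc 2, 2), (.negSucc 19, 5), (.negSucc 3, 6), (.negSucc 4, 7), (.ofNat
  2, 8), (.negSucc 0, 10), (.negSucc 1, 16), (.negSucc 3, 18), (.ofNat 1, 20), (.ofNat 1, 21), (.ofNat 15, 27),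
  (.ofNat 11, 32), (.negSucc 11, 35), (.ofNat 14, 42)])])

/-- a candidate -/
def c115 : ℕ × ℕ × List Step :=
  (4147200000, 2, [(0, 0, .ofNat 81, 0, [(.negSucc 12, 2), (.ofNat 15, 3), (.negSucc 21, 5), (.negSucc 18, 7),
  (.ofNat 15, 8), (.negSucc 10, 14), (.negSucc 11, 16), (.negSucc 10, 17), (.ofNat 4, 20), (.ofNat 10, 21), (.negSucc
  0, 24), (.ofNat 34, 27), (.ofNat 12, 29), (.ofNat 19, 32), (.ofNat 13, 33), (.ofNat 11, 42)])])

/-- a candidate -/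
def c116 : ℕ × ℕ × List Step :=
  (4354560000, 7, [(0, 0, .ofNat 81, 0, [(.negSucc 32, 2), (.ofNat 29, 3), (.negSucc 33, 6), (.negSucc 37, 7),
  (.ofNat 3, 8), (.negSucc 0, 12), (.negSucc 4, 16), (.negSucc 6, 18), (.negSucc 2, 19), (.ofNat 1, 20), (.ofNat 15,
  21), (.negSucc 0, 25), (.ofNat 16, 27), (.ofNat 10, 29), (.ofNat 19, 32), (.negSucc 51, 35), (.negSucc 6, 37),
  (.negSucc 6, 39), (.ofNat 21, 42)])])

/-- a candidate -/
def c117 : ℕ × ℕ × List Step :=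
  (5832000000, 3, [(0, 0, .ofNat 27, 0, [(.negSucc 2, 2), (.negSucc 19, 5), (.negSucc 3, 6), (.negSucc 4, 7), (.ofNat
  2, 8), (.negSucc 0, 10), (.negSucc 1, 16), (.negSucc 3, 18), (.ofNat 1, 20), (.ofNat 1, 21), (.ofNat 15, 27),
  (.ofNat 11, 32), (.negSucc 11, 35), (.ofNat 14, 42)])])

/-- a candidate -/
def c118 : ℕ × ℕ × List Step :=
  (5832000000, 5, [(0, 0, .ofNat 27, 0, [(.negSucc 26, 5), (.ofNat 13, 12), (.negSucc 6, 18), (.ofNat 13, 27),
  (.negSucc 12, 31), (.ofNat 13, 32), (.ofNat 13, 33), (.negSucc 12, 40), (.ofNat 13, 42)])])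

/-- a candidate -/
def c119 : ℕ × ℕ × List Step :=
  (5832000000, 15, [(0, 0, .ofNat 27, 0, [(.negSucc 26, 5), (.ofNat 13, 12), (.negSucc 6, 18), (.ofNat 13, 27),
  (.negSucc 12, 31), (.ofNat 13, 32), (.ofNat 13, 33), (.negSucc 12, 40), (.ofNat 13, 42)])])

/-- candidates -/
def CL3 : List (ℕ × ℕ × List Step) :=
  [c90, c91, c92, c93, c94, c95, c96, c97, c98, c99, c100, c101, c102, c103, c104, c105, c106, c107, c108, c109,
  c110, c111, c112, c113, c114, c115, c116, c117, c118, c119]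

theorem okC3 : okL TAB.HN.dat TAB.HN.rows 2 P Z CL3 = true := by decide +kernel

/-- a candidate -/
def c120 : ℕ × ℕ × List Step :=
  (6048000000, 7, [(0, 0, .ofNat 81, 0, [(.negSucc 80, 5), (.negSucc 39, 18), (.negSucc 80, 31), (.ofNat 81, 32),
  (.ofNat 81, 33), (.ofNat 81, 34), (.ofNat 81, 38), (.negSucc 80, 40)])])

/-- a candidate -/
def c121 : ℕ × ℕ × List Step :=
  (6912000000, 2, [(0, 0, .ofNat 27, 0, [(.negSucc 2, 2), (.negSucc 19, 5), (.negSucc 3, 6), (.negSucc 4, 7), (.ofNat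
  2, 8), (.negSucc 0, 10), (.negSucc 1, 16), (.negSucc 3, 18), (.ofNat 1, 20), (.ofNat 1, 21), (.ofNat 15, 27),
  (.ofNat 11, 32), (.negSucc 11, 35), (.ofNat 14, 42)])])

/-- a candidate -/
def c122 : ℕ × ℕ × List Step :=
  (6912000000, 4, [(0, 0, .ofNat 27, 0, [(.negSucc 2, 2), (.negSucc 19, 5), (.negSucc 3, 6), (.negSucc 4, 7), (.ofNat
  2, 8), (.negSucc 0, 10), (.negSucc 1, 16), (.negSucc 3, 18), (.ofNat 1, 20), (.ofNat 1, 21), (.ofNat 15, 27),
  (.ofNat 11, 32), (.negSucc 11, 35), (.ofNat 14, 42)])])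

/-- a candidate -/
def c123 : ℕ × ℕ × List Step :=
  (6912000000, 5, [(0, 0, .ofNat 27, 0, [(.negSucc 26, 5), (.ofNat 13, 12), (.negSucc 6, 18), (.ofNat 13, 27),
  (.negSucc 12, 31), (.ofNat 13, 32), (.ofNat 13, 33), (.negSucc 12, 40), (.ofNat 13, 42)])])

/-- a candidate -/
def c124 : ℕ × ℕ × List Step :=
  (6912000000, 10, [(0, 0, .ofNat 27, 0, [(.negSucc 26, 5), (.ofNat 13, 12), (.negSucc 6, 18), (.ofNat 13, 27),
  (.negSucc 12, 31), (.ofNat 13, 32), (.ofNat 13, 33), (.negSucc 12, 40), (.ofNat 13, 42)])])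

/-- a candidate -/
def c125 : ℕ × ℕ × List Step :=
  (6912000000, 20, [(0, 0, .ofNat 27, 0, [(.negSucc 26, 5), (.ofNat 13, 12), (.negSucc 6, 18), (.ofNat 13, 27),
  (.negSucc 12, 31), (.ofNat 13, 32), (.ofNat 13, 33), (.negSucc 12, 40), (.ofNat 13, 42)])])

/-- a candidate -/
def c126 : ℕ × ℕ × List Step :=
  (6912000000, 25, [(0, 0, .ofNat 27, 0, [(.negSucc 26, 5), (.ofNat 13, 12), (.negSucc 6, 18), (.ofNat 13, 27),
  (.negSucc 12, 31), (.ofNat 13, 32), (.ofNat 13, 33), (.negSucc 12, 40), (.ofNat 13, 42)])])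

/-- a candidate -/
def c127 : ℕ × ℕ × List Step :=
  (6912000000, 50, [(0, 0, .ofNat 27, 0, [(.negSucc 26, 5), (.ofNat 13, 12), (.negSucc 6, 18), (.ofNat 13, 27),
  (.negSucc 12, 31), (.ofNat 13, 32), (.ofNat 13, 33), (.negSucc 12, 40), (.ofNat 13, 42)])])

/-- a candidate -/
def c128 : ℕ × ℕ × List Step :=
  (6912000000, 100, [(0, 0, .ofNat 27, 0, [(.negSucc 26, 5), (.ofNat 13, 12), (.negSucc 6, 18), (.ofNat 13, 27),
  (.negSucc 12, 31), (.ofNat 13, 32), (.ofNat 13, 33), (.negSucc 12, 40), (.ofNat 13, 42)])])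

/-- a candidate -/
def c129 : ℕ × ℕ × List Step :=
  (6912000000, 125, [(0, 0, .ofNat 27, 0, [(.negSucc 26, 5), (.ofNat 13, 12), (.negSucc 6, 18), (.ofNat 13, 27),
  (.negSucc 12, 31), (.ofNat 13, 32), (.ofNat 13, 33), (.negSucc 12, 40), (.ofNat 13, 42)])])

/-- a candidate -/
def c130 : ℕ × ℕ × List Step :=
  (6912000000, 250, [(0, 0, .ofNat 27, 0, [(.negSucc 26, 5), (.ofNat 13, 12), (.negSucc 6, 18), (.ofNat 13, 27),
  (.negSucc 12, 31), (.ofNat 13, 32), (.ofNat 13, 33), (.negSucc 12, 40), (.ofNat 13, 42)])])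

/-- a candidate -/
def c131 : ℕ × ℕ × List Step :=
  (6912000000, 500, [(0, 0, .ofNat 27, 0, [(.negSucc 26, 5), (.ofNat 13, 12), (.negSucc 6, 18), (.ofNat 13, 27),
  (.negSucc 12, 31), (.ofNat 13, 32), (.ofNat 13, 33), (.negSucc 12, 40), (.ofNat 13, 42)])])

/-- a candidate -/
def c132 : ℕ × ℕ × List Step :=
  (7464960000, 2, [(0, 0, .ofNat 27, 0, [(.negSucc 2, 2), (.negSucc 19, 5), (.negSucc 3, 6), (.negSucc 4, 7), (.ofNat
  2, 8), (.negSucc 0, 10), (.negSucc 1, 16), (.negSucc 3, 18), (.ofNat 1, 20), (.ofNat 1, 21), (.ofNat 15, 27),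
  (.ofNat 11, 32), (.negSucc 11, 35), (.ofNat 14, 42)])])

/-- a candidate -/
def c133 : ℕ × ℕ × List Step :=
  (8448000000, 11, [(0, 0, .ofNat 81, 0, [(.negSucc 80, 5), (.ofNat 40, 12), (.negSucc 19, 18), (.ofNat 40, 27),
  (.negSucc 40, 31), (.ofNat 40, 32), (.ofNat 40, 33), (.negSucc 39, 40), (.ofNat 40, 42)])])

/-- a candidate -/
def c134 : ℕ × ℕ × List Step :=
  (8448000000, 22, [(0, 0, .ofNat 27, 0, [(.negSucc 26, 5), (.ofNat 13, 12), (.negSucc 6, 18), (.ofNat 13, 27),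
  (.negSucc 12, 31), (.ofNat 13, 32), (.ofNat 13, 33), (.negSucc 12, 40), (.ofNat 13, 42)])])

/-- a candidate -/
def c135 : ℕ × ℕ × List Step :=
  (9331200000, 3, [(0, 0, .ofNat 27, 0, [(.negSucc 2, 2), (.negSucc 19, 5), (.negSucc 3, 6), (.negSucc 4, 7), (.ofNat
  2, 8), (.negSucc 0, 10), (.negSucc 1, 16), (.negSucc 3, 18), (.ofNat 1, 20), (.ofNat 1, 21), (.ofNat 15, 27),
  (.ofNat 11, 32), (.negSucc 11, 35), (.ofNat 14, 42)])])

/-- a candidate -/
def c136 : ℕ × ℕ × List Step :=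
  (9331200000, 9, [(0, 0, .ofNat 27, 0, [(.negSucc 26, 5), (.ofNat 13, 12), (.negSucc 6, 18), (.ofNat 13, 27),
  (.negSucc 12, 31), (.ofNat 13, 32), (.ofNat 13, 33), (.negSucc 12, 40), (.ofNat 13, 42)])])

/-- a candidate -/
def c137 : ℕ × ℕ × List Step :=
  (10450944000, 7, [(0, 0, .ofNat 81, 0, [(.negSucc 80, 5), (.negSucc 39, 18), (.negSucc 80, 31), (.ofNat 81, 32),
  (.ofNat 81, 33), (.ofNat 81, 34), (.ofNat 81, 38), (.negSucc 80, 40)])])

/-- a candidate -/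
def c138 : ℕ × ℕ × List Step :=
  (10450944000, 14, [(0, 0, .ofNat 27, 0, [(.negSucc 26, 5), (.negSucc 13, 18), (.negSucc 26, 31), (.ofNat 27, 32),
  (.ofNat 27, 33), (.ofNat 27, 34), (.ofNat 27, 38), (.negSucc 26, 40)])])

/-- a candidate -/
def c139 : ℕ × ℕ × List Step :=
  (10450944000, 21, [(0, 0, .ofNat 27, 0, [(.negSucc 26, 5), (.negSucc 13, 18), (.negSucc 26, 31), (.ofNat 27, 32),
  (.ofNat 27, 33), (.ofNat 27, 34), (.ofNat 27, 38), (.negSucc 26, 40)])])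

/-- a candidate -/
def c140 : ℕ × ℕ × List Step :=
  (10450944000, 28, [(0, 0, .ofNat 27, 0, [(.negSucc 26, 5), (.negSucc 13, 18), (.negSucc 26, 31), (.ofNat 27, 32),
  (.ofNat 27, 33), (.ofNat 27, 34), (.ofNat 27, 38), (.negSucc 26, 40)])])

/-- a candidate -/
def c141 : ℕ × ℕ × List Step :=
  (10450944000, 42, [(0, 0, .ofNat 27, 0, [(.negSucc 26, 5), (.negSucc 13, 18), (.negSucc 26, 31), (.ofNat 27, 32),
  (.ofNat 27, 33), (.ofNat 27, 34), (.ofNat 27, 38), (.negSucc 26, 40)])])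

/-- a candidate -/
def c142 : ℕ × ℕ × List Step :=
  (10450944000, 84, [(0, 0, .ofNat 27, 0, [(.negSucc 26, 5), (.negSucc 13, 18), (.negSucc 26, 31), (.ofNat 27, 32),
  (.ofNat 27, 33), (.ofNat 27, 34), (.ofNat 27, 38), (.negSucc 26, 40)])])

/-- a candidate -/
def c143 : ℕ × ℕ × List Step :=
  (12441600000, 2, [(0, 0, .ofNat 27, 0, [(.negSucc 2, 2), (.negSucc 19, 5), (.negSucc 3, 6), (.negSucc 4, 7),
  (.ofNat 2, 8), (.negSucc 0, 10), (.negSucc 1, 16), (.negSucc 3, 18), (.ofNat 1, 20), (.ofNat 1, 21), (.ofNat 15,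
  27), (.ofNat 11, 32), (.negSucc 11, 35), (.ofNat 14, 42)])])

/-- a candidate -/
def c144 : ℕ × ℕ × List Step :=
  (12441600000, 4, [(0, 0, .ofNat 27, 0, [(.negSucc 26, 5), (.ofNat 13, 12), (.negSucc 6, 18), (.ofNat 13, 27),
  (.negSucc 12, 31), (.ofNat 13, 32), (.ofNat 13, 33), (.negSucc 12, 40), (.ofNat 13, 42)])])

/-- a candidate -/
def c145 : ℕ × ℕ × List Step :=
  (12441600000, 8, [(0, 0, .ofNat 27, 0, [(.negSucc 26, 5), (.ofNat 13, 12), (.negSucc 6, 18), (.ofNat 13, 27),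
  (.negSucc 12, 31), (.ofNat 13, 32), (.ofNat 13, 33), (.negSucc 12, 40), (.ofNat 13, 42)])])

/-- a candidate -/
def c146 : ℕ × ℕ × List Step :=
  (14515200000, 7, [(0, 0, .ofNat 81, 0, [(.negSucc 80, 5), (.negSucc 39, 18), (.negSucc 80, 31), (.ofNat 81, 32),
  (.ofNat 81, 33), (.ofNat 81, 34), (.ofNat 81, 38), (.negSucc 80, 40)])])

/-- a candidate -/
def c147 : ℕ × ℕ × List Step :=
  (15552000000, 5, [(0, 0, .ofNat 27, 0, [(.negSucc 26, 5), (.ofNat 13, 12), (.negSucc 6, 18), (.ofNat 13, 27),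
  (.negSucc 12, 31), (.ofNat 13, 32), (.ofNat 13, 33), (.negSucc 12, 40), (.ofNat 13, 42)])])

/-- a candidate -/
def c148 : ℕ × ℕ × List Step :=
  (20412000000, 125, [(0, 0, .ofNat 81, 0, [(.ofNat 40, 2), (.negSucc 39, 5), (.negSucc 19, 18), (.negSucc 39, 24),
  (.negSucc 39, 26), (.ofNat 40, 29), (.negSucc 39, 31), (.ofNat 40, 32), (.ofNat 40, 33), (.ofNat 81, 34), (.negSucc
  39, 36), (.negSucc 39, 37), (.ofNat 40, 38), (.negSucc 39, 39)])])

/-- a candidate -/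
def c149 : ℕ × ℕ × List Step :=
  (20736000000, 2, [(0, 0, .ofNat 27, 0, [(.negSucc 26, 5), (.ofNat 13, 12), (.negSucc 6, 18), (.ofNat 13, 27),
  (.negSucc 12, 31), (.ofNat 13, 32), (.ofNat 13, 33), (.negSucc 12, 40), (.ofNat 13, 42)])])

/-- candidates -/
def CL4 : List (ℕ × ℕ × List Step) :=
  [c120, c121, c122, c123, c124, c125, c126, c127, c128, c129, c130, c131, c132, c133, c134, c135, c136, c137, c138,
  c139, c140, c141, c142, c143, c144, c145, c146, c147, c148, c149]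

theorem okC4 : okL TAB.HN.dat TAB.HN.rows 2 P Z CL4 = true := by decide +kernel

/-- a candidate -/
def c150 : ℕ × ℕ × List Step :=
  (23328000000, 3, [(0, 0, .ofNat 27, 0, [(.negSucc 26, 5), (.ofNat 13, 12), (.negSucc 6, 18), (.ofNat 13, 27),
  (.negSucc 12, 31), (.ofNat 13, 32), (.ofNat 13, 33), (.negSucc 12, 40), (.ofNat 13, 42)])])

/-- a candidate -/
def c151 : ℕ × ℕ × List Step :=
  (26127360000, 27, [(0, 0, .ofNat 81, 0, [(.ofNat 40, 2), (.negSucc 39, 5), (.negSucc 19, 18), (.negSucc 39, 24),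
  (.negSucc 39, 26), (.ofNat 40, 29), (.negSucc 39, 31), (.ofNat 40, 32), (.ofNat 40, 33), (.ofNat 81, 34), (.negSucc
  39, 36), (.negSucc 39, 37), (.ofNat 40, 38), (.negSucc 39, 39)])])

/-- a candidate -/
def c152 : ℕ × ℕ × List Step :=
  (26127360000, 81, [(0, 0, .ofNat 1, 0, [(.ofNat 1, 2), (.negSucc 0, 24), (.negSucc 0, 26), (.ofNat 1, 29), (.ofNat
  1, 34), (.negSucc 0, 36), (.negSucc 0, 37), (.negSucc 0, 39), (.ofNat 1, 40)])])

/-- a candidate -/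
def c153 : ℕ × ℕ × List Step :=
  (26127360000, 243, [(0, 0, .ofNat 1, 0, [(.ofNat 1, 2), (.negSucc 0, 24), (.negSucc 0, 26), (.ofNat 1, 29), (.ofNat
  1, 34), (.negSucc 0, 36), (.negSucc 0, 37), (.negSucc 0, 39), (.ofNat 1, 40)])])

/-- a candidate -/
def c154 : ℕ × ℕ × List Step :=
  (27216000000, 7, [(0, 0, .ofNat 27, 0, [(.negSucc 26, 5), (.negSucc 13, 18), (.negSucc 26, 31), (.ofNat 27, 32),
  (.ofNat 27, 33), (.ofNat 27, 34), (.ofNat 27, 38), (.negSucc 26, 40)])])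

/-- a candidate -/
def c155 : ℕ × ℕ × List Step :=
  (37324800000, 2, [(0, 0, .ofNat 27, 0, [(.negSucc 26, 5), (.ofNat 13, 12), (.negSucc 6, 18), (.ofNat 13, 27),
  (.negSucc 12, 31), (.ofNat 13, 32), (.ofNat 13, 33), (.negSucc 12, 40), (.ofNat 13, 42)])])

/-- a candidate -/
def c156 : ℕ × ℕ × List Step :=
  (37324800000, 3, [(0, 0, .ofNat 27, 0, [(.negSucc 26, 5), (.ofNat 13, 12), (.negSucc 6, 18), (.ofNat 13, 27),
  (.negSucc 12, 31), (.ofNat 13, 32), (.ofNat 13, 33), (.negSucc 12, 40), (.ofNat 13, 42)])])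

/-- a candidate -/
def c157 : ℕ × ℕ × List Step :=
  (37324800000, 6, [(0, 0, .ofNat 27, 0, [(.negSucc 26, 5), (.ofNat 13, 12), (.negSucc 6, 18), (.ofNat 13, 27),
  (.negSucc 12, 31), (.ofNat 13, 32), (.ofNat 13, 33), (.negSucc 12, 40), (.ofNat 13, 42)])])

/-- a candidate -/
def c158 : ℕ × ℕ × List Step :=
  (48384000000, 7, [(0, 0, .ofNat 27, 0, [(.negSucc 26, 5), (.negSucc 13, 18), (.negSucc 26, 31), (.ofNat 27, 32),
  (.ofNat 27, 33), (.ofNat 27, 34), (.ofNat 27, 38), (.negSucc 26, 40)])])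

/-- a candidate -/
def c159 : ℕ × ℕ × List Step :=
  (48384000000, 14, [(0, 0, .ofNat 27, 0, [(.negSucc 26, 5), (.negSucc 13, 18), (.negSucc 26, 31), (.ofNat 27, 32),
  (.ofNat 27, 33), (.ofNat 27, 34), (.ofNat 27, 38), (.negSucc 26, 40)])])

/-- a candidate -/
def c160 : ℕ × ℕ × List Step :=
  (62208000000, 2, [(0, 0, .ofNat 27, 0, [(.negSucc 26, 5), (.ofNat 13, 12), (.negSucc 6, 18), (.ofNat 13, 27),
  (.negSucc 12, 31), (.ofNat 13, 32), (.ofNat 13, 33), (.negSucc 12, 40), (.ofNat 13, 42)])])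

/-- a candidate -/
def c161 : ℕ × ℕ × List Step :=
  (62208000000, 4, [(0, 0, .ofNat 27, 0, [(.negSucc 26, 5), (.ofNat 13, 12), (.negSucc 6, 18), (.ofNat 13, 27),
  (.negSucc 12, 31), (.ofNat 13, 32), (.ofNat 13, 33), (.negSucc 12, 40), (.ofNat 13, 42)])])

/-- a candidate -/
def c162 : ℕ × ℕ × List Step :=
  (93312000000, 3, [(0, 0, .ofNat 27, 0, [(.negSucc 26, 5), (.ofNat 13, 12), (.negSucc 6, 18), (.ofNat 13, 27),
  (.negSucc 12, 31), (.ofNat 13, 32), (.ofNat 13, 33), (.negSucc 12, 40), (.ofNat 13, 42)])])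

/-- a candidate -/
def c163 : ℕ × ℕ × List Step :=
  (93312000000, 5, [(0, 0, .ofNat 27, 0, [(.negSucc 26, 5), (.ofNat 13, 12), (.negSucc 6, 18), (.ofNat 13, 27),
  (.negSucc 12, 31), (.ofNat 13, 32), (.ofNat 13, 33), (.negSucc 12, 40), (.ofNat 13, 42)])])

/-- a candidate -/
def c164 : ℕ × ℕ × List Step :=
  (93312000000, 9, [(0, 0, .ofNat 27, 0, [(.negSucc 26, 5), (.ofNat 13, 12), (.negSucc 6, 18), (.ofNat 13, 27),
  (.negSucc 12, 31), (.ofNat 13, 32), (.ofNat 13, 33), (.negSucc 12, 40), (.ofNat 13, 42)])])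

/-- a candidate -/
def c165 : ℕ × ℕ × List Step :=
  (93312000000, 15, [(0, 0, .ofNat 27, 0, [(.negSucc 26, 5), (.ofNat 13, 12), (.negSucc 6, 18), (.ofNat 13, 27),
  (.negSucc 12, 31), (.ofNat 13, 32), (.ofNat 13, 33), (.negSucc 12, 40), (.ofNat 13, 42)])])

/-- a candidate -/
def c166 : ℕ × ℕ × List Step :=
  (93312000000, 25, [(0, 0, .ofNat 27, 0, [(.negSucc 26, 5), (.ofNat 13, 12), (.negSucc 6, 18), (.ofNat 13, 27),
  (.negSucc 12, 31), (.ofNat 13, 32), (.ofNat 13, 33), (.negSucc 12, 40), (.ofNat 13, 42)])])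

/-- a candidate -/
def c167 : ℕ × ℕ × List Step :=
  (93312000000, 45, [(0, 0, .ofNat 27, 0, [(.negSucc 26, 5), (.ofNat 13, 12), (.negSucc 6, 18), (.ofNat 13, 27),
  (.negSucc 12, 31), (.ofNat 13, 32), (.ofNat 13, 33), (.negSucc 12, 40), (.ofNat 13, 42)])])

/-- a candidate -/
def c168 : ℕ × ℕ × List Step :=
  (93312000000, 75, [(0, 0, .ofNat 27, 0, [(.negSucc 26, 5), (.ofNat 13, 12), (.negSucc 6, 18), (.ofNat 13, 27),
  (.negSucc 12, 31), (.ofNat 13, 32), (.ofNat 13, 33), (.negSucc 12, 40), (.ofNat 13, 42)])])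

/-- a candidate -/
def c169 : ℕ × ℕ × List Step :=
  (93312000000, 225, [(0, 0, .ofNat 27, 0, [(.negSucc 26, 5), (.ofNat 13, 12), (.negSucc 6, 18), (.ofNat 13, 27),
  (.negSucc 12, 31), (.ofNat 13, 32), (.ofNat 13, 33), (.negSucc 12, 40), (.ofNat 13, 42)])])

/-- a candidate -/
def c170 : ℕ × ℕ × List Step :=
  (145152000000, 5, [(0, 0, .ofNat 81, 0, [(.ofNat 40, 2), (.negSucc 39, 5), (.negSucc 19, 18), (.negSucc 39, 24),
  (.negSucc 39, 26), (.ofNat 40, 29), (.negSucc 39, 31), (.ofNat 40, 32), (.ofNat 40, 33), (.ofNat 81, 34), (.negSucc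
  39, 36), (.negSucc 39, 37), (.ofNat 40, 38), (.negSucc 39, 39)])])

/-- a candidate -/
def c171 : ℕ × ℕ × List Step :=
  (145152000000, 8, [(0, 0, .ofNat 81, 0, [(.ofNat 40, 2), (.negSucc 39, 5), (.negSucc 19, 18), (.negSucc 39, 24),
  (.negSucc 39, 26), (.ofNat 40, 29), (.negSucc 39, 31), (.ofNat 40, 32), (.ofNat 40, 33), (.ofNat 81, 34), (.negSucc
  39, 36), (.negSucc 39, 37), (.ofNat 40, 38), (.negSucc 39, 39)])])

/-- a candidate -/
def c172 : ℕ × ℕ × List Step :=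
  (145152000000, 10, [(0, 0, .ofNat 81, 0, [(.ofNat 40, 2), (.negSucc 39, 5), (.negSucc 19, 18), (.negSucc 39, 24),
  (.negSucc 39, 26), (.ofNat 40, 29), (.negSucc 39, 31), (.ofNat 40, 32), (.ofNat 40, 33), (.ofNat 81, 34), (.negSucc
  39, 36), (.negSucc 39, 37), (.ofNat 40, 38), (.negSucc 39, 39)])])

/-- a candidate -/
def c173 : ℕ × ℕ × List Step :=
  (145152000000, 20, [(0, 0, .ofNat 81, 0, [(.ofNat 40, 2), (.negSucc 39, 5), (.negSucc 19, 18), (.negSucc 39, 24),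
  (.negSucc 39, 26), (.ofNat 40, 29), (.negSucc 39, 31), (.ofNat 40, 32), (.ofNat 40, 33), (.ofNat 81, 34), (.negSucc
  39, 36), (.negSucc 39, 37), (.ofNat 40, 38), (.negSucc 39, 39)])])

/-- a candidate -/
def c174 : ℕ × ℕ × List Step :=
  (145152000000, 40, [(0, 0, .ofNat 81, 0, [(.ofNat 40, 2), (.negSucc 39, 5), (.negSucc 19, 18), (.negSucc 39, 24),
  (.negSucc 39, 26), (.ofNat 40, 29), (.negSucc 39, 31), (.ofNat 40, 32), (.ofNat 40, 33), (.ofNat 81, 34), (.negSucc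
  39, 36), (.negSucc 39, 37), (.ofNat 40, 38), (.negSucc 39, 39)])])

/-- a candidate -/
def c175 : ℕ × ℕ × List Step :=
  (171072000000, 11, [(0, 0, .ofNat 27, 0, [(.negSucc 26, 5), (.ofNat 13, 12), (.negSucc 6, 18), (.ofNat 13, 27),
  (.negSucc 12, 31), (.ofNat 13, 32), (.ofNat 13, 33), (.negSucc 12, 40), (.ofNat 13, 42)])])

/-- a candidate -/
def c176 : ℕ × ℕ × List Step :=
  (171072000000, 55, [(0, 0, .ofNat 27, 0, [(.negSucc 26, 5), (.ofNat 13, 12), (.negSucc 6, 18), (.ofNat 13, 27),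
  (.negSucc 12, 31), (.ofNat 13, 32), (.ofNat 13, 33), (.negSucc 12, 40), (.ofNat 13, 42)])])

/-- a candidate -/
def c177 : ℕ × ℕ × List Step :=
  (186624000000, 2, [(0, 0, .ofNat 27, 0, [(.negSucc 26, 5), (.ofNat 13, 12), (.negSucc 6, 18), (.ofNat 13, 27),
  (.negSucc 12, 31), (.ofNat 13, 32), (.ofNat 13, 33), (.negSucc 12, 40), (.ofNat 13, 42)])])

/-- a candidate -/
def c178 : ℕ × ℕ × List Step :=
  (217728000000, 7, [(0, 0, .ofNat 27, 0, [(.negSucc 26, 5), (.negSucc 13, 18), (.negSucc 26, 31), (.ofNat 27, 32),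
  (.ofNat 27, 33), (.ofNat 27, 34), (.ofNat 27, 38), (.negSucc 26, 40)])])

/-- a candidate -/
def c179 : ℕ × ℕ × List Step :=
  (326592000000, 5, [(0, 0, .ofNat 81, 0, [(.ofNat 40, 2), (.negSucc 39, 5), (.negSucc 19, 18), (.negSucc 39, 24),
  (.negSucc 39, 26), (.ofNat 40, 29), (.negSucc 39, 31), (.ofNat 40, 32), (.ofNat 40, 33), (.ofNat 81, 34), (.negSucc
  39, 36), (.negSucc 39, 37), (.ofNat 40, 38), (.negSucc 39, 39)])])

/-- candidates -/
def CL5 : List (ℕ × ℕ × List Step) :=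
  [c150, c151, c152, c153, c154, c155, c156, c157, c158, c159, c160, c161, c162, c163, c164, c165, c166, c167, c168,
  c169, c170, c171, c172, c173, c174, c175, c176, c177, c178, c179]

theorem okC5 : okL TAB.HN.dat TAB.HN.rows 2 P Z CL5 = true := by decide +kernel

/-- a candidate -/
def c180 : ℕ × ℕ × List Step :=
  (435456000000, 2, [(0, 0, .ofNat 81, 0, [(.ofNat 40, 2), (.negSucc 39, 5), (.negSucc 19, 18), (.negSucc 39, 24),
  (.negSucc 39, 26), (.ofNat 40, 29), (.negSucc 39, 31), (.ofNat 40, 32), (.ofNat 40, 33), (.ofNat 81, 34), (.negSucc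
  39, 36), (.negSucc 39, 37), (.ofNat 40, 38), (.negSucc 39, 39)])])

/-- a candidate -/
def c181 : ℕ × ℕ × List Step :=
  (653184000000, 3, [(0, 0, .ofNat 27, 0, [(.ofNat 13, 2), (.negSucc 12, 5), (.negSucc 6, 18), (.negSucc 12, 24),
  (.negSucc 12, 26), (.ofNat 13, 29), (.negSucc 12, 31), (.ofNat 13, 32), (.ofNat 13, 33), (.ofNat 27, 34), (.negSucc
  12, 36), (.negSucc 12, 37), (.ofNat 13, 38), (.negSucc 12, 39)])])

/-- a candidate -/
def c182 : ℕ × ℕ × List Step :=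
  (1306368000000, 2, [(0, 0, .ofNat 27, 0, [(.ofNat 13, 2), (.negSucc 12, 5), (.negSucc 6, 18), (.negSucc 12, 24),
  (.negSucc 12, 26), (.ofNat 13, 29), (.negSucc 12, 31), (.ofNat 13, 32), (.ofNat 13, 33), (.ofNat 27, 34), (.negSucc
  12, 36), (.negSucc 12, 37), (.ofNat 13, 38), (.negSucc 12, 39)])])

/-- a candidate -/
def c183 : ℕ × ℕ × List Step :=
  (1306368000000, 4, [(0, 0, .ofNat 27, 0, [(.ofNat 13, 2), (.negSucc 12, 5), (.negSucc 6, 18), (.negSucc 12, 24),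
  (.negSucc 12, 26), (.ofNat 13, 29), (.negSucc 12, 31), (.ofNat 13, 32), (.ofNat 13, 33), (.ofNat 27, 34), (.negSucc
  12, 36), (.negSucc 12, 37), (.ofNat 13, 38), (.negSucc 12, 39)])])

/-- a candidate -/
def c184 : ℕ × ℕ × List Step :=
  (1306368000000, 8, [(0, 0, .ofNat 27, 0, [(.ofNat 13, 2), (.negSucc 12, 5), (.negSucc 6, 18), (.negSucc 12, 24),
  (.negSucc 12, 26), (.ofNat 13, 29), (.negSucc 12, 31), (.ofNat 13, 32), (.ofNat 13, 33), (.ofNat 27, 34), (.negSucc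
  12, 36), (.negSucc 12, 37), (.ofNat 13, 38), (.negSucc 12, 39)])])

/-- a candidate -/
def c185 : ℕ × ℕ × List Step :=
  (1306368000000, 16, [(0, 0, .ofNat 27, 0, [(.ofNat 13, 2), (.negSucc 12, 5), (.negSucc 6, 18), (.negSucc 12, 24),
  (.negSucc 12, 26), (.ofNat 13, 29), (.negSucc 12, 31), (.ofNat 13, 32), (.ofNat 13, 33), (.ofNat 27, 34), (.negSucc
  12, 36), (.negSucc 12, 37), (.ofNat 13, 38), (.negSucc 12, 39)])])

/-- a candidate -/
def c186 : ℕ × ℕ × List Step :=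
  (2052864000000, 11, [(0, 0, .ofNat 27, 0, [(.negSucc 26, 5), (.ofNat 13, 12), (.negSucc 6, 18), (.ofNat 13, 27),
  (.negSucc 12, 31), (.ofNat 13, 32), (.ofNat 13, 33), (.negSucc 12, 40), (.ofNat 13, 42)])])

/-- a candidate -/
def c187 : ℕ × ℕ × List Step :=
  (2052864000000, 12, [(0, 0, .ofNat 27, 0, [(.negSucc 26, 5), (.ofNat 13, 12), (.negSucc 6, 18), (.ofNat 13, 27),
  (.negSucc 12, 31), (.ofNat 13, 32), (.ofNat 13, 33), (.negSucc 12, 40), (.ofNat 13, 42)])])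

/-- a candidate -/
def c188 : ℕ × ℕ × List Step :=
  (2052864000000, 22, [(0, 0, .ofNat 27, 0, [(.negSucc 26, 5), (.ofNat 13, 12), (.negSucc 6, 18), (.ofNat 13, 27),
  (.negSucc 12, 31), (.ofNat 13, 32), (.ofNat 13, 33), (.negSucc 12, 40), (.ofNat 13, 42)])])

/-- a candidate -/
def c189 : ℕ × ℕ × List Step :=
  (2052864000000, 33, [(0, 0, .ofNat 27, 0, [(.negSucc 26, 5), (.ofNat 13, 12), (.negSucc 6, 18), (.ofNat 13, 27),
  (.negSucc 12, 31), (.ofNat 13, 32), (.ofNat 13, 33), (.negSucc 12, 40), (.ofNat 13, 42)])])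

/-- a candidate -/
def c190 : ℕ × ℕ × List Step :=
  (2052864000000, 44, [(0, 0, .ofNat 27, 0, [(.negSucc 26, 5), (.ofNat 13, 12), (.negSucc 6, 18), (.ofNat 13, 27),
  (.negSucc 12, 31), (.ofNat 13, 32), (.ofNat 13, 33), (.negSucc 12, 40), (.ofNat 13, 42)])])

/-- a candidate -/
def c191 : ℕ × ℕ × List Step :=
  (2052864000000, 66, [(0, 0, .ofNat 27, 0, [(.negSucc 26, 5), (.ofNat 13, 12), (.negSucc 6, 18), (.ofNat 13, 27),
  (.negSucc 12, 31), (.ofNat 13, 32), (.ofNat 13, 33), (.negSucc 12, 40), (.ofNat 13, 42)])])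

/-- candidates -/
def CL6 : List (ℕ × ℕ × List Step) :=
  [c180, c181, c182, c183, c184, c185, c186, c187, c188, c189, c190, c191]

theorem okC6 : okL TAB.HN.dat TAB.HN.rows 2 P Z CL6 = true := by decide +kernel

theorem okB : ∀ ld ∈ big, bigE E ld = true :=
  fa_nil

theorem okA : ∀ a ∈ divsT [(19, 1)], allA (leaf E) [(11, 1), (7, 1), (5, 6), (3, 6), (2, 14)] a = true := by
  rw [show divsT [(19, 1)] = [1, 19] by decide +kernel]
  exact fa_cons okA0 <| fa_cons okA1 <| fa_nil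

/-- the pairs -/
def pj (L : List (ℕ × ℕ × List Step)) : List (ℕ × ℕ) := L.map fun x => (x.1, x.2.1)

theorem okC : ∀ x ∈ E.SV, ∃ CL, okL TAB.HN.dat TAB.HN.rows E.j E.P E.Z CL = true ∧ x ∈ pj CL := by
  rw [show E.SV = [pj CL0, pj CL1, pj CL2, pj CL3, pj CL4, pj CL5, pj CL6].flatten by decide +kernel]
  exact forall_flatten <| fa_cons (fun _ h => ⟨_, okC0, h⟩) <| fa_cons (fun _ h => ⟨_, okC1, h⟩) <| fa_cons (fun _ h => ⟨_, okC2, h⟩) <| fa_cons (fun _ h => ⟨_, okC3, h⟩) <|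
    fa_cons (fun _ h => ⟨_, okC4, h⟩) <| fa_cons (fun _ h => ⟨_, okC5, h⟩) <| fa_cons (fun _ h => ⟨_, okC6, h⟩) <| fa_nil

/-- **no configuration** -/
theorem noW {K : Type} [Group K] [Finite K] (h : In K TAB.HN.dat TAB.HN.rows) : NoW K 2 :=
  noW_of (E := E) boxCH h.inC ok1 (H940.Eng.D.ords_hn base)
    (fun ld h => ⟨List.mem_append_left _ h, okB ld h⟩) (by decide +kernel) okA okC

end Cfsg.Agent.TH.Spor.NHN
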