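import Cfsg.Agent.TH.Spor.EngC
import Cfsg.Agent.TH.Spor.CH
import Cfsg.Agent.TAB.HS.Dat

/-!
# S3541, sporadic rows: HS (helper26; generated by notes/TH/spor26/gen.py.txt)
-/

set_option autoImplicit false
set_option Elab.async false

namespace Cfsg.Agent.TH.Spor.NHS

open Cfsg Cfsg.Agent.TAB.Eng Cfsg.Agent.H940.Eng

/-- the types of prime order -/
def P : St :=
  [(11, [(17, 8064000, 0)]), (7, [(12, 6336000, 0)]), (5, [(7, 147840, 0), (8, 88704, 0), (9, 1774080, 0)]), (3, [(3,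
  123200, 0)]), (2, [(1, 15400, 0), (2, 5775, 0)])]

/-- the types -/
def Z : List Ze :=
  [(1, 2, 15400, [1]), (2, 2, 5775, [2]), (3, 3, 123200, [3]), (4, 4, 11550, [2]), (5, 4, 693000, [2]), (6, 4,
  173250, [2]), (7, 5, 147840, [7]), (8, 5, 88704, [8]), (9, 5, 1774080, [9]), (10, 6, 1232000, [3, 1]), (11, 6,
  1848000, [3, 2]), (12, 7, 6336000, [12]), (13, 8, 5544000, [2]), (14, 8, 2772000, [2]), (15, 10, 2217600, [8, 2]),
  (16, 10, 2217600, [7, 1]), (17, 11, 8064000, [17]), (18, 12, 3696000, [3, 2]), (19, 15, 2956800, [7, 3]), (20, 20,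
  4435200, [8, 2])]

/-- local data, large primes -/
def big : List LD :=
  []

/-- local data, the other primes -/
def sm : List LD :=
  [⟨11, 11, [(5, 1), (11, 1)]⟩, ⟨7, 7, [(2, 1), (3, 1), (7, 1)]⟩]

/-- the candidates -/
def SV : List (ℕ × ℕ) :=
  [(512, 2), (512, 4), (512, 8), (512, 16), (512, 32), (2000, 5), (2000, 25), (4500, 15), (4608, 3), (4608, 6),
  (4608, 12), (4608, 24), (5040, 21), (12800, 8), (28800, 9), (32000, 5), (40320, 7), (64000, 2), (64000, 4), (72000,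
  3), (72000, 5), (72000, 15), (115200, 2), (115200, 3), (115200, 4), (115200, 6), (115200, 8), (115200, 12),
  (115200, 16), (115200, 24), (115200, 32), (115200, 48), (115200, 64), (115200, 96), (115200, 128), (115200, 192),
  (192000, 2), (192000, 5), (192000, 10), (252000, 7), (252000, 35), (288000, 3), (288000, 9), (443520, 33), (576000,
  2), (576000, 4), (2016000, 7)]

/-- the data -/
def E : En :=
  ⟨44352000, 2, P, Z, [(11, 1), (7, 1), (5, 3), (3, 2), (2, 9)], H940.Eng.D.o_hs, big ++ sm, SV⟩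

theorem ok1 : okEn TAB.HS.D (TAB.Sm2.mkRows TAB.HS.A TAB.HS.B) [] E = true := by decide +kernel

theorem okA0 : allA (leaf E) [(11, 1), (7, 1), (5, 3), (3, 2), (2, 9)] 1 = true := by decide +kernel

/-- a candidate -/
def c0 : ℕ × ℕ × List Step :=
  (512, 2, [(0, 0, .ofNat 0, 0, [(.negSucc 0, 11), (.negSucc 0, 17)])])

/-- a candidate -/
def c1 : ℕ × ℕ × List Step :=
  (512, 4, [(0, 0, .ofNat 0, 0, [(.negSucc 0, 11), (.negSucc 0, 17)])])

/-- a candidate -/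
def c2 : ℕ × ℕ × List Step :=
  (512, 8, [(0, 0, .ofNat 0, 0, [(.negSucc 0, 11), (.negSucc 0, 17)])])

/-- a candidate -/
def c3 : ℕ × ℕ × List Step :=
  (512, 16, [(0, 0, .ofNat 0, 0, [(.negSucc 0, 11), (.negSucc 0, 17)])])

/-- a candidate -/
def c4 : ℕ × ℕ × List Step :=
  (512, 32, [(0, 0, .ofNat 0, 0, [(.negSucc 0, 11), (.negSucc 0, 17)])])

/-- a candidate -/
def c5 : ℕ × ℕ × List Step :=
  (2000, 5, [(0, 0, .ofNat 0, 0, [(.negSucc 0, 4), (.negSucc 0, 14), (.negSucc 0, 17)])])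

/-- a candidate -/
def c6 : ℕ × ℕ × List Step :=
  (2000, 25, [(0, 0, .negSucc 1, 0, [(.ofNat 5, 2), (.ofNat 2, 7), (.negSucc 0, 16), (.negSucc 6, 17), (.ofNat 7,
  19), (.negSucc 8, 20)])])

/-- a candidate -/
def c7 : ℕ × ℕ × List Step :=
  (4500, 15, [(0, 0, .ofNat 0, 0, [(.negSucc 8, 4), (.negSucc 2, 12), (.ofNat 1, 14), (.negSucc 1, 16), (.negSucc 7,
  17)])])

/-- a candidate -/
def c8 : ℕ × ℕ × List Step :=
  (4608, 3, [(0, 0, .ofNat 0, 0, [(.negSucc 0, 11), (.negSucc 0, 17)])])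

/-- a candidate -/
def c9 : ℕ × ℕ × List Step :=
  (4608, 6, [(0, 0, .ofNat 0, 0, [(.negSucc 0, 11), (.negSucc 0, 17)])])

/-- a candidate -/
def c10 : ℕ × ℕ × List Step :=
  (4608, 12, [(0, 0, .ofNat 0, 0, [(.negSucc 0, 11), (.negSucc 0, 17)])])

/-- a candidate -/
def c11 : ℕ × ℕ × List Step :=
  (4608, 24, [(0, 0, .ofNat 0, 0, [(.negSucc 0, 11), (.negSucc 0, 17)])])

/-- a candidate -/
def c12 : ℕ × ℕ × List Step :=
  (5040, 21, [(0, 0, .ofNat 0, 0, [(.negSucc 0, 11), (.negSucc 0, 17)])])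

/-- a candidate -/
def c13 : ℕ × ℕ × List Step :=
  (12800, 8, [(0, 0, .ofNat 27, 0, [(.ofNat 13, 3), (.negSucc 13, 8), (.negSucc 12, 9), (.negSucc 8, 11), (.negSucc
  13, 14), (.negSucc 12, 16), (.negSucc 8, 20)])])

/-- a candidate -/
def c14 : ℕ × ℕ × List Step :=
  (28800, 9, [(0, 0, .ofNat 1, 0, [(.negSucc 0, 4), (.ofNat 1, 12), (.ofNat 1, 15)])])

/-- a candidate -/
def c15 : ℕ × ℕ × List Step :=
  (32000, 5, [(0, 0, .ofNat 27, 0, [(.ofNat 13, 3), (.negSucc 6, 4), (.ofNat 7, 7), (.negSucc 6, 8), (.negSucc 6, 9),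
  (.negSucc 12, 14), (.ofNat 7, 15), (.ofNat 7, 17), (.negSucc 2, 20)])])

/-- a candidate -/
def c16 : ℕ × ℕ × List Step :=
  (40320, 7, [(7, 160, .negSucc 0, 0, [(.negSucc 0, 10), (.ofNat 3, 11), (.ofNat 3, 17)]), (0, 0, .ofNat 0, 0,
  [(.negSucc 0, 11), (.negSucc 0, 17)])])

/-- a candidate -/
def c17 : ℕ × ℕ × List Step :=
  (64000, 2, [(0, 0, .ofNat 3, 0, [(.ofNat 1, 3), (.negSucc 0, 4), (.ofNat 1, 7), (.negSucc 0, 8), (.negSucc 0, 9),
  (.negSucc 0, 14), (.ofNat 1, 15)])])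

/-- a candidate -/
def c18 : ℕ × ℕ × List Step :=
  (64000, 4, [(0, 0, .ofNat 27, 0, [(.ofNat 13, 3), (.negSucc 6, 4), (.ofNat 7, 7), (.negSucc 6, 8), (.negSucc 6, 9),
  (.negSucc 12, 14), (.ofNat 7, 15), (.ofNat 7, 17), (.negSucc 2, 20)])])

/-- a candidate -/
def c19 : ℕ × ℕ × List Step :=
  (72000, 3, [(0, 0, .ofNat 27, 0, [(.ofNat 14, 1), (.negSucc 12, 4), (.negSucc 13, 8), (.negSucc 13, 9), (.ofNat 13,
  11), (.ofNat 14, 12), (.ofNat 14, 15), (.negSucc 13, 16), (.negSucc 6, 20)])])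

/-- a candidate -/
def c20 : ℕ × ℕ × List Step :=
  (72000, 5, [(0, 0, .ofNat 27, 0, [(.ofNat 14, 1), (.negSucc 12, 4), (.negSucc 13, 8), (.negSucc 13, 9), (.ofNat 13,
  11), (.ofNat 14, 12), (.ofNat 14, 15), (.negSucc 13, 16), (.negSucc 6, 20)])])

/-- a candidate -/
def c21 : ℕ × ℕ × List Step :=
  (72000, 15, [(0, 0, .ofNat 27, 0, [(.ofNat 14, 1), (.negSucc 12, 4), (.negSucc 13, 8), (.negSucc 13, 9), (.ofNat
  13, 11), (.ofNat 14, 12), (.ofNat 14, 15), (.negSucc 13, 16), (.negSucc 6, 20)])])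

/-- a candidate -/
def c22 : ℕ × ℕ × List Step :=
  (115200, 2, [(0, 0, .ofNat 27, 0, [(.ofNat 14, 1), (.negSucc 12, 4), (.negSucc 13, 8), (.negSucc 13, 9), (.ofNat
  13, 11), (.ofNat 14, 12), (.ofNat 14, 15), (.negSucc 13, 16), (.negSucc 6, 20)])])

/-- a candidate -/
def c23 : ℕ × ℕ × List Step :=
  (115200, 3, [(0, 0, .ofNat 27, 0, [(.ofNat 14, 1), (.negSucc 12, 4), (.negSucc 13, 8), (.negSucc 13, 9), (.ofNat
  13, 11), (.ofNat 14, 12), (.ofNat 14, 15), (.negSucc 13, 16), (.negSucc 6, 20)])])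

/-- a candidate -/
def c24 : ℕ × ℕ × List Step :=
  (115200, 4, [(0, 0, .ofNat 27, 0, [(.ofNat 14, 1), (.negSucc 12, 4), (.negSucc 13, 8), (.negSucc 13, 9), (.ofNat
  13, 11), (.ofNat 14, 12), (.ofNat 14, 15), (.negSucc 13, 16), (.negSucc 6, 20)])])

/-- a candidate -/
def c25 : ℕ × ℕ × List Step :=
  (115200, 6, [(0, 0, .ofNat 27, 0, [(.ofNat 14, 1), (.negSucc 12, 4), (.negSucc 13, 8), (.negSucc 13, 9), (.ofNat
  13, 11), (.ofNat 14, 12), (.ofNat 14, 15), (.negSucc 13, 16), (.negSucc 6, 20)])])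

/-- a candidate -/
def c26 : ℕ × ℕ × List Step :=
  (115200, 8, [(0, 0, .ofNat 27, 0, [(.ofNat 14, 1), (.negSucc 12, 4), (.negSucc 13, 8), (.negSucc 13, 9), (.ofNat
  13, 11), (.ofNat 14, 12), (.ofNat 14, 15), (.negSucc 13, 16), (.negSucc 6, 20)])])

/-- a candidate -/
def c27 : ℕ × ℕ × List Step :=
  (115200, 12, [(0, 0, .ofNat 27, 0, [(.ofNat 14, 1), (.negSucc 12, 4), (.negSucc 13, 8), (.negSucc 13, 9), (.ofNat
  13, 11), (.ofNat 14, 12), (.ofNat 14, 15), (.negSucc 13, 16), (.negSucc 6, 20)])])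

/-- a candidate -/
def c28 : ℕ × ℕ × List Step :=
  (115200, 16, [(0, 0, .ofNat 27, 0, [(.ofNat 14, 1), (.negSucc 12, 4), (.negSucc 13, 8), (.negSucc 13, 9), (.ofNat
  13, 11), (.ofNat 14, 12), (.ofNat 14, 15), (.negSucc 13, 16), (.negSucc 6, 20)])])

/-- a candidate -/
def c29 : ℕ × ℕ × List Step :=
  (115200, 24, [(0, 0, .ofNat 27, 0, [(.ofNat 14, 1), (.negSucc 12, 4), (.negSucc 13, 8), (.negSucc 13, 9), (.ofNat
  13, 11), (.ofNat 14, 12), (.ofNat 14, 15), (.negSucc 13, 16), (.negSucc 6, 20)])])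

/-- candidates -/
def CL0 : List (ℕ × ℕ × List Step) :=
  [c0, c1, c2, c3, c4, c5, c6, c7, c8, c9, c10, c11, c12, c13, c14, c15, c16, c17, c18, c19, c20, c21, c22, c23, c24,
  c25, c26, c27, c28, c29]

theorem okC0 : okL TAB.HS.D (TAB.Sm2.mkRows TAB.HS.A TAB.HS.B) 2 P Z CL0 = true := by decide +kernel

/-- a candidate -/
def c30 : ℕ × ℕ × List Step :=
  (115200, 32, [(0, 0, .ofNat 27, 0, [(.ofNat 14, 1), (.negSucc 12, 4), (.negSucc 13, 8), (.negSucc 13, 9), (.ofNat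
  13, 11), (.ofNat 14, 12), (.ofNat 14, 15), (.negSucc 13, 16), (.negSucc 6, 20)])])

/-- a candidate -/
def c31 : ℕ × ℕ × List Step :=
  (115200, 48, [(0, 0, .ofNat 27, 0, [(.ofNat 14, 1), (.negSucc 12, 4), (.negSucc 13, 8), (.negSucc 13, 9), (.ofNat
  13, 11), (.ofNat 14, 12), (.ofNat 14, 15), (.negSucc 13, 16), (.negSucc 6, 20)])])

/-- a candidate -/
def c32 : ℕ × ℕ × List Step :=
  (115200, 64, [(0, 0, .ofNat 27, 0, [(.ofNat 14, 1), (.negSucc 12, 4), (.negSucc 13, 8), (.negSucc 13, 9), (.ofNat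
  13, 11), (.ofNat 14, 12), (.ofNat 14, 15), (.negSucc 13, 16), (.negSucc 6, 20)])])

/-- a candidate -/
def c33 : ℕ × ℕ × List Step :=
  (115200, 96, [(0, 0, .ofNat 9, 0, [(.negSucc 8, 4), (.ofNat 9, 12), (.ofNat 9, 15), (.negSucc 8, 17), (.negSucc 3,
  20)])])

/-- a candidate -/
def c34 : ℕ × ℕ × List Step :=
  (115200, 128, [(0, 0, .ofNat 1, 0, [(.ofNat 1, 1), (.negSucc 0, 8), (.negSucc 0, 9), (.ofNat 1, 11), (.negSucc 0,
  16), (.ofNat 1, 17)])])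

/-- a candidate -/
def c35 : ℕ × ℕ × List Step :=
  (115200, 192, [(0, 0, .ofNat 9, 0, [(.negSucc 8, 4), (.ofNat 9, 12), (.ofNat 9, 15), (.negSucc 8, 17), (.negSucc 3,
  20)])])

/-- a candidate -/
def c36 : ℕ × ℕ × List Step :=
  (192000, 2, [(0, 0, .ofNat 27, 0, [(.ofNat 14, 1), (.negSucc 12, 4), (.negSucc 13, 8), (.negSucc 13, 9), (.ofNat
  13, 11), (.ofNat 14, 12), (.ofNat 14, 15), (.negSucc 13, 16), (.negSucc 6, 20)])])

/-- a candidate -/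
def c37 : ℕ × ℕ × List Step :=
  (192000, 5, [(0, 0, .ofNat 27, 0, [(.ofNat 14, 1), (.negSucc 12, 4), (.negSucc 13, 8), (.negSucc 13, 9), (.ofNat
  13, 11), (.ofNat 14, 12), (.ofNat 14, 15), (.negSucc 13, 16), (.negSucc 6, 20)])])

/-- a candidate -/
def c38 : ℕ × ℕ × List Step :=
  (192000, 10, [(0, 0, .ofNat 27, 0, [(.ofNat 14, 1), (.negSucc 12, 4), (.negSucc 13, 8), (.negSucc 13, 9), (.ofNat
  13, 11), (.ofNat 14, 12), (.ofNat 14, 15), (.negSucc 13, 16), (.negSucc 6, 20)])])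

/-- a candidate -/
def c39 : ℕ × ℕ × List Step :=
  (252000, 7, [(0, 0, .ofNat 9, 0, [(.negSucc 8, 4), (.ofNat 9, 12), (.ofNat 9, 15), (.negSucc 8, 17), (.negSucc 3,
  20)])])

/-- a candidate -/
def c40 : ℕ × ℕ × List Step :=
  (252000, 35, [(0, 0, .ofNat 9, 0, [(.negSucc 8, 4), (.ofNat 9, 12), (.ofNat 9, 15), (.negSucc 8, 17), (.negSucc 3,
  20)])])

/-- a candidate -/
def c41 : ℕ × ℕ × List Step :=
  (288000, 3, [(0, 0, .ofNat 27, 0, [(.ofNat 14, 1), (.negSucc 12, 4), (.negSucc 13, 8), (.negSucc 13, 9), (.ofNat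
  13, 11), (.ofNat 14, 12), (.ofNat 14, 15), (.negSucc 13, 16), (.negSucc 6, 20)])])

/-- a candidate -/
def c42 : ℕ × ℕ × List Step :=
  (288000, 9, [(0, 0, .ofNat 3, 0, [(.negSucc 2, 4), (.ofNat 1, 11), (.ofNat 3, 12), (.ofNat 3, 15), (.negSucc 0,
  20)])])

/-- a candidate -/
def c43 : ℕ × ℕ × List Step :=
  (443520, 33, [(0, 0, .ofNat 0, 0, [(.ofNat 178, 1), (.negSucc 202, 2), (.negSucc 24, 3), (.negSucc 609, 4),
  (.negSucc 609, 5), (.negSucc 1067, 6), (.negSucc 609, 9), (.negSucc 991, 10), (.negSucc 813, 11), (.negSucc 660,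
  12), (.negSucc 1271, 14), (.negSucc 2186, 15), (.negSucc 1906, 16), (.negSucc 1881, 17), (.ofNat 229, 18),
  (.negSucc 126, 19), (.negSucc 533, 20)])])

/-- a candidate -/
def c44 : ℕ × ℕ × List Step :=
  (576000, 2, [(0, 0, .ofNat 9, 0, [(.ofNat 5, 1), (.negSucc 3, 4), (.negSucc 4, 8), (.negSucc 4, 9), (.ofNat 4, 11),
  (.ofNat 5, 12), (.ofNat 5, 15), (.negSucc 4, 16), (.negSucc 1, 20)])])

/-- a candidate -/
def c45 : ℕ × ℕ × List Step :=
  (576000, 4, [(0, 0, .ofNat 9, 0, [(.ofNat 5, 1), (.negSucc 3, 4), (.negSucc 4, 8), (.negSucc 4, 9), (.ofNat 4, 11),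
  (.ofNat 5, 12), (.ofNat 5, 15), (.negSucc 4, 16), (.negSucc 1, 20)])])

/-- a candidate -/
def c46 : ℕ × ℕ × List Step :=
  (2016000, 7, [(0, 0, .ofNat 9, 0, [(.negSucc 8, 4), (.ofNat 9, 12), (.ofNat 9, 15), (.negSucc 8, 17), (.negSucc 3,
  20)])])

/-- candidates -/
def CL1 : List (ℕ × ℕ × List Step) :=
  [c30, c31, c32, c33, c34, c35, c36, c37, c38, c39, c40, c41, c42, c43, c44, c45, c46]

theorem okC1 : okL TAB.HS.D (TAB.Sm2.mkRows TAB.HS.A TAB.HS.B) 2 P Z CL1 = true := by decide +kernel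

theorem okB : ∀ ld ∈ big, bigE E ld = true :=
  fa_nil

theorem okA : ∀ a ∈ divsT [], allA (leaf E) [(11, 1), (7, 1), (5, 3), (3, 2), (2, 9)] a = true := by
  rw [show divsT [] = [1] by decide +kernel]
  exact fa_cons okA0 <| fa_nil

/-- the pairs -/
def pj (L : List (ℕ × ℕ × List Step)) : List (ℕ × ℕ) := L.map fun x => (x.1, x.2.1)

theorem okC : ∀ x ∈ E.SV, ∃ CL, okL TAB.HS.D (TAB.Sm2.mkRows TAB.HS.A TAB.HS.B) E.j E.P E.Z CL = true ∧ x ∈ pj CL := by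
  rw [show E.SV = [pj CL0, pj CL1].flatten by decide +kernel]
  exact forall_flatten <| fa_cons (fun _ h => ⟨_, okC0, h⟩) <| fa_cons (fun _ h => ⟨_, okC1, h⟩) <| fa_nil

/-- **no configuration** -/
theorem noW {K : Type} [Group K] [Finite K] (h : In K TAB.HS.D (TAB.Sm2.mkRows TAB.HS.A TAB.HS.B)) : NoW K 2 :=
  noW_of (E := E) boxCH h.inC ok1 (H940.Eng.D.ords_hs base)
    (fun ld h => ⟨List.mem_append_left _ h, okB ld h⟩) (by decide +kernel) okA okC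

end Cfsg.Agent.TH.Spor.NHS
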