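import Cfsg.Agent.TH.Spor.EngC
import Cfsg.Agent.TH.Spor.CH
import Cfsg.Agent.TH.Spor.J1

/-!
# S3541, sporadic rows: J1 (helper26; generated by notes/TH/spor26/gen.py.txt)
-/

set_option autoImplicit false
set_option Elab.async false

namespace Cfsg.Agent.TH.Spor.NJ1

open Cfsg Cfsg.Agent.TAB.Eng Cfsg.Agent.H940.Eng

/-- the types of prime order -/
def P : St :=
  [(19, [(9, 27720, 0)]), (11, [(7, 15960, 0)]), (7, [(5, 25080, 0)]), (5, [(3, 11704, 0)]), (3, [(2, 5852, 0)]), (2,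
  [(1, 1463, 0)])]

/-- the types -/
def Z : List Ze :=
  [(1, 2, 1463, [1]), (2, 3, 5852, [2]), (3, 5, 11704, [3]), (4, 6, 29260, [2, 1]), (5, 7, 25080, [5]), (6, 10,
  35112, [3, 1]), (7, 11, 15960, [7]), (8, 15, 23408, [3, 2]), (9, 19, 27720, [9])]

/-- local data, large primes -/
def big : List LD :=
  []

/-- local data, the other primes -/
def sm : List LD :=
  [⟨19, 19, [(2, 1), (3, 1), (19, 1)]⟩, ⟨11, 11, [(2, 1), (5, 1), (11, 1)]⟩, ⟨7, 7, [(2, 1), (3, 1), (7, 1)]⟩, ⟨5,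
  60, [(2, 2), (3, 1), (5, 1)]⟩, ⟨3, 60, [(2, 2), (3, 1), (5, 1)]⟩]

/-- the candidates -/
def SV : List (ℕ × ℕ) :=
  [(1320, 11), (1320, 22), (1320, 33), (1320, 44), (1320, 66)]

/-- the data -/
def E : En :=
  ⟨175560, 1, P, Z, [(19, 1), (11, 1), (7, 1), (5, 1), (3, 1), (2, 3)], H940.Eng.D.o_j1, big ++ sm, SV⟩

theorem ok1 : okEn TH.Spor.J1.dat TH.Spor.J1.tab [] E = true := by decide +kernel

theorem okA0 : allA (leaf E) [(19, 1), (11, 1), (7, 1), (5, 1), (3, 1), (2, 3)] 1 = true := by decide +kernel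

/-- a candidate -/
def c0 : ℕ × ℕ × List Step :=
  (1320, 11, [(0, 0, .ofNat 1, 0, [(.negSucc 0, 1), (.ofNat 1, 4), (.ofNat 1, 5)])])

/-- a candidate -/
def c1 : ℕ × ℕ × List Step :=
  (1320, 22, [(0, 0, .ofNat 1, 0, [(.negSucc 0, 1), (.ofNat 1, 4), (.ofNat 1, 5)])])

/-- a candidate -/
def c2 : ℕ × ℕ × List Step :=
  (1320, 33, [(0, 0, .ofNat 1, 0, [(.negSucc 0, 3), (.ofNat 1, 5)])])

/-- a candidate -/
def c3 : ℕ × ℕ × List Step :=
  (1320, 44, [(0, 0, .ofNat 1, 0, [(.negSucc 0, 1), (.ofNat 1, 4), (.ofNat 1, 5)])])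

/-- a candidate -/
def c4 : ℕ × ℕ × List Step :=
  (1320, 66, [(0, 0, .ofNat 1, 0, [(.negSucc 0, 3), (.ofNat 1, 5)])])

/-- candidates -/
def CL0 : List (ℕ × ℕ × List Step) :=
  [c0, c1, c2, c3, c4]

theorem okC0 : okL TH.Spor.J1.dat TH.Spor.J1.tab 1 P Z CL0 = true := by decide +kernel

theorem okB : ∀ ld ∈ big, bigE E ld = true :=
  fa_nil

theorem okA : ∀ a ∈ divsT [], allA (leaf E) [(19, 1), (11, 1), (7, 1), (5, 1), (3, 1), (2, 3)] a = true := by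
  rw [show divsT [] = [1] by decide +kernel]
  exact fa_cons okA0 <| fa_nil

/-- the pairs -/
def pj (L : List (ℕ × ℕ × List Step)) : List (ℕ × ℕ) := L.map fun x => (x.1, x.2.1)

theorem okC : ∀ x ∈ E.SV, ∃ CL, okL TH.Spor.J1.dat TH.Spor.J1.tab E.j E.P E.Z CL = true ∧ x ∈ pj CL := by
  rw [show E.SV = [pj CL0].flatten by decide +kernel]
  exact forall_flatten <| fa_cons (fun _ h => ⟨_, okC0, h⟩) <| fa_nil

/-- **no configuration** -/
theorem noW {K : Type} [Group K] [Finite K] (h : In K TH.Spor.J1.dat TH.Spor.J1.tab) : NoW K 1 :=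
  noW_of (E := E) boxCH h.inC ok1 (H940.Eng.D.ords_j1 base)
    (fun ld h => ⟨List.mem_append_left _ h, okB ld h⟩) (by decide +kernel) okA okC

end Cfsg.Agent.TH.Spor.NJ1
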