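import Cfsg.Agent.TH.Spor.EngC
import Cfsg.Agent.TH.Spor.CH
import Cfsg.Agent.TAB.J2.Main

/-!
# S3541, sporadic rows: J2 (helper26; generated by notes/TH/spor26/gen.py.txt)
-/

set_option autoImplicit false
set_option Elab.async false

namespace Cfsg.Agent.TH.Spor.NJ2

open Cfsg Cfsg.Agent.TAB.Eng Cfsg.Agent.H940.Eng

/-- the types of prime order -/
def P : St :=
  [(7, [(10, 86400, 0)]), (5, [(6, 4032, 0), (7, 24192, 0)]), (3, [(3, 560, 0), (4, 16800, 0)]), (2, [(1, 315, 0),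
  (2, 2520, 0)])]

/-- the types -/
def Z : List Ze :=
  [(1, 2, 315, [1]), (2, 2, 2520, [2]), (3, 3, 560, [3]), (4, 3, 16800, [4]), (5, 4, 6300, [1]), (6, 5, 4032, [6]),
  (7, 5, 24192, [7]), (8, 6, 25200, [3, 1]), (9, 6, 50400, [4, 2]), (10, 7, 86400, [10]), (11, 8, 75600, [1]), (12,
  10, 60480, [6, 2]), (13, 10, 120960, [7, 1]), (14, 12, 50400, [3, 1]), (15, 15, 80640, [6, 3])]

/-- local data, large primes -/
def big : List LD :=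
  []

/-- local data, the other primes -/
def sm : List LD :=
  [⟨7, 7, [(2, 1), (3, 1), (7, 1)]⟩]

/-- the candidates -/
def SV : List (ℕ × ℕ) :=
  [(128, 2), (128, 4), (216, 3), (216, 9), (300, 5), (336, 7), (384, 2), (640, 8), (640, 16), (675, 5), (800, 5),
  (864, 3), (1152, 2), (1152, 4), (1512, 7), (1512, 21), (1800, 5), (2160, 3), (2160, 9), (2688, 7), (2688, 14),
  (2688, 28), (2688, 56), (2688, 112), (3200, 2), (3200, 4), (3456, 2), (3456, 3), (3456, 6), (4800, 5), (4800, 25),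
  (5040, 7), (5400, 3), (5760, 2), (5760, 4), (5760, 8), (8640, 3), (9600, 2), (10800, 5), (12096, 7), (17280, 2),
  (21600, 3), (21600, 9), (28800, 2), (28800, 4), (28800, 5), (28800, 10), (40320, 7), (86400, 2), (86400, 3)]

/-- the data -/
def E : En :=
  ⟨604800, 2, P, Z, [(7, 1), (5, 2), (3, 3), (2, 7)], H940.Eng.D.o_j2, big ++ sm, SV⟩

theorem ok1 : okEn TAB.J2.D (TAB.Sm2.mkRows TAB.J2.A TAB.J2.B) [] E = true := by decide +kernel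

theorem okA0 : allA (leaf E) [(7, 1), (5, 2), (3, 3), (2, 7)] 1 = true := by decide +kernel

/-- a candidate -/
def c0 : ℕ × ℕ × List Step :=
  (128, 2, [(0, 0, .ofNat 0, 0, [(.negSucc 0, 8)])])

/-- a candidate -/
def c1 : ℕ × ℕ × List Step :=
  (128, 4, [(0, 0, .ofNat 0, 0, [(.negSucc 0, 8)])])

/-- a candidate -/
def c2 : ℕ × ℕ × List Step :=
  (216, 3, [(0, 0, .ofNat 0, 0, [(.negSucc 0, 15)])])

/-- a candidate -/
def c3 : ℕ × ℕ × List Step :=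
  (216, 9, [(0, 0, .ofNat 0, 0, [(.negSucc 0, 5)])])

/-- a candidate -/
def c4 : ℕ × ℕ × List Step :=
  (300, 5, [(6, 18, .negSucc 232, 0, [(.ofNat 233, 4), (.ofNat 93, 6), (.ofNat 729, 7), (.negSucc 185, 9), (.negSucc
  464, 14)])])

/-- a candidate -/
def c5 : ℕ × ℕ × List Step :=
  (336, 7, [(0, 0, .ofNat 0, 0, [(.negSucc 0, 8)])])

/-- a candidate -/
def c6 : ℕ × ℕ × List Step :=
  (384, 2, [(0, 0, .ofNat 0, 0, [(.negSucc 0, 8)])])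

/-- a candidate -/
def c7 : ℕ × ℕ × List Step :=
  (640, 8, [(0, 0, .ofNat 0, 0, [(.negSucc 8, 8), (.negSucc 3, 10), (.negSucc 4, 15)])])

/-- a candidate -/
def c8 : ℕ × ℕ × List Step :=
  (640, 16, [(0, 0, .ofNat 0, 0, [(.negSucc 8, 8), (.negSucc 4, 15)])])

/-- a candidate -/
def c9 : ℕ × ℕ × List Step :=
  (675, 5, [(0, 0, .ofNat 0, 0, [(.negSucc 0, 7)])])

/-- a candidate -/
def c10 : ℕ × ℕ × List Step :=
  (800, 5, [(0, 0, .ofNat 0, 0, [(.ofNat 2, 5), (.negSucc 1, 8), (.negSucc 1, 9), (.negSucc 2, 10)])])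

/-- a candidate -/
def c11 : ℕ × ℕ × List Step :=
  (864, 3, [(0, 0, .ofNat 9, 0, [(.negSucc 8, 1), (.negSucc 8, 5), (.negSucc 4, 14)])])

/-- a candidate -/
def c12 : ℕ × ℕ × List Step :=
  (1152, 2, [(0, 0, .ofNat 3, 0, [(.negSucc 0, 1), (.negSucc 1, 2), (.negSucc 1, 3), (.negSucc 0, 9), (.negSucc 0,
  14)])])

/-- a candidate -/
def c13 : ℕ × ℕ × List Step :=
  (1152, 4, [(0, 0, .ofNat 1, 0, [(.negSucc 0, 1), (.negSucc 0, 2), (.negSucc 0, 3)])])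

/-- a candidate -/
def c14 : ℕ × ℕ × List Step :=
  (1512, 7, [(0, 0, .ofNat 0, 0, [(.negSucc 0, 8)])])

/-- a candidate -/
def c15 : ℕ × ℕ × List Step :=
  (1512, 21, [(0, 0, .ofNat 9, 0, [(.negSucc 8, 1), (.negSucc 3, 14), (.ofNat 4, 15)])])

/-- a candidate -/
def c16 : ℕ × ℕ × List Step :=
  (1800, 5, [(0, 0, .ofNat 1, 0, [(.ofNat 1, 1), (.negSucc 0, 3), (.negSucc 0, 5), (.ofNat 1, 7), (.ofNat 1, 8),
  (.negSucc 0, 9)])])

/-- a candidate -/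
def c17 : ℕ × ℕ × List Step :=
  (2160, 3, [(0, 0, .ofNat 1, 0, [(.negSucc 0, 3), (.negSucc 0, 4), (.negSucc 0, 5), (.negSucc 0, 9)])])

/-- a candidate -/
def c18 : ℕ × ℕ × List Step :=
  (2160, 9, [(6, 35, .ofNat 9, 0, [(.ofNat 9, 5), (.ofNat 9, 6), (.ofNat 13, 7), (.ofNat 13, 8), (.ofNat 13, 9),
  (.ofNat 27, 10), (.ofNat 4, 11), (.ofNat 2, 13), (.ofNat 7, 14), (.ofNat 11, 15)])])

/-- a candidate -/
def c19 : ℕ × ℕ × List Step :=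
  (2688, 7, [(0, 0, .ofNat 9, 0, [(.negSucc 8, 1), (.ofNat 4, 11), (.ofNat 4, 12)])])

/-- a candidate -/
def c20 : ℕ × ℕ × List Step :=
  (2688, 14, [(0, 0, .ofNat 9, 0, [(.negSucc 8, 1), (.ofNat 4, 11), (.ofNat 4, 12)])])

/-- a candidate -/
def c21 : ℕ × ℕ × List Step :=
  (2688, 28, [(0, 0, .ofNat 9, 0, [(.ofNat 2, 4), (.negSucc 4, 5), (.ofNat 2, 6), (.ofNat 7, 7), (.ofNat 7, 8),
  (.ofNat 5, 10), (.ofNat 2, 13), (.ofNat 6, 15)])])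

/-- a candidate -/
def c22 : ℕ × ℕ × List Step :=
  (2688, 56, [(0, 0, .ofNat 9, 0, [(.ofNat 2, 4), (.negSucc 4, 5), (.ofNat 2, 6), (.ofNat 7, 7), (.ofNat 7, 8),
  (.ofNat 5, 10), (.ofNat 2, 13), (.ofNat 6, 15)])])

/-- a candidate -/
def c23 : ℕ × ℕ × List Step :=
  (2688, 112, [(0, 0, .ofNat 9, 0, [(.ofNat 2, 4), (.negSucc 4, 5), (.ofNat 2, 6), (.ofNat 7, 7), (.ofNat 7, 8),
  (.ofNat 5, 10), (.ofNat 2, 13), (.ofNat 6, 15)])])

/-- a candidate -/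
def c24 : ℕ × ℕ × List Step :=
  (3200, 2, [(0, 0, .ofNat 3, 0, [(.negSucc 0, 3), (.ofNat 1, 7), (.ofNat 1, 12), (.negSucc 0, 13)])])

/-- a candidate -/
def c25 : ℕ × ℕ × List Step :=
  (3200, 4, [(0, 0, .ofNat 3, 0, [(.negSucc 0, 3), (.ofNat 1, 7), (.ofNat 1, 12), (.negSucc 0, 13)])])

/-- a candidate -/
def c26 : ℕ × ℕ × List Step :=
  (3456, 2, [(0, 0, .ofNat 3, 0, [(.negSucc 0, 1), (.negSucc 1, 2), (.negSucc 0, 3), (.ofNat 1, 13)])])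

/-- a candidate -/
def c27 : ℕ × ℕ × List Step :=
  (3456, 3, [(0, 0, .ofNat 9, 0, [(.negSucc 8, 1), (.ofNat 4, 11), (.ofNat 4, 12)])])

/-- a candidate -/
def c28 : ℕ × ℕ × List Step :=
  (3456, 6, [(0, 0, .ofNat 9, 0, [(.negSucc 8, 1), (.ofNat 4, 11), (.ofNat 4, 12)])])

/-- a candidate -/
def c29 : ℕ × ℕ × List Step :=
  (4800, 5, [(7, 4, .ofNat 0, 0, [(.ofNat 53, 1), (.ofNat 95, 2), (.ofNat 53, 4), (.ofNat 18, 5), (.ofNat 89, 6),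
  (.ofNat 219, 7), (.ofNat 243, 8), (.ofNat 124, 9), (.ofNat 178, 10), (.ofNat 18, 13), (.ofNat 71, 14), (.ofNat 178,
  15)]), (3, 27, .ofNat 0, 0, [(.ofNat 41, 4), (.negSucc 13, 5), (.ofNat 40, 6), (.ofNat 40, 7), (.ofNat 40, 8),
  (.ofNat 81, 9), (.ofNat 81, 10), (.ofNat 40, 14), (.ofNat 13, 15)]), (0, 0, .ofNat 4, 0, [(.ofNat 9, 5), (.negSucc
  4, 9), (.negSucc 6, 10), (.ofNat 2, 11), (.ofNat 2, 12), (.ofNat 5, 15)])])

/-- candidates -/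
def CL0 : List (ℕ × ℕ × List Step) :=
  [c0, c1, c2, c3, c4, c5, c6, c7, c8, c9, c10, c11, c12, c13, c14, c15, c16, c17, c18, c19, c20, c21, c22, c23, c24,
  c25, c26, c27, c28, c29]

theorem okC0 : okL TAB.J2.D (TAB.Sm2.mkRows TAB.J2.A TAB.J2.B) 2 P Z CL0 = true := by decide +kernel

/-- a candidate -/
def c30 : ℕ × ℕ × List Step :=
  (4800, 25, [(0, 0, .ofNat 0, 0, [(.negSucc 0, 5)])])

/-- a candidate -/
def c31 : ℕ × ℕ × List Step :=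
  (5040, 7, [(0, 0, .ofNat 0, 0, [(.negSucc 40, 2), (.negSucc 40, 3), (.negSucc 40, 4), (.negSucc 40, 5), (.negSucc
  40, 6), (.negSucc 40, 8), (.negSucc 40, 9), (.negSucc 80, 10), (.negSucc 40, 14), (.negSucc 39, 15)])])

/-- a candidate -/
def c32 : ℕ × ℕ × List Step :=
  (5400, 3, [(0, 0, .ofNat 9, 0, [(.negSucc 2, 2), (.negSucc 2, 3), (.negSucc 2, 4), (.negSucc 2, 5), (.ofNat 3, 7),
  (.negSucc 2, 9), (.ofNat 6, 10), (.ofNat 5, 11), (.ofNat 1, 12), (.negSucc 0, 15)])])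

/-- a candidate -/
def c33 : ℕ × ℕ × List Step :=
  (5760, 2, [(0, 0, .ofNat 27, 0, [(.negSucc 12, 2), (.negSucc 12, 3), (.negSucc 13, 4), (.ofNat 13, 7), (.ofNat 14,
  13), (.negSucc 12, 15)])])

/-- a candidate -/
def c34 : ℕ × ℕ × List Step :=
  (5760, 4, [(0, 0, .ofNat 9, 0, [(.negSucc 2, 2), (.negSucc 2, 3), (.negSucc 2, 4), (.negSucc 2, 5), (.ofNat 3, 7),
  (.negSucc 2, 9), (.ofNat 6, 10), (.ofNat 5, 11), (.ofNat 1, 12), (.negSucc 0, 15)])])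

/-- a candidate -/
def c35 : ℕ × ℕ × List Step :=
  (5760, 8, [(0, 0, .ofNat 1, 0, [(.ofNat 1, 1), (.negSucc 0, 3), (.negSucc 0, 5), (.ofNat 1, 7), (.ofNat 1, 8),
  (.negSucc 0, 9)])])

/-- a candidate -/
def c36 : ℕ × ℕ × List Step :=
  (8640, 3, [(0, 0, .ofNat 9, 0, [(.negSucc 3, 2), (.negSucc 3, 3), (.negSucc 3, 4), (.ofNat 4, 7), (.ofNat 9, 10),
  (.ofNat 4, 11)])])

/-- a candidate -/
def c37 : ℕ × ℕ × List Step :=
  (9600, 2, [(0, 0, .ofNat 1, 0, [(.negSucc 0, 3), (.negSucc 0, 5), (.ofNat 1, 7), (.ofNat 1, 8), (.ofNat 1, 10)])])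

/-- a candidate -/
def c38 : ℕ × ℕ × List Step :=
  (10800, 5, [(0, 0, .ofNat 1, 0, [(.ofNat 1, 1), (.negSucc 0, 3), (.negSucc 0, 5), (.ofNat 1, 7), (.ofNat 1, 8),
  (.negSucc 0, 9)])])

/-- a candidate -/
def c39 : ℕ × ℕ × List Step :=
  (12096, 7, [(0, 0, .ofNat 9, 0, [(.negSucc 8, 1), (.ofNat 4, 11), (.ofNat 4, 12)])])

/-- a candidate -/
def c40 : ℕ × ℕ × List Step :=
  (17280, 2, [(0, 0, .ofNat 1, 0, [(.ofNat 1, 1), (.negSucc 0, 3), (.negSucc 0, 5), (.ofNat 1, 7), (.ofNat 1, 8),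
  (.negSucc 0, 9)])])

/-- a candidate -/
def c41 : ℕ × ℕ × List Step :=
  (21600, 3, [(0, 0, .ofNat 1, 0, [(.ofNat 1, 1), (.negSucc 0, 3), (.negSucc 0, 5), (.ofNat 1, 7), (.ofNat 1, 8),
  (.negSucc 0, 9)])])

/-- a candidate -/
def c42 : ℕ × ℕ × List Step :=
  (21600, 9, [(0, 0, .ofNat 1, 0, [(.ofNat 1, 1), (.negSucc 0, 3), (.negSucc 0, 5), (.ofNat 1, 7), (.ofNat 1, 8),
  (.negSucc 0, 9)])])

/-- a candidate -/
def c43 : ℕ × ℕ × List Step :=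
  (28800, 2, [(0, 0, .ofNat 1, 0, [(.ofNat 1, 1), (.negSucc 0, 3), (.negSucc 0, 5), (.ofNat 1, 7), (.ofNat 1, 8),
  (.negSucc 0, 9)])])

/-- a candidate -/
def c44 : ℕ × ℕ × List Step :=
  (28800, 4, [(0, 0, .ofNat 1, 0, [(.ofNat 1, 1), (.negSucc 0, 3), (.negSucc 0, 5), (.ofNat 1, 7), (.ofNat 1, 8),
  (.negSucc 0, 9)])])

/-- a candidate -/
def c45 : ℕ × ℕ × List Step :=
  (28800, 5, [(0, 0, .ofNat 1, 0, [(.ofNat 1, 1), (.negSucc 0, 3), (.negSucc 0, 5), (.ofNat 1, 7), (.ofNat 1, 8),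
  (.negSucc 0, 9)])])

/-- a candidate -/
def c46 : ℕ × ℕ × List Step :=
  (28800, 10, [(0, 0, .ofNat 1, 0, [(.ofNat 1, 1), (.negSucc 0, 3), (.negSucc 0, 5), (.ofNat 1, 7), (.ofNat 1, 8),
  (.negSucc 0, 9)])])

/-- a candidate -/
def c47 : ℕ × ℕ × List Step :=
  (40320, 7, [(0, 0, .ofNat 0, 0, [(.negSucc 60, 1), (.negSucc 121, 2), (.negSucc 303, 3), (.negSucc 363, 4),
  (.negSucc 424, 5), (.negSucc 303, 6), (.negSucc 546, 7), (.negSucc 667, 8), (.negSucc 667, 9), (.negSucc 728, 10),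
  (.negSucc 60, 11), (.negSucc 120, 13), (.negSucc 363, 14), (.negSucc 424, 15)])])

/-- a candidate -/
def c48 : ℕ × ℕ × List Step :=
  (86400, 2, [(0, 0, .ofNat 1, 0, [(.ofNat 1, 1), (.negSucc 0, 3), (.negSucc 0, 5), (.ofNat 1, 7), (.ofNat 1, 8),
  (.negSucc 0, 9)])])

/-- a candidate -/
def c49 : ℕ × ℕ × List Step :=
  (86400, 3, [(0, 0, .ofNat 1, 0, [(.ofNat 1, 1), (.negSucc 0, 3), (.negSucc 0, 5), (.ofNat 1, 7), (.ofNat 1, 8),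
  (.negSucc 0, 9)])])

/-- candidates -/
def CL1 : List (ℕ × ℕ × List Step) :=
  [c30, c31, c32, c33, c34, c35, c36, c37, c38, c39, c40, c41, c42, c43, c44, c45, c46, c47, c48, c49]

theorem okC1 : okL TAB.J2.D (TAB.Sm2.mkRows TAB.J2.A TAB.J2.B) 2 P Z CL1 = true := by decide +kernel

theorem okB : ∀ ld ∈ big, bigE E ld = true :=
  fa_nil

theorem okA : ∀ a ∈ divsT [], allA (leaf E) [(7, 1), (5, 2), (3, 3), (2, 7)] a = true := by
  rw [show divsT [] = [1] by decide +kernel]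
  exact fa_cons okA0 <| fa_nil

/-- the pairs -/
def pj (L : List (ℕ × ℕ × List Step)) : List (ℕ × ℕ) := L.map fun x => (x.1, x.2.1)

theorem okC : ∀ x ∈ E.SV, ∃ CL, okL TAB.J2.D (TAB.Sm2.mkRows TAB.J2.A TAB.J2.B) E.j E.P E.Z CL = true ∧ x ∈ pj CL := by
  rw [show E.SV = [pj CL0, pj CL1].flatten by decide +kernel]
  exact forall_flatten <| fa_cons (fun _ h => ⟨_, okC0, h⟩) <| fa_cons (fun _ h => ⟨_, okC1, h⟩) <| fa_nil

/-- **no configuration** -/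
theorem noW {K : Type} [Group K] [Finite K] (h : In K TAB.J2.D (TAB.Sm2.mkRows TAB.J2.A TAB.J2.B)) : NoW K 2 :=
  noW_of (E := E) boxCH h.inC ok1 (H940.Eng.D.ords_j2 base)
    (fun ld h => ⟨List.mem_append_left _ h, okB ld h⟩) (by decide +kernel) okA okC

end Cfsg.Agent.TH.Spor.NJ2
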