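import Cfsg.Agent.TH.Spor.EngC
import Cfsg.Agent.TH.Spor.CH
import Cfsg.Agent.TH.Spor.J3Tab

/-!
# S3541, sporadic rows: J3 (helper26; generated by notes/TH/spor26/gen.py.txt)
-/

set_option autoImplicit false
set_option Elab.async false

namespace Cfsg.Agent.TH.Spor.NJ3

open Cfsg Cfsg.Agent.TAB.Eng Cfsg.Agent.H940.Eng

/-- the types of prime order -/
def P : St :=
  [(19, [(13, 5287680, 0)]), (17, [(12, 5909760, 0)]), (5, [(5, 3348864, 0)]), (3, [(2, 46512, 0), (3, 206720, 0)]),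
  (2, [(1, 26163, 0)])]

/-- the types -/
def Z : List Ze :=
  [(1, 2, 26163, [1]), (2, 3, 46512, [2]), (3, 3, 206720, [3]), (4, 4, 523260, [1]), (5, 5, 3348864, [5]), (6, 6,
  2093040, [2, 1]), (7, 8, 6279120, [1]), (8, 9, 5581440, [3]), (9, 10, 10046592, [5, 1]), (10, 12, 4186080, [2, 1]),
  (11, 15, 6697728, [5, 2]), (12, 17, 5909760, [12]), (13, 19, 5287680, [13])]

/-- local data, large primes -/
def big : List LD :=
  []

/-- local data, the other primes -/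
def sm : List LD :=
  [⟨19, 19, [(3, 2), (19, 1)]⟩, ⟨17, 17, [(2, 3), (17, 1)]⟩, ⟨5, 60, [(2, 2), (3, 1), (5, 1)]⟩]

/-- the candidates -/
def SV : List (ℕ × ℕ) :=
  [(1944, 27), (1944, 81), (4860, 15), (5760, 10), (5760, 20), (5760, 40), (5760, 80), (12960, 5), (31104, 2),
  (31104, 3), (31104, 6), (77760, 5), (77760, 15)]

/-- the data -/
def E : En :=
  ⟨50232960, 2, P, Z, [(19, 1), (17, 1), (5, 1), (3, 5), (2, 7)], H940.Eng.D.o_j3, big ++ sm, SV⟩

theorem ok1 : okEn TH.Spor.J3.dat TH.Spor.J3.tab [] E = true := by decide +kernel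

theorem okA0 : allA (leaf E) [(19, 1), (17, 1), (5, 1), (3, 5), (2, 7)] 1 = true := by decide +kernel

/-- a candidate -/
def c0 : ℕ × ℕ × List Step :=
  (1944, 27, [(0, 0, .ofNat 0, 0, [(.negSucc 0, 9)])])

/-- a candidate -/
def c1 : ℕ × ℕ × List Step :=
  (1944, 81, [(0, 0, .ofNat 0, 0, [(.negSucc 0, 9)])])

/-- a candidate -/
def c2 : ℕ × ℕ × List Step :=
  (4860, 15, [(0, 0, .ofNat 0, 0, [(.negSucc 0, 9)])])

/-- a candidate -/
def c3 : ℕ × ℕ × List Step :=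
  (5760, 10, [(0, 0, .ofNat 0, 0, [(.negSucc 0, 9)])])

/-- a candidate -/
def c4 : ℕ × ℕ × List Step :=
  (5760, 20, [(0, 0, .ofNat 0, 0, [(.negSucc 0, 9)])])

/-- a candidate -/
def c5 : ℕ × ℕ × List Step :=
  (5760, 40, [(0, 0, .ofNat 0, 0, [(.negSucc 0, 9)])])

/-- a candidate -/
def c6 : ℕ × ℕ × List Step :=
  (5760, 80, [(0, 0, .ofNat 0, 0, [(.negSucc 0, 9)])])

/-- a candidate -/
def c7 : ℕ × ℕ × List Step :=
  (12960, 5, [(0, 0, .ofNat 0, 0, [(.negSucc 0, 9)])])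

/-- a candidate -/
def c8 : ℕ × ℕ × List Step :=
  (31104, 2, [(0, 0, .ofNat 0, 0, [(.negSucc 0, 9)])])

/-- a candidate -/
def c9 : ℕ × ℕ × List Step :=
  (31104, 3, [(0, 0, .ofNat 3, 0, [(.ofNat 1, 2), (.negSucc 2, 3)])])

/-- a candidate -/
def c10 : ℕ × ℕ × List Step :=
  (31104, 6, [(0, 0, .ofNat 3, 0, [(.ofNat 1, 2), (.negSucc 2, 3)])])

/-- a candidate -/
def c11 : ℕ × ℕ × List Step :=
  (77760, 5, [(0, 0, .ofNat 3, 0, [(.negSucc 1, 7), (.negSucc 0, 9), (.ofNat 3, 11), (.negSucc 2, 12)])])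

/-- a candidate -/
def c12 : ℕ × ℕ × List Step :=
  (77760, 15, [(0, 0, .ofNat 3, 0, [(.negSucc 1, 7), (.negSucc 0, 9), (.ofNat 3, 11), (.negSucc 2, 12)])])

/-- candidates -/
def CL0 : List (ℕ × ℕ × List Step) :=
  [c0, c1, c2, c3, c4, c5, c6, c7, c8, c9, c10, c11, c12]

theorem okC0 : okL TH.Spor.J3.dat TH.Spor.J3.tab 2 P Z CL0 = true := by decide +kernel

theorem okB : ∀ ld ∈ big, bigE E ld = true :=
  fa_nil

theorem okA : ∀ a ∈ divsT [], allA (leaf E) [(19, 1), (17, 1), (5, 1), (3, 5), (2, 7)] a = true := by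
  rw [show divsT [] = [1] by decide +kernel]
  exact fa_cons okA0 <| fa_nil

/-- the pairs -/
def pj (L : List (ℕ × ℕ × List Step)) : List (ℕ × ℕ) := L.map fun x => (x.1, x.2.1)

theorem okC : ∀ x ∈ E.SV, ∃ CL, okL TH.Spor.J3.dat TH.Spor.J3.tab E.j E.P E.Z CL = true ∧ x ∈ pj CL := by
  rw [show E.SV = [pj CL0].flatten by decide +kernel]
  exact forall_flatten <| fa_cons (fun _ h => ⟨_, okC0, h⟩) <| fa_nil

/-- **no configuration** -/
theorem noW {K : Type} [Group K] [Finite K] (h : In K TH.Spor.J3.dat TH.Spor.J3.tab) : NoW K 2 :=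
  noW_of (E := E) boxCH h.inC ok1 (H940.Eng.D.ords_j3 base)
    (fun ld h => ⟨List.mem_append_left _ h, okB ld h⟩) (by decide +kernel) okA okC

end Cfsg.Agent.TH.Spor.NJ3
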