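import Cfsg.Agent.TH.Spor.EngC
import Cfsg.Agent.TH.Spor.CH
import Cfsg.Agent.TAB.J4.Tab

/-!
# S3541, sporadic rows: J4 (helper26; generated by notes/TH/spor26/gen.py.txt)
-/

set_option autoImplicit false
set_option Elab.async false

namespace Cfsg.Agent.TH.Spor.NJ4

open Cfsg Cfsg.Agent.TAB.Eng Cfsg.Agent.H940.Eng

/-- the types of prime order -/
def P : St :=
  [(43, [(41, 6054109607865876480, 0)]), (37, [(38, 7035857111844126720, 0)]), (31, [(35, 8397635907684925440, 0)]),
  (29, [(33, 2992261070554398720, 0)]), (23, [(30, 3772850915046850560, 0)]), (11, [(17, 2716490453483520, 0), (18,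
  358576739859824640, 0)]), (7, [(11, 206608502490660864, 0)]), (5, [(7, 12913031405666304, 0)]), (3, [(3,
  32608665165824, 0)]), (2, [(1, 3980549947, 0), (2, 47766599364, 0)])]

/-- the types -/
def Z : List Ze :=
  [(1, 2, 3980549947, [1]), (2, 2, 47766599364, [2]), (3, 3, 32608665165824, [3]), (4, 4, 16049577386304, [1]), (5,
  4, 882726756246720, [1]), (6, 4, 2017661157135360, [2]), (7, 5, 12913031405666304, [7]), (8, 6, 32608665165824, [3,
  1]), (9, 6, 37663008266526720, [3, 1]), (10, 6, 37663008266526720, [3, 2]), (11, 7, 206608502490660864, [11]), (12,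
  8, 67793414879748096, [1]), (13, 8, 112989024799580160, [1]), (14, 8, 169483537199370240, [1]), (15, 10,
  90391219839664128, [7, 1]), (16, 10, 1084694638075969536, [7, 2]), (17, 11, 2716490453483520, [17]), (18, 11,
  358576739859824640, [18]), (19, 12, 451956099198320640, [3, 1]), (20, 12, 451956099198320640, [3, 1]), (21, 12,
  1807824396793282560, [3, 2]), (22, 14, 2066085024906608640, [11, 1]), (23, 14, 3099127537359912960, [11, 2]), (24,
  15, 2892519034869252096, [7, 3]), (25, 16, 2711736595189923840, [1]), (26, 20, 1084694638075969536, [7, 1]), (27,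
  21, 4132170049813217280, [11, 3]), (28, 22, 328695344871505920, [17, 1]), (29, 22, 3944344138458071040, [18, 2]),
  (30, 23, 3772850915046850560, [30]), (31, 24, 3615648793586565120, [3, 1]), (32, 28, 6198255074719825920, [11, 2]),
  (33, 29, 2992261070554398720, [33]), (34, 30, 2892519034869252096, [7, 3, 1]), (35, 31, 8397635907684925440, [35]),
  (36, 33, 2629562758972047360, [17, 3]), (37, 35, 4958604059775860736, [11, 7]), (38, 37, 7035857111844126720,
  [38]), (39, 40, 4338778552303878144, [7, 1]), (40, 42, 4132170049813217280, [11, 3, 1]), (41, 43,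
  6054109607865876480, [41]), (42, 44, 1972172069229035520, [17, 1]), (43, 66, 2629562758972047360, [17, 3, 1])]

/-- local data, large primes -/
def big : List LD :=
  [⟨43, 43, [(2, 1), (7, 1), (43, 1)]⟩, ⟨37, 37, [(2, 2), (3, 1), (37, 1)]⟩, ⟨31, 31, [(2, 1), (5, 1), (31, 1)]⟩,
  ⟨29, 29, [(2, 2), (7, 1), (29, 1)]⟩, ⟨23, 23, [(2, 1), (11, 1), (23, 1)]⟩]

/-- local data, the other primes -/
def sm : List LD :=
  [⟨7, 2520, [(2, 3), (3, 2), (5, 1), (7, 1)]⟩, ⟨5, 26880, [(2, 8), (3, 1), (5, 1), (7, 1)]⟩]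

/-- the candidates -/
def SV : List (ℕ × ℕ) :=
  [(2097152, 2), (2097152, 4), (2097152, 8), (56623104, 6), (56623104, 18)]

/-- the data -/
def E : En :=
  ⟨86775571046077562880, 2, P, Z, [(43, 1), (37, 1), (31, 1), (29, 1), (23, 1), (11, 3), (7, 1), (5, 1), (3, 3), (2,
  21)], H940.Eng.D.o_j4, big ++ sm, SV⟩

theorem ok1 : okEn TAB.J4.D TAB.J4.RR [] E = true := by decide +kernel

theorem okA0 : allA (leaf E) [(11, 3), (7, 1), (5, 1), (3, 3), (2, 21)] 1 = true := by decide +kernel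

theorem okB43 : bigE E ⟨43, 43, [(2, 1), (7, 1), (43, 1)]⟩ = true := by
  decide +kernel

theorem okB37 : bigE E ⟨37, 37, [(2, 2), (3, 1), (37, 1)]⟩ = true := by
  decide +kernel

theorem okB31 : bigE E ⟨31, 31, [(2, 1), (5, 1), (31, 1)]⟩ = true := by
  decide +kernel

theorem okB29 : bigE E ⟨29, 29, [(2, 2), (7, 1), (29, 1)]⟩ = true := by
  decide +kernel

theorem okB23 : bigE E ⟨23, 23, [(2, 1), (11, 1), (23, 1)]⟩ = true := by
  decide +kernel

/-- a candidate -/
def c0 : ℕ × ℕ × List Step :=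
  (2097152, 2, [(0, 0, .ofNat 0, 0, [(.negSucc 0, 38)])])

/-- a candidate -/
def c1 : ℕ × ℕ × List Step :=
  (2097152, 4, [(0, 0, .ofNat 0, 0, [(.negSucc 0, 38)])])

/-- a candidate -/
def c2 : ℕ × ℕ × List Step :=
  (2097152, 8, [(0, 0, .ofNat 0, 0, [(.negSucc 0, 38)])])

/-- a candidate -/
def c3 : ℕ × ℕ × List Step :=
  (56623104, 6, [(0, 0, .ofNat 0, 0, [(.negSucc 0, 38)])])

/-- a candidate -/
def c4 : ℕ × ℕ × List Step :=
  (56623104, 18, [(0, 0, .ofNat 0, 0, [(.negSucc 0, 38)])])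

/-- candidates -/
def CL0 : List (ℕ × ℕ × List Step) :=
  [c0, c1, c2, c3, c4]

theorem okC0 : okL TAB.J4.D TAB.J4.RR 2 P Z CL0 = true := by decide +kernel

theorem okB : ∀ ld ∈ big, bigE E ld = true :=
  fa_cons okB43 <| fa_cons okB37 <| fa_cons okB31 <| fa_cons okB29 <|
  fa_cons okB23 <| fa_nil

theorem okA : ∀ a ∈ divsT [], allA (leaf E) [(11, 3), (7, 1), (5, 1), (3, 3), (2, 21)] a = true := by
  rw [show divsT [] = [1] by decide +kernel]
  exact fa_cons okA0 <| fa_nil

/-- the pairs -/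
def pj (L : List (ℕ × ℕ × List Step)) : List (ℕ × ℕ) := L.map fun x => (x.1, x.2.1)

theorem okC : ∀ x ∈ E.SV, ∃ CL, okL TAB.J4.D TAB.J4.RR E.j E.P E.Z CL = true ∧ x ∈ pj CL := by
  rw [show E.SV = [pj CL0].flatten by decide +kernel]
  exact forall_flatten <| fa_cons (fun _ h => ⟨_, okC0, h⟩) <| fa_nil

/-- **no configuration** -/
theorem noW {K : Type} [Group K] [Finite K] (h : In K TAB.J4.D TAB.J4.RR) : NoW K 2 :=
  noW_of (E := E) boxCH h.inC ok1 (H940.Eng.D.ords_j4 base)
    (fun ld h => ⟨List.mem_append_left _ h, okB ld h⟩) (by decide +kernel) okA okC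

end Cfsg.Agent.TH.Spor.NJ4
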