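import Cfsg.Agent.TH.Spor.EngC
import Cfsg.Agent.TH.Spor.CH
import Cfsg.Agent.TAB.Ly.Dat

/-!
# S3541, sporadic rows: Ly (helper26; generated by notes/TH/spor26/gen.py.txt)
-/

set_option autoImplicit false
set_option Elab.async false

namespace Cfsg.Agent.TH.Spor.NLy

open Cfsg Cfsg.Agent.TAB.Eng Cfsg.Agent.H940.Eng

/-- the types of prime order -/
def P : St :=
  [(67, [(38, 2317843836000000, 0)]), (37, [(35, 2798117784000000, 0)]), (31, [(33, 8349222420000000, 0)]), (11,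
  [(16, 1568641788000000, 0)]), (7, [(10, 308126065500000, 0)]), (5, [(5, 23006746224, 0), (6, 13804047734400, 0)]),
  (3, [(2, 19212250, 0), (3, 295868650000, 0)]), (2, [(1, 1296826875, 0)])]

/-- the types -/
def Z : List Ze :=
  [(1, 2, 1296826875, [1]), (2, 3, 19212250, [2]), (3, 3, 295868650000, [3]), (4, 4, 2567717212500, [1]), (5, 5,
  23006746224, [5]), (6, 5, 13804047734400, [6]), (7, 6, 427952868750, [2, 1]), (8, 6, 23965360650000, [3, 1]), (9,
  6, 159769071000000, [3, 1]), (10, 7, 308126065500000, [10]), (11, 8, 107844122925000, [1]), (12, 8,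
  539220614625000, [1]), (13, 9, 958614426000000, [3]), (14, 10, 14379216390000, [5, 1]), (15, 10, 1035303580080000,
  [6, 1]), (16, 11, 1568641788000000, [16]), (17, 12, 179740204875000, [2, 1]), (18, 12, 718960819500000, [3, 1]),
  (19, 14, 308126065500000, [10, 1]), (20, 15, 23006746224000, [5, 2]), (21, 15, 575168655600000, [5, 3]), (22, 15,
  690202386720000, [6, 2]), (23, 18, 2875843278000000, [3, 1]), (24, 20, 1294129475100000, [5, 1]), (25, 21,
  2465008524000000, [10, 2]), (26, 22, 4705925364000000, [16, 1]), (27, 24, 2156882458500000, [2, 1]), (28, 24,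
  4313764917000000, [3, 1]), (29, 25, 2070607160160000, [5]), (30, 28, 1848756393000000, [10, 1]), (31, 30,
  575168655600000, [5, 2, 1]), (32, 30, 575168655600000, [5, 3, 1]), (33, 31, 8349222420000000, [33]), (34, 33,
  3137283576000000, [16, 2]), (35, 37, 2798117784000000, [35]), (36, 40, 2588258950200000, [5, 1]), (37, 42,
  2465008524000000, [10, 2, 1]), (38, 67, 2317843836000000, [38])]

/-- local data, large primes -/
def big : List LD :=
  [⟨67, 67, [(2, 1), (11, 1), (67, 1)]⟩, ⟨37, 37, [(2, 1), (3, 2), (37, 1)]⟩, ⟨31, 31, [(2, 1), (3, 1), (31, 1)]⟩]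

/-- local data, the other primes -/
def sm : List LD :=
  [⟨11, 66, [(2, 1), (3, 1), (5, 1), (11, 1)]⟩, ⟨7, 1008, [(2, 4), (3, 2), (7, 1)]⟩]

/-- the candidates -/
def SV : List (ℕ × ℕ) :=
  [(1265625, 25), (1306368, 28), (1306368, 56), (4000000, 10), (4000000, 50), (4000000, 250), (54000000, 25),
  (70875000, 35), (273375000, 5), (273375000, 15), (324000000, 5), (324000000, 10), (729000000, 5), (729000000, 25),
  (1749600000, 16), (1749600000, 24), (1749600000, 48), (2551500000, 35), (3007125000, 11), (3007125000, 55),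
  (3007125000, 275), (4374000000, 5), (4374000000, 15), (5859000000, 217), (5859000000, 1085), (8748000000, 4),
  (20412000000, 7), (20412000000, 14), (20412000000, 28), (20412000000, 56), (20412000000, 112)]

/-- the data -/
def E : En :=
  ⟨51765179004000000, 2, P, Z, [(67, 1), (37, 1), (31, 1), (11, 1), (7, 1), (5, 6), (3, 7), (2, 8)], H940.Eng.D.o_ly,
  big ++ sm, SV⟩

theorem ok1 : okEn TAB.Ly.dat TAB.Ly.tb [] E = true := by decide +kernel

theorem okA0 : allA (leaf E) [(11, 1), (7, 1), (5, 6), (3, 7), (2, 8)] 1 = true := by decide +kernel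

theorem okB67 : bigE E ⟨67, 67, [(2, 1), (11, 1), (67, 1)]⟩ = true := by
  decide +kernel

theorem okB37 : bigE E ⟨37, 37, [(2, 1), (3, 2), (37, 1)]⟩ = true := by
  decide +kernel

theorem okB31 : bigE E ⟨31, 31, [(2, 1), (3, 1), (31, 1)]⟩ = true := by
  decide +kernel

/-- a candidate -/
def c0 : ℕ × ℕ × List Step :=
  (1265625, 25, [(0, 0, .negSucc 1594322, 1, [(.negSucc 50344, 32), (.ofNat 46989, 37)])])

/-- a candidate -/
def c1 : ℕ × ℕ × List Step :=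
  (1306368, 28, [(0, 0, .ofNat 0, 0, [(.negSucc 0, 38)])])

/-- a candidate -/
def c2 : ℕ × ℕ × List Step :=
  (1306368, 56, [(0, 0, .ofNat 0, 0, [(.negSucc 0, 38)])])

/-- a candidate -/
def c3 : ℕ × ℕ × List Step :=
  (4000000, 10, [(0, 0, .ofNat 0, 0, [(.negSucc 0, 4)])])

/-- a candidate -/
def c4 : ℕ × ℕ × List Step :=
  (4000000, 50, [(0, 0, .negSucc 0, 0, [(.negSucc 0, 10), (.negSucc 2, 21), (.negSucc 2, 27), (.negSucc 0, 34),
  (.negSucc 1, 36)])])

/-- a candidate -/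
def c5 : ℕ × ℕ × List Step :=
  (4000000, 250, [(0, 0, .ofNat 0, 0, [(.negSucc 0, 10), (.negSucc 1, 21), (.negSucc 2, 25), (.negSucc 0, 34),
  (.negSucc 1, 36)])])

/-- a candidate -/
def c6 : ℕ × ℕ × List Step :=
  (54000000, 25, [(0, 0, .ofNat 0, 0, [(.negSucc 3, 4), (.negSucc 6, 5), (.negSucc 1, 13), (.negSucc 5, 20),
  (.negSucc 4, 21), (.negSucc 0, 24), (.negSucc 8, 25), (.negSucc 4, 26), (.negSucc 2, 27), (.negSucc 1, 28),
  (.negSucc 2, 36), (.negSucc 2, 38)])])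

/-- a candidate -/
def c7 : ℕ × ℕ × List Step :=
  (70875000, 35, [(0, 0, .ofNat 0, 0, [(.negSucc 182, 4), (.negSucc 162, 5), (.negSucc 37, 13), (.negSucc 232, 20),
  (.negSucc 97, 21), (.negSucc 25, 24), (.negSucc 242, 25), (.negSucc 149, 26), (.negSucc 24, 27), (.negSucc 46, 36),
  (.negSucc 63, 38)])])

/-- a candidate -/
def c8 : ℕ × ℕ × List Step :=
  (273375000, 5, [(0, 0, .ofNat 0, 0, [(.negSucc 8, 4), (.negSucc 4, 5), (.ofNat 1, 11), (.negSucc 5, 13), (.negSucc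
  8, 20), (.negSucc 8, 22), (.ofNat 2, 23), (.negSucc 0, 24), (.negSucc 0, 25)])])

/-- a candidate -/
def c9 : ℕ × ℕ × List Step :=
  (273375000, 15, [(0, 0, .ofNat 81, 0, [(.ofNat 20, 2), (.ofNat 33, 3), (.negSucc 37, 4), (.negSucc 37, 5),
  (.negSucc 53, 13), (.ofNat 55, 14), (.negSucc 4, 17), (.negSucc 17, 20), (.negSucc 18, 22), (.negSucc 1, 24),
  (.negSucc 10, 27), (.ofNat 11, 29), (.ofNat 22, 31), (.negSucc 37, 33), (.ofNat 2, 34), (.negSucc 6, 35), (.negSucc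
  7, 36), (.negSucc 8, 38)])])

/-- a candidate -/
def c10 : ℕ × ℕ × List Step :=
  (324000000, 5, [(0, 0, .ofNat 0, 0, [(.negSucc 5, 1), (.negSucc 80, 4), (.negSucc 53, 5), (.negSucc 50, 13),
  (.negSucc 71, 20), (.negSucc 6, 21), (.negSucc 72, 22), (.ofNat 7, 23), (.negSucc 5, 24), (.negSucc 23, 25)])])

/-- a candidate -/
def c11 : ℕ × ℕ × List Step :=
  (324000000, 10, [(0, 0, .ofNat 3, 0, [(.negSucc 1, 4), (.negSucc 0, 5), (.negSucc 0, 13), (.negSucc 0, 25), (.ofNat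
  1, 29)])])

/-- a candidate -/
def c12 : ℕ × ℕ × List Step :=
  (729000000, 5, [(0, 0, .ofNat 243, 0, [(.ofNat 47, 3), (.negSucc 114, 4), (.negSucc 51, 5), (.negSucc 89, 13),
  (.negSucc 6, 24), (.negSucc 2, 26), (.ofNat 65, 29), (.negSucc 17, 32), (.ofNat 17, 34), (.ofNat 21, 37)])])

/-- a candidate -/
def c13 : ℕ × ℕ × List Step :=
  (729000000, 25, [(0, 0, .ofNat 81, 0, [(.ofNat 16, 3), (.negSucc 35, 4), (.negSucc 16, 5), (.negSucc 29, 13),
  (.ofNat 1, 15), (.negSucc 1, 24), (.negSucc 0, 26), (.ofNat 22, 29), (.negSucc 6, 32), (.ofNat 5, 34), (.ofNat 7,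
  37)])])

/-- a candidate -/
def c14 : ℕ × ℕ × List Step :=
  (1749600000, 16, [(0, 0, .ofNat 27, 0, [(.negSucc 11, 4), (.negSucc 6, 5), (.negSucc 10, 13), (.negSucc 1, 21),
  (.negSucc 1, 24), (.ofNat 2, 26), (.negSucc 3, 32), (.ofNat 1, 37)])])

/-- a candidate -/
def c15 : ℕ × ℕ × List Step :=
  (1749600000, 24, [(0, 0, .ofNat 243, 0, [(.ofNat 71, 2), (.ofNat 52, 3), (.negSucc 47, 4), (.negSucc 75, 5),
  (.ofNat 19, 10), (.negSucc 100, 13), (.ofNat 83, 14), (.negSucc 9, 15), (.ofNat 27, 21), (.negSucc 22, 24), (.ofNat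
  48, 25), (.ofNat 14, 29), (.ofNat 38, 31), (.negSucc 30, 32), (.negSucc 39, 33), (.negSucc 27, 36)])])

/-- a candidate -/
def c16 : ℕ × ℕ × List Step :=
  (1749600000, 48, [(0, 0, .ofNat 243, 0, [(.ofNat 71, 2), (.ofNat 52, 3), (.negSucc 47, 4), (.negSucc 75, 5),
  (.ofNat 19, 10), (.negSucc 100, 13), (.ofNat 83, 14), (.negSucc 9, 15), (.ofNat 27, 21), (.negSucc 22, 24), (.ofNat
  48, 25), (.ofNat 14, 29), (.ofNat 38, 31), (.negSucc 30, 32), (.negSucc 39, 33), (.negSucc 27, 36)])])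

/-- a candidate -/
def c17 : ℕ × ℕ × List Step :=
  (2551500000, 35, [(0, 0, .ofNat 81, 0, [(.ofNat 19, 3), (.negSucc 27, 4), (.negSucc 15, 5), (.negSucc 28, 13),
  (.ofNat 3, 15), (.negSucc 1, 20), (.negSucc 1, 24), (.ofNat 22, 29), (.negSucc 7, 32), (.ofNat 6, 34), (.ofNat 7,
  37)])])

/-- a candidate -/
def c18 : ℕ × ℕ × List Step :=
  (3007125000, 11, [(0, 0, .ofNat 27, 0, [(.negSucc 8, 4), (.negSucc 3, 5), (.negSucc 8, 13), (.negSucc 0, 20),
  (.negSucc 3, 21), (.negSucc 3, 24), (.ofNat 3, 26), (.ofNat 3, 30), (.negSucc 4, 32)])])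

/-- a candidate -/
def c19 : ℕ × ℕ × List Step :=
  (3007125000, 55, [(0, 0, .ofNat 27, 0, [(.negSucc 11, 4), (.negSucc 3, 5), (.ofNat 10, 6), (.negSucc 2, 8),
  (.negSucc 11, 13), (.negSucc 2, 21), (.negSucc 0, 24), (.negSucc 0, 32), (.ofNat 4, 34), (.ofNat 4, 37)])])

/-- a candidate -/
def c20 : ℕ × ℕ × List Step :=
  (3007125000, 275, [(0, 0, .ofNat 2187, 0, [(.ofNat 1093, 2), (.ofNat 1093, 6), (.negSucc 1092, 8), (.negSucc 1092,
  13), (.ofNat 1093, 14), (.ofNat 1093, 31), (.negSucc 1093, 33), (.ofNat 219, 38)])])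

/-- a candidate -/
def c21 : ℕ × ℕ × List Step :=
  (4374000000, 5, [(0, 0, .ofNat 81, 0, [(.ofNat 17, 3), (.negSucc 34, 4), (.negSucc 17, 5), (.negSucc 29, 13),
  (.negSucc 1, 24), (.ofNat 20, 29), (.negSucc 0, 30), (.ofNat 2, 31), (.negSucc 6, 32), (.ofNat 6, 34), (.ofNat 6,
  37)])])

/-- a candidate -/
def c22 : ℕ × ℕ × List Step :=
  (4374000000, 15, [(0, 0, .ofNat 243, 0, [(.ofNat 71, 2), (.ofNat 71, 3), (.negSucc 83, 4), (.negSucc 66, 5),
  (.negSucc 12, 12), (.negSucc 91, 13), (.ofNat 88, 14), (.negSucc 12, 15), (.negSucc 20, 19), (.negSucc 3, 24),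
  (.ofNat 71, 25), (.ofNat 48, 29), (.ofNat 50, 31), (.negSucc 5, 32), (.negSucc 43, 33), (.ofNat 8, 34), (.ofNat 15,
  35), (.ofNat 14, 37)])])

/-- a candidate -/
def c23 : ℕ × ℕ × List Step :=
  (5859000000, 217, [(0, 0, .ofNat 243, 0, [(.ofNat 41, 2), (.ofNat 152, 3), (.negSucc 85, 4), (.negSucc 125, 5),
  (.negSucc 146, 6), (.ofNat 127, 8), (.negSucc 7, 9), (.ofNat 33, 10), (.negSucc 11, 13), (.negSucc 40, 15),
  (.negSucc 26, 16), (.negSucc 71, 24), (.ofNat 87, 25), (.ofNat 49, 26), (.negSucc 32, 32), (.negSucc 33, 36)])])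

/-- a candidate -/
def c24 : ℕ × ℕ × List Step :=
  (5859000000, 1085, [(0, 0, .ofNat 243, 0, [(.ofNat 21, 2), (.ofNat 184, 3), (.negSucc 216, 4), (.negSucc 204, 5),
  (.negSucc 193, 6), (.ofNat 179, 8), (.negSucc 21, 13), (.negSucc 15, 17), (.negSucc 20, 19), (.ofNat 22, 21),
  (.ofNat 16, 23), (.negSucc 10, 24), (.ofNat 232, 25), (.ofNat 16, 28), (.ofNat 68, 29), (.ofNat 66, 33), (.ofNat
  51, 34), (.ofNat 24, 37)])])

/-- a candidate -/
def c25 : ℕ × ℕ × List Step :=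
  (8748000000, 4, [(0, 0, .ofNat 27, 0, [(.negSucc 11, 4), (.negSucc 6, 5), (.negSucc 10, 13), (.negSucc 1, 21),
  (.negSucc 1, 24), (.ofNat 2, 26), (.negSucc 3, 32), (.ofNat 1, 37)])])

/-- a candidate -/
def c26 : ℕ × ℕ × List Step :=
  (20412000000, 7, [(0, 0, .ofNat 9, 0, [(.negSucc 3, 4), (.negSucc 1, 5), (.ofNat 1, 12), (.negSucc 2, 13),
  (.negSucc 1, 20), (.negSucc 1, 24), (.negSucc 0, 32), (.ofNat 1, 37)])])

/-- a candidate -/
def c27 : ℕ × ℕ × List Step :=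
  (20412000000, 14, [(0, 0, .ofNat 9, 0, [(.negSucc 3, 4), (.negSucc 1, 5), (.ofNat 1, 12), (.negSucc 2, 13),
  (.negSucc 1, 20), (.negSucc 1, 24), (.negSucc 0, 32), (.ofNat 1, 37)])])

/-- a candidate -/
def c28 : ℕ × ℕ × List Step :=
  (20412000000, 28, [(0, 0, .ofNat 81, 0, [(.ofNat 36, 2), (.ofNat 29, 3), (.negSucc 15, 4), (.negSucc 38, 5),
  (.negSucc 38, 6), (.negSucc 5, 9), (.negSucc 9, 13), (.negSucc 7, 15), (.negSucc 23, 20), (.negSucc 1, 24), (.ofNat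
  18, 25), (.ofNat 12, 26), (.ofNat 27, 31), (.negSucc 13, 32), (.negSucc 5, 36)])])

/-- a candidate -/
def c29 : ℕ × ℕ × List Step :=
  (20412000000, 56, [(0, 0, .ofNat 81, 0, [(.ofNat 36, 2), (.ofNat 29, 3), (.negSucc 15, 4), (.negSucc 38, 5),
  (.negSucc 38, 6), (.negSucc 5, 9), (.negSucc 9, 13), (.negSucc 7, 15), (.negSucc 23, 20), (.negSucc 1, 24), (.ofNat
  18, 25), (.ofNat 12, 26), (.ofNat 27, 31), (.negSucc 13, 32), (.negSucc 5, 36)])])

/-- candidates -/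
def CL0 : List (ℕ × ℕ × List Step) :=
  [c0, c1, c2, c3, c4, c5, c6, c7, c8, c9, c10, c11, c12, c13, c14, c15, c16, c17, c18, c19, c20, c21, c22, c23, c24,
  c25, c26, c27, c28, c29]

theorem okC0 : okL TAB.Ly.dat TAB.Ly.tb 2 P Z CL0 = true := by decide +kernel

/-- a candidate -/
def c30 : ℕ × ℕ × List Step :=
  (20412000000, 112, [(0, 0, .ofNat 81, 0, [(.ofNat 36, 2), (.ofNat 29, 3), (.negSucc 15, 4), (.negSucc 38, 5),
  (.negSucc 38, 6), (.negSucc 5, 9), (.negSucc 9, 13), (.negSucc 7, 15), (.negSucc 23, 20), (.negSucc 1, 24), (.ofNat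
  18, 25), (.ofNat 12, 26), (.ofNat 27, 31), (.negSucc 13, 32), (.negSucc 5, 36)])])

/-- candidates -/
def CL1 : List (ℕ × ℕ × List Step) :=
  [c30]

theorem okC1 : okL TAB.Ly.dat TAB.Ly.tb 2 P Z CL1 = true := by decide +kernel

theorem okB : ∀ ld ∈ big, bigE E ld = true :=
  fa_cons okB67 <| fa_cons okB37 <| fa_cons okB31 <| fa_nil

theorem okA : ∀ a ∈ divsT [], allA (leaf E) [(11, 1), (7, 1), (5, 6), (3, 7), (2, 8)] a = true := by
  rw [show divsT [] = [1] by decide +kernel]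
  exact fa_cons okA0 <| fa_nil

/-- the pairs -/
def pj (L : List (ℕ × ℕ × List Step)) : List (ℕ × ℕ) := L.map fun x => (x.1, x.2.1)

theorem okC : ∀ x ∈ E.SV, ∃ CL, okL TAB.Ly.dat TAB.Ly.tb E.j E.P E.Z CL = true ∧ x ∈ pj CL := by
  rw [show E.SV = [pj CL0, pj CL1].flatten by decide +kernel]
  exact forall_flatten <| fa_cons (fun _ h => ⟨_, okC0, h⟩) <| fa_cons (fun _ h => ⟨_, okC1, h⟩) <| fa_nil

/-- **no configuration** -/
theorem noW {K : Type} [Group K] [Finite K] (h : In K TAB.Ly.dat TAB.Ly.tb) : NoW K 2 :=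
  noW_of (E := E) boxCH h.inC ok1 (H940.Eng.D.ords_ly base)
    (fun ld h => ⟨List.mem_append_left _ h, okB ld h⟩) (by decide +kernel) okA okC

end Cfsg.Agent.TH.Spor.NLy
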