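import Cfsg.Agent.TH.Spor.NMD

/-!
# S3541, sporadic rows: M, certificates (helper26; generated by notes/TH/spor26/gen.py.txt)
-/

set_option autoImplicit false
set_option Elab.async false

namespace Cfsg.Agent.TH.Spor.NM

open Cfsg Cfsg.Agent.TAB.Eng Cfsg.Agent.H940.Eng

/-- a candidate -/
def c0 : ℕ × ℕ × List Step :=
  (70368744177664, 2, [(0, 0, .ofNat 0, 0, [(.negSucc 0, 82)])])

/-- a candidate -/
def c1 : ℕ × ℕ × List Step :=
  (70368744177664, 4, [(0, 0, .ofNat 0, 0, [(.negSucc 0, 82)])])

/-- a candidate -/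
def c2 : ℕ × ℕ × List Step :=
  (59902499881991798784, 3, [(0, 0, .ofNat 0, 0, [(.negSucc 569, 121), (.negSucc 1352, 124), (.negSucc 1483, 126),
  (.negSucc 9, 141), (.negSucc 753, 148), (.negSucc 6560, 156), (.negSucc 275, 158), (.negSucc 3097, 161), (.negSucc
  4155, 162), (.negSucc 106, 164), (.negSucc 319, 168)])])

/-- a candidate -/
def c3 : ℕ × ℕ × List Step :=
  (59902499881991798784, 9, [(0, 0, .ofNat 0, 0, [(.negSucc 1, 124), (.negSucc 1, 126), (.negSucc 1, 148), (.negSucc
  8, 156), (.negSucc 1, 158), (.negSucc 2, 161), (.negSucc 3, 162)])])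

/-- a candidate -/
def c4 : ℕ × ℕ × List Step :=
  (59902499881991798784, 27, [(0, 0, .ofNat 0, 0, [(.negSucc 1, 124), (.negSucc 1, 126), (.negSucc 1, 148), (.negSucc
  8, 156), (.negSucc 1, 158), (.negSucc 2, 161), (.negSucc 3, 162)])])

/-- a candidate -/
def c5 : ℕ × ℕ × List Step :=
  (239609999527967195136, 3, [(0, 0, .ofNat 0, 0, [(.negSucc 46137, 121), (.negSucc 109588, 124), (.negSucc 120189,
  126), (.negSucc 800, 141), (.negSucc 61038, 148), (.negSucc 531440, 156), (.negSucc 22366, 158), (.negSucc 250914,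
  161), (.negSucc 336595, 162), (.negSucc 8650, 164), (.negSucc 25952, 168)])])

/-- a candidate -/
def c6 : ℕ × ℕ × List Step :=
  (958439998111868780544, 3, [(0, 0, .ofNat 0, 0, [(.negSucc 46137, 121), (.negSucc 109588, 124), (.negSucc 120189,
  126), (.negSucc 800, 141), (.negSucc 61038, 148), (.negSucc 531440, 156), (.negSucc 22366, 158), (.negSucc 250914,
  161), (.negSucc 336595, 162), (.negSucc 8650, 164), (.negSucc 25952, 168)])])

/-- a candidate -/
def c7 : ℕ × ℕ × List Step :=
  (3833759992447475122176, 3, [(0, 0, .ofNat 0, 0, [(.negSucc 138413, 121), (.negSucc 328766, 124), (.negSucc 360570,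
  126), (.negSucc 2401, 141), (.negSucc 183117, 148), (.negSucc 1594322, 156), (.negSucc 67100, 158), (.negSucc
  752743, 161), (.negSucc 1009787, 162), (.negSucc 25952, 164), (.negSucc 77857, 168)])])

/-- a candidate -/
def c8 : ℕ × ℕ × List Step :=
  (3833759992447475122176, 9, [(0, 0, .ofNat 0, 0, [(.negSucc 62, 121), (.negSucc 484, 124), (.negSucc 399, 126),
  (.negSucc 57, 142), (.negSucc 423, 148), (.negSucc 2186, 156), (.negSucc 418, 158), (.negSucc 698, 161), (.negSucc
  986, 162)])])

/-- candidates -/
def CL0 : List (ℕ × ℕ × List Step) :=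
  [c0, c1, c2, c3, c4, c5, c6, c7, c8]

theorem okC0 : okL TAB.M.dat R 2 P Z CL0 = true := by decide +kernel

/-- a candidate -/
def c9 : ℕ × ℕ × List Step :=
  (15335039969789900488704, 3, [(0, 0, .ofNat 0, 0, [(.negSucc 138413, 121), (.negSucc 328766, 124), (.negSucc
  360570, 126), (.negSucc 2401, 141), (.negSucc 183117, 148), (.negSucc 1594322, 156), (.negSucc 67100, 158),
  (.negSucc 752743, 161), (.negSucc 1009787, 162), (.negSucc 25952, 164), (.negSucc 77857, 168)])])

/-- a candidate -/
def c10 : ℕ × ℕ × List Step :=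
  (27529176596158020059136, 21, [(0, 0, .ofNat 0, 0, [(.negSucc 0, 59), (.negSucc 3, 120), (.negSucc 1, 121),
  (.negSucc 3, 123), (.negSucc 0, 139), (.negSucc 8, 143), (.negSucc 17, 146), (.negSucc 8, 154), (.negSucc 7, 155),
  (.negSucc 7, 156), (.negSucc 4, 158), (.negSucc 1, 159), (.negSucc 7, 160), (.negSucc 26, 161), (.negSucc 4, 162),
  (.negSucc 1, 169), (.ofNat 3, 170)])])

/-- a candidate -/
def c11 : ℕ × ℕ × List Step :=
  (61340159879159601954816, 3, [(0, 0, .ofNat 0, 0, [(.negSucc 1245725, 121), (.negSucc 2958901, 124), (.negSucc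
  3245136, 126), (.negSucc 21615, 141), (.negSucc 1648064, 148), (.negSucc 14348906, 156), (.negSucc 603907, 158),
  (.negSucc 6774693, 161), (.negSucc 9088094, 162), (.negSucc 233573, 164), (.negSucc 700720, 168)])])

/-- a candidate -/
def c12 : ℕ × ℕ × List Step :=
  (245360639516638407819264, 3, [(0, 0, .ofNat 0, 0, [(.negSucc 429, 124), (.negSucc 334, 126), (.negSucc 56, 142),
  (.negSucc 541, 148), (.negSucc 2186, 156), (.negSucc 529, 158), (.negSucc 56, 159), (.negSucc 595, 161), (.negSucc
  1001, 162), (.negSucc 83, 164), (.negSucc 24, 168)])])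

/-- a candidate -/
def c13 : ℕ × ℕ × List Step :=
  (245360639516638407819264, 6, [(0, 0, .ofNat 0, 0, [(.negSucc 43206, 19), (.negSucc 9665, 30), (.negSucc 76315,
  31), (.negSucc 6770, 33), (.ofNat 25000, 34), (.negSucc 5340, 42), (.ofNat 28594, 62), (.negSucc 46630, 91),
  (.negSucc 46038, 94), (.negSucc 3952, 96), (.negSucc 17082, 105), (.negSucc 30206, 106), (.negSucc 7317, 115),
  (.negSucc 50462, 117), (.negSucc 5231, 125), (.negSucc 9912, 128), (.negSucc 48194, 129), (.negSucc 51612, 131),
  (.negSucc 3770, 137), (.negSucc 44320, 138), (.negSucc 51610, 140), (.negSucc 65854, 141), (.negSucc 78128, 143),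
  (.negSucc 28294, 144), (.negSucc 10206, 145), (.negSucc 88650, 148), (.negSucc 47332, 149), (.negSucc 30951, 150),
  (.negSucc 83325, 151), (.negSucc 12760, 152), (.negSucc 4621, 157), (.negSucc 29757, 158), (.negSucc 116783, 160),
  (.negSucc 130561, 161), (.negSucc 51932, 162), (.negSucc 30440, 164), (.negSucc 13241, 168), (.negSucc 91679, 169),
  (.ofNat 177147, 170)])])

/-- a candidate -/
def c14 : ℕ × ℕ × List Step :=
  (245360639516638407819264, 9, [(0, 0, .ofNat 0, 0, [(.negSucc 167, 124), (.negSucc 114, 126), (.negSucc 21, 142),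
  (.negSucc 173, 148), (.negSucc 728, 156), (.negSucc 176, 158), (.negSucc 21, 159), (.negSucc 9, 160), (.negSucc
  193, 161), (.negSucc 314, 162)])])

/-- a candidate -/
def c15 : ℕ × ℕ × List Step :=
  (245360639516638407819264, 12, [(0, 0, .negSucc 170505281, 0, [(.negSucc 296514811, 30), (.negSucc 460032293, 31),
  (.negSucc 169005400, 32), (.ofNat 63120022, 34), (.negSucc 6059153, 42), (.ofNat 295957797, 62), (.ofNat 57236722,
  63), (.negSucc 216570400, 91), (.negSucc 285850841, 94), (.negSucc 270428404, 96), (.negSucc 307521936, 115),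
  (.ofNat 188593699, 116), (.negSucc 864933, 127), (.negSucc 173028144, 128), (.negSucc 366149713, 129), (.negSucc
  152643004, 130), (.negSucc 341432370, 131), (.negSucc 194915874, 138), (.negSucc 546210985, 140), (.negSucc
  709121860, 141), (.negSucc 56132306, 142), (.negSucc 494350816, 143), (.negSucc 282192876, 144), (.negSucc
  234484042, 145), (.negSucc 756855941, 148), (.negSucc 300016734, 149), (.negSucc 283823975, 150), (.negSucc
  551241346, 151), (.negSucc 106758385, 152), (.negSucc 778063, 156), (.negSucc 293130241, 158), (.negSucc 942346237,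
  160), (.negSucc 870413778, 161), (.negSucc 599831131, 162), (.negSucc 234916464, 164), (.negSucc 167972756, 168),
  (.negSucc 646636276, 169), (.ofNat 1162261467, 170)])])

/-- a candidate -/
def c16 : ℕ × ℕ × List Step :=
  (245360639516638407819264, 18, [(0, 0, .negSucc 531440, 0, [(.negSucc 114381, 19), (.negSucc 55180, 31), (.negSucc
  108560, 42), (.negSucc 259538, 58), (.ofNat 181555, 63), (.negSucc 68793, 67), (.negSucc 201142, 77), (.negSucc
  589, 83), (.negSucc 439886, 96), (.negSucc 354412, 120), (.negSucc 114979, 125), (.negSucc 13758, 129), (.negSucc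
  447031, 130), (.negSucc 33185, 140), (.negSucc 355840, 141), (.negSucc 235422, 142), (.negSucc 425498, 144),
  (.negSucc 232761, 145), (.negSucc 455102, 148), (.negSucc 44956, 149), (.negSucc 205783, 150), (.negSucc 426631,
  151), (.negSucc 3518, 152), (.negSucc 155300, 153), (.negSucc 82582, 156), (.negSucc 530281, 157), (.negSucc
  405198, 158), (.negSucc 367794, 161), (.negSucc 264674, 162), (.ofNat 23463, 170)])])

/-- a candidate -/
def c17 : ℕ × ℕ × List Step :=
  (245360639516638407819264, 36, [(0, 0, .negSucc 2186, 0, [(.negSucc 1176, 42), (.negSucc 372, 56), (.ofNat 480,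
  63), (.negSucc 1137, 90), (.negSucc 585, 94), (.negSucc 1111, 96), (.negSucc 731, 120), (.negSucc 523, 121),
  (.negSucc 772, 125), (.negSucc 573, 129), (.negSucc 1250, 130), (.negSucc 395, 131), (.negSucc 48, 135), (.negSucc
  16, 140), (.negSucc 845, 141), (.negSucc 172, 142), (.negSucc 1563, 144), (.negSucc 154, 145), (.negSucc 448, 146),
  (.negSucc 1351, 148), (.negSucc 102, 149), (.negSucc 657, 150), (.negSucc 1802, 151), (.negSucc 270, 156),
  (.negSucc 1658, 157), (.negSucc 769, 158), (.negSucc 1622, 161), (.negSucc 645, 162), (.ofNat 754, 170)])])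

/-- candidates -/
def CL1 : List (ℕ × ℕ × List Step) :=
  [c9, c10, c11, c12, c13, c14, c15, c16, c17]

theorem okC1 : okL TAB.M.dat R 2 P Z CL1 = true := by decide +kernel

/-- a candidate -/
def c18 : ℕ × ℕ × List Step :=
  (1761867302154113283784704, 21, [(0, 0, .ofNat 0, 0, [(.negSucc 0, 59), (.negSucc 3, 120), (.negSucc 1, 121),
  (.negSucc 3, 123), (.negSucc 0, 139), (.negSucc 8, 143), (.negSucc 17, 146), (.negSucc 8, 154), (.negSucc 7, 155),
  (.negSucc 7, 156), (.negSucc 4, 158), (.negSucc 1, 159), (.negSucc 7, 160), (.negSucc 26, 161), (.negSucc 4, 162),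
  (.negSucc 1, 169), (.ofNat 3, 170)])])

/-- a candidate -/
def c19 : ℕ × ℕ × List Step :=
  (112759507337863250162221056, 21, [(0, 0, .ofNat 0, 5, [(.ofNat 27266512014697994254849, 44), (.negSucc
  937538520352794926597411, 66), (.ofNat 6461081889226673298932241, 80), (.negSucc 181829783734568962837351, 94),
  (.negSucc 541001462817694349561672, 107), (.ofNat 596859094952098565428196, 112), (.negSucc
  1259626852597087797737633, 121), (.negSucc 229367609445657058808603, 124), (.ofNat 734606986269040190683204, 134),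
  (.ofNat 154427604291352514730774, 142), (.negSucc 1907324851069727598054260, 145), (.negSucc
  936449310952734698903488, 149), (.ofNat 1096858410889416842372200, 152), (.ofNat 498281815677559151984450, 153),
  (.ofNat 218253788895569533310331, 161), (.ofNat 317615338806583265318511, 162)])])

/-- a candidate -/
def c20 : ℕ × ℕ × List Step :=
  (470128144435642368000000000, 1625, [(0, 0, .ofNat 282429536481, 0, [(.ofNat 9490909780, 2), (.ofNat 49691859395,
  9), (.negSucc 22920107185, 11), (.negSucc 7134127237, 15), (.ofNat 47799411983, 59), (.negSucc 25987168789, 68),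
  (.ofNat 5724744495, 69), (.negSucc 31802562077, 70), (.negSucc 47358641422, 75), (.negSucc 54222759144, 79),
  (.negSucc 37704914745, 85), (.negSucc 17234579270, 87), (.ofNat 8906764897, 90), (.negSucc 11124019715, 111),
  (.negSucc 68066922250, 113), (.negSucc 79358577121, 123), (.negSucc 46060098973, 124), (.negSucc 132091215228,
  131), (.negSucc 258184081, 138), (.negSucc 102146388742, 139), (.negSucc 88947008100, 140), (.negSucc 7141303422,
  144), (.negSucc 61394375421, 146), (.negSucc 27862596125, 148), (.negSucc 116044465709, 153), (.negSucc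
  23384566244, 154), (.negSucc 31782832074, 155), (.negSucc 18458582538, 156), (.negSucc 25343145454, 157), (.negSucc
  62128646153, 158), (.negSucc 114239580930, 159), (.negSucc 135100143130, 160), (.negSucc 132290636486, 161),
  (.negSucc 56767300565, 162), (.negSucc 82742512790, 168), (.negSucc 188979866399, 169), (.ofNat 234522109497,
  170)])])

/-- a candidate -/
def c21 : ℕ × ℕ × List Step :=
  (657366253849018368000000000, 500, [(0, 0, .ofNat 94143178827, 0, [(.ofNat 15671027172, 2), (.ofNat 9951342788, 9),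
  (.ofNat 114243414, 15), (.ofNat 17776517103, 22), (.negSucc 7835997321, 25), (.negSucc 9801113664, 27), (.negSucc
  5521597575, 31), (.ofNat 11559802271, 43), (.negSucc 5221115846, 44), (.negSucc 3577147656, 49), (.negSucc
  1629316150, 56), (.ofNat 12572177410, 61), (.ofNat 9840851147, 64), (.negSucc 1499393146, 84), (.negSucc
  2024091408, 85), (.ofNat 6845034223, 90), (.negSucc 12858051758, 92), (.negSucc 10890729513, 96), (.ofNat
  13794103941, 98), (.ofNat 5866658446, 100), (.negSucc 1347046449, 102), (.negSucc 2050946864, 123), (.negSucc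
  14758088527, 124), (.negSucc 6678011143, 131), (.negSucc 1955733712, 136), (.ofNat 87261776, 138), (.negSucc
  12192839856, 139), (.negSucc 2763050201, 151), (.negSucc 1743902730, 153), (.negSucc 4111224900, 154), (.negSucc
  3832411023, 156), (.negSucc 3499343043, 159), (.negSucc 186791502, 160), (.negSucc 11335340364, 161)])])

/-- a candidate -/
def c22 : ℕ × ℕ × List Step :=
  (657366253849018368000000000, 1000, [(0, 0, .ofNat 94143178827, 0, [(.ofNat 15671027172, 2), (.ofNat 9951342788,
  9), (.ofNat 114243414, 15), (.ofNat 17776517103, 22), (.negSucc 7835997321, 25), (.negSucc 9801113664, 27),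
  (.negSucc 5521597575, 31), (.ofNat 11559802271, 43), (.negSucc 5221115846, 44), (.negSucc 3577147656, 49),
  (.negSucc 1629316150, 56), (.ofNat 12572177410, 61), (.ofNat 9840851147, 64), (.negSucc 1499393146, 84), (.negSucc
  2024091408, 85), (.ofNat 6845034223, 90), (.negSucc 12858051758, 92), (.negSucc 10890729513, 96), (.ofNat
  13794103941, 98), (.ofNat 5866658446, 100), (.negSucc 1347046449, 102), (.negSucc 2050946864, 123), (.negSucc
  14758088527, 124), (.negSucc 6678011143, 131), (.negSucc 1955733712, 136), (.ofNat 87261776, 138), (.negSucc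
  12192839856, 139), (.negSucc 2763050201, 151), (.negSucc 1743902730, 153), (.negSucc 4111224900, 154), (.negSucc
  3832411023, 156), (.negSucc 3499343043, 159), (.negSucc 186791502, 160), (.negSucc 11335340364, 161)])])

/-- a candidate -/
def c23 : ℕ × ℕ × List Step :=
  (4194561623681138688000000000, 55, [(0, 0, .ofNat 129140163, 0, [(.ofNat 21598827, 2), (.negSucc 1829407, 8),
  (.ofNat 33008443, 9), (.negSucc 33856181, 14), (.ofNat 17083350, 15), (.negSucc 9024745, 19), (.ofNat 9722952, 20),
  (.negSucc 2598178, 25), (.negSucc 11691789, 27), (.negSucc 816721, 28), (.negSucc 17626060, 36), (.negSucc 8988450,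
  38), (.ofNat 12180090, 43), (.negSucc 15391364, 44), (.negSucc 745713, 46), (.negSucc 19559569, 47), (.negSucc
  13522357, 49), (.ofNat 13631063, 51), (.negSucc 393990, 55), (.ofNat 12018119, 78), (.negSucc 2088940, 81),
  (.negSucc 4648689, 85), (.negSucc 3220726, 89), (.ofNat 19295338, 90), (.negSucc 1098604, 92), (.ofNat 17530233,
  95), (.negSucc 2020654, 96), (.ofNat 6593096, 98), (.negSucc 8791989, 119), (.negSucc 4116332, 123), (.negSucc
  5028969, 124), (.ofNat 2249322, 125), (.negSucc 15859141, 131), (.ofNat 2621327, 132), (.ofNat 11934677, 143),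
  (.ofNat 2387247, 144), (.negSucc 13296214, 153), (.negSucc 2253310, 159), (.negSucc 1298073, 166), (.negSucc
  2333429, 168), (.negSucc 9534254, 169)])])

/-- a candidate -/
def c24 : ℕ × ℕ × List Step :=
  (5949628429596622848000000000, 385, [(0, 0, .ofNat 14348907, 0, [(.ofNat 3119253, 2), (.ofNat 907665, 5), (.ofNat
  4478441, 9), (.negSucc 3641964, 13), (.negSucc 1414174, 14), (.ofNat 1175994, 15), (.negSucc 834730, 19), (.ofNat
  621000, 20), (.ofNat 803870, 21), (.ofNat 213862, 22), (.negSucc 256710, 24), (.ofNat 1003138, 26), (.negSucc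
  2966854, 27), (.negSucc 2014559, 28), (.negSucc 310569, 29), (.ofNat 71441, 32), (.negSucc 2388856, 36), (.negSucc
  1010309, 38), (.ofNat 1726581, 43), (.negSucc 734665, 47), (.negSucc 1638375, 48), (.ofNat 1377648, 51), (.ofNat
  2935814, 52), (.negSucc 1065687, 54), (.negSucc 1949073, 56), (.negSucc 2242564, 57), (.negSucc 161424, 58),
  (.negSucc 379657, 63), (.negSucc 527656, 66), (.negSucc 1138926, 73), (.negSucc 1800905, 77), (.ofNat 139153, 78),
  (.negSucc 2850540, 81), (.ofNat 1282231, 83), (.negSucc 1846379, 85), (.negSucc 275765, 88), (.ofNat 404840, 90),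
  (.negSucc 47993, 92), (.ofNat 1259297, 93), (.ofNat 822623, 98), (.negSucc 623372, 101), (.negSucc 384427, 104),
  (.negSucc 49854, 106), (.ofNat 546656, 113), (.ofNat 1810318, 115), (.negSucc 1301474, 118), (.negSucc 1020296,
  119), (.negSucc 2808880, 131), (.ofNat 975129, 132), (.ofNat 1422515, 143), (.ofNat 1047148, 147), (.negSucc
  188561, 148), (.ofNat 282080, 152), (.negSucc 1412173, 153), (.ofNat 596095, 156), (.negSucc 812926, 157),
  (.negSucc 40079, 169)])])

/-- a candidate -/
def c25 : ℕ × ℕ × List Step :=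
  (6821950193940726634814373888, 77, [(0, 0, .ofNat 43046721, 0, [(.negSucc 1683129, 8), (.ofNat 9769295, 9),
  (.negSucc 2057666, 11), (.ofNat 2622840, 15), (.ofNat 9907981, 21), (.negSucc 5563510, 25), (.negSucc 4251082, 28),
  (.ofNat 868036, 30), (.ofNat 594778, 31), (.negSucc 1799871, 46), (.ofNat 1738910, 50), (.ofNat 10865003, 51),
  (.negSucc 1605843, 54), (.negSucc 2678886, 56), (.negSucc 2567462, 73), (.negSucc 856702, 74), (.ofNat 3458603,
  78), (.ofNat 1449861, 79), (.ofNat 1022558, 80), (.negSucc 12469132, 81), (.ofNat 3251734, 98), (.negSucc 5674114,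
  100), (.negSucc 4774986, 104), (.negSucc 2949049, 116), (.ofNat 2559700, 126), (.ofNat 2053937, 129), (.negSucc
  880269, 131), (.negSucc 3428243, 141), (.ofNat 793581, 143), (.ofNat 2538909, 152), (.negSucc 5257844, 153),
  (.negSucc 246246, 154), (.negSucc 19186, 157), (.negSucc 1638686, 165), (.negSucc 759689, 166), (.negSucc 227059,
  167)])])

/-- a candidate -/
def c26 : ℕ × ℕ × List Step :=
  (7216608469623248010382147584, 21, [(0, 0, .ofNat 1162261467, 0, [(.ofNat 215856088, 6), (.ofNat 8737497, 8),
  (.negSucc 434649521, 10), (.negSucc 49035485, 12), (.negSucc 29597521, 20), (.ofNat 103269151, 21), (.ofNat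
  39582626, 22), (.negSucc 322178615, 25), (.ofNat 38311195, 26), (.negSucc 122979874, 27), (.ofNat 83944193, 29),
  (.negSucc 49046104, 31), (.negSucc 19297509, 32), (.ofNat 72068155, 34), (.negSucc 10389146, 36), (.ofNat 64110136,
  38), (.negSucc 96133212, 40), (.negSucc 199568350, 42), (.ofNat 30443409, 47), (.ofNat 140544551, 48), (.negSucc
  76773893, 54), (.negSucc 37010829, 59), (.ofNat 74552311, 60), (.ofNat 47414674, 62), (.negSucc 33089490, 69),
  (.negSucc 29974614, 75), (.ofNat 99756292, 80), (.negSucc 217664904, 81), (.negSucc 50303238, 83), (.ofNat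
  25996324, 84), (.negSucc 7151131, 87), (.negSucc 41694888, 88), (.negSucc 177760586, 90), (.negSucc 32328005, 91),
  (.negSucc 78433390, 95), (.ofNat 160334168, 97), (.ofNat 158800570, 99), (.ofNat 6101815, 101), (.negSucc
  108610912, 102), (.negSucc 188009277, 108), (.negSucc 35020994, 110), (.ofNat 103192462, 115), (.ofNat 15346007,
  127), (.negSucc 45602781, 130), (.ofNat 58172900, 132), (.negSucc 10200473, 135), (.negSucc 95425329, 137),
  (.negSucc 83796196, 141), (.negSucc 1792510, 144), (.ofNat 116262788, 148), (.ofNat 101904362, 152), (.ofNat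
  72395734, 153), (.negSucc 130973486, 158), (.negSucc 38556029, 163)])])

/-- candidates -/
def CL2 : List (ℕ × ℕ × List Step) :=
  [c18, c19, c20, c21, c22, c23, c24, c25, c26]

theorem okC2 : okL TAB.M.dat R 2 P Z CL2 = true := by decide +kernel

end Cfsg.Agent.TH.Spor.NM
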