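import Cfsg.Agent.TH.Spor.NMD

/-!
# S3541, sporadic rows: M, certificates (helper26; generated by notes/TH/spor26/gen.py.txt)
-/

set_option autoImplicit false
set_option Elab.async false

namespace Cfsg.Agent.TH.Spor.NM

open Cfsg Cfsg.Agent.TAB.Eng Cfsg.Agent.H940.Eng

/-- a candidate -/
def c27 : ℕ × ℕ × List Step :=
  (7216608469623248010382147584, 49, [(0, 0, .ofNat 177147, 0, [(.negSucc 8378, 7), (.ofNat 16761, 9), (.negSucc
  21309, 10), (.ofNat 39422, 21), (.negSucc 16480, 25), (.negSucc 20632, 27), (.ofNat 4000, 29), (.negSucc 6378, 37),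
  (.negSucc 9567, 40), (.negSucc 680, 41), (.negSucc 3180, 46), (.ofNat 5219, 51), (.ofNat 7120, 52), (.negSucc
  11380, 56), (.ofNat 13565, 64), (.negSucc 16464, 70), (.ofNat 6888, 75), (.negSucc 52558, 81), (.ofNat 25856, 98),
  (.ofNat 5699, 99), (.negSucc 14075, 100), (.negSucc 14364, 104), (.ofNat 9963, 126), (.ofNat 678, 129), (.negSucc
  4958, 141), (.ofNat 8148, 152), (.negSucc 3571, 164), (.negSucc 6451, 165)])])

/-- a candidate -/
def c28 : ℕ × ℕ × List Step :=
  (7216608469623248010382147584, 147, [(0, 0, .ofNat 1162261467, 0, [(.ofNat 215856088, 6), (.ofNat 8737497, 8),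
  (.negSucc 434649521, 10), (.negSucc 49035485, 12), (.negSucc 29597521, 20), (.ofNat 103269151, 21), (.ofNat
  39582626, 22), (.negSucc 322178615, 25), (.ofNat 38311195, 26), (.negSucc 122979874, 27), (.ofNat 83944193, 29),
  (.negSucc 49046104, 31), (.negSucc 19297509, 32), (.ofNat 72068155, 34), (.negSucc 10389146, 36), (.ofNat 64110136,
  38), (.negSucc 96133212, 40), (.negSucc 199568350, 42), (.ofNat 30443409, 47), (.ofNat 140544551, 48), (.negSucc
  76773893, 54), (.negSucc 37010829, 59), (.ofNat 74552311, 60), (.ofNat 47414674, 62), (.negSucc 33089490, 69),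
  (.negSucc 29974614, 75), (.ofNat 99756292, 80), (.negSucc 217664904, 81), (.negSucc 50303238, 83), (.ofNat
  25996324, 84), (.negSucc 7151131, 87), (.negSucc 41694888, 88), (.negSucc 177760586, 90), (.negSucc 32328005, 91),
  (.negSucc 78433390, 95), (.ofNat 160334168, 97), (.ofNat 158800570, 99), (.ofNat 6101815, 101), (.negSucc
  108610912, 102), (.negSucc 188009277, 108), (.negSucc 35020994, 110), (.ofNat 103192462, 115), (.ofNat 15346007,
  127), (.negSucc 45602781, 130), (.ofNat 58172900, 132), (.negSucc 10200473, 135), (.negSucc 95425329, 137),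
  (.negSucc 83796196, 141), (.negSucc 1792510, 144), (.ofNat 116262788, 148), (.ofNat 101904362, 152), (.ofNat
  72395734, 153), (.negSucc 130973486, 158), (.negSucc 38556029, 163)])])

/-- a candidate -/
def c29 : ℕ × ℕ × List Step :=
  (8874444426961747968000000000, 25, [(0, 0, .ofNat 6561, 0, [(.ofNat 761, 2), (.negSucc 528, 4), (.ofNat 172, 9),
  (.ofNat 926, 15), (.ofNat 303, 18), (.ofNat 616, 22), (.negSucc 135, 25), (.negSucc 1071, 27), (.negSucc 791, 31),
  (.negSucc 833, 36), (.ofNat 1107, 43), (.negSucc 60, 44), (.negSucc 512, 49), (.negSucc 186, 50), (.ofNat 759, 61),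
  (.ofNat 554, 64), (.negSucc 332, 66), (.negSucc 304, 84), (.negSucc 163, 85), (.ofNat 344, 86), (.ofNat 551, 90),
  (.negSucc 512, 92), (.ofNat 157, 93), (.negSucc 400, 96), (.ofNat 855, 98), (.ofNat 152, 100), (.negSucc 73, 119),
  (.ofNat 34, 122), (.negSucc 124, 123), (.negSucc 620, 124), (.negSucc 406, 131), (.ofNat 173, 132), (.ofNat 26,
  135), (.ofNat 16, 141), (.ofNat 163, 152), (.negSucc 135, 161)])])

/-- a candidate -/
def c30 : ℕ × ℕ × List Step :=
  (8961320506561855488000000000, 35, [(0, 0, .ofNat 94143178827, 0, [(.ofNat 5353746944, 2), (.ofNat 6076950881, 9),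
  (.negSucc 28141754116, 10), (.negSucc 25836499545, 13), (.ofNat 15598269630, 18), (.ofNat 5427005597, 21), (.ofNat
  8929098576, 22), (.negSucc 28484119021, 27), (.negSucc 401984291, 30), (.ofNat 6440889609, 32), (.negSucc
  10374343687, 36), (.ofNat 9633448092, 43), (.negSucc 11761491682, 48), (.negSucc 10847016528, 50), (.ofNat
  1173043710, 52), (.negSucc 3753096671, 54), (.negSucc 5903962977, 56), (.negSucc 5826694346, 57), (.negSucc
  4943713001, 58), (.ofNat 9876391053, 64), (.negSucc 17175923238, 81), (.ofNat 5810297127, 83), (.negSucc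
  11000959524, 85), (.ofNat 978276772, 86), (.ofNat 9532500934, 90), (.ofNat 3913624592, 91), (.negSucc 1820929195,
  92), (.ofNat 9062366646, 98), (.negSucc 9223414149, 106), (.ofNat 6866414325, 115), (.negSucc 3907908430, 118),
  (.negSucc 1022964252, 119), (.negSucc 708418906, 123), (.ofNat 7606298024, 126), (.negSucc 22291293336, 131),
  (.ofNat 3337169752, 132), (.negSucc 4310397282, 133), (.ofNat 3341406795, 138), (.ofNat 3726643650, 146), (.ofNat
  2181292759, 147), (.ofNat 3089159415, 152), (.ofNat 7979834203, 156), (.negSucc 3414450788, 161), (.negSucc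
  1239917005, 164), (.negSucc 1135897139, 168), (.negSucc 2634455459, 169)])])

/-- a candidate -/
def c31 : ℕ × ℕ × List Step :=
  (28322198144195493888000000000, 35, [(0, 0, .ofNat 387420489, 0, [(.ofNat 50927866, 2), (.ofNat 6456054, 9),
  (.negSucc 106236149, 13), (.ofNat 61341594, 15), (.ofNat 15576345, 21), (.ofNat 5023042, 22), (.negSucc 16527782,
  24), (.ofNat 8594143, 26), (.negSucc 145345336, 27), (.ofNat 20674423, 32), (.negSucc 60778544, 36), (.negSucc
  13248102, 37), (.ofNat 45691563, 43), (.negSucc 60184499, 48), (.negSucc 28405212, 50), (.ofNat 80205197, 52),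
  (.negSucc 15335468, 54), (.negSucc 31792310, 56), (.negSucc 69516924, 57), (.negSucc 11101496, 58), (.ofNat
  12421520, 62), (.ofNat 37564479, 64), (.negSucc 22582010, 66), (.negSucc 66580300, 81), (.ofNat 21490846, 83),
  (.negSucc 26279941, 85), (.ofNat 13347822, 86), (.ofNat 12324779, 90), (.negSucc 40282559, 92), (.ofNat 17563349,
  93), (.ofNat 64310195, 98), (.negSucc 15332009, 101), (.negSucc 7281679, 104), (.negSucc 11278206, 106), (.ofNat
  11031242, 113), (.ofNat 8853944, 115), (.negSucc 35800030, 118), (.negSucc 25668158, 119), (.negSucc 3169455, 123),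
  (.ofNat 660438, 126), (.negSucc 48798235, 131), (.negSucc 45037863, 133), (.negSucc 12150334, 135), (.ofNat
  1029943, 138), (.ofNat 23777886, 146), (.ofNat 24313612, 147), (.ofNat 23156291, 152), (.ofNat 35182781, 156),
  (.negSucc 5669838, 161)])])

/-- a candidate -/
def c32 : ℕ × ℕ × List Step :=
  (29827993768399208448000000000, 55, [(0, 0, .ofNat 282429536481, 0, [(.ofNat 54578789800, 2), (.negSucc
  10764233925, 8), (.ofNat 70797526187, 9), (.negSucc 75701375555, 14), (.ofNat 26325867243, 15), (.negSucc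
  16585077898, 19), (.ofNat 17691356205, 20), (.negSucc 12760730762, 25), (.negSucc 32374328000, 27), (.negSucc
  37850687777, 36), (.negSucc 17530742353, 38), (.ofNat 36888235000, 43), (.negSucc 32405886271, 44), (.negSucc
  31671793692, 47), (.negSucc 36545967313, 49), (.ofNat 32456578123, 51), (.negSucc 3251993794, 56), (.ofNat
  1595014309, 59), (.negSucc 8012339236, 77), (.ofNat 24335519675, 78), (.negSucc 11860068226, 81), (.negSucc
  9087466730, 85), (.ofNat 807321187, 86), (.negSucc 1267435848, 87), (.negSucc 488428084, 89), (.ofNat 42711497644,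
  90), (.ofNat 1105476901, 93), (.ofNat 44614608455, 95), (.negSucc 8012339236, 96), (.ofNat 23718949451, 98),
  (.negSucc 13768318018, 119), (.negSucc 1559429903, 123), (.negSucc 9612945643, 124), (.ofNat 4926983697, 125),
  (.negSucc 22134907084, 131), (.ofNat 5765645900, 132), (.ofNat 30405724418, 143), (.ofNat 2387515596, 144),
  (.negSucc 19556345233, 153), (.ofNat 2342738058, 158), (.ofNat 4138567786, 161), (.negSucc 6581836677, 166),
  (.negSucc 1939902679, 168), (.negSucc 17403048955, 169)])])

/-- a candidate -/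
def c33 : ℕ × ℕ × List Step :=
  (53246666561770487808000000000, 5, [(0, 0, .ofNat 1594323, 0, [(.ofNat 95355, 2), (.negSucc 182586, 4), (.ofNat
  226580, 5), (.ofNat 75235, 9), (.ofNat 304403, 15), (.ofNat 37217, 18), (.ofNat 229629, 22), (.negSucc 11681, 25),
  (.negSucc 353935, 27), (.negSucc 206304, 31), (.negSucc 52722, 34), (.negSucc 145710, 36), (.ofNat 277942, 43),
  (.negSucc 12071, 44), (.negSucc 49125, 49), (.negSucc 37955, 50), (.ofNat 121698, 61), (.ofNat 109236, 64),
  (.negSucc 32014, 65), (.negSucc 50256, 66), (.negSucc 88371, 85), (.ofNat 80482, 86), (.negSucc 12671, 87), (.ofNat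
  236429, 90), (.negSucc 78766, 92), (.negSucc 70137, 96), (.ofNat 79557, 98), (.ofNat 62101, 100), (.negSucc 49350,
  119), (.negSucc 11119, 123), (.negSucc 129201, 124), (.negSucc 49580, 131), (.ofNat 30156, 138), (.ofNat 38050,
  141), (.ofNat 27467, 152), (.negSucc 11681, 161)])])

/-- a candidate -/
def c34 : ℕ × ℕ × List Step :=
  (53246666561770487808000000000, 10, [(0, 0, .ofNat 1594323, 0, [(.ofNat 95355, 2), (.negSucc 182586, 4), (.ofNat
  226580, 5), (.ofNat 75235, 9), (.ofNat 304403, 15), (.ofNat 37217, 18), (.ofNat 229629, 22), (.negSucc 11681, 25),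
  (.negSucc 353935, 27), (.negSucc 206304, 31), (.negSucc 52722, 34), (.negSucc 145710, 36), (.ofNat 277942, 43),
  (.negSucc 12071, 44), (.negSucc 49125, 49), (.negSucc 37955, 50), (.ofNat 121698, 61), (.ofNat 109236, 64),
  (.negSucc 32014, 65), (.negSucc 50256, 66), (.negSucc 88371, 85), (.ofNat 80482, 86), (.negSucc 12671, 87), (.ofNat
  236429, 90), (.negSucc 78766, 92), (.negSucc 70137, 96), (.ofNat 79557, 98), (.ofNat 62101, 100), (.negSucc 49350,
  119), (.negSucc 11119, 123), (.negSucc 129201, 124), (.negSucc 49580, 131), (.ofNat 30156, 138), (.ofNat 38050,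
  141), (.ofNat 27467, 152), (.negSucc 11681, 161)])])

/-- a candidate -/
def c35 : ℕ × ℕ × List Step :=
  (53246666561770487808000000000, 20, [(0, 0, .ofNat 1594323, 0, [(.ofNat 284839, 2), (.negSucc 62390, 8), (.ofNat
  129460, 9), (.ofNat 114508, 15), (.ofNat 158228, 22), (.negSucc 35625, 25), (.negSucc 291561, 27), (.negSucc
  174296, 31), (.negSucc 157375, 36), (.ofNat 255692, 43), (.negSucc 51048, 44), (.negSucc 129313, 49), (.negSucc
  43902, 50), (.negSucc 44559, 56), (.ofNat 242084, 61), (.ofNat 152014, 64), (.negSucc 17182, 66), (.negSucc 79148,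
  85), (.ofNat 35542, 86), (.ofNat 206041, 90), (.negSucc 179758, 92), (.ofNat 29147, 93), (.negSucc 149973, 96),
  (.ofNat 127416, 98), (.ofNat 59704, 100), (.ofNat 3396, 122), (.negSucc 176696, 124), (.negSucc 70533, 131),
  (.ofNat 13812, 132), (.ofNat 32738, 138), (.ofNat 41003, 152), (.negSucc 35625, 161)])])

/-- candidates -/
def CL3 : List (ℕ × ℕ × List Step) :=
  [c27, c28, c29, c30, c31, c32, c33, c34, c35]

theorem okC3 : okL TAB.M.dat R 2 P Z CL3 = true := by decide +kernel

/-- a candidate -/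
def c36 : ℕ × ℕ × List Step :=
  (53246666561770487808000000000, 40, [(0, 0, .ofNat 1594323, 0, [(.ofNat 284839, 2), (.negSucc 62390, 8), (.ofNat
  129460, 9), (.ofNat 114508, 15), (.ofNat 158228, 22), (.negSucc 35625, 25), (.negSucc 291561, 27), (.negSucc
  174296, 31), (.negSucc 157375, 36), (.ofNat 255692, 43), (.negSucc 51048, 44), (.negSucc 129313, 49), (.negSucc
  43902, 50), (.negSucc 44559, 56), (.ofNat 242084, 61), (.ofNat 152014, 64), (.negSucc 17182, 66), (.negSucc 79148,
  85), (.ofNat 35542, 86), (.ofNat 206041, 90), (.negSucc 179758, 92), (.ofNat 29147, 93), (.negSucc 149973, 96),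
  (.ofNat 127416, 98), (.ofNat 59704, 100), (.ofNat 3396, 122), (.negSucc 176696, 124), (.negSucc 70533, 131),
  (.ofNat 13812, 132), (.ofNat 32738, 138), (.ofNat 41003, 152), (.negSucc 35625, 161)])])

/-- a candidate -/
def c37 : ℕ × ℕ × List Step :=
  (89512132406346252288000000000, 35, [(0, 0, .ofNat 4782969, 0, [(.ofNat 623541, 2), (.ofNat 97204, 9), (.negSucc
  1347458, 13), (.ofNat 795522, 15), (.ofNat 198465, 21), (.ofNat 99384, 22), (.negSucc 196821, 24), (.ofNat 101677,
  26), (.negSucc 1782448, 27), (.ofNat 258551, 32), (.negSucc 699454, 36), (.negSucc 179609, 37), (.ofNat 550607,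
  43), (.negSucc 760143, 48), (.negSucc 365598, 50), (.ofNat 998422, 52), (.negSucc 194496, 54), (.negSucc 356585,
  56), (.negSucc 865046, 57), (.negSucc 135475, 58), (.ofNat 133618, 62), (.ofNat 462543, 64), (.negSucc 239258, 66),
  (.negSucc 7908, 77), (.negSucc 818673, 81), (.ofNat 273447, 83), (.negSucc 331952, 85), (.ofNat 159901, 86),
  (.ofNat 149192, 90), (.negSucc 513685, 92), (.ofNat 213155, 93), (.ofNat 746003, 98), (.negSucc 227171, 101),
  (.negSucc 73630, 104), (.negSucc 148085, 106), (.ofNat 189162, 113), (.ofNat 100167, 115), (.negSucc 416409, 118),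
  (.negSucc 321967, 119), (.negSucc 21722, 123), (.negSucc 632122, 131), (.negSucc 531370, 133), (.negSucc 127610,
  135), (.ofNat 25491, 138), (.ofNat 323854, 146), (.ofNat 292395, 147), (.ofNat 288734, 152), (.ofNat 429135, 156),
  (.negSucc 65649, 161)])])

/-- a candidate -/
def c38 : ℕ × ℕ × List Step :=
  (119804999763983597568000000000, 5, [(0, 0, .ofNat 43046721, 0, [(.ofNat 4893582, 2), (.ofNat 10035268, 5), (.ofNat
  861800, 9), (.negSucc 12024855, 11), (.ofNat 8102887, 15), (.ofNat 4576309, 21), (.negSucc 1824060, 25), (.negSucc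
  5743699, 27), (.negSucc 229160, 31), (.ofNat 4419097, 43), (.negSucc 198771, 44), (.negSucc 4262234, 49), (.negSucc
  2565082, 50), (.negSucc 29742, 55), (.ofNat 4527794, 64), (.negSucc 732881, 66), (.negSucc 369006, 81), (.negSucc
  2515395, 85), (.ofNat 1407364, 86), (.ofNat 8364166, 90), (.ofNat 444742, 93), (.negSucc 1232960, 96), (.ofNat
  3108096, 100), (.ofNat 925918, 122), (.negSucc 1416070, 123), (.negSucc 2516656, 124), (.negSucc 847533, 131),
  (.negSucc 397950, 136), (.ofNat 1609363, 138), (.ofNat 554341, 141), (.ofNat 1136718, 158), (.negSucc 717085, 161),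
  (.negSucc 91384, 169), (.negSucc 2681912, 170)])])

/-- a candidate -/
def c39 : ℕ × ℕ × List Step :=
  (119804999763983597568000000000, 25, [(0, 0, .ofNat 43046721, 0, [(.ofNat 4893582, 2), (.ofNat 10035268, 5),
  (.ofNat 861800, 9), (.negSucc 12024855, 11), (.ofNat 8102887, 15), (.ofNat 4576309, 21), (.negSucc 1824060, 25),
  (.negSucc 5743699, 27), (.negSucc 229160, 31), (.ofNat 4419097, 43), (.negSucc 198771, 44), (.negSucc 4262234, 49),
  (.negSucc 2565082, 50), (.negSucc 29742, 55), (.ofNat 4527794, 64), (.negSucc 732881, 66), (.negSucc 369006, 81),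
  (.negSucc 2515395, 85), (.ofNat 1407364, 86), (.ofNat 8364166, 90), (.ofNat 444742, 93), (.negSucc 1232960, 96),
  (.ofNat 3108096, 100), (.ofNat 925918, 122), (.negSucc 1416070, 123), (.negSucc 2516656, 124), (.negSucc 847533,
  131), (.negSucc 397950, 136), (.ofNat 1609363, 138), (.ofNat 554341, 141), (.ofNat 1136718, 158), (.negSucc 717085,
  161), (.negSucc 91384, 169), (.negSucc 2681912, 170)])])

/-- a candidate -/
def c40 : ℕ × ℕ × List Step :=
  (404519150056623833088000000000, 715, [(0, 0, .ofNat 387420489, 0, [(.ofNat 111496585, 2), (.negSucc 66147039, 8),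
  (.ofNat 135661533, 9), (.negSucc 28132347, 11), (.negSucc 33123011, 14), (.negSucc 37787413, 15), (.ofNat 14193481,
  18), (.negSucc 27091715, 19), (.ofNat 4857634, 20), (.negSucc 42512198, 25), (.negSucc 29398753, 27), (.negSucc
  11730493, 31), (.ofNat 30596681, 34), (.negSucc 6377527, 38), (.ofNat 76567050, 43), (.negSucc 20257319, 47),
  (.negSucc 73522842, 49), (.ofNat 52803057, 51), (.negSucc 5209652, 58), (.ofNat 49809142, 59), (.ofNat 224805, 62),
  (.negSucc 15034135, 64), (.negSucc 35143075, 68), (.ofNat 2356128, 78), (.negSucc 56457312, 79), (.negSucc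
  24014478, 85), (.ofNat 6913336, 86), (.ofNat 52055068, 90), (.negSucc 4943338, 91), (.ofNat 12740939, 93),
  (.negSucc 10112772, 106), (.negSucc 17179506, 119), (.negSucc 30118530, 123), (.negSucc 9163729, 124), (.ofNat
  34506814, 125), (.negSucc 35502202, 131), (.ofNat 35542198, 132), (.negSucc 73005886, 139), (.negSucc 13695237,
  140), (.ofNat 46567730, 143), (.ofNat 3342125, 144), (.negSucc 1200218, 149), (.ofNat 36281364, 158), (.ofNat
  10537471, 161), (.negSucc 7390104, 168), (.negSucc 7859711, 169)])])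

/-- a candidate -/
def c41 : ℕ × ℕ × List Step :=
  (1019599133191037779968000000000, 35, [(0, 0, .ofNat 4782969, 0, [(.ofNat 623541, 2), (.ofNat 97204, 9), (.negSucc
  1347458, 13), (.ofNat 795522, 15), (.ofNat 198465, 21), (.ofNat 99384, 22), (.negSucc 196821, 24), (.ofNat 101677,
  26), (.negSucc 1782448, 27), (.ofNat 258551, 32), (.negSucc 699454, 36), (.negSucc 179609, 37), (.ofNat 550607,
  43), (.negSucc 760143, 48), (.negSucc 365598, 50), (.ofNat 998422, 52), (.negSucc 194496, 54), (.negSucc 356585,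
  56), (.negSucc 865046, 57), (.negSucc 135475, 58), (.ofNat 133618, 62), (.ofNat 462543, 64), (.negSucc 239258, 66),
  (.negSucc 7908, 77), (.negSucc 818673, 81), (.ofNat 273447, 83), (.negSucc 331952, 85), (.ofNat 159901, 86),
  (.ofNat 149192, 90), (.negSucc 513685, 92), (.ofNat 213155, 93), (.ofNat 746003, 98), (.negSucc 227171, 101),
  (.negSucc 73630, 104), (.negSucc 148085, 106), (.ofNat 189162, 113), (.ofNat 100167, 115), (.negSucc 416409, 118),
  (.negSucc 321967, 119), (.negSucc 21722, 123), (.negSucc 632122, 131), (.negSucc 531370, 133), (.negSucc 127610,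
  135), (.ofNat 25491, 138), (.ofNat 323854, 146), (.ofNat 292395, 147), (.ofNat 288734, 152), (.ofNat 429135, 156),
  (.negSucc 65649, 161)])])

/-- a candidate -/
def c42 : ℕ × ℕ × List Step :=
  (1019599133191037779968000000000, 175, [(0, 0, .ofNat 10460353203, 0, [(.ofNat 2833003929, 2), (.ofNat 1526795636,
  9), (.negSucc 580591019, 14), (.negSucc 161115287, 19), (.ofNat 1185275356, 21), (.negSucc 1340942784, 24), (.ofNat
  784654940, 26), (.negSucc 2454928129, 27), (.ofNat 1358080622, 28), (.ofNat 309680135, 32), (.negSucc 703715134,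
  33), (.negSucc 1040448105, 36), (.negSucc 1862574151, 37), (.negSucc 189080686, 40), (.ofNat 897889582, 42),
  (.ofNat 2223590931, 43), (.negSucc 474969880, 47), (.negSucc 703134752, 50), (.ofNat 2148600567, 52), (.negSucc
  2028247788, 56), (.negSucc 629183726, 57), (.negSucc 28064394, 61), (.negSucc 387196394, 63), (.ofNat 1289274411,
  64), (.negSucc 250804235, 66), (.negSucc 1145863678, 67), (.ofNat 133943054, 71), (.negSucc 163465855, 74),
  (.negSucc 1824619196, 81), (.ofNat 320864852, 83), (.negSucc 414010761, 85), (.ofNat 707331739, 94), (.ofNat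
  846625876, 98), (.negSucc 250642784, 101), (.negSucc 368614892, 104), (.ofNat 760018345, 115), (.negSucc 194900781,
  116), (.negSucc 916604121, 118), (.negSucc 671493444, 119), (.negSucc 222004077, 123), (.ofNat 402431240, 126),
  (.negSucc 1448093592, 131), (.negSucc 1644754973, 133), (.ofNat 75657141, 138), (.ofNat 912501252, 139), (.ofNat
  477087658, 143), (.ofNat 149706033, 146), (.ofNat 942958048, 147), (.ofNat 1994745354, 152), (.negSucc 448297709,
  154), (.ofNat 1268872363, 156), (.negSucc 50691395, 161)])])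

/-- a candidate -/
def c43 : ℕ × ℕ × List Step :=
  (2139450473317115363328000000000, 385, [(0, 0, .ofNat 59049, 0, [(.ofNat 11224, 2), (.ofNat 18056, 9), (.negSucc
  16822, 13), (.negSucc 6356, 14), (.ofNat 7135, 15), (.negSucc 2418, 19), (.ofNat 2606, 20), (.ofNat 2101, 21),
  (.ofNat 3743, 22), (.negSucc 278, 24), (.ofNat 4636, 26), (.negSucc 13430, 27), (.negSucc 7635, 28), (.ofNat 1276,
  32), (.negSucc 11765, 36), (.negSucc 7061, 38), (.ofNat 7721, 43), (.negSucc 1500, 47), (.negSucc 7820, 48),
  (.ofNat 5367, 51), (.ofNat 9689, 52), (.negSucc 1784, 54), (.negSucc 5247, 56), (.negSucc 10605, 57), (.negSucc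
  593, 58), (.negSucc 2443, 63), (.negSucc 1418, 66), (.negSucc 253, 67), (.negSucc 4183, 73), (.negSucc 4744, 77),
  (.ofNat 2804, 78), (.negSucc 11893, 81), (.ofNat 5276, 83), (.negSucc 6729, 85), (.negSucc 1291, 88), (.ofNat 2141,
  90), (.negSucc 706, 92), (.ofNat 5028, 93), (.ofNat 2757, 98), (.negSucc 2480, 101), (.negSucc 3187, 104),
  (.negSucc 2050, 106), (.ofNat 2960, 113), (.ofNat 4981, 115), (.negSucc 3488, 118), (.negSucc 671, 119), (.negSucc
  10474, 131), (.ofNat 3649, 132), (.negSucc 2486, 135), (.ofNat 5045, 143), (.ofNat 2681, 144), (.ofNat 3260, 146),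
  (.ofNat 4714, 147), (.ofNat 3403, 152), (.negSucc 1714, 153), (.ofNat 3482, 156), (.ofNat 532, 162)])])

/-- a candidate -/
def c44 : ℕ × ℕ × List Step :=
  (3222436766628465082368000000000, 35, [(0, 0, .ofNat 4782969, 0, [(.ofNat 623541, 2), (.ofNat 97204, 9), (.negSucc
  1347458, 13), (.ofNat 795522, 15), (.ofNat 198465, 21), (.ofNat 99384, 22), (.negSucc 196821, 24), (.ofNat 101677,
  26), (.negSucc 1782448, 27), (.ofNat 258551, 32), (.negSucc 699454, 36), (.negSucc 179609, 37), (.ofNat 550607,
  43), (.negSucc 760143, 48), (.negSucc 365598, 50), (.ofNat 998422, 52), (.negSucc 194496, 54), (.negSucc 356585,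
  56), (.negSucc 865046, 57), (.negSucc 135475, 58), (.ofNat 133618, 62), (.ofNat 462543, 64), (.negSucc 239258, 66),
  (.negSucc 7908, 77), (.negSucc 818673, 81), (.ofNat 273447, 83), (.negSucc 331952, 85), (.ofNat 159901, 86),
  (.ofNat 149192, 90), (.negSucc 513685, 92), (.ofNat 213155, 93), (.ofNat 746003, 98), (.negSucc 227171, 101),
  (.negSucc 73630, 104), (.negSucc 148085, 106), (.ofNat 189162, 113), (.ofNat 100167, 115), (.negSucc 416409, 118),
  (.negSucc 321967, 119), (.negSucc 21722, 123), (.negSucc 632122, 131), (.negSucc 531370, 133), (.negSucc 127610,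
  135), (.ofNat 25491, 138), (.ofNat 323854, 146), (.ofNat 292395, 147), (.ofNat 288734, 152), (.ofNat 429135, 156),
  (.negSucc 65649, 161)])])

/-- candidates -/
def CL4 : List (ℕ × ℕ × List Step) :=
  [c36, c37, c38, c39, c40, c41, c42, c43, c44]

theorem okC4 : okL TAB.M.dat R 2 P Z CL4 = true := by decide +kernel

/-- a candidate -/
def c45 : ℕ × ℕ × List Step :=
  (3222436766628465082368000000000, 175, [(0, 0, .ofNat 3486784401, 0, [(.ofNat 944334643, 2), (.ofNat 508931879, 9),
  (.negSucc 193530339, 14), (.negSucc 53705095, 19), (.ofNat 395091785, 21), (.negSucc 446980927, 24), (.ofNat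
  261551647, 26), (.negSucc 818309376, 27), (.ofNat 452693541, 28), (.ofNat 103226712, 32), (.negSucc 234571711, 33),
  (.negSucc 346816034, 36), (.negSucc 620858050, 37), (.negSucc 63026895, 40), (.ofNat 299296527, 42), (.ofNat
  741196977, 43), (.negSucc 158323293, 47), (.negSucc 234378250, 50), (.ofNat 716200189, 52), (.negSucc 676082595,
  56), (.negSucc 209727908, 57), (.negSucc 9354797, 61), (.negSucc 129065464, 63), (.ofNat 429758137, 64), (.negSucc
  83601411, 66), (.negSucc 381954559, 67), (.ofNat 44647685, 71), (.negSucc 54488618, 74), (.negSucc 608206398, 81),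
  (.ofNat 106954951, 83), (.negSucc 138003586, 85), (.ofNat 235777246, 94), (.ofNat 282208625, 98), (.negSucc
  83547594, 101), (.negSucc 122871630, 104), (.ofNat 253339448, 115), (.negSucc 64966926, 116), (.negSucc 305534706,
  118), (.negSucc 223831147, 119), (.negSucc 74001358, 123), (.ofNat 134143747, 126), (.negSucc 482697863, 131),
  (.negSucc 548251657, 133), (.ofNat 25219047, 138), (.ofNat 304167084, 139), (.ofNat 159029219, 143), (.ofNat
  49902011, 146), (.ofNat 314319349, 147), (.ofNat 664915118, 152), (.negSucc 149432569, 154), (.ofNat 422957454,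
  156), (.negSucc 16897131, 161)])])

/-- a candidate -/
def c46 : ℕ × ℕ × List Step :=
  (3222436766628465082368000000000, 875, [(0, 0, .ofNat 3486784401, 0, [(.ofNat 944334643, 2), (.ofNat 508931879, 9),
  (.negSucc 193530339, 14), (.negSucc 53705095, 19), (.ofNat 395091785, 21), (.negSucc 446980927, 24), (.ofNat
  261551647, 26), (.negSucc 818309376, 27), (.ofNat 452693541, 28), (.ofNat 103226712, 32), (.negSucc 234571711, 33),
  (.negSucc 346816034, 36), (.negSucc 620858050, 37), (.negSucc 63026895, 40), (.ofNat 299296527, 42), (.ofNat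
  741196977, 43), (.negSucc 158323293, 47), (.negSucc 234378250, 50), (.ofNat 716200189, 52), (.negSucc 676082595,
  56), (.negSucc 209727908, 57), (.negSucc 9354797, 61), (.negSucc 129065464, 63), (.ofNat 429758137, 64), (.negSucc
  83601411, 66), (.negSucc 381954559, 67), (.ofNat 44647685, 71), (.negSucc 54488618, 74), (.negSucc 608206398, 81),
  (.ofNat 106954951, 83), (.negSucc 138003586, 85), (.ofNat 235777246, 94), (.ofNat 282208625, 98), (.negSucc
  83547594, 101), (.negSucc 122871630, 104), (.ofNat 253339448, 115), (.negSucc 64966926, 116), (.negSucc 305534706,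
  118), (.negSucc 223831147, 119), (.negSucc 74001358, 123), (.ofNat 134143747, 126), (.negSucc 482697863, 131),
  (.negSucc 548251657, 133), (.ofNat 25219047, 138), (.ofNat 304167084, 139), (.ofNat 159029219, 143), (.ofNat
  49902011, 146), (.ofNat 314319349, 147), (.ofNat 664915118, 152), (.negSucc 149432569, 154), (.ofNat 422957454,
  156), (.negSucc 16897131, 161)])])

/-- a candidate -/
def c47 : ℕ × ℕ × List Step :=
  (9748577203017480142848000000000, 65, [(0, 0, .ofNat 4782969, 0, [(.ofNat 1180753, 2), (.ofNat 478381, 5),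
  (.negSucc 328392, 8), (.ofNat 1302788, 9), (.negSucc 514946, 11), (.negSucc 912616, 14), (.negSucc 291516, 15),
  (.ofNat 450123, 16), (.negSucc 63295, 20), (.ofNat 278517, 23), (.negSucc 102053, 25), (.negSucc 427053, 27),
  (.negSucc 253017, 31), (.negSucc 168833, 36), (.ofNat 375949, 39), (.ofNat 900347, 43), (.negSucc 79444, 44),
  (.negSucc 789377, 49), (.negSucc 132390, 55), (.ofNat 465059, 59), (.ofNat 141606, 61), (.ofNat 11388, 63),
  (.negSucc 2100, 66), (.negSucc 500593, 68), (.ofNat 299617, 69), (.negSucc 509973, 79), (.negSucc 352056, 84),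
  (.negSucc 4642, 85), (.ofNat 149988, 86), (.ofNat 50030, 89), (.ofNat 691534, 90), (.negSucc 26151, 96), (.negSucc
  184388, 106), (.negSucc 5422, 111), (.negSucc 435209, 123), (.negSucc 34462, 124), (.ofNat 241355, 125), (.negSucc
  475161, 131), (.ofNat 218574, 132), (.negSucc 62117, 136), (.ofNat 238903, 141), (.ofNat 234445, 158), (.negSucc
  266829, 167)])])

/-- a candidate -/
def c48 : ℕ × ℕ × List Step :=
  (36705568794877360078848000000000, 35, [(0, 0, .ofNat 129140163, 0, [(.ofNat 10246210, 2), (.ofNat 1423412, 5),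
  (.ofNat 6695828, 9), (.negSucc 40871934, 10), (.negSucc 30007629, 13), (.ofNat 1883909, 15), (.ofNat 23010372, 18),
  (.ofNat 11723841, 21), (.ofNat 6871028, 22), (.negSucc 38711432, 27), (.ofNat 4450914, 32), (.negSucc 2053119, 33),
  (.negSucc 14229704, 36), (.negSucc 13782628, 37), (.ofNat 15839548, 43), (.negSucc 19789192, 48), (.negSucc
  11431828, 50), (.ofNat 2558727, 52), (.negSucc 3972521, 54), (.negSucc 6204183, 56), (.negSucc 6076509, 57),
  (.ofNat 15708150, 64), (.negSucc 142995, 75), (.negSucc 24416470, 81), (.negSucc 1835386, 82), (.ofNat 5955276,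
  83), (.negSucc 14774191, 85), (.ofNat 1373424, 86), (.ofNat 10057204, 90), (.negSucc 2247733, 92), (.negSucc
  6243055, 95), (.ofNat 13173342, 98), (.negSucc 3582337, 101), (.negSucc 5593337, 106), (.ofNat 7917407, 115),
  (.negSucc 10392, 116), (.negSucc 3898279, 118), (.negSucc 1012722, 123), (.ofNat 11707830, 126), (.negSucc
  26872636, 131), (.negSucc 4445882, 133), (.ofNat 6600860, 138), (.ofNat 7457691, 146), (.ofNat 3482193, 147),
  (.ofNat 6666687, 152), (.ofNat 10412239, 156), (.negSucc 3546044, 161), (.negSucc 4193850, 164), (.negSucc 1022808,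
  168), (.negSucc 2262259, 169)])])

/-- a candidate -/
def c49 : ℕ × ℕ × List Step :=
  (116007723598624742965248000000000, 35, [(0, 0, .ofNat 4782969, 0, [(.ofNat 623541, 2), (.ofNat 97204, 9),
  (.negSucc 1347458, 13), (.ofNat 795522, 15), (.ofNat 198465, 21), (.ofNat 99384, 22), (.negSucc 196821, 24),
  (.ofNat 101677, 26), (.negSucc 1782448, 27), (.ofNat 258551, 32), (.negSucc 699454, 36), (.negSucc 179609, 37),
  (.ofNat 550607, 43), (.negSucc 760143, 48), (.negSucc 365598, 50), (.ofNat 998422, 52), (.negSucc 194496, 54),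
  (.negSucc 356585, 56), (.negSucc 865046, 57), (.negSucc 135475, 58), (.ofNat 133618, 62), (.ofNat 462543, 64),
  (.negSucc 239258, 66), (.negSucc 7908, 77), (.negSucc 818673, 81), (.ofNat 273447, 83), (.negSucc 331952, 85),
  (.ofNat 159901, 86), (.ofNat 149192, 90), (.negSucc 513685, 92), (.ofNat 213155, 93), (.ofNat 746003, 98),
  (.negSucc 227171, 101), (.negSucc 73630, 104), (.negSucc 148085, 106), (.ofNat 189162, 113), (.ofNat 100167, 115),
  (.negSucc 416409, 118), (.negSucc 321967, 119), (.negSucc 21722, 123), (.negSucc 632122, 131), (.negSucc 531370,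
  133), (.negSucc 127610, 135), (.ofNat 25491, 138), (.ofNat 323854, 146), (.ofNat 292395, 147), (.ofNat 288734,
  152), (.ofNat 429135, 156), (.negSucc 65649, 161)])])

/-- a candidate -/
def c50 : ℕ × ℕ × List Step :=
  (877308409714599618674688000000000, 385, [(0, 0, .ofNat 59049, 0, [(.ofNat 11224, 2), (.ofNat 18056, 9), (.negSucc
  16822, 13), (.negSucc 6356, 14), (.ofNat 7135, 15), (.negSucc 2418, 19), (.ofNat 2606, 20), (.ofNat 2101, 21),
  (.ofNat 3743, 22), (.negSucc 278, 24), (.ofNat 4636, 26), (.negSucc 13430, 27), (.negSucc 7635, 28), (.ofNat 1276,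
  32), (.negSucc 11765, 36), (.negSucc 7061, 38), (.ofNat 7721, 43), (.negSucc 1500, 47), (.negSucc 7820, 48),
  (.ofNat 5367, 51), (.ofNat 9689, 52), (.negSucc 1784, 54), (.negSucc 5247, 56), (.negSucc 10605, 57), (.negSucc
  593, 58), (.negSucc 2443, 63), (.negSucc 1418, 66), (.negSucc 253, 67), (.negSucc 4183, 73), (.negSucc 4744, 77),
  (.ofNat 2804, 78), (.negSucc 11893, 81), (.ofNat 5276, 83), (.negSucc 6729, 85), (.negSucc 1291, 88), (.ofNat 2141,
  90), (.negSucc 706, 92), (.ofNat 5028, 93), (.ofNat 2757, 98), (.negSucc 2480, 101), (.negSucc 3187, 104),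
  (.negSucc 2050, 106), (.ofNat 2960, 113), (.ofNat 4981, 115), (.negSucc 3488, 118), (.negSucc 671, 119), (.negSucc
  10474, 131), (.ofNat 3649, 132), (.negSucc 2486, 135), (.ofNat 5045, 143), (.ofNat 2681, 144), (.ofNat 3260, 146),
  (.ofNat 4714, 147), (.ofNat 3403, 152), (.negSucc 1714, 153), (.ofNat 3482, 156), (.ofNat 532, 162)])])

/-- a candidate -/
def c51 : ℕ × ℕ × List Step :=
  (416328460446882678241310539776000000000, 1001, [(0, 0, .ofNat 2187, 0, [(.ofNat 55, 2), (.negSucc 105, 3),
  (.negSucc 175, 5), (.negSucc 273, 7), (.negSucc 6, 8), (.ofNat 279, 9), (.negSucc 170, 10), (.negSucc 21, 11),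
  (.negSucc 211, 15), (.ofNat 123, 17), (.negSucc 471, 18), (.negSucc 548, 19), (.ofNat 369, 20), (.negSucc 278, 22),
  (.negSucc 20, 23), (.ofNat 178, 24), (.negSucc 257, 25), (.negSucc 229, 27), (.ofNat 141, 28), (.negSucc 171, 29),
  (.negSucc 145, 31), (.negSucc 429, 32), (.ofNat 309, 34), (.negSucc 330, 36), (.ofNat 553, 39), (.negSucc 49, 40),
  (.negSucc 84, 42), (.negSucc 352, 46), (.ofNat 1, 47), (.negSucc 110, 49), (.ofNat 126, 50), (.ofNat 460, 51),
  (.negSucc 85, 53), (.negSucc 389, 54), (.ofNat 85, 59), (.ofNat 95, 60), (.negSucc 166, 61), (.negSucc 453, 64),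
  (.ofNat 134, 65), (.negSucc 342, 67), (.negSucc 591, 68), (.negSucc 331, 70), (.ofNat 46, 73), (.negSucc 14, 75),
  (.ofNat 55, 76), (.ofNat 360, 79), (.ofNat 111, 80), (.negSucc 907, 81), (.negSucc 618, 90), (.ofNat 93, 92),
  (.ofNat 26, 95), (.negSucc 1, 96), (.ofNat 91, 99), (.negSucc 126, 102), (.ofNat 15, 104), (.negSucc 247, 106),
  (.negSucc 126, 113), (.ofNat 419, 115), (.ofNat 63, 119), (.negSucc 17, 130), (.ofNat 198, 132), (.negSucc 92,
  135), (.negSucc 256, 137), (.negSucc 153, 138), (.negSucc 143, 140), (.ofNat 260, 143), (.ofNat 66, 144), (.ofNat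
  18, 147), (.ofNat 36, 148), (.ofNat 178, 151), (.negSucc 209, 155), (.ofNat 9, 156), (.negSucc 141, 157), (.ofNat
  7, 161), (.negSucc 33, 162), (.ofNat 11, 163), (.negSucc 409, 164)])])

/-- candidates -/
def CL5 : List (ℕ × ℕ × List Step) :=
  [c45, c46, c47, c48, c49, c50, c51]

theorem okC5 : okL TAB.M.dat R 2 P Z CL5 = true := by decide +kernel

end Cfsg.Agent.TH.Spor.NM
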