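import Cfsg.Agent.TH.Spor.NMA0
import Cfsg.Agent.TH.Spor.NMA1
import Cfsg.Agent.TH.Spor.NMA2
import Cfsg.Agent.TH.Spor.NMA3
import Cfsg.Agent.TH.Spor.NMA4
import Cfsg.Agent.TH.Spor.NMA5
import Cfsg.Agent.TH.Spor.NMB0
import Cfsg.Agent.TH.Spor.NMB1
import Cfsg.Agent.TH.Spor.NMB2
import Cfsg.Agent.TH.Spor.NMB3
import Cfsg.Agent.TH.Spor.NMC0
import Cfsg.Agent.TH.Spor.NMC1

/-!
# S3541, sporadic rows: M (helper26; generated by notes/TH/spor26/gen.py.txt)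
-/

set_option autoImplicit false
set_option Elab.async false

namespace Cfsg.Agent.TH.Spor.NM

open Cfsg Cfsg.Agent.TAB.Eng Cfsg.Agent.H940.Eng

theorem okB31 : bigE E ⟨31, 558, [(2, 1), (3, 2), (5, 1), (31, 1)]⟩ = true :=
  bigE_of okS31 <| forall_flatten <|
    fa_cons (fun _ h => ⟨_, h, okM31_0⟩) <| fa_cons (fun _ h => ⟨_, h, okM31_1⟩) <| fa_nil

theorem okB23 : bigE E ⟨23, 552, [(2, 3), (3, 1), (11, 1), (23, 1)]⟩ = true :=
  bigE_of okS23 <| forall_flatten <|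
    fa_cons (fun _ h => ⟨_, h, okM23_0⟩) <| fa_cons (fun _ h => ⟨_, h, okM23_1⟩) <| fa_nil

theorem okB19 : bigE E ⟨19, 20520, [(2, 3), (3, 3), (5, 1), (19, 1)]⟩ = true :=
  bigE_of okS19 <| forall_flatten <|
    fa_cons (fun _ h => ⟨_, h, okM19_0⟩) <| fa_cons (fun _ h => ⟨_, h, okM19_1⟩) <| fa_cons (fun _ h => ⟨_, h, okM19_2⟩) <| fa_cons (fun _ h => ⟨_, h, okM19_3⟩) <|
    fa_cons (fun _ h => ⟨_, h, okM19_4⟩) <| fa_cons (fun _ h => ⟨_, h, okM19_5⟩) <| fa_cons (fun _ h => ⟨_, h, okM19_6⟩) <| fa_cons (fun _ h => ⟨_, h, okM19_7⟩) <|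
    fa_nil

theorem okB17 : bigE E ⟨17, 45696, [(2, 7), (3, 1), (7, 1), (17, 1)]⟩ = true :=
  bigE_of okS17 <| forall_flatten <|
    fa_cons (fun _ h => ⟨_, h, okM17_0⟩) <| fa_cons (fun _ h => ⟨_, h, okM17_1⟩) <| fa_cons (fun _ h => ⟨_, h, okM17_2⟩) <| fa_cons (fun _ h => ⟨_, h, okM17_3⟩) <|
    fa_cons (fun _ h => ⟨_, h, okM17_4⟩) <| fa_cons (fun _ h => ⟨_, h, okM17_5⟩) <| fa_cons (fun _ h => ⟨_, h, okM17_6⟩) <| fa_cons (fun _ h => ⟨_, h, okM17_7⟩) <|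
    fa_cons (fun _ h => ⟨_, h, okM17_8⟩) <| fa_cons (fun _ h => ⟨_, h, okM17_9⟩) <| fa_cons (fun _ h => ⟨_, h, okM17_10⟩) <| fa_cons (fun _ h => ⟨_, h, okM17_11⟩) <|
    fa_cons (fun _ h => ⟨_, h, okM17_12⟩) <| fa_nil

theorem okB : ∀ ld ∈ big, bigE E ld = true :=
  fa_cons okB71 <| fa_cons okB59 <| fa_cons okB47 <| fa_cons okB41 <|
  fa_cons okB31 <| fa_cons okB29 <| fa_cons okB23 <| fa_cons okB19 <|
  fa_cons okB17 <| fa_nil

theorem okA : ∀ a ∈ divsT [(13, 3), (11, 2), (7, 6)], allA (leaf E) [(5, 9), (3, 20), (2, 46)] a = true := by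
  rw [show divsT [(13, 3), (11, 2), (7, 6)] = [1, 7, 49, 343, 2401, 16807, 117649, 11, 77, 539, 3773, 26411, 184877,
  1294139, 121, 847, 5929, 41503, 290521, 2033647, 14235529, 13, 91, 637, 4459, 31213, 218491, 1529437, 143, 1001,
  7007, 49049, 343343, 2403401, 16823807, 1573, 11011, 77077, 539539, 3776773, 26437411, 185061877, 169, 1183, 8281,
  57967, 405769, 2840383, 19882681, 1859, 13013, 91091, 637637, 4463459, 31244213, 218709491, 20449, 143143, 1002001,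
  7014007, 49098049, 343686343, 2405804401, 2197, 15379, 107653, 753571, 5274997, 36924979, 258474853, 24167, 169169,
  1184183, 8289281, 58024967, 406174769, 2843223383, 265837, 1860859, 13026013, 91182091, 638274637, 4467922459,
  31275457213] by decide +kernel]
  exact fa_cons okA0 <| fa_cons okA1 <| fa_cons okA2 <| fa_cons okA3 <|
    fa_cons okA4 <| fa_cons okA5 <| fa_cons okA6 <| fa_cons okA7 <|
    fa_cons okA8 <| fa_cons okA9 <| fa_cons okA10 <| fa_cons okA11 <|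
    fa_cons okA12 <| fa_cons okA13 <| fa_cons okA14 <| fa_cons okA15 <|
    fa_cons okA16 <| fa_cons okA17 <| fa_cons okA18 <| fa_cons okA19 <|
    fa_cons okA20 <| fa_cons okA21 <| fa_cons okA22 <| fa_cons okA23 <|
    fa_cons okA24 <| fa_cons okA25 <| fa_cons okA26 <| fa_cons okA27 <|
    fa_cons okA28 <| fa_cons okA29 <| fa_cons okA30 <| fa_cons okA31 <|
    fa_cons okA32 <| fa_cons okA33 <| fa_cons okA34 <| fa_cons okA35 <|
    fa_cons okA36 <| fa_cons okA37 <| fa_cons okA38 <| fa_cons okA39 <|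
    fa_cons okA40 <| fa_cons okA41 <| fa_cons okA42 <| fa_cons okA43 <|
    fa_cons okA44 <| fa_cons okA45 <| fa_cons okA46 <| fa_cons okA47 <|
    fa_cons okA48 <| fa_cons okA49 <| fa_cons okA50 <| fa_cons okA51 <|
    fa_cons okA52 <| fa_cons okA53 <| fa_cons okA54 <| fa_cons okA55 <|
    fa_cons okA56 <| fa_cons okA57 <| fa_cons okA58 <| fa_cons okA59 <|
    fa_cons okA60 <| fa_cons okA61 <| fa_cons okA62 <| fa_cons okA63 <|
    fa_cons okA64 <| fa_cons okA65 <| fa_cons okA66 <| fa_cons okA67 <|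
    fa_cons okA68 <| fa_cons okA69 <| fa_cons okA70 <| fa_cons okA71 <|
    fa_cons okA72 <| fa_cons okA73 <| fa_cons okA74 <| fa_cons okA75 <|
    fa_cons okA76 <| fa_cons okA77 <| fa_cons okA78 <| fa_cons okA79 <|
    fa_cons okA80 <| fa_cons okA81 <| fa_cons okA82 <| fa_cons okA83 <|
    fa_nil

/-- the pairs -/
def pj (L : List (ℕ × ℕ × List Step)) : List (ℕ × ℕ) := L.map fun x => (x.1, x.2.1)

theorem okC : ∀ x ∈ E.SV, ∃ CL, okL TAB.M.dat R E.j E.P E.Z CL = true ∧ x ∈ pj CL := by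
  rw [show E.SV = [pj CL0, pj CL1, pj CL2, pj CL3, pj CL4, pj CL5].flatten by decide +kernel]
  exact forall_flatten <| fa_cons (fun _ h => ⟨_, okC0, h⟩) <| fa_cons (fun _ h => ⟨_, okC1, h⟩) <| fa_cons (fun _ h => ⟨_, okC2, h⟩) <| fa_cons (fun _ h => ⟨_, okC3, h⟩) <|
    fa_cons (fun _ h => ⟨_, okC4, h⟩) <| fa_cons (fun _ h => ⟨_, okC5, h⟩) <| fa_nil

/-- **no configuration** -/
theorem noW {K : Type} [Group K] [Finite K] (h : In K TAB.M.dat TAB.M.tabM) : NoW K 2 :=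
  noW_of (E := E) boxCH (R_eq ▸ h).inC ok1 (H940.Eng.D.ords_m base)
    (fun ld h => ⟨List.mem_append_left _ h, okB ld h⟩) (by decide +kernel) okA okC

end Cfsg.Agent.TH.Spor.NM
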