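import Cfsg.Agent.TH.Spor.EngC
import Cfsg.Agent.TH.Spor.CH
import Cfsg.Agent.TAB.Sm2.M12

/-!
# S3541, sporadic rows: M12 (helper26; generated by notes/TH/spor26/gen.py.txt)
-/

set_option autoImplicit false
set_option Elab.async false

namespace Cfsg.Agent.TH.Spor.NM12

open Cfsg Cfsg.Agent.TAB.Eng Cfsg.Agent.H940.Eng

/-- the types of prime order -/
def P : St :=
  [(11, [(13, 17280, 0)]), (5, [(7, 9504, 0)]), (3, [(3, 2640, 0), (4, 1760, 0)]), (2, [(1, 396, 0), (2, 495, 0)])]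

/-- the types -/
def Z : List Ze :=
  [(1, 2, 396, [1]), (2, 2, 495, [2]), (3, 3, 2640, [3]), (4, 3, 1760, [4]), (5, 4, 2970, [2]), (6, 4, 2970, [2]),
  (7, 5, 9504, [7]), (8, 6, 7920, [3, 1]), (9, 6, 15840, [4, 2]), (10, 8, 11880, [2]), (11, 8, 11880, [2]), (12, 10,
  9504, [7, 1]), (13, 11, 17280, [13])]

/-- local data, large primes -/
def big : List LD :=
  []

/-- local data, the other primes -/
def sm : List LD :=
  [⟨11, 11, [(5, 1), (11, 1)]⟩, ⟨5, 40, [(2, 3), (5, 1)]⟩]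

/-- the candidates -/
def SV : List (ℕ × ℕ) :=
  [(64, 2), (64, 4), (432, 3), (576, 4), (1440, 5), (1728, 2), (1728, 3), (1728, 6), (1728, 9), (1728, 18), (1728,
  27), (2880, 4), (2880, 8), (2880, 16)]

/-- the data -/
def E : En :=
  ⟨95040, 2, P, Z, [(11, 1), (5, 1), (3, 3), (2, 6)], H940.Eng.D.o_m12, big ++ sm, SV⟩

theorem ok1 : okEn TAB.Sm2.M12.dat (TAB.Sm2.mkRows TAB.Sm2.M12.rA TAB.Sm2.M12.rB) [] E = true := by decide +kernel

theorem okA0 : allA (leaf E) [(11, 1), (5, 1), (3, 3), (2, 6)] 1 = true := by decide +kernel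

/-- a candidate -/
def c0 : ℕ × ℕ × List Step :=
  (64, 2, [(0, 0, .ofNat 0, 0, [(.negSucc 0, 11), (.negSucc 0, 12)])])

/-- a candidate -/
def c1 : ℕ × ℕ × List Step :=
  (64, 4, [(0, 0, .ofNat 0, 0, [(.negSucc 0, 11), (.negSucc 0, 12)])])

/-- a candidate -/
def c2 : ℕ × ℕ × List Step :=
  (432, 3, [(0, 0, .ofNat 3, 0, [(.negSucc 2, 4), (.negSucc 2, 9), (.negSucc 2, 10), (.negSucc 2, 11), (.negSucc 0,
  13)])])

/-- a candidate -/
def c3 : ℕ × ℕ × List Step :=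
  (576, 4, [(0, 0, .ofNat 0, 0, [(.negSucc 0, 11)])])

/-- a candidate -/
def c4 : ℕ × ℕ × List Step :=
  (1440, 5, [(0, 0, .ofNat 9, 0, [(.ofNat 4, 3), (.negSucc 8, 4), (.negSucc 3, 9), (.negSucc 8, 10), (.negSucc 3,
  13)])])

/-- a candidate -/
def c5 : ℕ × ℕ × List Step :=
  (1728, 2, [(0, 0, .ofNat 9, 0, [(.ofNat 4, 3), (.negSucc 8, 4), (.negSucc 3, 9), (.negSucc 8, 10), (.negSucc 3,
  13)])])

/-- a candidate -/
def c6 : ℕ × ℕ × List Step :=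
  (1728, 3, [(0, 0, .ofNat 9, 0, [(.ofNat 4, 3), (.negSucc 8, 4), (.negSucc 3, 9), (.negSucc 8, 10), (.negSucc 3,
  13)])])

/-- a candidate -/
def c7 : ℕ × ℕ × List Step :=
  (1728, 6, [(0, 0, .ofNat 9, 0, [(.ofNat 4, 3), (.negSucc 8, 4), (.negSucc 3, 9), (.negSucc 8, 10), (.negSucc 3,
  13)])])

/-- a candidate -/
def c8 : ℕ × ℕ × List Step :=
  (1728, 9, [(0, 0, .ofNat 3, 0, [(.ofNat 3, 3), (.negSucc 2, 4), (.negSucc 2, 10), (.ofNat 3, 11), (.negSucc 0,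
  13)])])

/-- a candidate -/
def c9 : ℕ × ℕ × List Step :=
  (1728, 18, [(0, 0, .ofNat 3, 0, [(.ofNat 3, 3), (.negSucc 2, 4), (.negSucc 2, 10), (.ofNat 3, 11), (.negSucc 0,
  13)])])

/-- a candidate -/
def c10 : ℕ × ℕ × List Step :=
  (1728, 27, [(0, 0, .ofNat 1, 0, [(.ofNat 1, 3), (.negSucc 0, 4)])])

/-- a candidate -/
def c11 : ℕ × ℕ × List Step :=
  (2880, 4, [(0, 0, .ofNat 9, 0, [(.ofNat 9, 3), (.negSucc 8, 4), (.negSucc 8, 10), (.ofNat 9, 11), (.negSucc 3,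
  13)])])

/-- a candidate -/
def c12 : ℕ × ℕ × List Step :=
  (2880, 8, [(0, 0, .ofNat 9, 0, [(.ofNat 9, 3), (.negSucc 8, 4), (.negSucc 8, 10), (.ofNat 9, 11), (.negSucc 3,
  13)])])

/-- a candidate -/
def c13 : ℕ × ℕ × List Step :=
  (2880, 16, [(0, 0, .ofNat 9, 0, [(.ofNat 16, 3), (.negSucc 8, 4), (.ofNat 4, 5), (.ofNat 4, 6), (.ofNat 4, 7),
  (.ofNat 11, 9), (.negSucc 4, 10), (.ofNat 27, 11), (.ofNat 20, 12)])])

/-- candidates -/
def CL0 : List (ℕ × ℕ × List Step) :=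
  [c0, c1, c2, c3, c4, c5, c6, c7, c8, c9, c10, c11, c12, c13]

theorem okC0 : okL TAB.Sm2.M12.dat (TAB.Sm2.mkRows TAB.Sm2.M12.rA TAB.Sm2.M12.rB) 2 P Z CL0 = true := by decide +kernel

theorem okB : ∀ ld ∈ big, bigE E ld = true :=
  fa_nil

theorem okA : ∀ a ∈ divsT [], allA (leaf E) [(11, 1), (5, 1), (3, 3), (2, 6)] a = true := by
  rw [show divsT [] = [1] by decide +kernel]
  exact fa_cons okA0 <| fa_nil

/-- the pairs -/
def pj (L : List (ℕ × ℕ × List Step)) : List (ℕ × ℕ) := L.map fun x => (x.1, x.2.1)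

theorem okC : ∀ x ∈ E.SV, ∃ CL, okL TAB.Sm2.M12.dat (TAB.Sm2.mkRows TAB.Sm2.M12.rA TAB.Sm2.M12.rB) E.j E.P E.Z CL = true ∧ x ∈ pj CL := by
  rw [show E.SV = [pj CL0].flatten by decide +kernel]
  exact forall_flatten <| fa_cons (fun _ h => ⟨_, okC0, h⟩) <| fa_nil

/-- **no configuration** -/
theorem noW {K : Type} [Group K] [Finite K] (h : In K TAB.Sm2.M12.dat (TAB.Sm2.mkRows TAB.Sm2.M12.rA TAB.Sm2.M12.rB)) : NoW K 2 :=
  noW_of (E := E) boxCH h.inC ok1 (H940.Eng.D.ords_m12 base)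
    (fun ld h => ⟨List.mem_append_left _ h, okB ld h⟩) (by decide +kernel) okA okC

end Cfsg.Agent.TH.Spor.NM12
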