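import Cfsg.Agent.TH.Spor.EngC
import Cfsg.Agent.TH.Spor.CH
import Cfsg.Agent.TAB.Sm2.M22

/-!
# S3541, sporadic rows: M22 (helper26; generated by notes/TH/spor26/gen.py.txt)
-/

set_option autoImplicit false
set_option Elab.async false

namespace Cfsg.Agent.TH.Spor.NM22

open Cfsg Cfsg.Agent.TAB.Eng Cfsg.Agent.H940.Eng

/-- the types of prime order -/
def P : St :=
  [(11, [(9, 80640, 0)]), (7, [(7, 126720, 0)]), (5, [(5, 88704, 0)]), (3, [(2, 12320, 36)]), (2, [(1, 1155, 0)])]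

/-- the types -/
def Z : List Ze :=
  [(1, 2, 1155, [1]), (2, 3, 12320, [2]), (3, 4, 27720, [1]), (4, 4, 13860, [1]), (5, 5, 88704, [5]), (6, 6, 36960,
  [2, 1]), (7, 7, 126720, [7]), (8, 8, 55440, [1]), (9, 11, 80640, [9])]

/-- local data, large primes -/
def big : List LD :=
  []

/-- local data, the other primes -/
def sm : List LD :=
  [⟨11, 11, [(5, 1), (11, 1)]⟩, ⟨7, 7, [(3, 1), (7, 1)]⟩, ⟨5, 5, [(2, 2), (5, 1)]⟩]

/-- the candidates -/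
def SV : List (ℕ × ℕ) :=
  [(128, 2), (128, 4), (128, 8), (288, 9), (320, 5), (1152, 16), (1152, 32), (1152, 64), (1152, 128), (1920, 10),
  (2520, 35), (20160, 7)]

/-- the data -/
def E : En :=
  ⟨443520, 2, P, Z, [(11, 1), (7, 1), (5, 1), (3, 2), (2, 7)], H940.Eng.D.o_m22, big ++ sm, SV⟩

theorem ok1 : okEn TAB.Sm2.M22.dat (TAB.Sm2.mkRows TAB.Sm2.M22.rA TAB.Sm2.M22.rB) [(2, 36)] E = true := by decide +kernel

theorem okA0 : allA (leaf E) [(11, 1), (7, 1), (5, 1), (3, 2), (2, 7)] 1 = true := by decide +kernel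

/-- a candidate -/
def c0 : ℕ × ℕ × List Step :=
  (128, 2, [(0, 0, .negSucc 242, 1, [])])

/-- a candidate -/
def c1 : ℕ × ℕ × List Step :=
  (128, 4, [(0, 0, .negSucc 242, 1, [])])

/-- a candidate -/
def c2 : ℕ × ℕ × List Step :=
  (128, 8, [(0, 0, .negSucc 6560, 17, [])])

/-- a candidate -/
def c3 : ℕ × ℕ × List Step :=
  (288, 9, [(1, 172, .ofNat 0, 0, [(.ofNat 1, 9)])])

/-- a candidate -/
def c4 : ℕ × ℕ × List Step :=
  (320, 5, [(1, 282, .ofNat 0, 0, [(.ofNat 1, 9)])])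

/-- a candidate -/
def c5 : ℕ × ℕ × List Step :=
  (1152, 16, [(0, 0, .ofNat 27, 0, [(.negSucc 12, 1), (.ofNat 27, 5), (.ofNat 13, 6), (.ofNat 13, 7), (.ofNat 20,
  8)])])

/-- a candidate -/
def c6 : ℕ × ℕ × List Step :=
  (1152, 32, [(0, 0, .ofNat 27, 0, [(.negSucc 12, 1), (.ofNat 27, 5), (.ofNat 13, 6), (.ofNat 13, 7), (.ofNat 20,
  8)])])

/-- a candidate -/
def c7 : ℕ × ℕ × List Step :=
  (1152, 64, [(0, 0, .ofNat 27, 0, [(.negSucc 12, 1), (.ofNat 13, 5), (.ofNat 14, 7)])])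

/-- a candidate -/
def c8 : ℕ × ℕ × List Step :=
  (1152, 128, [(0, 0, .ofNat 1, 0, [(.negSucc 0, 3), (.ofNat 1, 7)])])

/-- a candidate -/
def c9 : ℕ × ℕ × List Step :=
  (1920, 10, [(2, 24, .ofNat 0, 0, [(.ofNat 1, 6), (.ofNat 1, 7), (.ofNat 1, 9)])])

/-- a candidate -/
def c10 : ℕ × ℕ × List Step :=
  (2520, 35, [(0, 0, .ofNat 0, 0, [(.negSucc 8, 1), (.ofNat 4, 5), (.negSucc 3, 6), (.ofNat 7, 8)])])

/-- a candidate -/
def c11 : ℕ × ℕ × List Step :=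
  (20160, 7, [(0, 0, .ofNat 1, 0, [(.negSucc 0, 1), (.ofNat 1, 5), (.ofNat 1, 8), (.negSucc 0, 9)])])

/-- candidates -/
def CL0 : List (ℕ × ℕ × List Step) :=
  [c0, c1, c2, c3, c4, c5, c6, c7, c8, c9, c10, c11]

theorem okC0 : okL TAB.Sm2.M22.dat (TAB.Sm2.mkRows TAB.Sm2.M22.rA TAB.Sm2.M22.rB) 2 P Z CL0 = true := by decide +kernel

theorem okB : ∀ ld ∈ big, bigE E ld = true :=
  fa_nil

theorem okA : ∀ a ∈ divsT [], allA (leaf E) [(11, 1), (7, 1), (5, 1), (3, 2), (2, 7)] a = true := by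
  rw [show divsT [] = [1] by decide +kernel]
  exact fa_cons okA0 <| fa_nil

/-- the pairs -/
def pj (L : List (ℕ × ℕ × List Step)) : List (ℕ × ℕ) := L.map fun x => (x.1, x.2.1)

theorem okC : ∀ x ∈ E.SV, ∃ CL, okL TAB.Sm2.M22.dat (TAB.Sm2.mkRows TAB.Sm2.M22.rA TAB.Sm2.M22.rB) E.j E.P E.Z CL = true ∧ x ∈ pj CL := by
  rw [show E.SV = [pj CL0].flatten by decide +kernel]
  exact forall_flatten <| fa_cons (fun _ h => ⟨_, okC0, h⟩) <| fa_nil

/-- **no configuration** -/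
theorem noW {K : Type} [Group K] [Finite K] (h : InC K TAB.Sm2.M22.dat (TAB.Sm2.mkRows TAB.Sm2.M22.rA TAB.Sm2.M22.rB) [(2, 36)]) : NoW K 2 :=
  noW_of (E := E) boxCH h ok1 (H940.Eng.D.ords_m22 base)
    (fun ld h => ⟨List.mem_append_left _ h, okB ld h⟩) (by decide +kernel) okA okC

end Cfsg.Agent.TH.Spor.NM22
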