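import Cfsg.Agent.TH.Spor.EngC
import Cfsg.Agent.TH.Spor.CH
import Cfsg.Agent.TAB.Sm2.M23

/-!
# S3541, sporadic rows: M23 (helper26; generated by notes/TH/spor26/gen.py.txt)
-/

set_option autoImplicit false
set_option Elab.async false

namespace Cfsg.Agent.TH.Spor.NM23

open Cfsg Cfsg.Agent.TAB.Eng Cfsg.Agent.H940.Eng

/-- the types of prime order -/
def P : St :=
  [(23, [(11, 887040, 0)]), (11, [(8, 1854720, 0)]), (7, [(6, 1457280, 0)]), (5, [(4, 680064, 0)]), (3, [(2, 56672,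
  0)]), (2, [(1, 3795, 0)])]

/-- the types -/
def Z : List Ze :=
  [(1, 2, 3795, [1]), (2, 3, 56672, [2]), (3, 4, 318780, [1]), (4, 5, 680064, [4]), (5, 6, 850080, [2, 1]), (6, 7,
  1457280, [6]), (7, 8, 1275120, [1]), (8, 11, 1854720, [8]), (9, 14, 1457280, [6, 1]), (10, 15, 1360128, [4, 2]),
  (11, 23, 887040, [11])]

/-- local data, large primes -/
def big : List LD :=
  []

/-- local data, the other primes -/
def sm : List LD :=
  [⟨23, 23, [(11, 1), (23, 1)]⟩, ⟨11, 11, [(5, 1), (11, 1)]⟩, ⟨7, 14, [(2, 1), (3, 1), (7, 1)]⟩, ⟨5, 15, [(2, 2), (3,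
  1), (5, 1)]⟩]

/-- the candidates -/
def SV : List (ℕ × ℕ) :=
  [(128, 2), (360, 15), (5760, 10), (5760, 15), (5760, 30), (7920, 99), (40320, 21), (40320, 28), (40320, 42),
  (40320, 63), (40320, 84), (40320, 126), (443520, 11)]

/-- the data -/
def E : En :=
  ⟨10200960, 2, P, Z, [(23, 1), (11, 1), (7, 1), (5, 1), (3, 2), (2, 7)], H940.Eng.D.o_m23, big ++ sm, SV⟩

theorem ok1 : okEn TAB.Sm2.M23.dat (TAB.Sm2.mkRows TAB.Sm2.M23.rA TAB.Sm2.M23.rB) [] E = true := by decide +kernel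

theorem okA0 : allA (leaf E) [(23, 1), (11, 1), (7, 1), (5, 1), (3, 2), (2, 7)] 1 = true := by decide +kernel

/-- a candidate -/
def c0 : ℕ × ℕ × List Step :=
  (128, 2, [(0, 0, .ofNat 0, 0, [(.negSucc 0, 10)])])

/-- a candidate -/
def c1 : ℕ × ℕ × List Step :=
  (360, 15, [(0, 0, .ofNat 0, 0, [(.negSucc 2, 5), (.negSucc 1, 11)])])

/-- a candidate -/
def c2 : ℕ × ℕ × List Step :=
  (5760, 10, [(0, 0, .ofNat 3, 0, [(.negSucc 2, 5), (.ofNat 3, 6), (.negSucc 0, 11)])])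

/-- a candidate -/
def c3 : ℕ × ℕ × List Step :=
  (5760, 15, [(0, 0, .ofNat 1, 0, [(.negSucc 0, 2), (.negSucc 0, 5)])])

/-- a candidate -/
def c4 : ℕ × ℕ × List Step :=
  (5760, 30, [(0, 0, .ofNat 3, 0, [(.negSucc 2, 5), (.ofNat 3, 6), (.negSucc 0, 11)])])

/-- a candidate -/
def c5 : ℕ × ℕ × List Step :=
  (7920, 99, [(0, 0, .ofNat 3, 0, [(.negSucc 2, 5), (.negSucc 1, 10), (.negSucc 1, 11)])])

/-- a candidate -/
def c6 : ℕ × ℕ × List Step :=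
  (40320, 21, [(0, 0, .ofNat 9, 0, [(.negSucc 8, 2), (.ofNat 4, 7), (.negSucc 3, 10)])])

/-- a candidate -/
def c7 : ℕ × ℕ × List Step :=
  (40320, 28, [(0, 0, .ofNat 9, 0, [(.negSucc 8, 2), (.ofNat 4, 7), (.negSucc 3, 10)])])

/-- a candidate -/
def c8 : ℕ × ℕ × List Step :=
  (40320, 42, [(0, 0, .ofNat 9, 0, [(.negSucc 8, 2), (.ofNat 4, 7), (.negSucc 3, 10)])])

/-- a candidate -/
def c9 : ℕ × ℕ × List Step :=
  (40320, 63, [(0, 0, .ofNat 3, 0, [(.negSucc 0, 2), (.ofNat 2, 3), (.negSucc 2, 10)])])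

/-- a candidate -/
def c10 : ℕ × ℕ × List Step :=
  (40320, 84, [(0, 0, .ofNat 9, 0, [(.negSucc 8, 2), (.ofNat 4, 7), (.negSucc 3, 10)])])

/-- a candidate -/
def c11 : ℕ × ℕ × List Step :=
  (40320, 126, [(0, 0, .ofNat 3, 0, [(.negSucc 0, 2), (.ofNat 2, 3), (.negSucc 2, 10)])])

/-- a candidate -/
def c12 : ℕ × ℕ × List Step :=
  (443520, 11, [(0, 0, .ofNat 3, 0, [(.negSucc 2, 1), (.ofNat 3, 3), (.negSucc 2, 7), (.ofNat 3, 8), (.negSucc 0, 9),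
  (.negSucc 2, 10), (.ofNat 3, 11)])])

/-- candidates -/
def CL0 : List (ℕ × ℕ × List Step) :=
  [c0, c1, c2, c3, c4, c5, c6, c7, c8, c9, c10, c11, c12]

theorem okC0 : okL TAB.Sm2.M23.dat (TAB.Sm2.mkRows TAB.Sm2.M23.rA TAB.Sm2.M23.rB) 2 P Z CL0 = true := by decide +kernel

theorem okB : ∀ ld ∈ big, bigE E ld = true :=
  fa_nil

theorem okA : ∀ a ∈ divsT [], allA (leaf E) [(23, 1), (11, 1), (7, 1), (5, 1), (3, 2), (2, 7)] a = true := by
  rw [show divsT [] = [1] by decide +kernel]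
  exact fa_cons okA0 <| fa_nil

/-- the pairs -/
def pj (L : List (ℕ × ℕ × List Step)) : List (ℕ × ℕ) := L.map fun x => (x.1, x.2.1)

theorem okC : ∀ x ∈ E.SV, ∃ CL, okL TAB.Sm2.M23.dat (TAB.Sm2.mkRows TAB.Sm2.M23.rA TAB.Sm2.M23.rB) E.j E.P E.Z CL = true ∧ x ∈ pj CL := by
  rw [show E.SV = [pj CL0].flatten by decide +kernel]
  exact forall_flatten <| fa_cons (fun _ h => ⟨_, okC0, h⟩) <| fa_nil

/-- **no configuration** -/
theorem noW {K : Type} [Group K] [Finite K] (h : In K TAB.Sm2.M23.dat (TAB.Sm2.mkRows TAB.Sm2.M23.rA TAB.Sm2.M23.rB)) : NoW K 2 :=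
  noW_of (E := E) boxCH h.inC ok1 (H940.Eng.D.ords_m23 base)
    (fun ld h => ⟨List.mem_append_left _ h, okB ld h⟩) (by decide +kernel) okA okC

end Cfsg.Agent.TH.Spor.NM23
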