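import Cfsg.Agent.TH.Spor.EngC
import Cfsg.Agent.TH.Spor.CH
import Cfsg.Agent.TAB.Sm2.M24

/-!
# S3541, sporadic rows: M24 (helper26; generated by notes/TH/spor26/gen.py.txt)
-/

set_option autoImplicit false
set_option Elab.async false

namespace Cfsg.Agent.TH.Spor.NM24

open Cfsg Cfsg.Agent.TAB.Eng Cfsg.Agent.H940.Eng

/-- the types of prime order -/
def P : St :=
  [(23, [(20, 21288960, 0)]), (11, [(14, 22256640, 0)]), (7, [(11, 11658240, 0)]), (5, [(8, 4080384, 0)]), (3, [(3,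
  226688, 0), (4, 485760, 0)]), (2, [(1, 11385, 0), (2, 31878, 0)])]

/-- the types -/
def Z : List Ze :=
  [(1, 2, 11385, [1]), (2, 2, 31878, [2]), (3, 3, 226688, [3]), (4, 3, 485760, [4]), (5, 4, 637560, [1]), (6, 4,
  1912680, [1]), (7, 4, 2550240, [2]), (8, 5, 4080384, [8]), (9, 6, 10200960, [3, 1]), (10, 6, 10200960, [4, 2]),
  (11, 7, 11658240, [11]), (12, 8, 15301440, [1]), (13, 10, 12241152, [8, 2]), (14, 11, 22256640, [14]), (15, 12,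
  20401920, [3, 1]), (16, 12, 20401920, [4, 2]), (17, 14, 34974720, [11, 1]), (18, 15, 32643072, [8, 3]), (19, 21,
  23316480, [11, 4]), (20, 23, 21288960, [20])]

/-- local data, large primes -/
def big : List LD :=
  []

/-- local data, the other primes -/
def sm : List LD :=
  [⟨23, 23, [(11, 1), (23, 1)]⟩, ⟨11, 11, [(2, 1), (5, 1), (11, 1)]⟩, ⟨7, 126, [(2, 1), (3, 2), (7, 1)]⟩, ⟨5, 240,
  [(2, 4), (3, 1), (5, 1)]⟩]

/-- the candidates -/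
def SV : List (ℕ × ℕ) :=
  [(1024, 2), (1024, 4), (3456, 9), (8640, 15), (13824, 3), (15840, 55), (64512, 14), (138240, 5), (138240, 10),
  (138240, 15), (138240, 30), (190080, 33), (190080, 99), (887040, 55), (967680, 7), (967680, 14), (967680, 18),
  (967680, 21), (967680, 28), (967680, 36), (967680, 42), (967680, 63), (967680, 84), (967680, 126)]

/-- the data -/
def E : En :=
  ⟨244823040, 2, P, Z, [(23, 1), (11, 1), (7, 1), (5, 1), (3, 3), (2, 10)], H940.Eng.D.o_m24, big ++ sm, SV⟩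

theorem ok1 : okEn TAB.Sm2.M24.dat (TAB.Sm2.mkRows TAB.Sm2.M24.rA TAB.Sm2.M24.rB) [] E = true := by decide +kernel

theorem okA0 : allA (leaf E) [(23, 1), (11, 1), (7, 1), (5, 1), (3, 3), (2, 10)] 1 = true := by decide +kernel

/-- a candidate -/
def c0 : ℕ × ℕ × List Step :=
  (1024, 2, [(0, 0, .ofNat 0, 0, [(.negSucc 1, 8), (.negSucc 0, 10), (.negSucc 2, 14)])])

/-- a candidate -/
def c1 : ℕ × ℕ × List Step :=
  (1024, 4, [(0, 0, .ofNat 0, 0, [(.negSucc 0, 10)])])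

/-- a candidate -/
def c2 : ℕ × ℕ × List Step :=
  (3456, 9, [(0, 0, .negSucc 3, 0, [(.negSucc 2, 10), (.negSucc 0, 11), (.negSucc 8, 15), (.ofNat 1, 18)])])

/-- a candidate -/
def c3 : ℕ × ℕ × List Step :=
  (8640, 15, [(0, 0, .ofNat 0, 0, [(.negSucc 1, 2), (.negSucc 0, 5), (.negSucc 0, 10), (.negSucc 1, 14), (.negSucc 2,
  15)])])

/-- a candidate -/
def c4 : ℕ × ℕ × List Step :=
  (13824, 3, [(0, 0, .ofNat 1, 0, [(.negSucc 0, 2), (.negSucc 0, 5), (.negSucc 0, 15)])])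

/-- a candidate -/
def c5 : ℕ × ℕ × List Step :=
  (15840, 55, [(0, 0, .ofNat 0, 0, [(.negSucc 1, 5), (.negSucc 1, 10), (.negSucc 0, 13), (.negSucc 0, 14), (.negSucc
  2, 15)])])

/-- a candidate -/
def c6 : ℕ × ℕ × List Step :=
  (64512, 14, [(0, 0, .ofNat 1, 0, [(.negSucc 0, 2), (.ofNat 1, 7), (.negSucc 0, 8), (.negSucc 0, 13)])])

/-- a candidate -/
def c7 : ℕ × ℕ × List Step :=
  (138240, 5, [(0, 0, .ofNat 9, 0, [(.negSucc 8, 5), (.ofNat 9, 8), (.negSucc 4, 19)])])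

/-- a candidate -/
def c8 : ℕ × ℕ × List Step :=
  (138240, 10, [(0, 0, .ofNat 9, 0, [(.negSucc 8, 5), (.ofNat 9, 8), (.negSucc 4, 19)])])

/-- a candidate -/
def c9 : ℕ × ℕ × List Step :=
  (138240, 15, [(0, 0, .ofNat 9, 0, [(.negSucc 8, 5), (.ofNat 9, 8), (.negSucc 4, 19)])])

/-- a candidate -/
def c10 : ℕ × ℕ × List Step :=
  (138240, 30, [(0, 0, .ofNat 9, 0, [(.negSucc 8, 5), (.ofNat 9, 8), (.negSucc 4, 19)])])

/-- a candidate -/
def c11 : ℕ × ℕ × List Step :=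
  (190080, 33, [(0, 0, .ofNat 27, 0, [(.negSucc 26, 5), (.ofNat 27, 8), (.negSucc 12, 19)])])

/-- a candidate -/
def c12 : ℕ × ℕ × List Step :=
  (190080, 99, [(0, 0, .ofNat 27, 0, [(.negSucc 26, 5), (.ofNat 27, 8), (.negSucc 12, 19)])])

/-- a candidate -/
def c13 : ℕ × ℕ × List Step :=
  (887040, 55, [(0, 0, .ofNat 9, 0, [(.negSucc 8, 2), (.ofNat 9, 11), (.ofNat 9, 13), (.negSucc 8, 15), (.negSucc 8,
  16), (.ofNat 9, 17), (.negSucc 3, 18), (.ofNat 9, 19)])])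

/-- a candidate -/
def c14 : ℕ × ℕ × List Step :=
  (967680, 7, [(0, 0, .ofNat 8, 0, [(.ofNat 3, 1), (.negSucc 8, 2), (.negSucc 4, 4), (.ofNat 2, 5), (.ofNat 3, 10),
  (.ofNat 3, 11), (.ofNat 5, 13), (.negSucc 2, 14), (.ofNat 4, 17), (.negSucc 1, 18), (.ofNat 4, 19), (.ofNat 5,
  20)])])

/-- a candidate -/
def c15 : ℕ × ℕ × List Step :=
  (967680, 14, [(0, 0, .ofNat 8, 0, [(.ofNat 3, 1), (.negSucc 8, 2), (.negSucc 4, 4), (.ofNat 2, 5), (.ofNat 3, 10),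
  (.ofNat 3, 11), (.ofNat 5, 13), (.negSucc 2, 14), (.ofNat 4, 17), (.negSucc 1, 18), (.ofNat 4, 19), (.ofNat 5,
  20)])])

/-- a candidate -/
def c16 : ℕ × ℕ × List Step :=
  (967680, 18, [(0, 0, .ofNat 8, 0, [(.ofNat 4, 1), (.negSucc 8, 2), (.negSucc 4, 4), (.ofNat 2, 5), (.negSucc 0, 8),
  (.ofNat 1, 9), (.ofNat 3, 10), (.ofNat 3, 11), (.ofNat 5, 13), (.negSucc 3, 14), (.ofNat 4, 17), (.negSucc 1, 18),
  (.ofNat 5, 19), (.ofNat 5, 20)])])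

/-- a candidate -/
def c17 : ℕ × ℕ × List Step :=
  (967680, 21, [(0, 0, .ofNat 9, 0, [(.negSucc 8, 2), (.ofNat 9, 11), (.ofNat 9, 13), (.negSucc 8, 15), (.negSucc 8,
  16), (.ofNat 9, 17), (.negSucc 3, 18), (.ofNat 9, 19)])])

/-- a candidate -/
def c18 : ℕ × ℕ × List Step :=
  (967680, 28, [(0, 0, .ofNat 8, 0, [(.ofNat 3, 1), (.negSucc 8, 2), (.negSucc 4, 4), (.ofNat 2, 5), (.ofNat 3, 10),
  (.ofNat 3, 11), (.ofNat 5, 13), (.negSucc 2, 14), (.ofNat 4, 17), (.negSucc 1, 18), (.ofNat 4, 19), (.ofNat 5,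
  20)])])

/-- a candidate -/
def c19 : ℕ × ℕ × List Step :=
  (967680, 36, [(0, 0, .ofNat 8, 0, [(.ofNat 4, 1), (.negSucc 8, 2), (.negSucc 4, 4), (.ofNat 2, 5), (.negSucc 0, 8),
  (.ofNat 1, 9), (.ofNat 3, 10), (.ofNat 3, 11), (.ofNat 5, 13), (.negSucc 3, 14), (.ofNat 4, 17), (.negSucc 1, 18),
  (.ofNat 5, 19), (.ofNat 5, 20)])])

/-- a candidate -/
def c20 : ℕ × ℕ × List Step :=
  (967680, 42, [(0, 0, .ofNat 9, 0, [(.negSucc 8, 2), (.ofNat 9, 11), (.ofNat 9, 13), (.negSucc 8, 15), (.negSucc 8,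
  16), (.ofNat 9, 17), (.negSucc 3, 18), (.ofNat 9, 19)])])

/-- a candidate -/
def c21 : ℕ × ℕ × List Step :=
  (967680, 63, [(0, 0, .ofNat 9, 0, [(.negSucc 8, 2), (.ofNat 9, 11), (.ofNat 9, 13), (.negSucc 8, 15), (.negSucc 8,
  16), (.ofNat 9, 17), (.negSucc 3, 18), (.ofNat 9, 19)])])

/-- a candidate -/
def c22 : ℕ × ℕ × List Step :=
  (967680, 84, [(0, 0, .ofNat 9, 0, [(.negSucc 8, 2), (.ofNat 9, 11), (.ofNat 9, 13), (.negSucc 8, 15), (.negSucc 8,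
  16), (.ofNat 9, 17), (.negSucc 3, 18), (.ofNat 9, 19)])])

/-- a candidate -/
def c23 : ℕ × ℕ × List Step :=
  (967680, 126, [(0, 0, .ofNat 9, 0, [(.negSucc 8, 2), (.ofNat 9, 11), (.ofNat 9, 13), (.negSucc 8, 15), (.negSucc 8,
  16), (.ofNat 9, 17), (.negSucc 3, 18), (.ofNat 9, 19)])])

/-- candidates -/
def CL0 : List (ℕ × ℕ × List Step) :=
  [c0, c1, c2, c3, c4, c5, c6, c7, c8, c9, c10, c11, c12, c13, c14, c15, c16, c17, c18, c19, c20, c21, c22, c23]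

theorem okC0 : okL TAB.Sm2.M24.dat (TAB.Sm2.mkRows TAB.Sm2.M24.rA TAB.Sm2.M24.rB) 2 P Z CL0 = true := by decide +kernel

theorem okB : ∀ ld ∈ big, bigE E ld = true :=
  fa_nil

theorem okA : ∀ a ∈ divsT [], allA (leaf E) [(23, 1), (11, 1), (7, 1), (5, 1), (3, 3), (2, 10)] a = true := by
  rw [show divsT [] = [1] by decide +kernel]
  exact fa_cons okA0 <| fa_nil

/-- the pairs -/
def pj (L : List (ℕ × ℕ × List Step)) : List (ℕ × ℕ) := L.map fun x => (x.1, x.2.1)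

theorem okC : ∀ x ∈ E.SV, ∃ CL, okL TAB.Sm2.M24.dat (TAB.Sm2.mkRows TAB.Sm2.M24.rA TAB.Sm2.M24.rB) E.j E.P E.Z CL = true ∧ x ∈ pj CL := by
  rw [show E.SV = [pj CL0].flatten by decide +kernel]
  exact forall_flatten <| fa_cons (fun _ h => ⟨_, okC0, h⟩) <| fa_nil

/-- **no configuration** -/
theorem noW {K : Type} [Group K] [Finite K] (h : In K TAB.Sm2.M24.dat (TAB.Sm2.mkRows TAB.Sm2.M24.rA TAB.Sm2.M24.rB)) : NoW K 2 :=
  noW_of (E := E) boxCH h.inC ok1 (H940.Eng.D.ords_m24 base)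
    (fun ld h => ⟨List.mem_append_left _ h, okB ld h⟩) (by decide +kernel) okA okC

end Cfsg.Agent.TH.Spor.NM24
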