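import Cfsg.Agent.TH.Spor.EngC
import Cfsg.Agent.TH.Spor.CH
import Cfsg.Agent.TAB.McL.Main

/-!
# S3541, sporadic rows: McL (helper26; generated by notes/TH/spor26/gen.py.txt)
-/

set_option autoImplicit false
set_option Elab.async false

namespace Cfsg.Agent.TH.Spor.NMcL

open Cfsg Cfsg.Agent.TAB.Eng Cfsg.Agent.H940.Eng

/-- the types of prime order -/
def P : St :=
  [(11, [(13, 163296000, 0)]), (7, [(9, 128304000, 0)]), (5, [(5, 1197504, 0), (6, 35925120, 0)]), (3, [(2, 30800,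
  0), (3, 924000, 0)]), (2, [(1, 22275, 0)])]

/-- the types -/
def Z : List Ze :=
  [(1, 2, 22275, [1]), (2, 3, 30800, [2]), (3, 3, 924000, [3]), (4, 4, 9355500, [1]), (5, 5, 1197504, [5]), (6, 5,
  35925120, [6]), (7, 6, 2494800, [2, 1]), (8, 6, 24948000, [3, 1]), (9, 7, 128304000, [9]), (10, 8, 112266000, [1]),
  (11, 9, 66528000, [2]), (12, 10, 29937600, [5, 1]), (13, 11, 163296000, [13]), (14, 12, 74844000, [2, 1]), (15, 14,
  128304000, [9, 1]), (16, 15, 59875200, [5, 2]), (17, 30, 59875200, [5, 2, 1])]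

/-- local data, large primes -/
def big : List LD :=
  []

/-- local data, the other primes -/
def sm : List LD :=
  [⟨11, 11, [(5, 1), (11, 1)]⟩, ⟨7, 14, [(2, 1), (3, 1), (7, 1)]⟩]

/-- the candidates -/
def SV : List (ℕ × ℕ) :=
  [(2688, 14), (2688, 28), (3000, 25), (3000, 125), (5832, 9), (6750, 5), (8000, 5), (10368, 4), (10368, 8), (10368,
  16), (10368, 32), (12096, 7), (18000, 5), (23328, 3), (31104, 2), (40500, 5), (40500, 25), (48000, 5), (48000, 10),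
  (91125, 5), (91125, 15), (91125, 27), (91125, 45), (91125, 135), (93312, 2), (93312, 3), (93312, 4), (93312, 6),
  (93312, 8), (93312, 12), (93312, 24), (108000, 5), (160380, 11), (181440, 7), (243000, 5), (252000, 7), (259200,
  8), (466560, 4), (583200, 3), (583200, 9), (583200, 27), (583200, 81), (604800, 7), (604800, 14), (604800, 28),
  (648000, 5), (777600, 2), (1296000, 2), (1296000, 4), (1458000, 3), (1458000, 5), (1458000, 15), (2332800, 2),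
  (2332800, 3), (2332800, 4), (2332800, 6), (2332800, 8), (2332800, 12), (2332800, 16), (2332800, 24), (2332800, 32),
  (2332800, 48), (2332800, 64), (2332800, 96), (2332800, 128), (2332800, 192), (3888000, 2), (3888000, 5), (3888000,
  10), (5832000, 3), (5832000, 9), (11664000, 2), (11664000, 4), (19958400, 11), (19958400, 22)]

/-- the data -/
def E : En :=
  ⟨898128000, 2, P, Z, [(11, 1), (7, 1), (5, 3), (3, 6), (2, 7)], H940.Eng.D.o_mcl, big ++ sm, SV⟩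

theorem ok1 : okEn TAB.McL.D TAB.McL.RR [] E = true := by decide +kernel

theorem okA0 : allA (leaf E) [(11, 1), (7, 1), (5, 3), (3, 6), (2, 7)] 1 = true := by decide +kernel

/-- a candidate -/
def c0 : ℕ × ℕ × List Step :=
  (2688, 14, [(0, 0, .ofNat 0, 0, [(.negSucc 8, 9), (.negSucc 2, 10), (.negSucc 3, 14), (.negSucc 0, 16)])])

/-- a candidate -/
def c1 : ℕ × ℕ × List Step :=
  (2688, 28, [(0, 0, .ofNat 0, 0, [(.negSucc 8, 9), (.negSucc 2, 10), (.negSucc 3, 14), (.negSucc 0, 16)])])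

/-- a candidate -/
def c2 : ℕ × ℕ × List Step :=
  (3000, 25, [(0, 0, .ofNat 0, 0, [(.negSucc 0, 7), (.negSucc 0, 15)])])

/-- a candidate -/
def c3 : ℕ × ℕ × List Step :=
  (3000, 125, [(0, 0, .ofNat 0, 0, [(.negSucc 0, 9)])])

/-- a candidate -/
def c4 : ℕ × ℕ × List Step :=
  (5832, 9, [(0, 0, .ofNat 0, 0, [(.negSucc 0, 9)])])

/-- a candidate -/
def c5 : ℕ × ℕ × List Step :=
  (6750, 5, [(0, 0, .ofNat 0, 0, [(.negSucc 2, 7), (.negSucc 0, 15)])])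

/-- a candidate -/
def c6 : ℕ × ℕ × List Step :=
  (8000, 5, [(0, 0, .ofNat 0, 0, [(.negSucc 0, 16)])])

/-- a candidate -/
def c7 : ℕ × ℕ × List Step :=
  (10368, 4, [(0, 0, .ofNat 0, 0, [(.negSucc 0, 9)])])

/-- a candidate -/
def c8 : ℕ × ℕ × List Step :=
  (10368, 8, [(0, 0, .ofNat 0, 0, [(.negSucc 0, 9)])])

/-- a candidate -/
def c9 : ℕ × ℕ × List Step :=
  (10368, 16, [(0, 0, .ofNat 0, 0, [(.negSucc 0, 9)])])

/-- a candidate -/
def c10 : ℕ × ℕ × List Step :=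
  (10368, 32, [(0, 0, .ofNat 0, 0, [(.negSucc 0, 9)])])

/-- a candidate -/
def c11 : ℕ × ℕ × List Step :=
  (12096, 7, [(0, 0, .ofNat 0, 0, [(.negSucc 0, 9)])])

/-- a candidate -/
def c12 : ℕ × ℕ × List Step :=
  (18000, 5, [(0, 0, .ofNat 0, 0, [(.negSucc 0, 7)])])

/-- a candidate -/
def c13 : ℕ × ℕ × List Step :=
  (23328, 3, [(0, 0, .ofNat 1, 0, [(.negSucc 0, 6), (.negSucc 0, 7), (.negSucc 0, 9)])])

/-- a candidate -/
def c14 : ℕ × ℕ × List Step :=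
  (31104, 2, [(0, 0, .ofNat 9, 0, [(.ofNat 3, 2), (.ofNat 5, 4), (.negSucc 0, 7), (.negSucc 5, 9)])])

/-- a candidate -/
def c15 : ℕ × ℕ × List Step :=
  (40500, 5, [(0, 0, .ofNat 3, 0, [(.ofNat 1, 5), (.negSucc 1, 6), (.negSucc 2, 7), (.negSucc 2, 11), (.negSucc 0,
  16)])])

/-- a candidate -/
def c16 : ℕ × ℕ × List Step :=
  (40500, 25, [(0, 0, .ofNat 81, 0, [(.negSucc 80, 6), (.negSucc 80, 7), (.ofNat 40, 14)])])

/-- a candidate -/
def c17 : ℕ × ℕ × List Step :=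
  (48000, 5, [(0, 0, .ofNat 27, 0, [(.negSucc 26, 6), (.negSucc 26, 7), (.ofNat 14, 14)])])

/-- a candidate -/
def c18 : ℕ × ℕ × List Step :=
  (48000, 10, [(0, 0, .ofNat 27, 0, [(.negSucc 26, 6), (.negSucc 26, 7), (.ofNat 14, 14)])])

/-- a candidate -/
def c19 : ℕ × ℕ × List Step :=
  (91125, 5, [(0, 0, .ofNat 0, 0, [(.negSucc 0, 15)])])

/-- a candidate -/
def c20 : ℕ × ℕ × List Step :=
  (91125, 15, [(0, 0, .ofNat 27, 0, [(.ofNat 14, 9), (.ofNat 14, 12), (.negSucc 13, 15), (.ofNat 14, 17)])])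

/-- a candidate -/
def c21 : ℕ × ℕ × List Step :=
  (91125, 27, [(0, 0, .ofNat 3, 0, [(.ofNat 1, 3), (.negSucc 0, 5), (.ofNat 1, 12), (.negSucc 0, 15)])])

/-- a candidate -/
def c22 : ℕ × ℕ × List Step :=
  (91125, 45, [(0, 0, .ofNat 27, 0, [(.ofNat 14, 9), (.ofNat 14, 12), (.negSucc 13, 15), (.ofNat 14, 17)])])

/-- a candidate -/
def c23 : ℕ × ℕ × List Step :=
  (91125, 135, [(0, 0, .ofNat 27, 0, [(.ofNat 14, 9), (.ofNat 14, 12), (.negSucc 13, 15), (.ofNat 14, 17)])])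

/-- a candidate -/
def c24 : ℕ × ℕ × List Step :=
  (93312, 2, [(0, 0, .ofNat 9, 0, [(.ofNat 3, 2), (.ofNat 5, 4), (.negSucc 0, 7), (.negSucc 5, 9)])])

/-- a candidate -/
def c25 : ℕ × ℕ × List Step :=
  (93312, 3, [(0, 0, .ofNat 9, 0, [(.ofNat 3, 2), (.negSucc 2, 3), (.ofNat 3, 4), (.negSucc 0, 5), (.negSucc 0, 6),
  (.negSucc 5, 9), (.negSucc 2, 10)])])

/-- a candidate -/
def c26 : ℕ × ℕ × List Step :=
  (93312, 4, [(0, 0, .ofNat 9, 0, [(.ofNat 3, 2), (.ofNat 5, 4), (.negSucc 0, 7), (.negSucc 5, 9)])])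

/-- a candidate -/
def c27 : ℕ × ℕ × List Step :=
  (93312, 6, [(0, 0, .ofNat 9, 0, [(.ofNat 3, 2), (.negSucc 2, 3), (.ofNat 3, 4), (.negSucc 0, 5), (.negSucc 0, 6),
  (.negSucc 5, 9), (.negSucc 2, 10)])])

/-- a candidate -/
def c28 : ℕ × ℕ × List Step :=
  (93312, 8, [(0, 0, .ofNat 9, 0, [(.ofNat 3, 2), (.ofNat 5, 4), (.negSucc 0, 7), (.negSucc 5, 9)])])

/-- a candidate -/
def c29 : ℕ × ℕ × List Step :=
  (93312, 12, [(0, 0, .ofNat 9, 0, [(.ofNat 3, 2), (.negSucc 2, 3), (.ofNat 3, 4), (.negSucc 0, 5), (.negSucc 0, 6),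
  (.negSucc 5, 9), (.negSucc 2, 10)])])

/-- candidates -/
def CL0 : List (ℕ × ℕ × List Step) :=
  [c0, c1, c2, c3, c4, c5, c6, c7, c8, c9, c10, c11, c12, c13, c14, c15, c16, c17, c18, c19, c20, c21, c22, c23, c24,
  c25, c26, c27, c28, c29]

theorem okC0 : okL TAB.McL.D TAB.McL.RR 2 P Z CL0 = true := by decide +kernel

/-- a candidate -/
def c30 : ℕ × ℕ × List Step :=
  (93312, 24, [(0, 0, .ofNat 9, 0, [(.ofNat 3, 2), (.negSucc 2, 3), (.ofNat 3, 4), (.negSucc 0, 5), (.negSucc 0, 6),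
  (.negSucc 5, 9), (.negSucc 2, 10)])])

/-- a candidate -/
def c31 : ℕ × ℕ × List Step :=
  (108000, 5, [(0, 0, .ofNat 27, 0, [(.negSucc 26, 6), (.negSucc 26, 7), (.ofNat 14, 14)])])

/-- a candidate -/
def c32 : ℕ × ℕ × List Step :=
  (160380, 11, [(0, 0, .ofNat 9, 0, [(.negSucc 1, 2), (.negSucc 6, 6), (.negSucc 7, 7), (.negSucc 0, 10), (.negSucc
  1, 11), (.ofNat 2, 17)])])

/-- a candidate -/
def c33 : ℕ × ℕ × List Step :=
  (181440, 7, [(0, 0, .ofNat 9, 0, [(.negSucc 8, 3), (.ofNat 9, 4), (.ofNat 9, 7), (.negSucc 8, 9), (.negSucc 3,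
  13)])])

/-- a candidate -/
def c34 : ℕ × ℕ × List Step :=
  (243000, 5, [(0, 0, .ofNat 27, 0, [(.negSucc 26, 6), (.negSucc 26, 7), (.ofNat 13, 14)])])

/-- a candidate -/
def c35 : ℕ × ℕ × List Step :=
  (252000, 7, [(0, 0, .ofNat 81, 0, [(.ofNat 32, 1), (.ofNat 16, 2), (.ofNat 32, 4), (.negSucc 31, 6), (.ofNat 32,
  8), (.negSucc 64, 9), (.negSucc 15, 10), (.ofNat 16, 16)])])

/-- a candidate -/
def c36 : ℕ × ℕ × List Step :=
  (259200, 8, [(0, 0, .ofNat 27, 0, [(.negSucc 26, 6), (.negSucc 26, 7), (.ofNat 13, 14)])])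

/-- a candidate -/
def c37 : ℕ × ℕ × List Step :=
  (466560, 4, [(0, 0, .ofNat 9, 0, [(.negSucc 8, 6), (.negSucc 8, 7), (.ofNat 4, 14)])])

/-- a candidate -/
def c38 : ℕ × ℕ × List Step :=
  (583200, 3, [(0, 0, .ofNat 9, 0, [(.negSucc 8, 6), (.negSucc 8, 7), (.ofNat 4, 14)])])

/-- a candidate -/
def c39 : ℕ × ℕ × List Step :=
  (583200, 9, [(0, 0, .ofNat 9, 0, [(.negSucc 8, 6), (.negSucc 8, 7), (.ofNat 4, 14)])])

/-- a candidate -/
def c40 : ℕ × ℕ × List Step :=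
  (583200, 27, [(0, 0, .ofNat 9, 0, [(.negSucc 8, 6), (.negSucc 8, 7), (.ofNat 4, 14)])])

/-- a candidate -/
def c41 : ℕ × ℕ × List Step :=
  (583200, 81, [(0, 0, .ofNat 27, 0, [(.negSucc 26, 6), (.negSucc 26, 7), (.ofNat 13, 14)])])

/-- a candidate -/
def c42 : ℕ × ℕ × List Step :=
  (604800, 7, [(0, 0, .ofNat 9, 0, [(.negSucc 8, 3), (.ofNat 9, 4), (.ofNat 9, 7), (.negSucc 8, 9), (.negSucc 3,
  13)])])

/-- a candidate -/
def c43 : ℕ × ℕ × List Step :=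
  (604800, 14, [(0, 0, .ofNat 9, 0, [(.negSucc 8, 3), (.ofNat 9, 4), (.ofNat 9, 7), (.negSucc 8, 9), (.negSucc 3,
  13)])])

/-- a candidate -/
def c44 : ℕ × ℕ × List Step :=
  (604800, 28, [(0, 0, .ofNat 27, 0, [(.ofNat 11, 1), (.ofNat 5, 2), (.ofNat 11, 4), (.negSucc 10, 6), (.ofNat 11,
  8), (.negSucc 21, 9), (.negSucc 4, 10), (.ofNat 5, 16)])])

/-- a candidate -/
def c45 : ℕ × ℕ × List Step :=
  (648000, 5, [(0, 0, .ofNat 27, 0, [(.negSucc 26, 6), (.negSucc 26, 7), (.ofNat 13, 14)])])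

/-- a candidate -/
def c46 : ℕ × ℕ × List Step :=
  (777600, 2, [(0, 0, .ofNat 9, 0, [(.negSucc 8, 6), (.negSucc 8, 7), (.ofNat 4, 14)])])

/-- a candidate -/
def c47 : ℕ × ℕ × List Step :=
  (1296000, 2, [(0, 0, .ofNat 9, 0, [(.negSucc 8, 6), (.negSucc 8, 7), (.ofNat 4, 14)])])

/-- a candidate -/
def c48 : ℕ × ℕ × List Step :=
  (1296000, 4, [(0, 0, .ofNat 9, 0, [(.negSucc 8, 6), (.negSucc 8, 7), (.ofNat 4, 14)])])

/-- a candidate -/
def c49 : ℕ × ℕ × List Step :=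
  (1458000, 3, [(0, 0, .ofNat 9, 0, [(.negSucc 8, 6), (.negSucc 8, 7), (.ofNat 4, 14)])])

/-- a candidate -/
def c50 : ℕ × ℕ × List Step :=
  (1458000, 5, [(0, 0, .ofNat 9, 0, [(.negSucc 8, 6), (.negSucc 8, 7), (.ofNat 4, 14)])])

/-- a candidate -/
def c51 : ℕ × ℕ × List Step :=
  (1458000, 15, [(0, 0, .ofNat 9, 0, [(.negSucc 8, 6), (.negSucc 8, 7), (.ofNat 4, 14)])])

/-- a candidate -/
def c52 : ℕ × ℕ × List Step :=
  (2332800, 2, [(0, 0, .ofNat 9, 0, [(.negSucc 8, 6), (.negSucc 8, 7), (.ofNat 4, 14)])])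

/-- a candidate -/
def c53 : ℕ × ℕ × List Step :=
  (2332800, 3, [(0, 0, .ofNat 9, 0, [(.negSucc 8, 6), (.negSucc 8, 7), (.ofNat 4, 14)])])

/-- a candidate -/
def c54 : ℕ × ℕ × List Step :=
  (2332800, 4, [(0, 0, .ofNat 9, 0, [(.negSucc 8, 6), (.negSucc 8, 7), (.ofNat 4, 14)])])

/-- a candidate -/
def c55 : ℕ × ℕ × List Step :=
  (2332800, 6, [(0, 0, .ofNat 9, 0, [(.negSucc 8, 6), (.negSucc 8, 7), (.ofNat 4, 14)])])

/-- a candidate -/
def c56 : ℕ × ℕ × List Step :=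
  (2332800, 8, [(0, 0, .ofNat 9, 0, [(.negSucc 8, 6), (.negSucc 8, 7), (.ofNat 4, 14)])])

/-- a candidate -/
def c57 : ℕ × ℕ × List Step :=
  (2332800, 12, [(0, 0, .ofNat 9, 0, [(.negSucc 8, 6), (.negSucc 8, 7), (.ofNat 4, 14)])])

/-- a candidate -/
def c58 : ℕ × ℕ × List Step :=
  (2332800, 16, [(0, 0, .ofNat 9, 0, [(.negSucc 8, 6), (.negSucc 8, 7), (.ofNat 4, 14)])])

/-- a candidate -/
def c59 : ℕ × ℕ × List Step :=
  (2332800, 24, [(0, 0, .ofNat 9, 0, [(.negSucc 8, 6), (.negSucc 8, 7), (.ofNat 4, 14)])])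

/-- candidates -/
def CL1 : List (ℕ × ℕ × List Step) :=
  [c30, c31, c32, c33, c34, c35, c36, c37, c38, c39, c40, c41, c42, c43, c44, c45, c46, c47, c48, c49, c50, c51, c52,
  c53, c54, c55, c56, c57, c58, c59]

theorem okC1 : okL TAB.McL.D TAB.McL.RR 2 P Z CL1 = true := by decide +kernel

/-- a candidate -/
def c60 : ℕ × ℕ × List Step :=
  (2332800, 32, [(0, 0, .ofNat 9, 0, [(.negSucc 8, 6), (.negSucc 8, 7), (.ofNat 4, 14)])])

/-- a candidate -/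
def c61 : ℕ × ℕ × List Step :=
  (2332800, 48, [(0, 0, .ofNat 9, 0, [(.negSucc 8, 6), (.negSucc 8, 7), (.ofNat 4, 14)])])

/-- a candidate -/
def c62 : ℕ × ℕ × List Step :=
  (2332800, 64, [(0, 0, .ofNat 9, 0, [(.negSucc 6, 3), (.ofNat 4, 4), (.negSucc 8, 9), (.negSucc 2, 11), (.ofNat 1,
  12), (.negSucc 3, 13), (.ofNat 6, 14), (.ofNat 3, 16)])])

/-- a candidate -/
def c63 : ℕ × ℕ × List Step :=
  (2332800, 96, [(0, 0, .ofNat 9, 0, [(.negSucc 8, 6), (.negSucc 8, 7), (.ofNat 4, 14)])])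

/-- a candidate -/
def c64 : ℕ × ℕ × List Step :=
  (2332800, 128, [(0, 0, .ofNat 0, 0, [(.ofNat 1, 14)])])

/-- a candidate -/
def c65 : ℕ × ℕ × List Step :=
  (2332800, 192, [(0, 0, .ofNat 9, 0, [(.negSucc 6, 3), (.ofNat 4, 4), (.negSucc 8, 9), (.negSucc 2, 11), (.ofNat 1,
  12), (.negSucc 3, 13), (.ofNat 6, 14), (.ofNat 3, 16)])])

/-- a candidate -/
def c66 : ℕ × ℕ × List Step :=
  (3888000, 2, [(0, 0, .ofNat 9, 0, [(.negSucc 8, 6), (.negSucc 8, 7), (.ofNat 4, 14)])])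

/-- a candidate -/
def c67 : ℕ × ℕ × List Step :=
  (3888000, 5, [(0, 0, .ofNat 9, 0, [(.negSucc 8, 6), (.negSucc 8, 7), (.ofNat 4, 14)])])

/-- a candidate -/
def c68 : ℕ × ℕ × List Step :=
  (3888000, 10, [(0, 0, .ofNat 9, 0, [(.negSucc 8, 6), (.negSucc 8, 7), (.ofNat 4, 14)])])

/-- a candidate -/
def c69 : ℕ × ℕ × List Step :=
  (5832000, 3, [(0, 0, .ofNat 3, 0, [(.negSucc 2, 6), (.negSucc 2, 7), (.ofNat 1, 14)])])

/-- a candidate -/
def c70 : ℕ × ℕ × List Step :=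
  (5832000, 9, [(0, 0, .ofNat 9, 0, [(.negSucc 8, 6), (.negSucc 8, 7), (.ofNat 4, 14)])])

/-- a candidate -/
def c71 : ℕ × ℕ × List Step :=
  (11664000, 2, [(0, 0, .ofNat 3, 0, [(.negSucc 2, 6), (.negSucc 2, 7), (.ofNat 1, 14)])])

/-- a candidate -/
def c72 : ℕ × ℕ × List Step :=
  (11664000, 4, [(0, 0, .ofNat 3, 0, [(.negSucc 2, 6), (.negSucc 2, 7), (.ofNat 1, 14)])])

/-- a candidate -/
def c73 : ℕ × ℕ × List Step :=
  (19958400, 11, [(0, 0, .negSucc 52, 0, [(.negSucc 4, 1), (.negSucc 48, 2), (.negSucc 420, 4), (.negSucc 740, 5),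
  (.negSucc 740, 6), (.negSucc 999, 7), (.negSucc 999, 8), (.negSucc 1020, 9), (.negSucc 1165, 10), (.negSucc 2024,
  11), (.negSucc 161, 12), (.negSucc 161, 13), (.negSucc 1686, 14), (.negSucc 1735, 15), (.negSucc 2073, 16),
  (.negSucc 2186, 17)])])

/-- a candidate -/
def c74 : ℕ × ℕ × List Step :=
  (19958400, 22, [(0, 0, .negSucc 61, 0, [(.negSucc 61, 2), (.negSucc 419, 4), (.negSucc 691, 5), (.negSucc 691, 6),
  (.negSucc 1037, 7), (.negSucc 1037, 8), (.negSucc 1000, 9), (.negSucc 1185, 10), (.negSucc 2038, 11), (.negSucc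
  147, 12), (.negSucc 184, 13), (.negSucc 1667, 14), (.negSucc 1729, 15), (.negSucc 1976, 16), (.negSucc 2186,
  17)])])

/-- candidates -/
def CL2 : List (ℕ × ℕ × List Step) :=
  [c60, c61, c62, c63, c64, c65, c66, c67, c68, c69, c70, c71, c72, c73, c74]

theorem okC2 : okL TAB.McL.D TAB.McL.RR 2 P Z CL2 = true := by decide +kernel

theorem okB : ∀ ld ∈ big, bigE E ld = true :=
  fa_nil

theorem okA : ∀ a ∈ divsT [], allA (leaf E) [(11, 1), (7, 1), (5, 3), (3, 6), (2, 7)] a = true := by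
  rw [show divsT [] = [1] by decide +kernel]
  exact fa_cons okA0 <| fa_nil

/-- the pairs -/
def pj (L : List (ℕ × ℕ × List Step)) : List (ℕ × ℕ) := L.map fun x => (x.1, x.2.1)

theorem okC : ∀ x ∈ E.SV, ∃ CL, okL TAB.McL.D TAB.McL.RR E.j E.P E.Z CL = true ∧ x ∈ pj CL := by
  rw [show E.SV = [pj CL0, pj CL1, pj CL2].flatten by decide +kernel]
  exact forall_flatten <| fa_cons (fun _ h => ⟨_, okC0, h⟩) <| fa_cons (fun _ h => ⟨_, okC1, h⟩) <| fa_cons (fun _ h => ⟨_, okC2, h⟩) <| fa_nil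

/-- **no configuration** -/
theorem noW {K : Type} [Group K] [Finite K] (h : In K TAB.McL.D TAB.McL.RR) : NoW K 2 :=
  noW_of (E := E) boxCH h.inC ok1 (H940.Eng.D.ords_mcl base)
    (fun ld h => ⟨List.mem_append_left _ h, okB ld h⟩) (by decide +kernel) okA okC

end Cfsg.Agent.TH.Spor.NMcL
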