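import Cfsg.Agent.TH.Spor.EngC
import Cfsg.Agent.TH.Spor.CH
import Cfsg.Agent.TAB.ON.Tab

/-!
# S3541, sporadic rows: ON (helper26; generated by notes/TH/spor26/gen.py.txt)
-/

set_option autoImplicit false
set_option Elab.async false

namespace Cfsg.Agent.TH.Spor.NON

open Cfsg Cfsg.Agent.TAB.Eng Cfsg.Agent.H940.Eng

/-- the types of prime order -/
def P : St :=
  [(31, [(21, 29730032640, 0)]), (19, [(18, 72760343040, 0)]), (11, [(12, 41892318720, 0)]), (7, [(7, 335871360, 0),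
  (8, 9404398080, 0)]), (5, [(5, 2560086144, 0)]), (3, [(2, 142227008, 0)]), (2, [(1, 2857239, 0)])]

/-- the types -/
def Z : List Ze :=
  [(1, 2, 2857239, [1]), (2, 3, 142227008, [2]), (3, 4, 5714478, [1]), (4, 4, 1800060570, [1]), (5, 5, 2560086144,
  [5]), (6, 6, 6400215360, [2, 1]), (7, 7, 335871360, [7]), (8, 7, 9404398080, [8]), (9, 8, 14400484560, [1]), (10,
  8, 14400484560, [1]), (11, 10, 23040775296, [5, 1]), (12, 11, 41892318720, [12]), (13, 12, 12800430720, [2, 1]),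
  (14, 14, 16457696640, [7, 1]), (15, 15, 20480689152, [5, 2]), (16, 16, 57601938240, [1]), (17, 16, 57601938240,
  [1]), (18, 19, 72760343040, [18]), (19, 20, 46081550592, [5, 1]), (20, 28, 32915393280, [7, 1]), (21, 31,
  29730032640, [21])]

/-- local data, large primes -/
def big : List LD :=
  []

/-- local data, the other primes -/
def sm : List LD :=
  [⟨31, 31, [(3, 1), (5, 1), (31, 1)]⟩, ⟨19, 19, [(2, 1), (3, 1), (19, 1)]⟩, ⟨11, 11, [(2, 1), (5, 1), (11, 1)]⟩, ⟨5,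
  720, [(2, 4), (3, 2), (5, 1)]⟩]

/-- the candidates -/
def SV : List (ℕ × ℕ) :=
  [(41472, 6), (41472, 12), (3753792, 133)]

/-- the data -/
def E : En :=
  ⟨460815505920, 2, P, Z, [(31, 1), (19, 1), (11, 1), (7, 3), (5, 1), (3, 4), (2, 9)], H940.Eng.D.o_opn, big ++ sm,
  SV⟩

theorem ok1 : okEn TAB.ON.dON TAB.ON.tabON [] E = true := by decide +kernel

theorem okA0 : allA (leaf E) [(31, 1), (19, 1), (11, 1), (7, 3), (5, 1), (3, 4), (2, 9)] 1 = true := by decide +kernel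

/-- a candidate -/
def c0 : ℕ × ℕ × List Step :=
  (41472, 6, [(0, 0, .ofNat 0, 0, [(.negSucc 0, 20)])])

/-- a candidate -/
def c1 : ℕ × ℕ × List Step :=
  (41472, 12, [(0, 0, .ofNat 0, 0, [(.negSucc 0, 20)])])

/-- a candidate -/
def c2 : ℕ × ℕ × List Step :=
  (3753792, 133, [(0, 0, .ofNat 243, 0, [(.negSucc 181, 1), (.negSucc 29, 2), (.negSucc 60, 4), (.ofNat 122, 9),
  (.ofNat 122, 12), (.ofNat 213, 18), (.ofNat 122, 19)])])

/-- candidates -/
def CL0 : List (ℕ × ℕ × List Step) :=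
  [c0, c1, c2]

theorem okC0 : okL TAB.ON.dON TAB.ON.tabON 2 P Z CL0 = true := by decide +kernel

theorem okB : ∀ ld ∈ big, bigE E ld = true :=
  fa_nil

theorem okA : ∀ a ∈ divsT [], allA (leaf E) [(31, 1), (19, 1), (11, 1), (7, 3), (5, 1), (3, 4), (2, 9)] a = true := by
  rw [show divsT [] = [1] by decide +kernel]
  exact fa_cons okA0 <| fa_nil

/-- the pairs -/
def pj (L : List (ℕ × ℕ × List Step)) : List (ℕ × ℕ) := L.map fun x => (x.1, x.2.1)

theorem okC : ∀ x ∈ E.SV, ∃ CL, okL TAB.ON.dON TAB.ON.tabON E.j E.P E.Z CL = true ∧ x ∈ pj CL := by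
  rw [show E.SV = [pj CL0].flatten by decide +kernel]
  exact forall_flatten <| fa_cons (fun _ h => ⟨_, okC0, h⟩) <| fa_nil

/-- **no configuration** -/
theorem noW {K : Type} [Group K] [Finite K] (h : In K TAB.ON.dON TAB.ON.tabON) : NoW K 2 :=
  noW_of (E := E) boxCH h.inC ok1 (H940.Eng.D.ords_opn base)
    (fun ld h => ⟨List.mem_append_left _ h, okB ld h⟩) (by decide +kernel) okA okC

end Cfsg.Agent.TH.Spor.NON
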