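import Cfsg.Agent.TH.Spor.EngC
import Cfsg.Agent.TH.Spor.CH
import Cfsg.Agent.TAB.Ru.Dat

/-!
# S3541, sporadic rows: Ru (helper26; generated by notes/TH/spor26/gen.py.txt)
-/

set_option autoImplicit false
set_option Elab.async false

namespace Cfsg.Agent.TH.Spor.NRu

open Cfsg Cfsg.Agent.TAB.Eng Cfsg.Agent.H940.Eng

/-- the types of prime order -/
def P : St :=
  [(29, [(27, 10063872000, 0)]), (13, [(19, 2806272000, 0)]), (7, [(11, 5211648000, 0)]), (5, [(8, 486420480, 0), (9,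
  145926144, 0)]), (3, [(3, 67558400, 0)]), (2, [(1, 1252800, 0), (2, 593775, 0)])]

/-- the types -/
def Z : List Ze :=
  [(1, 2, 1252800, [1]), (2, 2, 593775, [2]), (3, 3, 67558400, [3]), (4, 4, 142506000, [2]), (5, 4, 285012000, [2]),
  (6, 4, 38001600, [2]), (7, 4, 19000800, [2]), (8, 5, 486420480, [8]), (9, 5, 145926144, [9]), (10, 6, 3040128000,
  [3, 2]), (11, 7, 5211648000, [11]), (12, 8, 4560192000, [2]), (13, 8, 2280096000, [2]), (14, 8, 1520064000, [2]),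
  (15, 10, 7296307200, [8, 1]), (16, 10, 3648153600, [9, 2]), (17, 12, 12160512000, [3, 2]), (18, 12, 6080256000, [3,
  2]), (19, 13, 2806272000, [19]), (20, 14, 15634944000, [11, 1]), (21, 15, 9728409600, [8, 3]), (22, 16,
  18240768000, [2]), (23, 20, 14592614400, [9, 2]), (24, 20, 7296307200, [9, 2]), (25, 24, 12160512000, [3, 2]), (26,
  26, 8418816000, [19, 1]), (27, 29, 10063872000, [27])]

/-- local data, large primes -/
def big : List LD :=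
  []

/-- local data, the other primes -/
def sm : List LD :=
  [⟨29, 29, [(2, 1), (7, 1), (29, 1)]⟩, ⟨13, 208, [(2, 4), (3, 1), (13, 1)]⟩, ⟨7, 56, [(2, 3), (3, 1), (7, 1)]⟩]

/-- the candidates -/
def SV : List (ℕ × ℕ) :=
  [(16384, 2), (16384, 4), (16384, 8), (16384, 16), (16384, 32), (16384, 64), (16384, 128), (48384, 63), (89856, 39),
  (110592, 9), (442368, 3), (442368, 6), (1024000, 5), (3096576, 21), (3096576, 28), (3096576, 42), (3096576, 63),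
  (3096576, 84), (3096576, 126), (3096576, 252), (6144000, 25), (6144000, 50), (6144000, 125), (6144000, 250),
  (8064000, 35), (11059200, 18), (13824000, 5), (19353600, 21), (64512000, 7), (143769600, 13), (143769600, 26),
  (143769600, 39), (143769600, 78), (1006387200, 6), (1006387200, 8), (1006387200, 9), (1006387200, 12), (1006387200,
  16), (1006387200, 18), (1006387200, 24), (1006387200, 36), (1006387200, 48), (1006387200, 72)]

/-- the data -/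
def E : En :=
  ⟨145926144000, 2, P, Z, [(29, 1), (13, 1), (7, 1), (5, 3), (3, 3), (2, 14)], H940.Eng.D.o_ru, big ++ sm, SV⟩

theorem ok1 : okEn TAB.Ru.D TAB.Ru.RR [] E = true := by decide +kernel

theorem okA0 : allA (leaf E) [(29, 1), (13, 1), (7, 1), (5, 3), (3, 3), (2, 14)] 1 = true := by decide +kernel

/-- a candidate -/
def c0 : ℕ × ℕ × List Step :=
  (16384, 2, [(0, 0, .ofNat 0, 0, [(.negSucc 0, 21)])])

/-- a candidate -/
def c1 : ℕ × ℕ × List Step :=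
  (16384, 4, [(0, 0, .ofNat 0, 0, [(.negSucc 0, 21)])])

/-- a candidate -/
def c2 : ℕ × ℕ × List Step :=
  (16384, 8, [(0, 0, .ofNat 0, 0, [(.negSucc 0, 21)])])

/-- a candidate -/
def c3 : ℕ × ℕ × List Step :=
  (16384, 16, [(0, 0, .ofNat 0, 0, [(.negSucc 0, 21)])])

/-- a candidate -/
def c4 : ℕ × ℕ × List Step :=
  (16384, 32, [(0, 0, .ofNat 0, 0, [(.negSucc 0, 21)])])

/-- a candidate -/
def c5 : ℕ × ℕ × List Step :=
  (16384, 64, [(0, 0, .ofNat 0, 0, [(.negSucc 0, 21)])])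

/-- a candidate -/
def c6 : ℕ × ℕ × List Step :=
  (16384, 128, [(0, 0, .ofNat 0, 0, [(.negSucc 0, 21)])])

/-- a candidate -/
def c7 : ℕ × ℕ × List Step :=
  (48384, 63, [(0, 0, .ofNat 0, 0, [(.negSucc 0, 19), (.negSucc 0, 21), (.negSucc 0, 25)])])

/-- a candidate -/
def c8 : ℕ × ℕ × List Step :=
  (89856, 39, [(0, 0, .ofNat 0, 0, [(.negSucc 0, 19), (.negSucc 0, 21), (.negSucc 0, 25)])])

/-- a candidate -/
def c9 : ℕ × ℕ × List Step :=
  (110592, 9, [(0, 0, .ofNat 0, 0, [(.negSucc 0, 25)])])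

/-- a candidate -/
def c10 : ℕ × ℕ × List Step :=
  (442368, 3, [(0, 0, .ofNat 0, 0, [(.negSucc 0, 19), (.negSucc 0, 21), (.negSucc 0, 25)])])

/-- a candidate -/
def c11 : ℕ × ℕ × List Step :=
  (442368, 6, [(0, 0, .ofNat 0, 0, [(.negSucc 0, 19), (.negSucc 0, 21), (.negSucc 0, 25)])])

/-- a candidate -/
def c12 : ℕ × ℕ × List Step :=
  (1024000, 5, [(0, 0, .ofNat 3, 0, [(.negSucc 0, 3), (.negSucc 0, 6), (.ofNat 1, 10), (.negSucc 0, 11), (.negSucc 1,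
  12), (.negSucc 0, 15), (.negSucc 0, 17), (.ofNat 1, 22), (.negSucc 0, 24)])])

/-- a candidate -/
def c13 : ℕ × ℕ × List Step :=
  (3096576, 21, [(0, 0, .ofNat 0, 0, [(.ofNat 1, 25)])])

/-- a candidate -/
def c14 : ℕ × ℕ × List Step :=
  (3096576, 28, [(0, 0, .ofNat 0, 0, [(.ofNat 1, 25)])])

/-- a candidate -/
def c15 : ℕ × ℕ × List Step :=
  (3096576, 42, [(0, 0, .ofNat 0, 0, [(.ofNat 1, 25)])])

/-- a candidate -/
def c16 : ℕ × ℕ × List Step :=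
  (3096576, 63, [(0, 0, .ofNat 0, 0, [(.ofNat 1, 25)])])

/-- a candidate -/
def c17 : ℕ × ℕ × List Step :=
  (3096576, 84, [(0, 0, .ofNat 0, 0, [(.ofNat 1, 25)])])

/-- a candidate -/
def c18 : ℕ × ℕ × List Step :=
  (3096576, 126, [(0, 0, .ofNat 0, 0, [(.ofNat 1, 25)])])

/-- a candidate -/
def c19 : ℕ × ℕ × List Step :=
  (3096576, 252, [(0, 0, .ofNat 0, 0, [(.ofNat 1, 25)])])

/-- a candidate -/
def c20 : ℕ × ℕ × List Step :=
  (6144000, 25, [(0, 0, .ofNat 1, 0, [(.negSucc 0, 2), (.ofNat 1, 6), (.ofNat 1, 16), (.ofNat 1, 21), (.negSucc 0,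
  25)])])

/-- a candidate -/
def c21 : ℕ × ℕ × List Step :=
  (6144000, 50, [(0, 0, .ofNat 1, 0, [(.negSucc 0, 2), (.ofNat 1, 6), (.ofNat 1, 16), (.ofNat 1, 21), (.negSucc 0,
  25)])])

/-- a candidate -/
def c22 : ℕ × ℕ × List Step :=
  (6144000, 125, [(0, 0, .ofNat 1, 0, [(.negSucc 0, 2), (.ofNat 1, 6), (.ofNat 1, 16), (.ofNat 1, 21)])])

/-- a candidate -/
def c23 : ℕ × ℕ × List Step :=
  (6144000, 250, [(0, 0, .ofNat 1, 0, [(.negSucc 0, 2), (.ofNat 1, 6), (.ofNat 1, 16), (.ofNat 1, 21)])])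

/-- a candidate -/
def c24 : ℕ × ℕ × List Step :=
  (8064000, 35, [(0, 0, .ofNat 81, 0, [(.negSucc 39, 3), (.ofNat 40, 4), (.ofNat 40, 5), (.ofNat 40, 6), (.ofNat 40,
  8), (.negSucc 39, 9), (.negSucc 39, 17), (.ofNat 81, 22), (.negSucc 39, 23), (.negSucc 39, 24), (.ofNat 61, 25)])])

/-- a candidate -/
def c25 : ℕ × ℕ × List Step :=
  (11059200, 18, [(0, 0, .ofNat 1, 0, [(.negSucc 0, 2), (.ofNat 1, 6), (.ofNat 1, 16), (.negSucc 0, 19)])])

/-- a candidate -/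
def c26 : ℕ × ℕ × List Step :=
  (13824000, 5, [(0, 0, .ofNat 1, 0, [(.negSucc 0, 2), (.ofNat 1, 6), (.ofNat 1, 16), (.ofNat 1, 21), (.negSucc 0,
  25)])])

/-- a candidate -/
def c27 : ℕ × ℕ × List Step :=
  (19353600, 21, [(0, 0, .ofNat 0, 0, [(.ofNat 1, 25)])])

/-- a candidate -/
def c28 : ℕ × ℕ × List Step :=
  (64512000, 7, [(0, 0, .ofNat 0, 0, [(.ofNat 1, 25)])])

/-- a candidate -/
def c29 : ℕ × ℕ × List Step :=
  (143769600, 13, [(0, 0, .ofNat 1, 0, [(.negSucc 0, 2), (.ofNat 1, 6), (.ofNat 1, 16), (.ofNat 1, 21), (.negSucc 0,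
  25)])])

/-- candidates -/
def CL0 : List (ℕ × ℕ × List Step) :=
  [c0, c1, c2, c3, c4, c5, c6, c7, c8, c9, c10, c11, c12, c13, c14, c15, c16, c17, c18, c19, c20, c21, c22, c23, c24,
  c25, c26, c27, c28, c29]

theorem okC0 : okL TAB.Ru.D TAB.Ru.RR 2 P Z CL0 = true := by decide +kernel

/-- a candidate -/
def c30 : ℕ × ℕ × List Step :=
  (143769600, 26, [(0, 0, .ofNat 1, 0, [(.negSucc 0, 2), (.ofNat 1, 6), (.ofNat 1, 16), (.ofNat 1, 21), (.negSucc 0,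
  25)])])

/-- a candidate -/
def c31 : ℕ × ℕ × List Step :=
  (143769600, 39, [(0, 0, .ofNat 1, 0, [(.negSucc 0, 2), (.ofNat 1, 6), (.ofNat 1, 16), (.ofNat 1, 21), (.negSucc 0,
  25)])])

/-- a candidate -/
def c32 : ℕ × ℕ × List Step :=
  (143769600, 78, [(0, 0, .ofNat 1, 0, [(.negSucc 0, 2), (.ofNat 1, 6), (.ofNat 1, 16), (.ofNat 1, 21), (.negSucc 0,
  25)])])

/-- a candidate -/
def c33 : ℕ × ℕ × List Step :=
  (1006387200, 6, [(0, 0, .ofNat 9, 0, [(.negSucc 8, 3), (.ofNat 9, 5), (.negSucc 8, 9), (.ofNat 9, 19), (.ofNat 9,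
  22), (.negSucc 8, 23), (.negSucc 8, 24), (.ofNat 4, 25), (.ofNat 9, 26)])])

/-- a candidate -/
def c34 : ℕ × ℕ × List Step :=
  (1006387200, 8, [(0, 0, .ofNat 9, 0, [(.negSucc 8, 3), (.ofNat 9, 5), (.negSucc 8, 9), (.ofNat 9, 19), (.ofNat 9,
  22), (.negSucc 8, 23), (.negSucc 8, 24), (.ofNat 4, 25), (.ofNat 9, 26)])])

/-- a candidate -/
def c35 : ℕ × ℕ × List Step :=
  (1006387200, 9, [(0, 0, .ofNat 9, 0, [(.negSucc 8, 3), (.ofNat 9, 5), (.negSucc 8, 9), (.ofNat 9, 19), (.ofNat 9,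
  22), (.negSucc 8, 23), (.negSucc 8, 24), (.ofNat 4, 25), (.ofNat 9, 26)])])

/-- a candidate -/
def c36 : ℕ × ℕ × List Step :=
  (1006387200, 12, [(0, 0, .ofNat 9, 0, [(.negSucc 8, 3), (.ofNat 9, 5), (.negSucc 8, 9), (.ofNat 9, 19), (.ofNat 9,
  22), (.negSucc 8, 23), (.negSucc 8, 24), (.ofNat 4, 25), (.ofNat 9, 26)])])

/-- a candidate -/
def c37 : ℕ × ℕ × List Step :=
  (1006387200, 16, [(0, 0, .ofNat 9, 0, [(.negSucc 8, 3), (.ofNat 9, 5), (.negSucc 8, 9), (.ofNat 9, 19), (.ofNat 9,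
  22), (.negSucc 8, 23), (.negSucc 8, 24), (.ofNat 4, 25), (.ofNat 9, 26)])])

/-- a candidate -/
def c38 : ℕ × ℕ × List Step :=
  (1006387200, 18, [(0, 0, .ofNat 9, 0, [(.negSucc 8, 3), (.ofNat 9, 5), (.negSucc 8, 9), (.ofNat 9, 19), (.ofNat 9,
  22), (.negSucc 8, 23), (.negSucc 8, 24), (.ofNat 4, 25), (.ofNat 9, 26)])])

/-- a candidate -/
def c39 : ℕ × ℕ × List Step :=
  (1006387200, 24, [(0, 0, .ofNat 9, 0, [(.negSucc 8, 3), (.ofNat 9, 5), (.negSucc 8, 9), (.ofNat 9, 19), (.ofNat 9,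
  22), (.negSucc 8, 23), (.negSucc 8, 24), (.ofNat 4, 25), (.ofNat 9, 26)])])

/-- a candidate -/
def c40 : ℕ × ℕ × List Step :=
  (1006387200, 36, [(0, 0, .ofNat 9, 0, [(.negSucc 8, 3), (.ofNat 9, 5), (.negSucc 8, 9), (.ofNat 9, 19), (.ofNat 9,
  22), (.negSucc 8, 23), (.negSucc 8, 24), (.ofNat 4, 25), (.ofNat 9, 26)])])

/-- a candidate -/
def c41 : ℕ × ℕ × List Step :=
  (1006387200, 48, [(0, 0, .ofNat 9, 0, [(.negSucc 8, 3), (.ofNat 9, 5), (.negSucc 8, 9), (.ofNat 9, 19), (.ofNat 9,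
  22), (.negSucc 8, 23), (.negSucc 8, 24), (.ofNat 4, 25), (.ofNat 9, 26)])])

/-- a candidate -/
def c42 : ℕ × ℕ × List Step :=
  (1006387200, 72, [(0, 0, .ofNat 9, 0, [(.negSucc 8, 3), (.ofNat 9, 5), (.negSucc 8, 9), (.ofNat 9, 19), (.ofNat 9,
  22), (.negSucc 8, 23), (.negSucc 8, 24), (.ofNat 4, 25), (.ofNat 9, 26)])])

/-- candidates -/
def CL1 : List (ℕ × ℕ × List Step) :=
  [c30, c31, c32, c33, c34, c35, c36, c37, c38, c39, c40, c41, c42]

theorem okC1 : okL TAB.Ru.D TAB.Ru.RR 2 P Z CL1 = true := by decide +kernel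

theorem okB : ∀ ld ∈ big, bigE E ld = true :=
  fa_nil

theorem okA : ∀ a ∈ divsT [], allA (leaf E) [(29, 1), (13, 1), (7, 1), (5, 3), (3, 3), (2, 14)] a = true := by
  rw [show divsT [] = [1] by decide +kernel]
  exact fa_cons okA0 <| fa_nil

/-- the pairs -/
def pj (L : List (ℕ × ℕ × List Step)) : List (ℕ × ℕ) := L.map fun x => (x.1, x.2.1)

theorem okC : ∀ x ∈ E.SV, ∃ CL, okL TAB.Ru.D TAB.Ru.RR E.j E.P E.Z CL = true ∧ x ∈ pj CL := by
  rw [show E.SV = [pj CL0, pj CL1].flatten by decide +kernel]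
  exact forall_flatten <| fa_cons (fun _ h => ⟨_, okC0, h⟩) <| fa_cons (fun _ h => ⟨_, okC1, h⟩) <| fa_nil

/-- **no configuration** -/
theorem noW {K : Type} [Group K] [Finite K] (h : In K TAB.Ru.D TAB.Ru.RR) : NoW K 2 :=
  noW_of (E := E) boxCH h.inC ok1 (H940.Eng.D.ords_ru base)
    (fun ld h => ⟨List.mem_append_left _ h, okB ld h⟩) (by decide +kernel) okA okC

end Cfsg.Agent.TH.Spor.NRu
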