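import Cfsg.Agent.TH.Spor.EngC
import Cfsg.Agent.TH.Spor.CH
import Cfsg.Agent.TAB.Suz.Dat

/-!
# S3541, sporadic rows: Suz (helper26; generated by notes/TH/spor26/gen.py.txt)
-/

set_option autoImplicit false
set_option Elab.async false

namespace Cfsg.Agent.TH.Spor.NSuz

open Cfsg Cfsg.Agent.TAB.Eng Cfsg.Agent.H940.Eng

/-- the types of prime order -/
def P : St :=
  [(13, [(16, 68976230400, 0)]), (11, [(9, 40758681600, 0)]), (7, [(29, 5337446400, 0)]), (5, [(14, 1494484992, 0),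
  (34, 249080832, 0)]), (3, [(4, 12812800, 0), (6, 138378240, 0), (36, 45760, 0)]), (2, [(1, 135135, 0), (31,
  2779920, 0)])]

/-- the types -/
def Z : List Ze :=
  [(1, 2, 135135, [1]), (2, 4, 145945800, [1]), (3, 6, 1037836800, [4, 1]), (4, 3, 12812800, [4]), (5, 20,
  22417274880, [34, 1]), (6, 3, 138378240, [6]), (7, 12, 1556755200, [36, 1]), (8, 12, 18681062400, [4, 1]), (9, 11,
  40758681600, [9]), (10, 14, 16012339200, [29, 31]), (11, 8, 7005398400, [1]), (12, 10, 22417274880, [14, 31]), (13,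
  15, 29889699840, [14, 36]), (14, 5, 1494484992, [14]), (15, 6, 6227020800, [6, 31]), (16, 13, 68976230400, [16]),
  (17, 21, 42699571200, [29, 36]), (18, 15, 19926466560, [34, 6]), (19, 12, 12454041600, [6, 31]), (20, 9,
  16605388800, [4]), (21, 18, 49816166400, [4, 1]), (22, 4, 1556755200, [31]), (23, 8, 14010796800, [1]), (24, 12,
  9340531200, [36, 1]), (25, 10, 11208637440, [34, 1]), (26, 12, 6227020800, [4, 1]), (27, 24, 18681062400, [36, 1]),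
  (28, 6, 129729600, [36, 1]), (29, 7, 5337446400, [29]), (30, 8, 2335132800, [1]), (31, 2, 2779920, [31]), (32, 6,
  691891200, [4, 1]), (33, 4, 291891600, [1]), (34, 5, 249080832, [34]), (35, 4, 9729720, [1]), (36, 3, 45760, [36])]

/-- local data, large primes -/
def big : List LD :=
  []

/-- local data, the other primes -/
def sm : List LD :=
  [⟨13, 13, [(2, 1), (3, 1), (13, 1)]⟩, ⟨11, 11, [(2, 1), (5, 1), (11, 1)]⟩, ⟨7, 504, [(2, 3), (3, 2), (7, 1)]⟩]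

/-- the candidates -/
def SV : List (ℕ × ℕ) :=
  [(2187, 3), (2187, 9), (8192, 2), (11232, 13), (24576, 2), (24576, 4), (24576, 8), (48600, 5), (56862, 13), (57600,
  5), (73728, 2), (109350, 5), (129600, 5), (139968, 3), (139968, 9), (139968, 27), (153600, 5), (221184, 2),
  (221184, 4), (221184, 8), (221184, 16), (291600, 5), (303264, 13), (319488, 13), (319488, 26), (319488, 52),
  (345600, 5), (559872, 3), (653184, 7), (663552, 2), (777600, 5), (796068, 91), (796068, 273), (921600, 5),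
  (1161216, 7), (1749600, 5), (1990656, 2), (1990656, 4), (1990656, 8), (2073600, 5), (2239488, 3), (3369600, 65),
  (4665600, 5), (5225472, 7), (5529600, 5), (5529600, 10), (5529600, 20), (5529600, 40), (5971968, 2), (7257600, 35),
  (7257600, 175), (8626176, 13), (8626176, 26), (8957952, 3), (8957952, 9), (12441600, 5), (17915904, 2), (17915904,
  4), (17915904, 8), (17915904, 16), (17915904, 32), (17915904, 64), (27371520, 11), (27993600, 5), (41803776, 7),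
  (41803776, 14), (41803776, 28), (49766400, 8), (49766400, 16), (58060800, 7), (74649600, 5), (78382080, 7),
  (89579520, 3), (89579520, 4), (89579520, 6), (89579520, 9), (89579520, 12), (89579520, 18), (89579520, 36),
  (90979200, 13), (97977600, 75), (149299200, 2), (209018880, 32), (223948800, 3), (232906752, 13), (232906752, 26),
  (232906752, 52), (261273600, 7), (261273600, 35), (328458240, 11), (328458240, 22), (328458240, 44), (447897600,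
  2), (447897600, 4), (447897600, 5), (447897600, 8), (447897600, 10), (447897600, 20), (447897600, 25), (447897600,
  40), (447897600, 50), (447897600, 100), (447897600, 200), (479001600, 55), (485222400, 13), (627056640, 7),
  (627056640, 14), (627056640, 21), (627056640, 42), (1567641600, 5), (1567641600, 15), (3135283200, 2), (6793113600,
  13)]

/-- the data -/
def E : En :=
  ⟨448345497600, 2, P, Z, [(13, 1), (11, 1), (7, 1), (5, 2), (3, 7), (2, 13)], H940.Eng.D.o_suz, big ++ sm, SV⟩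

theorem ok1 : okEn TAB.Sz.dat (TAB.Sm2.mkRows TAB.Sz.rowA TAB.Sz.rowB) [] E = true := by decide +kernel

theorem okA0 : allA (leaf E) [(13, 1), (11, 1), (7, 1), (5, 2), (3, 7), (2, 13)] 1 = true := by decide +kernel

/-- a candidate -/
def c0 : ℕ × ℕ × List Step :=
  (2187, 3, [(0, 0, .negSucc 2, 0, [(.negSucc 0, 25)])])

/-- a candidate -/
def c1 : ℕ × ℕ × List Step :=
  (2187, 9, [(0, 0, .negSucc 2, 0, [(.negSucc 0, 25)])])

/-- a candidate -/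
def c2 : ℕ × ℕ × List Step :=
  (8192, 2, [(0, 0, .ofNat 0, 0, [(.negSucc 0, 27)])])

/-- a candidate -/
def c3 : ℕ × ℕ × List Step :=
  (11232, 13, [(0, 0, .ofNat 0, 0, [(.negSucc 0, 30)])])

/-- a candidate -/
def c4 : ℕ × ℕ × List Step :=
  (24576, 2, [(0, 0, .ofNat 0, 0, [(.negSucc 0, 3), (.negSucc 1, 5), (.negSucc 0, 20), (.negSucc 7, 21), (.negSucc 0,
  25), (.negSucc 8, 27), (.negSucc 0, 30)])])

/-- a candidate -/
def c5 : ℕ × ℕ × List Step :=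
  (24576, 4, [(0, 0, .ofNat 0, 0, [(.negSucc 3, 5), (.negSucc 7, 21), (.negSucc 8, 27), (.negSucc 0, 30)])])

/-- a candidate -/
def c6 : ℕ × ℕ × List Step :=
  (24576, 8, [(0, 0, .ofNat 0, 0, [(.negSucc 3, 18), (.negSucc 8, 30)])])

/-- a candidate -/
def c7 : ℕ × ℕ × List Step :=
  (48600, 5, [(0, 0, .negSucc 1, 0, [(.negSucc 3, 6), (.negSucc 4, 11), (.negSucc 2, 14), (.ofNat 6, 21), (.negSucc
  0, 25), (.negSucc 6, 26), (.negSucc 4, 28), (.negSucc 4, 29), (.negSucc 26, 30), (.negSucc 0, 35)])])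

/-- a candidate -/
def c8 : ℕ × ℕ × List Step :=
  (56862, 13, [(0, 0, .ofNat 0, 0, [(.negSucc 0, 30)])])

/-- a candidate -/
def c9 : ℕ × ℕ × List Step :=
  (57600, 5, [(0, 0, .ofNat 0, 0, [(.negSucc 0, 11), (.negSucc 0, 15), (.negSucc 0, 30), (.negSucc 0, 35)])])

/-- a candidate -/
def c10 : ℕ × ℕ × List Step :=
  (73728, 2, [(0, 0, .ofNat 0, 0, [(.negSucc 0, 3), (.negSucc 1, 5), (.negSucc 0, 20), (.negSucc 7, 21), (.negSucc 0,
  25), (.negSucc 8, 27), (.negSucc 0, 30)])])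

/-- a candidate -/
def c11 : ℕ × ℕ × List Step :=
  (109350, 5, [(0, 0, .ofNat 0, 0, [(.negSucc 0, 7), (.ofNat 2, 13), (.negSucc 1, 25), (.negSucc 26, 35)])])

/-- a candidate -/
def c12 : ℕ × ℕ × List Step :=
  (129600, 5, [(0, 0, .ofNat 0, 0, [(.negSucc 2, 11), (.negSucc 2, 12), (.negSucc 0, 16), (.negSucc 0, 17), (.negSucc
  1, 23), (.negSucc 1, 25), (.negSucc 2, 26), (.negSucc 3, 27), (.negSucc 3, 28), (.negSucc 1, 29), (.negSucc 8, 30),
  (.negSucc 0, 34), (.negSucc 0, 35), (.negSucc 1, 36)])])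

/-- a candidate -/
def c13 : ℕ × ℕ × List Step :=
  (139968, 3, [(0, 0, .ofNat 0, 0, [(.negSucc 0, 10), (.negSucc 1, 19), (.negSucc 0, 29), (.negSucc 8, 30), (.ofNat
  1, 36)])])

/-- a candidate -/
def c14 : ℕ × ℕ × List Step :=
  (139968, 9, [(0, 0, .ofNat 0, 0, [(.negSucc 0, 10), (.negSucc 1, 19), (.negSucc 0, 29), (.negSucc 8, 30), (.ofNat
  1, 36)])])

/-- a candidate -/
def c15 : ℕ × ℕ × List Step :=
  (139968, 27, [(0, 0, .ofNat 0, 0, [(.negSucc 1, 16), (.negSucc 0, 18), (.negSucc 2, 22), (.negSucc 1, 24),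
  (.negSucc 2, 30)])])

/-- a candidate -/
def c16 : ℕ × ℕ × List Step :=
  (153600, 5, [(0, 0, .ofNat 0, 0, [(.negSucc 0, 5), (.negSucc 1, 15), (.ofNat 1, 21), (.negSucc 2, 30)])])

/-- a candidate -/
def c17 : ℕ × ℕ × List Step :=
  (221184, 2, [(0, 0, .ofNat 0, 0, [(.negSucc 0, 3), (.negSucc 1, 5), (.negSucc 0, 20), (.negSucc 7, 21), (.negSucc
  0, 25), (.negSucc 8, 27), (.negSucc 0, 30)])])

/-- a candidate -/
def c18 : ℕ × ℕ × List Step :=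
  (221184, 4, [(0, 0, .ofNat 0, 0, [(.negSucc 12, 5), (.negSucc 22, 21), (.negSucc 26, 27), (.negSucc 2, 30)])])

/-- a candidate -/
def c19 : ℕ × ℕ × List Step :=
  (221184, 8, [(0, 0, .ofNat 0, 0, [(.negSucc 39, 18), (.negSucc 80, 30)])])

/-- a candidate -/
def c20 : ℕ × ℕ × List Step :=
  (221184, 16, [(0, 0, .ofNat 0, 0, [(.negSucc 39, 18), (.negSucc 80, 30)])])

/-- a candidate -/
def c21 : ℕ × ℕ × List Step :=
  (291600, 5, [(0, 0, .ofNat 0, 0, [(.negSucc 5, 6), (.negSucc 3, 11), (.negSucc 2, 14), (.negSucc 2, 16), (.ofNat 6,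
  21), (.negSucc 0, 25), (.negSucc 8, 26), (.negSucc 4, 28), (.negSucc 6, 29), (.negSucc 26, 30)])])

/-- a candidate -/
def c22 : ℕ × ℕ × List Step :=
  (303264, 13, [(0, 0, .ofNat 0, 0, [(.ofNat 17, 7), (.negSucc 12, 11), (.negSucc 195, 21), (.negSucc 33, 25),
  (.negSucc 16, 26), (.negSucc 242, 27), (.negSucc 16, 29), (.ofNat 17, 34), (.negSucc 14, 35), (.negSucc 16, 36)])])

/-- a candidate -/
def c23 : ℕ × ℕ × List Step :=
  (319488, 13, [(0, 0, .ofNat 3, 0, [(.negSucc 4, 3), (.negSucc 3, 5), (.negSucc 0, 9), (.negSucc 1, 20), (.negSucc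
  23, 21), (.negSucc 1, 25), (.negSucc 26, 27), (.negSucc 0, 30), (.negSucc 0, 35)])])

/-- a candidate -/
def c24 : ℕ × ℕ × List Step :=
  (319488, 26, [(0, 0, .ofNat 0, 0, [(.negSucc 5, 3), (.negSucc 18, 5), (.negSucc 0, 9), (.negSucc 5, 20), (.negSucc
  72, 21), (.negSucc 4, 25), (.negSucc 80, 27), (.negSucc 1, 30)])])

/-- a candidate -/
def c25 : ℕ × ℕ × List Step :=
  (319488, 52, [(0, 0, .ofNat 0, 0, [(.negSucc 0, 18), (.negSucc 0, 24), (.negSucc 2, 30)])])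

/-- a candidate -/
def c26 : ℕ × ℕ × List Step :=
  (345600, 5, [(0, 0, .ofNat 0, 0, [(.negSucc 3, 15), (.negSucc 3, 23), (.negSucc 3, 25), (.negSucc 3, 26), (.negSucc
  3, 27), (.negSucc 3, 28), (.negSucc 3, 29), (.negSucc 8, 30), (.negSucc 1, 35), (.negSucc 1, 36)])])

/-- a candidate -/
def c27 : ℕ × ℕ × List Step :=
  (559872, 3, [(0, 0, .ofNat 0, 0, [(.negSucc 9, 10), (.negSucc 19, 19), (.negSucc 9, 29), (.negSucc 80, 30), (.ofNat
  10, 36)])])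

/-- a candidate -/
def c28 : ℕ × ℕ × List Step :=
  (653184, 7, [(0, 0, .ofNat 27, 0, [(.ofNat 1, 1), (.ofNat 4, 4), (.negSucc 9, 6), (.ofNat 5, 7), (.negSucc 3, 10),
  (.negSucc 5, 14), (.ofNat 6, 19), (.negSucc 2, 21), (.negSucc 0, 23), (.negSucc 2, 25), (.negSucc 2, 30), (.negSucc
  2, 35)])])

/-- a candidate -/
def c29 : ℕ × ℕ × List Step :=
  (663552, 2, [(0, 0, .ofNat 81, 0, [(.negSucc 3, 3), (.ofNat 8, 4), (.negSucc 59, 6), (.ofNat 29, 7), (.ofNat 3,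
  19), (.negSucc 9, 20), (.negSucc 0, 21), (.negSucc 6, 29), (.negSucc 6, 30), (.ofNat 4, 36)])])

/-- candidates -/
def CL0 : List (ℕ × ℕ × List Step) :=
  [c0, c1, c2, c3, c4, c5, c6, c7, c8, c9, c10, c11, c12, c13, c14, c15, c16, c17, c18, c19, c20, c21, c22, c23, c24,
  c25, c26, c27, c28, c29]

theorem okC0 : okL TAB.Sz.dat (TAB.Sm2.mkRows TAB.Sz.rowA TAB.Sz.rowB) 2 P Z CL0 = true := by decide +kernel

/-- a candidate -/
def c30 : ℕ × ℕ × List Step :=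
  (777600, 5, [(0, 0, .ofNat 81, 0, [(.negSucc 32, 6), (.ofNat 33, 7), (.negSucc 29, 9), (.negSucc 9, 10), (.negSucc
  7, 12), (.ofNat 5, 13), (.negSucc 1, 14), (.negSucc 27, 16), (.ofNat 22, 18), (.negSucc 47, 22), (.negSucc 37, 23),
  (.negSucc 28, 26), (.negSucc 24, 27), (.negSucc 59, 28), (.negSucc 30, 29), (.negSucc 20, 30), (.negSucc 18,
  35)])])

/-- a candidate -/
def c31 : ℕ × ℕ × List Step :=
  (796068, 91, [(0, 0, .ofNat 50, 0, [(.ofNat 50, 4), (.negSucc 74, 7), (.negSucc 10, 11), (.negSucc 32, 17),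
  (.negSucc 57, 21), (.negSucc 32, 23), (.negSucc 80, 25), (.negSucc 0, 29), (.negSucc 20, 30), (.negSucc 28, 32),
  (.negSucc 57, 36)])])

/-- a candidate -/
def c32 : ℕ × ℕ × List Step :=
  (796068, 273, [(0, 0, .ofNat 60, 0, [(.ofNat 60, 4), (.negSucc 41, 6), (.ofNat 60, 8), (.negSucc 242, 11),
  (.negSucc 41, 14), (.negSucc 158, 19), (.negSucc 129, 21), (.negSucc 11, 25), (.negSucc 111, 26), (.negSucc 139,
  29), (.negSucc 168, 36)])])

/-- a candidate -/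
def c33 : ℕ × ℕ × List Step :=
  (921600, 5, [(0, 0, .ofNat 27, 0, [(.negSucc 11, 2), (.negSucc 16, 5), (.negSucc 5, 6), (.negSucc 4, 12), (.ofNat
  2, 13), (.ofNat 3, 21), (.ofNat 4, 25), (.negSucc 1, 26), (.negSucc 7, 27), (.negSucc 10, 28), (.negSucc 8, 30),
  (.ofNat 4, 32), (.ofNat 3, 33), (.negSucc 4, 34), (.negSucc 4, 35)])])

/-- a candidate -/
def c34 : ℕ × ℕ × List Step :=
  (1161216, 7, [(0, 0, .ofNat 27, 0, [(.ofNat 5, 4), (.ofNat 3, 7), (.ofNat 10, 8), (.negSucc 15, 10), (.ofNat 6,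
  11), (.negSucc 0, 15), (.negSucc 1, 16), (.negSucc 2, 21), (.negSucc 2, 23), (.ofNat 6, 28), (.negSucc 2, 30),
  (.ofNat 8, 32)])])

/-- a candidate -/
def c35 : ℕ × ℕ × List Step :=
  (1749600, 5, [(0, 0, .ofNat 243, 0, [(.negSucc 29, 5), (.negSucc 82, 6), (.ofNat 28, 7), (.negSucc 18, 10),
  (.negSucc 61, 12), (.ofNat 77, 13), (.negSucc 5, 16), (.negSucc 6, 17), (.ofNat 124, 18), (.ofNat 57, 19), (.ofNat
  62, 21), (.negSucc 46, 23), (.negSucc 6, 26), (.negSucc 10, 27), (.negSucc 56, 28), (.negSucc 21, 30), (.negSucc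
  13, 34), (.negSucc 33, 35), (.ofNat 13, 36)])])

/-- a candidate -/
def c36 : ℕ × ℕ × List Step :=
  (1990656, 2, [(0, 0, .ofNat 81, 0, [(.negSucc 12, 3), (.ofNat 8, 4), (.negSucc 46, 6), (.ofNat 23, 7), (.ofNat 3,
  11), (.negSucc 1, 14), (.ofNat 4, 19), (.negSucc 6, 20), (.negSucc 7, 29), (.negSucc 5, 30), (.ofNat 10, 36)])])

/-- a candidate -/
def c37 : ℕ × ℕ × List Step :=
  (1990656, 4, [(0, 0, .ofNat 27, 0, [(.ofNat 3, 4), (.negSucc 16, 6), (.ofNat 9, 7), (.negSucc 1, 14), (.ofNat 5,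
  19), (.negSucc 2, 30), (.ofNat 1, 34), (.ofNat 2, 36)])])

/-- a candidate -/
def c38 : ℕ × ℕ × List Step :=
  (1990656, 8, [(0, 0, .ofNat 243, 0, [(.ofNat 173, 4), (.negSucc 224, 6), (.ofNat 11, 7), (.ofNat 29, 8), (.ofNat
  44, 11), (.negSucc 32, 16), (.ofNat 11, 17), (.negSucc 35, 18), (.negSucc 17, 24), (.negSucc 28, 25), (.negSucc 51,
  26), (.ofNat 70, 27), (.ofNat 85, 28), (.ofNat 6, 32)])])

/-- a candidate -/
def c39 : ℕ × ℕ × List Step :=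
  (2073600, 5, [(0, 0, .ofNat 243, 0, [(.ofNat 90, 7), (.ofNat 10, 8), (.negSucc 56, 10), (.negSucc 6, 11), (.negSucc
  156, 12), (.negSucc 16, 15), (.negSucc 60, 17), (.ofNat 133, 18), (.ofNat 25, 19), (.ofNat 35, 20), (.ofNat 23,
  21), (.negSucc 5, 26), (.negSucc 113, 27), (.negSucc 86, 28), (.ofNat 1, 32), (.negSucc 25, 34), (.ofNat 1, 36)])])

/-- a candidate -/
def c40 : ℕ × ℕ × List Step :=
  (2239488, 3, [(0, 0, .ofNat 243, 0, [(.ofNat 122, 4), (.ofNat 122, 5), (.negSucc 121, 6), (.negSucc 45, 16),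
  (.negSucc 75, 18), (.negSucc 45, 24), (.ofNat 122, 27), (.ofNat 121, 28), (.ofNat 61, 36)])])

/-- a candidate -/
def c41 : ℕ × ℕ × List Step :=
  (3369600, 65, [(0, 0, .ofNat 1, 0, [(.ofNat 1, 7), (.negSucc 0, 9), (.negSucc 0, 22), (.ofNat 1, 24), (.ofNat 1,
  25), (.negSucc 0, 28)])])

/-- a candidate -/
def c42 : ℕ × ℕ × List Step :=
  (4665600, 5, [(0, 0, .ofNat 81, 0, [(.negSucc 57, 6), (.ofNat 23, 7), (.negSucc 22, 9), (.negSucc 11, 16), (.ofNat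
  23, 18), (.ofNat 58, 21), (.negSucc 11, 22), (.ofNat 23, 25), (.ofNat 58, 27), (.negSucc 22, 28), (.ofNat 29,
  36)])])

/-- a candidate -/
def c43 : ℕ × ℕ × List Step :=
  (5225472, 7, [(0, 0, .ofNat 243, 0, [(.ofNat 121, 4), (.ofNat 71, 5), (.negSucc 120, 6), (.ofNat 51, 8), (.ofNat 7,
  11), (.negSucc 24, 16), (.ofNat 25, 22), (.negSucc 24, 24), (.ofNat 121, 27), (.ofNat 129, 28), (.ofNat 36, 29),
  (.ofNat 28, 36)])])

/-- a candidate -/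
def c44 : ℕ × ℕ × List Step :=
  (5529600, 5, [(0, 0, .ofNat 81, 0, [(.negSucc 62, 6), (.ofNat 18, 7), (.negSucc 17, 9), (.negSucc 17, 16), (.ofNat
  27, 18), (.ofNat 63, 21), (.ofNat 18, 25), (.ofNat 63, 27), (.negSucc 17, 28), (.ofNat 31, 36)])])

/-- a candidate -/
def c45 : ℕ × ℕ × List Step :=
  (5529600, 10, [(0, 0, .ofNat 81, 0, [(.negSucc 62, 6), (.ofNat 18, 7), (.negSucc 17, 9), (.negSucc 17, 16), (.ofNat
  27, 18), (.ofNat 63, 21), (.ofNat 18, 25), (.ofNat 63, 27), (.negSucc 17, 28), (.ofNat 31, 36)])])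

/-- a candidate -/
def c46 : ℕ × ℕ × List Step :=
  (5529600, 20, [(0, 0, .ofNat 1, 0, [(.ofNat 1, 7), (.negSucc 0, 9), (.negSucc 0, 22), (.ofNat 1, 24), (.ofNat 1,
  25), (.negSucc 0, 28)])])

/-- a candidate -/
def c47 : ℕ × ℕ × List Step :=
  (5529600, 40, [(0, 0, .ofNat 1, 0, [(.ofNat 1, 7), (.negSucc 0, 9), (.negSucc 0, 22), (.ofNat 1, 24), (.ofNat 1,
  25), (.negSucc 0, 28)])])

/-- a candidate -/
def c48 : ℕ × ℕ × List Step :=
  (5971968, 2, [(0, 0, .ofNat 27, 0, [(.negSucc 5, 2), (.negSucc 3, 3), (.ofNat 2, 4), (.negSucc 11, 6), (.ofNat 2,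
  7), (.negSucc 2, 30), (.negSucc 2, 35), (.ofNat 5, 36)])])

/-- a candidate -/
def c49 : ℕ × ℕ × List Step :=
  (7257600, 35, [(0, 0, .ofNat 0, 0, [(.ofNat 338, 2), (.negSucc 276, 7), (.negSucc 1310, 9), (.negSucc 874, 10),
  (.ofNat 667, 11), (.negSucc 878, 12), (.negSucc 106, 15), (.negSucc 1546, 16), (.negSucc 455, 17), (.ofNat 141,
  18), (.ofNat 141, 19), (.negSucc 196, 20), (.negSucc 1287, 22), (.negSucc 1873, 23), (.negSucc 1105, 24), (.negSucc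
  1270, 25), (.negSucc 2116, 26), (.negSucc 1306, 27), (.negSucc 2186, 28), (.negSucc 1560, 29), (.negSucc 846, 30),
  (.ofNat 71, 32), (.negSucc 565, 33), (.negSucc 401, 34), (.negSucc 18, 35), (.negSucc 652, 36)])])

/-- a candidate -/
def c50 : ℕ × ℕ × List Step :=
  (7257600, 175, [(0, 0, .ofNat 41, 0, [(.ofNat 40, 13), (.negSucc 39, 16), (.ofNat 40, 21), (.negSucc 80, 24),
  (.ofNat 41, 25), (.ofNat 41, 27), (.negSucc 39, 30), (.ofNat 20, 36)])])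

/-- a candidate -/
def c51 : ℕ × ℕ × List Step :=
  (8626176, 13, [(0, 0, .ofNat 243, 0, [(.ofNat 6, 2), (.ofNat 155, 4), (.ofNat 86, 5), (.negSucc 73, 6), (.ofNat 54,
  7), (.ofNat 23, 8), (.negSucc 64, 9), (.ofNat 17, 11), (.negSucc 12, 15), (.negSucc 87, 16), (.negSucc 108, 21),
  (.negSucc 7, 23), (.ofNat 8, 25), (.negSucc 16, 26), (.ofNat 76, 28), (.negSucc 3, 34)])])

/-- a candidate -/
def c52 : ℕ × ℕ × List Step :=
  (8626176, 26, [(0, 0, .ofNat 1, 0, [(.ofNat 1, 4), (.ofNat 1, 5), (.negSucc 0, 18), (.negSucc 0, 21), (.ofNat 1,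
  28)])])

/-- a candidate -/
def c53 : ℕ × ℕ × List Step :=
  (8957952, 3, [(0, 0, .ofNat 81, 0, [(.negSucc 2, 3), (.ofNat 31, 4), (.ofNat 28, 5), (.negSucc 49, 6), (.ofNat 17,
  7), (.negSucc 19, 9), (.negSucc 10, 13), (.negSucc 1, 15), (.negSucc 4, 16), (.negSucc 4, 22), (.ofNat 28, 27),
  (.ofNat 14, 28), (.ofNat 16, 36)])])

/-- a candidate -/
def c54 : ℕ × ℕ × List Step :=
  (8957952, 9, [(0, 0, .ofNat 81, 0, [(.negSucc 2, 3), (.ofNat 31, 4), (.ofNat 28, 5), (.negSucc 49, 6), (.ofNat 17,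
  7), (.negSucc 19, 9), (.negSucc 10, 13), (.negSucc 1, 15), (.negSucc 4, 16), (.negSucc 4, 22), (.ofNat 28, 27),
  (.ofNat 14, 28), (.ofNat 16, 36)])])

/-- a candidate -/
def c55 : ℕ × ℕ × List Step :=
  (12441600, 5, [(0, 0, .ofNat 3, 0, [(.negSucc 1, 6), (.ofNat 1, 7), (.negSucc 0, 9), (.negSucc 0, 16), (.ofNat 1,
  18), (.ofNat 2, 21), (.ofNat 1, 25), (.ofNat 2, 27), (.negSucc 0, 28), (.ofNat 1, 36)])])

/-- a candidate -/
def c56 : ℕ × ℕ × List Step :=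
  (17915904, 2, [(0, 0, .ofNat 27, 0, [(.ofNat 12, 4), (.negSucc 16, 6), (.ofNat 3, 7), (.ofNat 7, 8), (.negSucc 3,
  9), (.ofNat 2, 11), (.negSucc 3, 16), (.negSucc 3, 26), (.ofNat 11, 27), (.ofNat 8, 28), (.ofNat 1, 36)])])

/-- a candidate -/
def c57 : ℕ × ℕ × List Step :=
  (17915904, 4, [(0, 0, .ofNat 81, 0, [(.negSucc 0, 3), (.ofNat 40, 4), (.ofNat 24, 5), (.negSucc 46, 6), (.ofNat 1,
  7), (.ofNat 17, 8), (.negSucc 5, 13), (.ofNat 1, 15), (.negSucc 7, 16), (.ofNat 42, 27), (.ofNat 42, 28), (.ofNat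
  13, 29), (.ofNat 9, 36)])])

/-- a candidate -/
def c58 : ℕ × ℕ × List Step :=
  (17915904, 8, [(0, 0, .ofNat 81, 0, [(.ofNat 41, 4), (.ofNat 41, 5), (.negSucc 40, 6), (.negSucc 14, 16), (.negSucc
  24, 18), (.negSucc 14, 24), (.ofNat 40, 27), (.ofNat 40, 28), (.ofNat 20, 36)])])

/-- a candidate -/
def c59 : ℕ × ℕ × List Step :=
  (17915904, 16, [(0, 0, .ofNat 81, 0, [(.ofNat 41, 4), (.ofNat 41, 5), (.negSucc 40, 6), (.negSucc 14, 16),
  (.negSucc 24, 18), (.negSucc 14, 24), (.ofNat 40, 27), (.ofNat 40, 28), (.ofNat 20, 36)])])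

/-- candidates -/
def CL1 : List (ℕ × ℕ × List Step) :=
  [c30, c31, c32, c33, c34, c35, c36, c37, c38, c39, c40, c41, c42, c43, c44, c45, c46, c47, c48, c49, c50, c51, c52,
  c53, c54, c55, c56, c57, c58, c59]

theorem okC1 : okL TAB.Sz.dat (TAB.Sm2.mkRows TAB.Sz.rowA TAB.Sz.rowB) 2 P Z CL1 = true := by decide +kernel

/-- a candidate -/
def c60 : ℕ × ℕ × List Step :=
  (17915904, 32, [(0, 0, .ofNat 81, 0, [(.ofNat 41, 4), (.ofNat 41, 5), (.negSucc 40, 6), (.negSucc 14, 16),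
  (.negSucc 24, 18), (.negSucc 14, 24), (.ofNat 40, 27), (.ofNat 40, 28), (.ofNat 20, 36)])])

/-- a candidate -/
def c61 : ℕ × ℕ × List Step :=
  (17915904, 64, [(0, 0, .ofNat 81, 0, [(.ofNat 41, 4), (.ofNat 41, 5), (.negSucc 40, 6), (.negSucc 14, 16),
  (.negSucc 24, 18), (.negSucc 14, 24), (.ofNat 40, 27), (.ofNat 40, 28), (.ofNat 20, 36)])])

/-- a candidate -/
def c62 : ℕ × ℕ × List Step :=
  (27371520, 11, [(0, 0, .ofNat 81, 0, [(.ofNat 12, 2), (.ofNat 12, 4), (.negSucc 66, 6), (.ofNat 16, 7), (.negSucc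
  21, 9), (.negSucc 11, 11), (.negSucc 4, 13), (.negSucc 7, 14), (.ofNat 17, 15), (.negSucc 19, 18), (.ofNat 12, 19),
  (.ofNat 32, 21), (.negSucc 10, 22), (.ofNat 15, 25), (.ofNat 53, 27), (.negSucc 10, 30), (.ofNat 27, 36)])])

/-- a candidate -/
def c63 : ℕ × ℕ × List Step :=
  (27993600, 5, [(0, 0, .ofNat 3, 0, [(.negSucc 1, 6), (.ofNat 2, 7), (.negSucc 1, 9), (.ofNat 2, 21), (.negSucc 1,
  22), (.ofNat 2, 25), (.ofNat 2, 27), (.negSucc 1, 28), (.negSucc 1, 30), (.ofNat 1, 36)])])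

/-- a candidate -/
def c64 : ℕ × ℕ × List Step :=
  (41803776, 7, [(0, 0, .ofNat 9, 0, [(.ofNat 4, 4), (.ofNat 4, 5), (.negSucc 4, 6), (.ofNat 1, 7), (.negSucc 0, 9),
  (.negSucc 0, 13), (.negSucc 1, 18), (.ofNat 4, 27), (.ofNat 3, 28), (.ofNat 2, 36)])])

/-- a candidate -/
def c65 : ℕ × ℕ × List Step :=
  (41803776, 14, [(0, 0, .ofNat 9, 0, [(.ofNat 4, 4), (.ofNat 4, 5), (.negSucc 4, 6), (.ofNat 1, 7), (.negSucc 0, 9),
  (.negSucc 0, 13), (.negSucc 1, 18), (.ofNat 4, 27), (.ofNat 3, 28), (.ofNat 2, 36)])])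

/-- a candidate -/
def c66 : ℕ × ℕ × List Step :=
  (41803776, 28, [(0, 0, .ofNat 27, 0, [(.ofNat 13, 4), (.ofNat 13, 5), (.negSucc 12, 6), (.negSucc 2, 16), (.negSucc
  7, 18), (.ofNat 3, 22), (.negSucc 4, 24), (.ofNat 13, 27), (.ofNat 14, 28), (.ofNat 7, 36)])])

/-- a candidate -/
def c67 : ℕ × ℕ × List Step :=
  (49766400, 8, [(0, 0, .ofNat 9, 0, [(.ofNat 2, 2), (.negSucc 0, 3), (.ofNat 1, 4), (.negSucc 7, 6), (.ofNat 2, 7),
  (.negSucc 1, 9), (.negSucc 0, 13), (.negSucc 0, 14), (.ofNat 1, 15), (.negSucc 0, 16), (.negSucc 0, 18), (.ofNat 2,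
  19), (.ofNat 5, 21), (.negSucc 0, 22), (.ofNat 6, 27), (.ofNat 3, 36)])])

/-- a candidate -/
def c68 : ℕ × ℕ × List Step :=
  (49766400, 16, [(0, 0, .ofNat 9, 0, [(.ofNat 2, 2), (.negSucc 0, 3), (.ofNat 1, 4), (.negSucc 7, 6), (.ofNat 2, 7),
  (.negSucc 1, 9), (.negSucc 0, 13), (.negSucc 0, 14), (.ofNat 1, 15), (.negSucc 0, 16), (.negSucc 0, 18), (.ofNat 2,
  19), (.ofNat 5, 21), (.negSucc 0, 22), (.ofNat 6, 27), (.ofNat 3, 36)])])

/-- a candidate -/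
def c69 : ℕ × ℕ × List Step :=
  (58060800, 7, [(0, 0, .ofNat 26, 0, [(.ofNat 1, 1), (.ofNat 6, 2), (.negSucc 1, 3), (.ofNat 2, 4), (.negSucc 26,
  6), (.negSucc 2, 9), (.negSucc 0, 10), (.ofNat 5, 15), (.negSucc 4, 16), (.ofNat 6, 19), (.ofNat 16, 21), (.negSucc
  4, 24), (.ofNat 21, 27), (.ofNat 5, 28), (.negSucc 0, 31), (.ofNat 10, 36)])])

/-- a candidate -/
def c70 : ℕ × ℕ × List Step :=
  (74649600, 5, [(0, 0, .ofNat 3, 0, [(.negSucc 1, 6), (.ofNat 2, 7), (.negSucc 1, 9), (.ofNat 2, 21), (.negSucc 1,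
  22), (.ofNat 2, 25), (.ofNat 2, 27), (.negSucc 1, 28), (.negSucc 1, 30), (.ofNat 1, 36)])])

/-- a candidate -/
def c71 : ℕ × ℕ × List Step :=
  (78382080, 7, [(0, 0, .ofNat 81, 0, [(.ofNat 4, 1), (.ofNat 17, 2), (.ofNat 9, 4), (.ofNat 3, 5), (.negSucc 75, 6),
  (.negSucc 9, 9), (.negSucc 0, 10), (.negSucc 10, 14), (.ofNat 18, 15), (.negSucc 12, 16), (.negSucc 12, 18),
  (.ofNat 17, 19), (.ofNat 43, 21), (.negSucc 12, 24), (.ofNat 63, 27), (.ofNat 14, 28), (.negSucc 0, 32), (.ofNat 1,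
  35), (.ofNat 31, 36)])])

/-- a candidate -/
def c72 : ℕ × ℕ × List Step :=
  (89579520, 3, [(0, 0, .ofNat 81, 0, [(.ofNat 18, 2), (.negSucc 2, 3), (.ofNat 13, 4), (.negSucc 66, 6), (.ofNat 14,
  7), (.negSucc 18, 9), (.negSucc 2, 10), (.negSucc 7, 13), (.negSucc 6, 14), (.ofNat 16, 15), (.negSucc 5, 16),
  (.negSucc 16, 18), (.ofNat 18, 19), (.ofNat 34, 21), (.negSucc 5, 22), (.negSucc 2, 23), (.ofNat 47, 27), (.ofNat
  2, 33), (.ofNat 23, 36)])])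

/-- a candidate -/
def c73 : ℕ × ℕ × List Step :=
  (89579520, 4, [(0, 0, .ofNat 81, 0, [(.ofNat 18, 2), (.negSucc 2, 3), (.ofNat 13, 4), (.negSucc 66, 6), (.ofNat 14,
  7), (.negSucc 18, 9), (.negSucc 2, 10), (.negSucc 8, 13), (.negSucc 6, 14), (.ofNat 17, 15), (.negSucc 4, 16),
  (.negSucc 17, 18), (.ofNat 18, 19), (.ofNat 34, 21), (.negSucc 4, 22), (.negSucc 3, 23), (.ofNat 47, 27), (.ofNat
  2, 33), (.ofNat 23, 36)])])

/-- a candidate -/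
def c74 : ℕ × ℕ × List Step :=
  (89579520, 6, [(0, 0, .ofNat 81, 0, [(.ofNat 18, 2), (.negSucc 2, 3), (.ofNat 13, 4), (.negSucc 66, 6), (.ofNat 14,
  7), (.negSucc 18, 9), (.negSucc 2, 10), (.negSucc 7, 13), (.negSucc 6, 14), (.ofNat 16, 15), (.negSucc 5, 16),
  (.negSucc 16, 18), (.ofNat 18, 19), (.ofNat 34, 21), (.negSucc 5, 22), (.negSucc 2, 23), (.ofNat 47, 27), (.ofNat
  2, 33), (.ofNat 23, 36)])])

/-- a candidate -/
def c75 : ℕ × ℕ × List Step :=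
  (89579520, 9, [(0, 0, .ofNat 81, 0, [(.ofNat 18, 2), (.negSucc 2, 3), (.ofNat 13, 4), (.negSucc 66, 6), (.ofNat 14,
  7), (.negSucc 18, 9), (.negSucc 2, 10), (.negSucc 7, 13), (.negSucc 6, 14), (.ofNat 16, 15), (.negSucc 5, 16),
  (.negSucc 16, 18), (.ofNat 18, 19), (.ofNat 34, 21), (.negSucc 5, 22), (.negSucc 2, 23), (.ofNat 47, 27), (.ofNat
  2, 33), (.ofNat 23, 36)])])

/-- a candidate -/
def c76 : ℕ × ℕ × List Step :=
  (89579520, 12, [(0, 0, .ofNat 27, 0, [(.ofNat 6, 2), (.ofNat 5, 4), (.negSucc 23, 6), (.ofNat 5, 7), (.negSucc 6,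
  9), (.negSucc 0, 11), (.negSucc 3, 13), (.negSucc 1, 14), (.ofNat 5, 15), (.negSucc 0, 16), (.negSucc 7, 18),
  (.ofNat 6, 19), (.ofNat 1, 20), (.ofNat 12, 21), (.negSucc 0, 22), (.ofNat 15, 27), (.ofNat 1, 33), (.ofNat 8,
  36)])])

/-- a candidate -/
def c77 : ℕ × ℕ × List Step :=
  (89579520, 18, [(0, 0, .ofNat 3, 0, [(.negSucc 1, 6), (.ofNat 2, 7), (.negSucc 1, 9), (.ofNat 2, 21), (.negSucc 1,
  22), (.ofNat 2, 25), (.ofNat 2, 27), (.negSucc 1, 28), (.negSucc 1, 30), (.ofNat 1, 36)])])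

/-- a candidate -/
def c78 : ℕ × ℕ × List Step :=
  (89579520, 36, [(0, 0, .ofNat 3, 0, [(.negSucc 1, 6), (.ofNat 2, 7), (.negSucc 1, 9), (.ofNat 2, 21), (.negSucc 1,
  22), (.ofNat 2, 25), (.ofNat 2, 27), (.negSucc 1, 28), (.negSucc 1, 30), (.ofNat 1, 36)])])

/-- a candidate -/
def c79 : ℕ × ℕ × List Step :=
  (90979200, 13, [(0, 0, .ofNat 3, 0, [(.ofNat 2, 2), (.negSucc 0, 3), (.ofNat 1, 4), (.ofNat 1, 7), (.ofNat 1, 8),
  (.negSucc 0, 9), (.negSucc 0, 10), (.negSucc 0, 14), (.ofNat 1, 15), (.negSucc 0, 16), (.ofNat 1, 19), (.negSucc 0,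
  21), (.negSucc 0, 22), (.negSucc 0, 23), (.ofNat 1, 24), (.ofNat 1, 30)])])

/-- a candidate -/
def c80 : ℕ × ℕ × List Step :=
  (97977600, 75, [(0, 0, .ofNat 27, 0, [(.negSucc 26, 6), (.ofNat 27, 21), (.negSucc 26, 24), (.ofNat 27, 27),
  (.negSucc 26, 30), (.ofNat 13, 36)])])

/-- a candidate -/
def c81 : ℕ × ℕ × List Step :=
  (149299200, 2, [(0, 0, .ofNat 9, 0, [(.ofNat 2, 2), (.negSucc 0, 3), (.ofNat 1, 4), (.negSucc 7, 6), (.ofNat 1, 7),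
  (.negSucc 1, 9), (.negSucc 0, 13), (.negSucc 0, 14), (.ofNat 1, 15), (.negSucc 0, 16), (.ofNat 2, 19), (.ofNat 5,
  21), (.negSucc 0, 22), (.ofNat 6, 27), (.ofNat 3, 36)])])

/-- a candidate -/
def c82 : ℕ × ℕ × List Step :=
  (209018880, 32, [(0, 0, .ofNat 27, 0, [(.negSucc 26, 6), (.ofNat 27, 21), (.negSucc 26, 24), (.ofNat 27, 27),
  (.negSucc 26, 30), (.ofNat 13, 36)])])

/-- a candidate -/
def c83 : ℕ × ℕ × List Step :=
  (223948800, 3, [(0, 0, .ofNat 9, 0, [(.ofNat 2, 2), (.negSucc 0, 3), (.ofNat 1, 4), (.negSucc 7, 6), (.ofNat 1, 7),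
  (.negSucc 1, 9), (.negSucc 0, 13), (.negSucc 0, 14), (.ofNat 1, 15), (.negSucc 0, 16), (.ofNat 2, 19), (.ofNat 5,
  21), (.negSucc 0, 22), (.ofNat 6, 27), (.ofNat 3, 36)])])

/-- a candidate -/
def c84 : ℕ × ℕ × List Step :=
  (232906752, 13, [(0, 0, .ofNat 1, 0, [(.ofNat 1, 4), (.ofNat 1, 5), (.negSucc 0, 18), (.negSucc 0, 21), (.ofNat 1,
  28)])])

/-- a candidate -/
def c85 : ℕ × ℕ × List Step :=
  (232906752, 26, [(0, 0, .ofNat 1, 0, [(.ofNat 1, 4), (.ofNat 1, 5), (.negSucc 0, 18), (.negSucc 0, 21), (.ofNat 1,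
  28)])])

/-- a candidate -/
def c86 : ℕ × ℕ × List Step :=
  (232906752, 52, [(0, 0, .ofNat 1, 0, [(.ofNat 1, 4), (.ofNat 1, 5), (.negSucc 0, 18), (.negSucc 0, 21), (.ofNat 1,
  28)])])

/-- a candidate -/
def c87 : ℕ × ℕ × List Step :=
  (261273600, 7, [(0, 0, .ofNat 27, 0, [(.negSucc 26, 6), (.ofNat 27, 21), (.negSucc 26, 24), (.ofNat 27, 27),
  (.negSucc 26, 30), (.ofNat 13, 36)])])

/-- a candidate -/
def c88 : ℕ × ℕ × List Step :=
  (261273600, 35, [(0, 0, .ofNat 27, 0, [(.negSucc 26, 6), (.ofNat 27, 21), (.negSucc 26, 24), (.ofNat 27, 27),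
  (.negSucc 26, 30), (.ofNat 13, 36)])])

/-- a candidate -/
def c89 : ℕ × ℕ × List Step :=
  (328458240, 11, [(0, 0, .ofNat 3, 0, [(.negSucc 1, 6), (.ofNat 2, 7), (.negSucc 1, 9), (.ofNat 2, 21), (.negSucc 1,
  22), (.ofNat 2, 25), (.ofNat 2, 27), (.negSucc 1, 28), (.negSucc 1, 30), (.ofNat 1, 36)])])

/-- candidates -/
def CL2 : List (ℕ × ℕ × List Step) :=
  [c60, c61, c62, c63, c64, c65, c66, c67, c68, c69, c70, c71, c72, c73, c74, c75, c76, c77, c78, c79, c80, c81, c82,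
  c83, c84, c85, c86, c87, c88, c89]

theorem okC2 : okL TAB.Sz.dat (TAB.Sm2.mkRows TAB.Sz.rowA TAB.Sz.rowB) 2 P Z CL2 = true := by decide +kernel

/-- a candidate -/
def c90 : ℕ × ℕ × List Step :=
  (328458240, 22, [(0, 0, .ofNat 3, 0, [(.negSucc 1, 6), (.ofNat 2, 7), (.negSucc 1, 9), (.ofNat 2, 21), (.negSucc 1,
  22), (.ofNat 2, 25), (.ofNat 2, 27), (.negSucc 1, 28), (.negSucc 1, 30), (.ofNat 1, 36)])])

/-- a candidate -/
def c91 : ℕ × ℕ × List Step :=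
  (328458240, 44, [(0, 0, .ofNat 3, 0, [(.negSucc 1, 6), (.ofNat 2, 7), (.negSucc 1, 9), (.ofNat 2, 21), (.negSucc 1,
  22), (.ofNat 2, 25), (.ofNat 2, 27), (.negSucc 1, 28), (.negSucc 1, 30), (.ofNat 1, 36)])])

/-- a candidate -/
def c92 : ℕ × ℕ × List Step :=
  (447897600, 2, [(0, 0, .ofNat 9, 0, [(.ofNat 2, 2), (.negSucc 0, 3), (.ofNat 1, 4), (.negSucc 7, 6), (.ofNat 1, 7),
  (.negSucc 1, 9), (.negSucc 0, 13), (.negSucc 0, 14), (.ofNat 1, 15), (.negSucc 0, 16), (.ofNat 2, 19), (.ofNat 5,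
  21), (.negSucc 0, 22), (.ofNat 6, 27), (.ofNat 3, 36)])])

/-- a candidate -/
def c93 : ℕ × ℕ × List Step :=
  (447897600, 4, [(0, 0, .ofNat 3, 0, [(.negSucc 1, 6), (.ofNat 2, 7), (.negSucc 1, 9), (.ofNat 2, 21), (.negSucc 1,
  22), (.ofNat 2, 25), (.ofNat 2, 27), (.negSucc 1, 28), (.negSucc 1, 30), (.ofNat 1, 36)])])

/-- a candidate -/
def c94 : ℕ × ℕ × List Step :=
  (447897600, 5, [(0, 0, .ofNat 3, 0, [(.negSucc 1, 6), (.ofNat 2, 7), (.negSucc 1, 9), (.ofNat 2, 21), (.negSucc 1,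
  22), (.ofNat 2, 25), (.ofNat 2, 27), (.negSucc 1, 28), (.negSucc 1, 30), (.ofNat 1, 36)])])

/-- a candidate -/
def c95 : ℕ × ℕ × List Step :=
  (447897600, 8, [(0, 0, .ofNat 3, 0, [(.negSucc 1, 6), (.ofNat 2, 7), (.negSucc 1, 9), (.ofNat 2, 21), (.negSucc 1,
  22), (.ofNat 2, 25), (.ofNat 2, 27), (.negSucc 1, 28), (.negSucc 1, 30), (.ofNat 1, 36)])])

/-- a candidate -/
def c96 : ℕ × ℕ × List Step :=
  (447897600, 10, [(0, 0, .ofNat 3, 0, [(.negSucc 1, 6), (.ofNat 2, 7), (.negSucc 1, 9), (.ofNat 2, 21), (.negSucc 1,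
  22), (.ofNat 2, 25), (.ofNat 2, 27), (.negSucc 1, 28), (.negSucc 1, 30), (.ofNat 1, 36)])])

/-- a candidate -/
def c97 : ℕ × ℕ × List Step :=
  (447897600, 20, [(0, 0, .ofNat 3, 0, [(.negSucc 1, 6), (.ofNat 2, 7), (.negSucc 1, 9), (.ofNat 2, 21), (.negSucc 1,
  22), (.ofNat 2, 25), (.ofNat 2, 27), (.negSucc 1, 28), (.negSucc 1, 30), (.ofNat 1, 36)])])

/-- a candidate -/
def c98 : ℕ × ℕ × List Step :=
  (447897600, 25, [(0, 0, .ofNat 9, 0, [(.ofNat 1, 4), (.negSucc 8, 6), (.ofNat 1, 7), (.negSucc 0, 9), (.negSucc 0,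
  13), (.ofNat 1, 18), (.ofNat 6, 21), (.ofNat 7, 27), (.ofNat 4, 36)])])

/-- a candidate -/
def c99 : ℕ × ℕ × List Step :=
  (447897600, 40, [(0, 0, .ofNat 3, 0, [(.negSucc 1, 6), (.ofNat 2, 7), (.negSucc 1, 9), (.ofNat 2, 21), (.negSucc 1,
  22), (.ofNat 2, 25), (.ofNat 2, 27), (.negSucc 1, 28), (.negSucc 1, 30), (.ofNat 1, 36)])])

/-- a candidate -/
def c100 : ℕ × ℕ × List Step :=
  (447897600, 50, [(0, 0, .ofNat 9, 0, [(.ofNat 1, 4), (.negSucc 8, 6), (.ofNat 1, 7), (.negSucc 0, 9), (.negSucc 0,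
  13), (.ofNat 1, 18), (.ofNat 6, 21), (.ofNat 7, 27), (.ofNat 4, 36)])])

/-- a candidate -/
def c101 : ℕ × ℕ × List Step :=
  (447897600, 100, [(0, 0, .ofNat 7, 0, [(.negSucc 0, 3), (.negSucc 8, 6), (.ofNat 1, 7), (.negSucc 1, 13), (.ofNat
  1, 15), (.ofNat 2, 18), (.ofNat 7, 21), (.ofNat 8, 27), (.ofNat 3, 36)])])

/-- a candidate -/
def c102 : ℕ × ℕ × List Step :=
  (447897600, 200, [(0, 0, .ofNat 9, 0, [(.negSucc 8, 6), (.negSucc 2, 16), (.ofNat 3, 18), (.ofNat 9, 21), (.negSucc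
  2, 24), (.ofNat 9, 27), (.ofNat 5, 36)])])

/-- a candidate -/
def c103 : ℕ × ℕ × List Step :=
  (479001600, 55, [(0, 0, .ofNat 27, 0, [(.negSucc 26, 6), (.ofNat 27, 21), (.negSucc 26, 24), (.ofNat 27, 27),
  (.negSucc 26, 30), (.ofNat 13, 36)])])

/-- a candidate -/
def c104 : ℕ × ℕ × List Step :=
  (485222400, 13, [(0, 0, .ofNat 1, 0, [(.ofNat 1, 7), (.negSucc 0, 9), (.negSucc 0, 22), (.ofNat 1, 24), (.ofNat 1,
  25), (.negSucc 0, 28)])])

/-- a candidate -/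
def c105 : ℕ × ℕ × List Step :=
  (627056640, 7, [(0, 0, .ofNat 27, 0, [(.negSucc 26, 6), (.ofNat 27, 21), (.negSucc 26, 24), (.ofNat 27, 27),
  (.negSucc 26, 30), (.ofNat 13, 36)])])

/-- a candidate -/
def c106 : ℕ × ℕ × List Step :=
  (627056640, 14, [(0, 0, .ofNat 27, 0, [(.negSucc 26, 6), (.ofNat 27, 21), (.negSucc 26, 24), (.ofNat 27, 27),
  (.negSucc 26, 30), (.ofNat 13, 36)])])

/-- a candidate -/
def c107 : ℕ × ℕ × List Step :=
  (627056640, 21, [(0, 0, .ofNat 27, 0, [(.negSucc 26, 6), (.ofNat 27, 21), (.negSucc 26, 24), (.ofNat 27, 27),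
  (.negSucc 26, 30), (.ofNat 13, 36)])])

/-- a candidate -/
def c108 : ℕ × ℕ × List Step :=
  (627056640, 42, [(0, 0, .ofNat 27, 0, [(.negSucc 26, 6), (.ofNat 27, 21), (.negSucc 26, 24), (.ofNat 27, 27),
  (.negSucc 26, 30), (.ofNat 13, 36)])])

/-- a candidate -/
def c109 : ℕ × ℕ × List Step :=
  (1567641600, 5, [(0, 0, .ofNat 9, 0, [(.negSucc 8, 6), (.ofNat 9, 21), (.negSucc 8, 24), (.ofNat 9, 27), (.negSucc
  8, 30), (.ofNat 4, 36)])])

/-- a candidate -/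
def c110 : ℕ × ℕ × List Step :=
  (1567641600, 15, [(0, 0, .ofNat 9, 0, [(.negSucc 8, 6), (.ofNat 9, 21), (.negSucc 8, 24), (.ofNat 9, 27), (.negSucc
  8, 30), (.ofNat 4, 36)])])

/-- a candidate -/
def c111 : ℕ × ℕ × List Step :=
  (3135283200, 2, [(0, 0, .ofNat 9, 0, [(.negSucc 8, 6), (.ofNat 9, 21), (.negSucc 8, 24), (.ofNat 9, 27), (.negSucc
  8, 30), (.ofNat 4, 36)])])

/-- a candidate -/
def c112 : ℕ × ℕ × List Step :=
  (6793113600, 13, [(0, 0, .ofNat 1, 0, [(.ofNat 1, 2), (.negSucc 0, 3), (.negSucc 0, 10), (.ofNat 1, 11), (.negSucc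
  0, 16), (.ofNat 1, 18), (.ofNat 1, 19), (.negSucc 0, 23), (.negSucc 0, 25), (.ofNat 1, 30)])])

/-- candidates -/
def CL3 : List (ℕ × ℕ × List Step) :=
  [c90, c91, c92, c93, c94, c95, c96, c97, c98, c99, c100, c101, c102, c103, c104, c105, c106, c107, c108, c109,
  c110, c111, c112]

theorem okC3 : okL TAB.Sz.dat (TAB.Sm2.mkRows TAB.Sz.rowA TAB.Sz.rowB) 2 P Z CL3 = true := by decide +kernel

theorem okB : ∀ ld ∈ big, bigE E ld = true :=
  fa_nil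

theorem okA : ∀ a ∈ divsT [], allA (leaf E) [(13, 1), (11, 1), (7, 1), (5, 2), (3, 7), (2, 13)] a = true := by
  rw [show divsT [] = [1] by decide +kernel]
  exact fa_cons okA0 <| fa_nil

/-- the pairs -/
def pj (L : List (ℕ × ℕ × List Step)) : List (ℕ × ℕ) := L.map fun x => (x.1, x.2.1)

theorem okC : ∀ x ∈ E.SV, ∃ CL, okL TAB.Sz.dat (TAB.Sm2.mkRows TAB.Sz.rowA TAB.Sz.rowB) E.j E.P E.Z CL = true ∧ x ∈ pj CL := by
  rw [show E.SV = [pj CL0, pj CL1, pj CL2, pj CL3].flatten by decide +kernel]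
  exact forall_flatten <| fa_cons (fun _ h => ⟨_, okC0, h⟩) <| fa_cons (fun _ h => ⟨_, okC1, h⟩) <| fa_cons (fun _ h => ⟨_, okC2, h⟩) <| fa_cons (fun _ h => ⟨_, okC3, h⟩) <|
    fa_nil

/-- **no configuration** -/
theorem noW {K : Type} [Group K] [Finite K] (h : In K TAB.Sz.dat (TAB.Sm2.mkRows TAB.Sz.rowA TAB.Sz.rowB)) : NoW K 2 :=
  noW_of (E := E) boxCH h.inC ok1 (H940.Eng.D.ords_suz base)
    (fun ld h => ⟨List.mem_append_left _ h, okB ld h⟩) (by decide +kernel) okA okC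

end Cfsg.Agent.TH.Spor.NSuz
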