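import Cfsg.Agent.TH.Spor.EngC
import Cfsg.Agent.TH.Spor.CH
import Cfsg.Agent.TAB.Th.Tab

/-!
# S3541, sporadic rows: Th (helper26; generated by notes/TH/spor26/gen.py.txt)
-/

set_option autoImplicit false
set_option Elab.async false

namespace Cfsg.Agent.TH.Spor.NTh

open Cfsg Cfsg.Agent.TAB.Eng Cfsg.Agent.H940.Eng

/-- the types of prime order -/
def P : St :=
  [(31, [(35, 5854577025024000, 0)]), (19, [(26, 4776102309888000, 0)]), (13, [(21, 2326819074048000, 0)]), (7, [(11,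
  77164918272000, 0)]), (5, [(7, 30248647962624, 0)]), (3, [(2, 7124544000, 0), (3, 192098816000, 0), (4,
  518666803200, 0)]), (2, [(1, 976841775, 0)])]

/-- the types -/
def Z : List Ze :=
  [(1, 2, 976841775, [1]), (2, 3, 7124544000, [2]), (3, 3, 192098816000, [3]), (4, 3, 518666803200, [4]), (5, 4,
  234442026000, [1]), (6, 4, 11815878110400, [1]), (7, 5, 30248647962624, [7]), (8, 6, 42012011059200, [4, 1]), (9,
  6, 52515013824000, [2, 1]), (10, 6, 140040036864000, [3, 1]), (11, 7, 77164918272000, [11]), (12, 8,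
  236317562208000, [1]), (13, 8, 945270248832000, [1]), (14, 9, 15560004096000, [3]), (15, 9, 124480032768000, [3]),
  (16, 9, 560160147456000, [3]), (17, 10, 756216199065600, [7, 1]), (18, 12, 630180165888000, [2, 1]), (19, 12,
  840240221184000, [3, 1]), (20, 12, 3781080995328000, [4, 1]), (21, 13, 2326819074048000, [21]), (22, 14,
  1620463283712000, [11, 1]), (23, 15, 6049729592524800, [7, 4]), (24, 18, 1260360331776000, [3, 1]), (25, 18,
  5041441327104000, [3, 1]), (26, 19, 4776102309888000, [26]), (27, 20, 4537297194393600, [7, 1]), (28, 21,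
  4321235423232000, [11, 2]), (29, 24, 7562161990656000, [2, 1]), (30, 24, 7562161990656000, [4, 1]), (31, 27,
  3360960884736000, [3]), (32, 27, 6721921769472000, [3]), (33, 28, 3240926567424000, [11, 1]), (34, 30,
  6049729592524800, [7, 4, 1]), (35, 31, 5854577025024000, [35]), (36, 36, 2520720663552000, [3, 1]), (37, 36,
  5041441327104000, [3, 1]), (38, 39, 4653638148096000, [21, 2])]

/-- local data, large primes -/
def big : List LD :=
  [⟨31, 31, [(3, 1), (5, 1), (31, 1)]⟩, ⟨19, 19, [(2, 1), (3, 2), (19, 1)]⟩]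

/-- local data, the other primes -/
def sm : List LD :=
  [⟨13, 117, [(2, 2), (3, 2), (13, 1)]⟩]

/-- the candidates -/
def SV : List (ℕ × ℕ) :=
  [(32768, 2), (32768, 4), (49128768, 39), (130056192, 98), (130056192, 196), (185177664, 21), (241864704, 9),
  (241864704, 27), (329204736, 49), (559872000, 25), (602112000, 35), (602112000, 70), (602112000, 245), (602112000,
  490), (967458816, 3), (1397440512, 13), (1481421312, 7), (1492992000, 5), (1934917632, 4), (2633637888, 7),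
  (3359232000, 5), (6858432000, 35), (7558272000, 5), (7558272000, 25), (8957952000, 5), (8957952000, 10),
  (11851370496, 7), (11851370496, 21), (20155392000, 5), (94810963968, 7), (94810963968, 14), (94810963968, 28),
  (120932352000, 5), (241864704000, 162), (241864704000, 216), (241864704000, 243), (241864704000, 324),
  (241864704000, 486), (241864704000, 648), (241864704000, 972), (241864704000, 1944), (246903552000, 35),
  (474054819840, 192), (11851370496000, 8), (11851370496000, 12), (11851370496000, 24)]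

/-- the data -/
def E : En :=
  ⟨90745943887872000, 2, P, Z, [(31, 1), (19, 1), (13, 1), (7, 2), (5, 3), (3, 10), (2, 15)], H940.Eng.D.o_th, big ++
  sm, SV⟩

theorem ok1 : okEn TAB.Th.D (TAB.Sm2.mkRows TAB.Th.rowA TAB.Th.rowB) [] E = true := by decide +kernel

theorem okA0 : allA (leaf E) [(13, 1), (7, 2), (5, 3), (3, 10), (2, 15)] 1 = true := by decide +kernel

theorem okB31 : bigE E ⟨31, 31, [(3, 1), (5, 1), (31, 1)]⟩ = true := by
  decide +kernel

theorem okB19 : bigE E ⟨19, 19, [(2, 1), (3, 2), (19, 1)]⟩ = true := by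
  decide +kernel

/-- a candidate -/
def c0 : ℕ × ℕ × List Step :=
  (32768, 2, [(0, 0, .ofNat 0, 0, [(.negSucc 0, 19)])])

/-- a candidate -/
def c1 : ℕ × ℕ × List Step :=
  (32768, 4, [(0, 0, .ofNat 0, 0, [(.negSucc 0, 19)])])

/-- a candidate -/
def c2 : ℕ × ℕ × List Step :=
  (49128768, 39, [(0, 0, .negSucc 81, 0, [(.negSucc 26, 10), (.negSucc 208, 12), (.negSucc 40, 15), (.negSucc 52,
  16), (.negSucc 20, 19), (.negSucc 15, 22), (.negSucc 88, 26), (.negSucc 27, 27), (.negSucc 88, 28), (.negSucc 242,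
  29), (.ofNat 6, 31), (.negSucc 14, 33), (.ofNat 22, 37)])])

/-- a candidate -/
def c3 : ℕ × ℕ × List Step :=
  (130056192, 98, [(0, 0, .ofNat 0, 0, [(.negSucc 0, 35)])])

/-- a candidate -/
def c4 : ℕ × ℕ × List Step :=
  (130056192, 196, [(0, 0, .ofNat 0, 0, [(.negSucc 0, 35)])])

/-- a candidate -/
def c5 : ℕ × ℕ × List Step :=
  (185177664, 21, [(0, 0, .negSucc 40, 0, [(.negSucc 38, 10), (.negSucc 147, 12), (.negSucc 36, 13), (.negSucc 3,
  14), (.negSucc 91, 15), (.negSucc 34, 16), (.ofNat 34, 17), (.negSucc 38, 18), (.negSucc 6, 19), (.negSucc 3, 22),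
  (.negSucc 25, 26), (.negSucc 76, 27), (.negSucc 132, 28), (.negSucc 242, 29), (.ofNat 48, 31), (.negSucc 23, 33),
  (.negSucc 6, 35)])])

/-- a candidate -/
def c6 : ℕ × ℕ × List Step :=
  (241864704, 9, [(0, 0, .negSucc 2785137, 1, [(.ofNat 1168611, 6), (.negSucc 1164755, 8), (.negSucc 2784985, 15),
  (.ofNat 400539, 17), (.negSucc 493858, 21), (.negSucc 648131, 22), (.ofNat 2341344, 24), (.negSucc 682562, 25),
  (.negSucc 1220161, 26), (.ofNat 14348907, 32), (.ofNat 740138, 33), (.negSucc 353178, 38)])])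

/-- a candidate -/
def c7 : ℕ × ℕ × List Step :=
  (241864704, 27, [(0, 0, .ofNat 0, 0, [(.negSucc 2186, 12), (.ofNat 957, 24), (.negSucc 1229, 26), (.negSucc 1366,
  29), (.ofNat 137, 32)])])

/-- a candidate -/
def c8 : ℕ × ℕ × List Step :=
  (329204736, 49, [(0, 0, .ofNat 0, 0, [(.negSucc 0, 35)])])

/-- a candidate -/
def c9 : ℕ × ℕ × List Step :=
  (559872000, 25, [(0, 0, .ofNat 729, 0, [(.ofNat 298, 3), (.ofNat 220, 12), (.negSucc 33, 13), (.ofNat 8, 17),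
  (.negSucc 275, 18), (.negSucc 129, 21), (.negSucc 211, 23), (.ofNat 104, 24), (.negSucc 63, 26), (.negSucc 18, 28),
  (.negSucc 15, 32)])])

/-- a candidate -/
def c10 : ℕ × ℕ × List Step :=
  (602112000, 35, [(0, 0, .ofNat 27, 0, [(.negSucc 26, 5), (.ofNat 27, 6), (.negSucc 12, 31)])])

/-- a candidate -/
def c11 : ℕ × ℕ × List Step :=
  (602112000, 70, [(0, 0, .ofNat 27, 0, [(.negSucc 26, 5), (.ofNat 27, 6), (.negSucc 12, 31)])])

/-- a candidate -/
def c12 : ℕ × ℕ × List Step :=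
  (602112000, 245, [(0, 0, .ofNat 0, 0, [(.negSucc 0, 35)])])

/-- a candidate -/
def c13 : ℕ × ℕ × List Step :=
  (602112000, 490, [(0, 0, .ofNat 13, 0, [(.negSucc 52, 5), (.negSucc 6, 14), (.negSucc 6, 15), (.negSucc 71, 16),
  (.ofNat 7, 24), (.negSucc 2186, 35), (.negSucc 38, 37)])])

/-- a candidate -/
def c14 : ℕ × ℕ × List Step :=
  (967458816, 3, [(0, 0, .negSucc 2407057, 1, [(.ofNat 68858, 3), (.ofNat 62903, 5), (.ofNat 1573499, 6), (.negSucc
  924574, 8), (.negSucc 320302, 9), (.negSucc 1971785, 10), (.negSucc 2480631, 15), (.ofNat 1353242, 17), (.negSucc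
  649731, 18), (.negSucc 31855, 22), (.ofNat 5048951, 24), (.ofNat 14348907, 32)])])

/-- a candidate -/
def c15 : ℕ × ℕ × List Step :=
  (1397440512, 13, [(0, 0, .ofNat 0, 0, [(.negSucc 1, 18), (.negSucc 0, 25), (.ofNat 27, 35)])])

/-- a candidate -/
def c16 : ℕ × ℕ × List Step :=
  (1481421312, 7, [(0, 0, .ofNat 27, 0, [(.ofNat 2, 6), (.ofNat 2, 7), (.negSucc 4, 10), (.negSucc 3, 15), (.ofNat 9,
  17), (.ofNat 3, 22), (.ofNat 5, 24), (.negSucc 1, 26), (.negSucc 8, 30), (.ofNat 4, 36)])])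

/-- a candidate -/
def c17 : ℕ × ℕ × List Step :=
  (1492992000, 5, [(0, 0, .ofNat 9, 0, [(.ofNat 4, 3), (.negSucc 6, 5), (.ofNat 2, 12), (.negSucc 0, 13), (.negSucc
  0, 16), (.negSucc 0, 18), (.negSucc 0, 23), (.ofNat 1, 24)])])

/-- a candidate -/
def c18 : ℕ × ℕ × List Step :=
  (1934917632, 4, [(0, 0, .ofNat 27, 0, [(.negSucc 12, 10), (.negSucc 3, 15), (.ofNat 7, 24), (.negSucc 1, 26)])])

/-- a candidate -/
def c19 : ℕ × ℕ × List Step :=
  (2633637888, 7, [(0, 0, .ofNat 9, 0, [(.negSucc 3, 5), (.ofNat 3, 6), (.ofNat 2, 7), (.negSucc 3, 10), (.negSucc 0,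
  15), (.ofNat 1, 24), (.negSucc 0, 26), (.negSucc 2, 30)])])

/-- a candidate -/
def c20 : ℕ × ℕ × List Step :=
  (3359232000, 5, [(0, 0, .ofNat 27, 0, [(.ofNat 5, 12), (.negSucc 6, 13), (.negSucc 0, 14), (.negSucc 4, 16),
  (.ofNat 8, 17), (.negSucc 0, 18), (.negSucc 1, 21), (.negSucc 3, 23), (.ofNat 6, 24), (.negSucc 0, 31), (.negSucc
  1, 32)])])

/-- a candidate -/
def c21 : ℕ × ℕ × List Step :=
  (6858432000, 35, [(0, 0, .ofNat 243, 0, [(.ofNat 130, 1), (.negSucc 80, 4), (.ofNat 37, 5), (.ofNat 57, 7), (.ofNat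
  52, 10), (.negSucc 60, 11), (.negSucc 128, 13), (.negSucc 121, 14), (.ofNat 52, 17), (.negSucc 19, 18), (.ofNat 13,
  20), (.negSucc 15, 21), (.negSucc 48, 23), (.ofNat 140, 24), (.ofNat 1, 25), (.ofNat 18, 26), (.negSucc 29, 28),
  (.negSucc 72, 30), (.negSucc 54, 32), (.negSucc 3, 33), (.negSucc 71, 34), (.negSucc 109, 35), (.ofNat 20, 36),
  (.negSucc 53, 37)])])

/-- a candidate -/
def c22 : ℕ × ℕ × List Step :=
  (7558272000, 5, [(0, 0, .ofNat 81, 0, [(.negSucc 32, 10), (.ofNat 11, 12), (.ofNat 15, 17), (.negSucc 1, 21),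
  (.negSucc 8, 23), (.ofNat 22, 24), (.negSucc 6, 32), (.negSucc 10, 34)])])

/-- a candidate -/
def c23 : ℕ × ℕ × List Step :=
  (7558272000, 25, [(0, 0, .ofNat 81, 0, [(.negSucc 32, 10), (.ofNat 11, 12), (.ofNat 15, 17), (.negSucc 1, 21),
  (.negSucc 8, 23), (.ofNat 22, 24), (.negSucc 6, 32), (.negSucc 10, 34)])])

/-- a candidate -/
def c24 : ℕ × ℕ × List Step :=
  (8957952000, 5, [(0, 0, .ofNat 9, 0, [(.ofNat 4, 3), (.negSucc 6, 5), (.ofNat 2, 12), (.negSucc 0, 13), (.negSucc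
  0, 16), (.negSucc 0, 18), (.negSucc 0, 23), (.ofNat 1, 24)])])

/-- a candidate -/
def c25 : ℕ × ℕ × List Step :=
  (8957952000, 10, [(0, 0, .ofNat 9, 0, [(.ofNat 4, 3), (.negSucc 6, 5), (.ofNat 2, 12), (.negSucc 0, 13), (.negSucc
  0, 16), (.negSucc 0, 18), (.negSucc 0, 23), (.ofNat 1, 24)])])

/-- a candidate -/
def c26 : ℕ × ℕ × List Step :=
  (11851370496, 7, [(0, 0, .ofNat 243, 0, [(.ofNat 20, 6), (.negSucc 3, 8), (.negSucc 41, 10), (.negSucc 37, 15),
  (.ofNat 81, 17), (.ofNat 24, 22), (.ofNat 50, 24), (.negSucc 12, 26), (.negSucc 84, 30), (.ofNat 37, 36)])])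

/-- a candidate -/
def c27 : ℕ × ℕ × List Step :=
  (11851370496, 21, [(0, 0, .ofNat 81, 0, [(.ofNat 81, 5), (.negSucc 80, 8), (.negSucc 80, 10), (.ofNat 81, 19),
  (.negSucc 80, 34), (.negSucc 39, 38)])])

/-- a candidate -/
def c28 : ℕ × ℕ × List Step :=
  (20155392000, 5, [(0, 0, .ofNat 243, 0, [(.ofNat 65, 3), (.negSucc 120, 5), (.negSucc 56, 10), (.ofNat 49, 12),
  (.negSucc 18, 13), (.negSucc 21, 23), (.ofNat 53, 24), (.negSucc 12, 32), (.negSucc 8, 34)])])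

/-- a candidate -/
def c29 : ℕ × ℕ × List Step :=
  (94810963968, 7, [(0, 0, .ofNat 81, 0, [(.ofNat 33, 1), (.negSucc 3, 3), (.ofNat 45, 5), (.negSucc 14, 6),
  (.negSucc 46, 8), (.negSucc 42, 10), (.negSucc 5, 12), (.negSucc 18, 13), (.negSucc 2, 15), (.negSucc 0, 17),
  (.negSucc 16, 18), (.ofNat 28, 19), (.negSucc 2, 20), (.ofNat 40, 24), (.ofNat 17, 25), (.negSucc 25, 29), (.ofNat
  23, 31), (.negSucc 37, 34), (.negSucc 32, 35)])])

/-- candidates -/
def CL0 : List (ℕ × ℕ × List Step) :=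
  [c0, c1, c2, c3, c4, c5, c6, c7, c8, c9, c10, c11, c12, c13, c14, c15, c16, c17, c18, c19, c20, c21, c22, c23, c24,
  c25, c26, c27, c28, c29]

theorem okC0 : okL TAB.Th.D (TAB.Sm2.mkRows TAB.Th.rowA TAB.Th.rowB) 2 P Z CL0 = true := by decide +kernel

/-- a candidate -/
def c30 : ℕ × ℕ × List Step :=
  (94810963968, 14, [(0, 0, .ofNat 27, 0, [(.ofNat 27, 5), (.negSucc 26, 8), (.negSucc 26, 10), (.ofNat 27, 19),
  (.negSucc 26, 34), (.negSucc 12, 38)])])

/-- a candidate -/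
def c31 : ℕ × ℕ × List Step :=
  (94810963968, 28, [(0, 0, .ofNat 27, 0, [(.ofNat 27, 5), (.negSucc 26, 8), (.negSucc 26, 10), (.ofNat 27, 19),
  (.negSucc 26, 34), (.negSucc 12, 38)])])

/-- a candidate -/
def c32 : ℕ × ℕ × List Step :=
  (120932352000, 5, [(0, 0, .ofNat 81, 0, [(.ofNat 40, 1), (.negSucc 39, 4), (.negSucc 39, 6), (.negSucc 19, 7),
  (.ofNat 20, 8), (.ofNat 20, 12), (.negSucc 19, 13), (.ofNat 20, 17), (.negSucc 19, 18), (.negSucc 19, 23), (.ofNat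
  61, 24), (.ofNat 40, 31), (.negSucc 29, 32), (.ofNat 20, 34), (.ofNat 20, 38)])])

/-- a candidate -/
def c33 : ℕ × ℕ × List Step :=
  (241864704000, 162, [(0, 0, .ofNat 243, 0, [(.ofNat 121, 1), (.negSucc 120, 4), (.negSucc 120, 6), (.negSucc 60,
  7), (.ofNat 61, 8), (.ofNat 61, 12), (.negSucc 60, 13), (.ofNat 61, 17), (.negSucc 60, 18), (.negSucc 60, 23),
  (.ofNat 182, 24), (.ofNat 122, 31), (.negSucc 90, 32), (.ofNat 61, 34), (.ofNat 61, 38)])])

/-- a candidate -/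
def c34 : ℕ × ℕ × List Step :=
  (241864704000, 216, [(0, 0, .ofNat 243, 0, [(.ofNat 121, 1), (.negSucc 120, 4), (.negSucc 120, 6), (.negSucc 60,
  7), (.ofNat 61, 8), (.ofNat 61, 12), (.negSucc 60, 13), (.ofNat 61, 17), (.negSucc 60, 18), (.negSucc 60, 23),
  (.ofNat 182, 24), (.ofNat 122, 31), (.negSucc 90, 32), (.ofNat 61, 34), (.ofNat 61, 38)])])

/-- a candidate -/
def c35 : ℕ × ℕ × List Step :=
  (241864704000, 243, [(0, 0, .ofNat 243, 0, [(.ofNat 121, 1), (.negSucc 120, 4), (.negSucc 120, 6), (.negSucc 60,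
  7), (.ofNat 61, 8), (.ofNat 61, 12), (.negSucc 60, 13), (.ofNat 61, 17), (.negSucc 60, 18), (.negSucc 60, 23),
  (.ofNat 182, 24), (.ofNat 122, 31), (.negSucc 90, 32), (.ofNat 61, 34), (.ofNat 61, 38)])])

/-- a candidate -/
def c36 : ℕ × ℕ × List Step :=
  (241864704000, 324, [(0, 0, .ofNat 243, 0, [(.ofNat 121, 1), (.negSucc 120, 4), (.negSucc 120, 6), (.negSucc 60,
  7), (.ofNat 61, 8), (.ofNat 61, 12), (.negSucc 60, 13), (.ofNat 61, 17), (.negSucc 60, 18), (.negSucc 60, 23),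
  (.ofNat 182, 24), (.ofNat 122, 31), (.negSucc 90, 32), (.ofNat 61, 34), (.ofNat 61, 38)])])

/-- a candidate -/
def c37 : ℕ × ℕ × List Step :=
  (241864704000, 486, [(0, 0, .ofNat 243, 0, [(.ofNat 121, 1), (.negSucc 120, 4), (.negSucc 120, 6), (.negSucc 60,
  7), (.ofNat 61, 8), (.ofNat 61, 12), (.negSucc 60, 13), (.ofNat 61, 17), (.negSucc 60, 18), (.negSucc 60, 23),
  (.ofNat 182, 24), (.ofNat 122, 31), (.negSucc 90, 32), (.ofNat 61, 34), (.ofNat 61, 38)])])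

/-- a candidate -/
def c38 : ℕ × ℕ × List Step :=
  (241864704000, 648, [(0, 0, .ofNat 243, 0, [(.ofNat 121, 1), (.negSucc 120, 4), (.negSucc 120, 6), (.negSucc 60,
  7), (.ofNat 61, 8), (.ofNat 61, 12), (.negSucc 60, 13), (.ofNat 61, 17), (.negSucc 60, 18), (.negSucc 60, 23),
  (.ofNat 182, 24), (.ofNat 122, 31), (.negSucc 90, 32), (.ofNat 61, 34), (.ofNat 61, 38)])])

/-- a candidate -/
def c39 : ℕ × ℕ × List Step :=
  (241864704000, 972, [(0, 0, .ofNat 243, 0, [(.ofNat 121, 1), (.negSucc 120, 4), (.negSucc 120, 6), (.negSucc 60,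
  7), (.ofNat 61, 8), (.ofNat 61, 12), (.negSucc 60, 13), (.ofNat 61, 17), (.negSucc 60, 18), (.negSucc 60, 23),
  (.ofNat 182, 24), (.ofNat 122, 31), (.negSucc 90, 32), (.ofNat 61, 34), (.ofNat 61, 38)])])

/-- a candidate -/
def c40 : ℕ × ℕ × List Step :=
  (241864704000, 1944, [(0, 0, .ofNat 243, 0, [(.ofNat 121, 1), (.negSucc 120, 4), (.negSucc 120, 6), (.negSucc 60,
  7), (.ofNat 61, 8), (.ofNat 61, 12), (.negSucc 60, 13), (.ofNat 61, 17), (.negSucc 60, 18), (.negSucc 60, 23),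
  (.ofNat 182, 24), (.ofNat 122, 31), (.negSucc 90, 32), (.ofNat 61, 34), (.ofNat 61, 38)])])

/-- a candidate -/
def c41 : ℕ × ℕ × List Step :=
  (246903552000, 35, [(0, 0, .ofNat 81, 0, [(.ofNat 54, 1), (.negSucc 26, 4), (.negSucc 26, 6), (.negSucc 26, 13),
  (.ofNat 27, 17), (.negSucc 26, 18), (.negSucc 26, 23), (.ofNat 54, 24), (.ofNat 27, 25), (.negSucc 26, 29),
  (.negSucc 26, 30), (.ofNat 54, 31), (.negSucc 40, 32), (.ofNat 27, 34), (.negSucc 26, 35), (.ofNat 27, 36), (.ofNat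
  27, 38)])])

/-- a candidate -/
def c42 : ℕ × ℕ × List Step :=
  (474054819840, 192, [(0, 0, .ofNat 27, 0, [(.ofNat 18, 1), (.negSucc 8, 4), (.negSucc 8, 6), (.negSucc 8, 13),
  (.ofNat 9, 17), (.negSucc 8, 18), (.negSucc 8, 23), (.ofNat 18, 24), (.ofNat 9, 25), (.negSucc 8, 29), (.negSucc 8,
  30), (.ofNat 18, 31), (.negSucc 13, 32), (.ofNat 9, 34), (.negSucc 8, 35), (.ofNat 9, 36), (.ofNat 9, 38)])])

/-- a candidate -/
def c43 : ℕ × ℕ × List Step :=
  (11851370496000, 8, [(0, 0, .ofNat 27, 0, [(.ofNat 18, 1), (.negSucc 8, 4), (.negSucc 8, 6), (.negSucc 8, 13),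
  (.ofNat 9, 17), (.negSucc 8, 18), (.negSucc 8, 23), (.ofNat 18, 24), (.ofNat 9, 25), (.negSucc 8, 29), (.negSucc 8,
  30), (.ofNat 18, 31), (.negSucc 13, 32), (.ofNat 9, 34), (.negSucc 8, 35), (.ofNat 9, 36), (.ofNat 9, 38)])])

/-- a candidate -/
def c44 : ℕ × ℕ × List Step :=
  (11851370496000, 12, [(0, 0, .ofNat 27, 0, [(.ofNat 18, 1), (.negSucc 9, 4), (.negSucc 0, 5), (.negSucc 9, 6),
  (.negSucc 7, 13), (.negSucc 0, 16), (.ofNat 9, 17), (.negSucc 9, 18), (.negSucc 0, 20), (.negSucc 7, 23), (.ofNat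
  20, 24), (.ofNat 8, 25), (.ofNat 1, 26), (.negSucc 11, 30), (.ofNat 18, 31), (.negSucc 12, 32), (.ofNat 9, 34),
  (.negSucc 7, 35), (.ofNat 10, 36), (.negSucc 1, 37), (.ofNat 8, 38)])])

/-- a candidate -/
def c45 : ℕ × ℕ × List Step :=
  (11851370496000, 24, [(0, 0, .ofNat 27, 0, [(.ofNat 18, 1), (.negSucc 8, 4), (.negSucc 8, 6), (.negSucc 8, 13),
  (.ofNat 9, 17), (.negSucc 8, 18), (.negSucc 8, 23), (.ofNat 18, 24), (.ofNat 9, 25), (.negSucc 8, 29), (.negSucc 8,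
  30), (.ofNat 18, 31), (.negSucc 13, 32), (.ofNat 9, 34), (.negSucc 8, 35), (.ofNat 9, 36), (.ofNat 9, 38)])])

/-- candidates -/
def CL1 : List (ℕ × ℕ × List Step) :=
  [c30, c31, c32, c33, c34, c35, c36, c37, c38, c39, c40, c41, c42, c43, c44, c45]

theorem okC1 : okL TAB.Th.D (TAB.Sm2.mkRows TAB.Th.rowA TAB.Th.rowB) 2 P Z CL1 = true := by decide +kernel

theorem okB : ∀ ld ∈ big, bigE E ld = true :=
  fa_cons okB31 <| fa_cons okB19 <| fa_nil

theorem okA : ∀ a ∈ divsT [], allA (leaf E) [(13, 1), (7, 2), (5, 3), (3, 10), (2, 15)] a = true := by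
  rw [show divsT [] = [1] by decide +kernel]
  exact fa_cons okA0 <| fa_nil

/-- the pairs -/
def pj (L : List (ℕ × ℕ × List Step)) : List (ℕ × ℕ) := L.map fun x => (x.1, x.2.1)

theorem okC : ∀ x ∈ E.SV, ∃ CL, okL TAB.Th.D (TAB.Sm2.mkRows TAB.Th.rowA TAB.Th.rowB) E.j E.P E.Z CL = true ∧ x ∈ pj CL := by
  rw [show E.SV = [pj CL0, pj CL1].flatten by decide +kernel]
  exact forall_flatten <| fa_cons (fun _ h => ⟨_, okC0, h⟩) <| fa_cons (fun _ h => ⟨_, okC1, h⟩) <| fa_nil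

/-- **no configuration** -/
theorem noW {K : Type} [Group K] [Finite K] (h : In K TAB.Th.D (TAB.Sm2.mkRows TAB.Th.rowA TAB.Th.rowB)) : NoW K 2 :=
  noW_of (E := E) boxCH h.inC ok1 (H940.Eng.D.ords_th base)
    (fun ld h => ⟨List.mem_append_left _ h, okB ld h⟩) (by decide +kernel) okA okC

end Cfsg.Agent.TH.Spor.NTh
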