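import Cfsg.Agent.TH.Spor.EngC
import Cfsg.Agent.TH.Spor.CH
import Cfsg.Agent.TAB.Sm2.TitsTab

/-!
# S3541, sporadic rows: Tits (helper26; generated by notes/TH/spor26/gen.py.txt)
-/

set_option autoImplicit false
set_option Elab.async false

namespace Cfsg.Agent.TH.Spor.NTits

open Cfsg Cfsg.Agent.TAB.Eng Cfsg.Agent.H940.Eng

/-- the types of prime order -/
def P : St :=
  [(13, [(13, 2764800, 0)]), (5, [(7, 359424, 0)]), (3, [(3, 166400, 0)]), (2, [(1, 1755, 0), (2, 11700, 0)])]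

/-- the types -/
def Z : List Ze :=
  [(1, 2, 1755, [1]), (2, 2, 11700, [2]), (3, 3, 166400, [3]), (4, 4, 93600, [2]), (5, 4, 280800, [2]), (6, 4,
  140400, [1]), (7, 5, 359424, [7]), (8, 6, 1497600, [3, 2]), (9, 8, 1123200, [1]), (10, 8, 2246400, [2]), (11, 10,
  1797120, [7, 1]), (12, 12, 2995200, [3, 2]), (13, 13, 2764800, [13]), (14, 16, 4492800, [1])]

/-- local data, large primes -/
def big : List LD :=
  []

/-- local data, the other primes -/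
def sm : List LD :=
  [⟨13, 13, [(2, 1), (3, 1), (13, 1)]⟩]

/-- the candidates -/
def SV : List (ℕ × ℕ) :=
  [(864, 3), (864, 9), (2048, 2), (3200, 5), (3456, 3), (11232, 39), (13824, 3), (43200, 5), (51200, 5), (51200, 10),
  (51200, 25), (51200, 50), (55296, 3), (55296, 4), (55296, 6), (55296, 9), (55296, 12), (55296, 18), (55296, 27),
  (55296, 36), (55296, 54), (55296, 108), (86400, 9), (115200, 5), (124800, 13), (138240, 3), (153600, 4), (276480,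
  2), (276480, 4), (276480, 8), (276480, 16), (276480, 32), (345600, 3), (460800, 2), (691200, 5), (1382400, 2),
  (1382400, 3), (1382400, 4), (1382400, 6)]

/-- the data -/
def E : En :=
  ⟨17971200, 2, P, Z, [(13, 1), (5, 2), (3, 3), (2, 11)], [60, 360, 5616, 7800, 62400, 17971200], big ++ sm, SV⟩

theorem ok1 : okEn TAB.Sm2.Tits.dat (TAB.Sm2.mkRows TAB.Sm2.Tits.rA TAB.Sm2.Tits.rB) [] E = true := by decide +kernel

theorem okA0 : allA (leaf E) [(13, 1), (5, 2), (3, 3), (2, 11)] 1 = true := by decide +kernel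

/-- a candidate -/
def c0 : ℕ × ℕ × List Step :=
  (864, 3, [(0, 0, .ofNat 0, 0, [(.negSucc 7, 7), (.negSucc 8, 12)])])

/-- a candidate -/
def c1 : ℕ × ℕ × List Step :=
  (864, 9, [(0, 0, .ofNat 0, 0, [(.negSucc 7, 7), (.negSucc 8, 12)])])

/-- a candidate -/
def c2 : ℕ × ℕ × List Step :=
  (2048, 2, [(0, 0, .ofNat 0, 0, [(.negSucc 0, 14)])])

/-- a candidate -/
def c3 : ℕ × ℕ × List Step :=
  (3200, 5, [(0, 0, .ofNat 0, 0, [(.negSucc 2, 5), (.negSucc 1, 6), (.negSucc 1, 7), (.ofNat 1, 9), (.negSucc 0, 13),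
  (.negSucc 0, 14)])])

/-- a candidate -/
def c4 : ℕ × ℕ × List Step :=
  (3456, 3, [(0, 0, .ofNat 9, 0, [(.ofNat 9, 4), (.ofNat 5, 8), (.negSucc 3, 12)])])

/-- a candidate -/
def c5 : ℕ × ℕ × List Step :=
  (11232, 39, [(1, 320, .ofNat 0, 0, [(.ofNat 1, 7)]), (0, 0, .ofNat 9, 0, [(.ofNat 9, 1), (.negSucc 8, 4), (.ofNat
  9, 5), (.negSucc 3, 9), (.negSucc 3, 10)])])

/-- a candidate -/
def c6 : ℕ × ℕ × List Step :=
  (13824, 3, [(0, 0, .ofNat 1, 0, [(.ofNat 1, 2), (.negSucc 0, 6), (.ofNat 1, 9), (.negSucc 0, 11)])])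

/-- a candidate -/
def c7 : ℕ × ℕ × List Step :=
  (43200, 5, [(0, 0, .ofNat 1, 0, [(.ofNat 1, 2), (.negSucc 0, 6), (.negSucc 0, 7), (.ofNat 1, 9), (.ofNat 1, 14)])])

/-- a candidate -/
def c8 : ℕ × ℕ × List Step :=
  (51200, 5, [(0, 0, .ofNat 9, 0, [(.ofNat 5, 3), (.negSucc 4, 5), (.negSucc 4, 6), (.negSucc 3, 7), (.ofNat 4, 9),
  (.ofNat 2, 11), (.ofNat 2, 14)])])

/-- a candidate -/
def c9 : ℕ × ℕ × List Step :=
  (51200, 10, [(0, 0, .ofNat 9, 0, [(.ofNat 5, 3), (.negSucc 4, 5), (.negSucc 4, 6), (.negSucc 3, 7), (.ofNat 4, 9),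
  (.ofNat 2, 11), (.ofNat 2, 14)])])

/-- a candidate -/
def c10 : ℕ × ℕ × List Step :=
  (51200, 25, [(0, 0, .ofNat 9, 0, [(.negSucc 8, 2), (.ofNat 9, 3), (.negSucc 8, 5), (.ofNat 5, 11)])])

/-- a candidate -/
def c11 : ℕ × ℕ × List Step :=
  (51200, 50, [(0, 0, .ofNat 2, 0, [(.negSucc 1, 2), (.ofNat 2, 3), (.ofNat 1, 7), (.ofNat 3, 8), (.ofNat 1, 9),
  (.ofNat 1, 10), (.ofNat 1, 12)])])

/-- a candidate -/
def c12 : ℕ × ℕ × List Step :=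
  (55296, 3, [(0, 0, .ofNat 9, 0, [(.ofNat 1, 1), (.ofNat 8, 2), (.negSucc 0, 5), (.negSucc 8, 6), (.ofNat 9, 9),
  (.negSucc 2, 11), (.negSucc 0, 13)])])

/-- a candidate -/
def c13 : ℕ × ℕ × List Step :=
  (55296, 4, [(0, 0, .ofNat 9, 0, [(.ofNat 9, 2), (.negSucc 8, 6), (.ofNat 9, 9), (.ofNat 4, 14)])])

/-- a candidate -/
def c14 : ℕ × ℕ × List Step :=
  (55296, 6, [(0, 0, .ofNat 9, 0, [(.ofNat 9, 2), (.negSucc 8, 6), (.ofNat 9, 9), (.ofNat 4, 14)])])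

/-- a candidate -/
def c15 : ℕ × ℕ × List Step :=
  (55296, 9, [(0, 0, .ofNat 9, 0, [(.ofNat 1, 1), (.ofNat 8, 2), (.negSucc 0, 5), (.negSucc 8, 6), (.ofNat 9, 9),
  (.negSucc 2, 11), (.negSucc 0, 13)])])

/-- a candidate -/
def c16 : ℕ × ℕ × List Step :=
  (55296, 12, [(0, 0, .ofNat 9, 0, [(.ofNat 9, 2), (.negSucc 8, 6), (.ofNat 9, 9), (.ofNat 4, 14)])])

/-- a candidate -/
def c17 : ℕ × ℕ × List Step :=
  (55296, 18, [(0, 0, .ofNat 9, 0, [(.ofNat 9, 2), (.negSucc 8, 6), (.ofNat 9, 9), (.ofNat 4, 14)])])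

/-- a candidate -/
def c18 : ℕ × ℕ × List Step :=
  (55296, 27, [(0, 0, .ofNat 7, 0, [(.ofNat 7, 4), (.negSucc 1, 5), (.ofNat 9, 7), (.ofNat 7, 9), (.negSucc 5, 11),
  (.ofNat 5, 12)])])

/-- a candidate -/
def c19 : ℕ × ℕ × List Step :=
  (55296, 36, [(0, 0, .ofNat 9, 0, [(.ofNat 9, 2), (.negSucc 8, 6), (.ofNat 9, 9), (.ofNat 4, 14)])])

/-- a candidate -/
def c20 : ℕ × ℕ × List Step :=
  (55296, 54, [(0, 0, .ofNat 6, 0, [(.ofNat 1, 2), (.ofNat 6, 4), (.ofNat 9, 7), (.ofNat 6, 9), (.negSucc 3, 11),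
  (.ofNat 5, 12), (.ofNat 2, 13)])])

/-- a candidate -/
def c21 : ℕ × ℕ × List Step :=
  (55296, 108, [(0, 0, .ofNat 6, 0, [(.ofNat 1, 2), (.ofNat 6, 4), (.ofNat 9, 7), (.ofNat 6, 9), (.negSucc 3, 11),
  (.ofNat 5, 12), (.ofNat 2, 13)])])

/-- a candidate -/
def c22 : ℕ × ℕ × List Step :=
  (86400, 9, [(0, 0, .ofNat 1, 0, [(.ofNat 1, 2), (.negSucc 0, 6), (.negSucc 0, 7), (.ofNat 1, 9), (.ofNat 1, 14)])])

/-- a candidate -/
def c23 : ℕ × ℕ × List Step :=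
  (115200, 5, [(0, 0, .ofNat 1, 0, [(.ofNat 1, 2), (.negSucc 0, 6), (.negSucc 0, 7), (.ofNat 1, 9), (.ofNat 1,
  14)])])

/-- a candidate -/
def c24 : ℕ × ℕ × List Step :=
  (124800, 13, [(7, 12, .negSucc 5, 0, [(.negSucc 8, 2), (.negSucc 5, 3), (.negSucc 2, 5), (.ofNat 2, 8), (.negSucc
  3, 9), (.negSucc 3, 10), (.negSucc 3, 12), (.ofNat 3, 13), (.negSucc 2, 14)])])

/-- a candidate -/
def c25 : ℕ × ℕ × List Step :=
  (138240, 3, [(0, 0, .ofNat 1, 0, [(.ofNat 1, 2), (.negSucc 0, 6), (.negSucc 0, 7), (.ofNat 1, 9), (.ofNat 1,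
  14)])])

/-- a candidate -/
def c26 : ℕ × ℕ × List Step :=
  (153600, 4, [(0, 0, .ofNat 1, 0, [(.ofNat 1, 2), (.negSucc 0, 6), (.negSucc 0, 7), (.ofNat 1, 9), (.ofNat 1,
  14)])])

/-- a candidate -/
def c27 : ℕ × ℕ × List Step :=
  (276480, 2, [(0, 0, .ofNat 1, 0, [(.ofNat 1, 2), (.negSucc 0, 6), (.negSucc 0, 7), (.ofNat 1, 9), (.ofNat 1,
  14)])])

/-- a candidate -/
def c28 : ℕ × ℕ × List Step :=
  (276480, 4, [(0, 0, .ofNat 1, 0, [(.ofNat 1, 2), (.negSucc 0, 6), (.negSucc 0, 7), (.ofNat 1, 9), (.ofNat 1,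
  14)])])

/-- a candidate -/
def c29 : ℕ × ℕ × List Step :=
  (276480, 8, [(0, 0, .ofNat 1, 0, [(.ofNat 1, 2), (.negSucc 0, 6), (.negSucc 0, 7), (.ofNat 1, 9), (.ofNat 1,
  14)])])

/-- candidates -/
def CL0 : List (ℕ × ℕ × List Step) :=
  [c0, c1, c2, c3, c4, c5, c6, c7, c8, c9, c10, c11, c12, c13, c14, c15, c16, c17, c18, c19, c20, c21, c22, c23, c24,
  c25, c26, c27, c28, c29]

theorem okC0 : okL TAB.Sm2.Tits.dat (TAB.Sm2.mkRows TAB.Sm2.Tits.rA TAB.Sm2.Tits.rB) 2 P Z CL0 = true := by decide +kernel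

/-- a candidate -/
def c30 : ℕ × ℕ × List Step :=
  (276480, 16, [(0, 0, .ofNat 1, 0, [(.ofNat 1, 2), (.negSucc 0, 6), (.negSucc 0, 7), (.ofNat 1, 9), (.ofNat 1,
  14)])])

/-- a candidate -/
def c31 : ℕ × ℕ × List Step :=
  (276480, 32, [(0, 0, .ofNat 1, 0, [(.ofNat 1, 2), (.negSucc 0, 6), (.negSucc 0, 7), (.ofNat 1, 9), (.ofNat 1,
  14)])])

/-- a candidate -/
def c32 : ℕ × ℕ × List Step :=
  (345600, 3, [(0, 0, .ofNat 1, 0, [(.ofNat 1, 2), (.negSucc 0, 6), (.negSucc 0, 7), (.ofNat 1, 9), (.ofNat 1,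
  14)])])

/-- a candidate -/
def c33 : ℕ × ℕ × List Step :=
  (460800, 2, [(0, 0, .ofNat 1, 0, [(.ofNat 1, 2), (.negSucc 0, 6), (.negSucc 0, 7), (.ofNat 1, 9), (.ofNat 1,
  14)])])

/-- a candidate -/
def c34 : ℕ × ℕ × List Step :=
  (691200, 5, [(0, 0, .ofNat 1, 0, [(.ofNat 1, 2), (.negSucc 0, 6), (.negSucc 0, 7), (.ofNat 1, 9), (.ofNat 1,
  14)])])

/-- a candidate -/
def c35 : ℕ × ℕ × List Step :=
  (1382400, 2, [(0, 0, .ofNat 1, 0, [(.ofNat 1, 2), (.negSucc 0, 6), (.negSucc 0, 7), (.ofNat 1, 9), (.ofNat 1,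
  14)])])

/-- a candidate -/
def c36 : ℕ × ℕ × List Step :=
  (1382400, 3, [(0, 0, .ofNat 1, 0, [(.ofNat 1, 2), (.negSucc 0, 6), (.negSucc 0, 7), (.ofNat 1, 9), (.ofNat 1,
  14)])])

/-- a candidate -/
def c37 : ℕ × ℕ × List Step :=
  (1382400, 4, [(0, 0, .ofNat 1, 0, [(.ofNat 1, 2), (.negSucc 0, 6), (.negSucc 0, 7), (.ofNat 1, 9), (.ofNat 1,
  14)])])

/-- a candidate -/
def c38 : ℕ × ℕ × List Step :=
  (1382400, 6, [(0, 0, .ofNat 1, 0, [(.ofNat 1, 2), (.negSucc 0, 6), (.negSucc 0, 7), (.ofNat 1, 9), (.ofNat 1,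
  14)])])

/-- candidates -/
def CL1 : List (ℕ × ℕ × List Step) :=
  [c30, c31, c32, c33, c34, c35, c36, c37, c38]

theorem okC1 : okL TAB.Sm2.Tits.dat (TAB.Sm2.mkRows TAB.Sm2.Tits.rA TAB.Sm2.Tits.rB) 2 P Z CL1 = true := by decide +kernel

theorem okB : ∀ ld ∈ big, bigE E ld = true :=
  fa_nil

theorem okA : ∀ a ∈ divsT [], allA (leaf E) [(13, 1), (5, 2), (3, 3), (2, 11)] a = true := by
  rw [show divsT [] = [1] by decide +kernel]
  exact fa_cons okA0 <| fa_nil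

/-- the pairs -/
def pj (L : List (ℕ × ℕ × List Step)) : List (ℕ × ℕ) := L.map fun x => (x.1, x.2.1)

theorem okC : ∀ x ∈ E.SV, ∃ CL, okL TAB.Sm2.Tits.dat (TAB.Sm2.mkRows TAB.Sm2.Tits.rA TAB.Sm2.Tits.rB) E.j E.P E.Z CL = true ∧ x ∈ pj CL := by
  rw [show E.SV = [pj CL0, pj CL1].flatten by decide +kernel]
  exact forall_flatten <| fa_cons (fun _ h => ⟨_, okC0, h⟩) <| fa_cons (fun _ h => ⟨_, okC1, h⟩) <| fa_nil

/-- **no configuration** -/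
theorem noW {K : Type} [Group K] [Finite K] (h : In K TAB.Sm2.Tits.dat (TAB.Sm2.mkRows TAB.Sm2.Tits.rA TAB.Sm2.Tits.rB)) : NoW K 2 :=
  noW_of (E := E) boxCH h.inC ok1 (ords_of base (l := [(2, 11), (3, 3), (5, 2), (13, 1)]) (by decide +kernel) (by decide +kernel))
    (fun ld h => ⟨List.mem_append_left _ h, okB ld h⟩) (by decide +kernel) okA okC

end Cfsg.Agent.TH.Spor.NTits
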