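import Cfsg.Agent.TH.Spor.NM11
import Cfsg.Agent.TH.Spor.NM12
import Cfsg.Agent.TH.Spor.NM22
import Cfsg.Agent.TH.Spor.NM23
import Cfsg.Agent.TH.Spor.NM24
import Cfsg.Agent.TH.Spor.NJ1
import Cfsg.Agent.TH.Spor.NJ2
import Cfsg.Agent.TH.Spor.NJ3
import Cfsg.Agent.TH.Spor.NJ4
import Cfsg.Agent.TH.Spor.NCo1
import Cfsg.Agent.TH.Spor.NCo2
import Cfsg.Agent.TH.Spor.NCo3
import Cfsg.Agent.TH.Spor.NMcL
import Cfsg.Agent.TH.Spor.NHS
import Cfsg.Agent.TH.Spor.NSuz
import Cfsg.Agent.TH.Spor.NHe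
import Cfsg.Agent.TH.Spor.NRu
import Cfsg.Agent.TH.Spor.NON
import Cfsg.Agent.TH.Spor.NLy
import Cfsg.Agent.TH.Spor.NFi22
import Cfsg.Agent.TH.Spor.NFi23
import Cfsg.Agent.TH.Spor.NFi24
import Cfsg.Agent.TH.Spor.NHN
import Cfsg.Agent.TH.Spor.NTh
import Cfsg.Agent.TH.Spor.NB
import Cfsg.Agent.TH.Spor.NM
import Cfsg.Agent.TH.Spor.NTits
import Cfsg.Agent.TH.Spor.InA
import Cfsg.Agent.TH.Spor.InB
import Cfsg.Agent.TH.Spor.InC
import Cfsg.Agent.TH.Spor.InD
import Cfsg.Agent.TH.Spor.InE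
import Cfsg.Agent.TAB.F23C.Main
import Cfsg.Agent.TAB.F24C.DZ

/-!
# S3541: the sporadic rows and the row of the Tits group (helper26)
-/

set_option autoImplicit false

namespace Cfsg.Agent.TH.Spor

open Cfsg

/-- the 26 rows -/
theorem rows26 : Rows26 where
  m11 := noRow_of (fun _ _ h => .inr <| .inl h)
    fun _ _ _ _ h => NM11.noW (in_m11 h)
  m12 := noRow_of (fun _ _ h => .inr <| .inr <| .inl h)
    fun _ _ _ _ h => NM12.noW (in_m12 h)
  m22 := noRow_of (fun _ _ h => .inr <| .inr <| .inr <| .inl h)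
    fun _ _ _ _ h => NM22.noW (inC_m22 h)
  m23 := noRow_of (fun _ _ h => .inr <| .inr <| .inr <| .inr <| .inl h)
    fun _ _ _ _ h => NM23.noW (in_m23 h)
  m24 := noRow_of (fun _ _ h => .inr <| .inr <| .inr <| .inr <| .inr <| .inl h)
    fun _ _ _ _ h => NM24.noW (in_m24 h)
  j1 := noRow_of' one_pos (fun _ _ _ h => (out_j1 h).dvd) fun _ _ _ _ h => NJ1.noW (in_j1 h)
  j2 := noRow_of (fun _ _ h => .inr <| .inr <| .inr <| .inr <| .inr <| .inr <| .inr <| .inl h)
    fun _ _ _ _ h => NJ2.noW (in_j2 h)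
  j3 := noRow_of (fun _ _ h => .inr <| .inr <| .inr <| .inr <| .inr <| .inr <| .inr <| .inr <| .inl h)
    fun _ _ _ _ h => NJ3.noW (in_j3 h)
  j4 := noRow_of (fun _ _ h => .inr <| .inr <| .inr <| .inr <| .inr <| .inr <| .inr <| .inr <| .inr <| .inl h)
    fun _ _ _ _ h => NJ4.noW (in_j4 h)
  co1 := noRow_of (fun _ _ h => .inr <| .inr <| .inr <| .inr <| .inr <| .inr <| .inr <| .inr <| .inr <| .inr <| .inl h)
    fun _ _ _ _ h => NCo1.noW (in_co1 h)
  co2 := noRow_of (fun _ _ h => .inr <| .inr <| .inr <| .inr <| .inr <| .inr <| .inr <| .inr <| .inr <| .inr <| .inr <| .inl h)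
    fun _ _ _ _ h => NCo2.noW (in_co2 h)
  co3 := noRow_of (fun _ _ h => .inr <| .inr <| .inr <| .inr <| .inr <| .inr <| .inr <| .inr <| .inr <| .inr <| .inr <| .inr <| .inl h)
    fun _ _ _ _ h => NCo3.noW (in_co3 h)
  mcl := noRow_of (fun _ _ h => .inr <| .inr <| .inr <| .inr <| .inr <| .inr <| .inr <| .inr <| .inr <| .inr <| .inr <| .inr <| .inr <| .inl h)
    fun _ _ _ _ h => NMcL.noW (in_mcl h)
  hs := noRow_of (fun _ _ h => .inr <| .inr <| .inr <| .inr <| .inr <| .inr <| .inr <| .inr <| .inr <| .inr <| .inr <| .inr <| .inr <| .inr <|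
      .inl h)
    fun _ _ _ _ h => NHS.noW (in_hs h)
  suz := noRow_of (fun _ _ h => .inr <| .inr <| .inr <| .inr <| .inr <| .inr <| .inr <| .inr <| .inr <| .inr <| .inr <| .inr <| .inr <| .inr <|
      .inr <| .inl h)
    fun _ _ _ _ h => NSuz.noW (in_suz h)
  he := noRow_of (fun _ _ h => .inr <| .inr <| .inr <| .inr <| .inr <| .inr <| .inr <| .inr <| .inr <| .inr <| .inr <| .inr <| .inr <| .inr <|
      .inr <| .inr <| .inl h)
    fun _ _ _ _ h => NHe.noW (in_he h)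
  ru := noRow_of (fun _ _ h => .inr <| .inr <| .inr <| .inr <| .inr <| .inr <| .inr <| .inr <| .inr <| .inr <| .inr <| .inr <| .inr <| .inr <|
      .inr <| .inr <| .inr <| .inl h)
    fun _ _ _ _ h => NRu.noW (in_ru h)
  on := noRow_of (fun _ _ h => .inr <| .inr <| .inr <| .inr <| .inr <| .inr <| .inr <| .inr <| .inr <| .inr <| .inr <| .inr <| .inr <| .inr <|
      .inr <| .inr <| .inr <| .inr <| .inl h)
    fun _ _ _ _ h => NON.noW (in_on h)
  ly := noRow_of (fun _ _ h => .inr <| .inr <| .inr <| .inr <| .inr <| .inr <| .inr <| .inr <| .inr <| .inr <| .inr <| .inr <| .inr <| .inr <|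
      .inr <| .inr <| .inr <| .inr <| .inr <| .inl h)
    fun _ _ _ _ h => NLy.noW (in_ly h)
  fi22 := noRow_of (fun _ _ h => .inr <| .inr <| .inr <| .inr <| .inr <| .inr <| .inr <| .inr <| .inr <| .inr <| .inr <| .inr <| .inr <| .inr <|
      .inr <| .inr <| .inr <| .inr <| .inr <| .inr <| .inl h)
    fun _ _ _ _ h => NFi22.noW (in_fi22 h)
  fi23 := noRow_of (fun _ _ h => .inr <| .inr <| .inr <| .inr <| .inr <| .inr <| .inr <| .inr <| .inr <| .inr <| .inr <| .inr <| .inr <| .inr <|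
      .inr <| .inr <| .inr <| .inr <| .inr <| .inr <| .inr <| .inl h)
    fun _ _ _ _ h => NFi23.noW (in_fi23 TAB.F23C.inF23 h)
  fi24 := noRow_of (fun _ _ h => .inr <| .inr <| .inr <| .inr <| .inr <| .inr <| .inr <| .inr <| .inr <| .inr <| .inr <| .inr <| .inr <| .inr <|
      .inr <| .inr <| .inr <| .inr <| .inr <| .inr <| .inr <| .inr <| .inl h)
    fun _ _ _ _ h => NFi24.noW (in_fi24 TAB.F24C.inF24 h)
  hn := noRow_of (fun _ _ h => .inr <| .inr <| .inr <| .inr <| .inr <| .inr <| .inr <| .inr <| .inr <| .inr <| .inr <| .inr <| .inr <| .inr <|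
      .inr <| .inr <| .inr <| .inr <| .inr <| .inr <| .inr <| .inr <| .inr <| .inl h)
    fun _ _ _ _ h => NHN.noW (in_hn h)
  th := noRow_of (fun _ _ h => .inr <| .inr <| .inr <| .inr <| .inr <| .inr <| .inr <| .inr <| .inr <| .inr <| .inr <| .inr <| .inr <| .inr <|
      .inr <| .inr <| .inr <| .inr <| .inr <| .inr <| .inr <| .inr <| .inr <| .inr <| .inl h)
    fun _ _ _ _ h => NTh.noW (in_th h)
  b := noRow_of (fun _ _ h => .inr <| .inr <| .inr <| .inr <| .inr <| .inr <| .inr <| .inr <| .inr <| .inr <| .inr <| .inr <| .inr <| .inr <|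
      .inr <| .inr <| .inr <| .inr <| .inr <| .inr <| .inr <| .inr <| .inr <| .inr <| .inr <| .inl h)
    fun _ _ _ _ h => NB.noW (in_b h)
  m := noRow_of (fun _ _ h => .inr <| .inr <| .inr <| .inr <| .inr <| .inr <| .inr <| .inr <| .inr <| .inr <| .inr <| .inr <| .inr <| .inr <|
      .inr <| .inr <| .inr <| .inr <| .inr <| .inr <| .inr <| .inr <| .inr <| .inr <| .inr <| .inr <| h)
    fun _ _ _ _ h => NM.noW (in_m h)

end Cfsg.Agent.TH.Spor

namespace Cfsg.Agent.TH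

/-- **the sporadic groups** -/
theorem rowSpor : RowSpor := Spor.rowSpor_of Spor.rows26

/-- **the Tits group** -/
theorem rowTits : RowTits := Spor.noRow_of (fun _ _ h => .inl h) fun _ _ _ _ h => Spor.NTits.noW (Spor.in_tits h)

end Cfsg.Agent.TH
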