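import Cfsg.Agent.TH.Spor.Enum
import Cfsg.Agent.TAB.B.Fin.Bes2

/-!
# S3541, sporadic rows: tables given by columns, enumeration in pieces (helper26)
-/

set_option autoImplicit false

namespace Cfsg.Agent.TH.Spor

open Cfsg Cfsg.Agent.TAB.Eng Cfsg.Agent.TAB.Use Cfsg.Agent.H940.Eng

/-- put a column in front of the rows -/
noncomputable def zc (L : List (List ℤ)) : List ℤ → List (List ℤ) :=
  List.rec (fun _ => []) (fun r _ ih c => List.rec ((0 :: r) :: ih []) (fun a c' _ => (a :: r) :: ih c') c) L

theorem zc_eq (f : ℕ → List ℤ) (k : ℕ) : ∀ (i : ℕ) (c : List ℤ),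
    zc ((List.range' i k).map f) c = (List.range' i k).map fun j => nth c (j - i) :: f j := by
  induction k with
  | zero => exact fun _ _ => rfl
  | succ k ih =>
    intro i c
    rw [List.range'_succ, List.map_cons, List.map_cons, Nat.sub_self]
    cases c with
    | nil => exact congrArg (List.cons _) (ih (i + 1) [])
    | cons a c =>
      refine congrArg (List.cons _) ((ih (i + 1) c).trans (List.map_congr_left fun j hj => ?_))
      have h1 := (List.mem_range'_1.1 hj).1
      rw [show j - i = j - (i + 1) + 1 by omega, nth_succ]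

/-- the first `k` rows -/
noncomputable def trp (C : List (List ℤ)) (k : ℕ) : List (List ℤ) :=
  List.rec (List.replicate k []) (fun c _ ih => zc ih c) C

theorem trp_eq (C : List (List ℤ)) (k : ℕ) : trp C k = (List.range' 0 k).map (rwL C) := by
  induction C with
  | nil => exact (List.map_const' (l := List.range' 0 k) (b := [])).trans (by rw [List.length_range']; rfl) |>.symm
  | cons c C ih => exact (congrArg (zc · c) ih).trans (zc_eq _ k 0 c)

theorem relL_eq (C : List (List ℤ)) (cs : List (List (ℕ × ℤ))) (i : ℕ) :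
    relL C cs i = cs.zip ((List.range' i cs.length).map (rwL C)) := by
  induction cs generalizing i with
  | nil => rfl
  | cons c cs ih => exact congrArg (List.cons _) (ih (i + 1))

/-- the table with the transposed columns -/
noncomputable def mkT (C : List (List ℤ)) (dg : List ℕ) (cs : List (List (ℕ × ℤ))) : Rows :=
  ⟨dg, cs.zip (trp C cs.length)⟩

theorem mkR_eq (C : List (List ℤ)) (dg : List ℕ) (cs : List (List (ℕ × ℤ))) : mkR C dg cs = mkT C dg cs :=
  congrArg (Rows.mk dg) ((relL_eq C cs 0).trans (congrArg cs.zip (trp_eq C _).symm))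

/-- the constituents in `mkRows` -/
def csAB (a b : ℕ) : List (List (ℕ × ℤ)) :=
  ((List.range a).map fun j => [(j, 1)]) ++ (List.range b).map fun j => [(a + 2 * j, 1), (a + 2 * j + 1, 1)]

theorem mkRows_eq (C : List (List ℤ)) (dg : List ℕ) (a b : ℕ) :
    (⟨dg, (TAB.Sm2.mkRows (TAB.B.Bes.rowsL C 0 a) (TAB.B.Bes.rowsL C a b)).rel⟩ : Rows) = mkT C dg (csAB a b) := by
  have h1 : ∀ i k, (TAB.B.Bes.rowsL C i k).length = k := fun i k =>
    (List.length_map _).trans List.length_range'
  have h2 : (csAB a b).length = a + b := by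
    rw [csAB, List.length_append, List.length_map, List.length_map, List.length_range, List.length_range]
  refine congrArg (Rows.mk dg) ?_
  rw [trp_eq, h2, ← List.range'_append_1, List.map_append, csAB, List.zip_append (by simp), zero_add,
    ← List.range_eq_range', List.range'_eq_map_range, List.map_map, List.zip_map', List.zip_map']
  show List.map _ (List.range (TAB.B.Bes.rowsL C 0 a).length) ++ List.map _ (List.range (TAB.B.Bes.rowsL C a b).length) = _
  simp only [h1]
  congr 1
  · exact List.map_congr_left fun j hj => by rw [TAB.B.Bes.rw'_rowsL C a b (by have := List.mem_range.1 hj; omega)]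
  · exact List.map_congr_left fun j hj => by
      rw [TAB.B.Bes.rw'_rowsL C a b (by have := List.mem_range.1 hj; omega)]
      rfl

theorem allL_of {β : Type} {f : β → Bool} {r : List β} (h : ∀ a ∈ r, f a = true) : allL f r = true := by
  induction r with
  | nil => rfl
  | cons b r ih =>
    show cond (f b) (allL f r) false = true
    rw [h b List.mem_cons_self]
    exact ih fun a ha => h a (List.mem_cons_of_mem _ ha)

/-- the starting values of the enumeration at a large prime -/
noncomputable def bigC (E : En) (ld : LD) (ms : List ℕ) : Bool :=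
  frcL ms fun M => frcL (divsT ld.fN) fun DV => frc ld.N fun Nr =>
    allL (fun s => cond (dv ld.r s) (allL (fun t => cond (dv t (Nat.div Nr ld.r))
      (cond (nuc DV ld.r Nr s t) (frc (Nat.mul s t) fun m => memL m M) true) true) DV) true) (ld.r :: E.ords)

/-- the enumeration for some starting values -/
noncomputable def bigM (E : En) (ld : LD) (ms : List ℕ) : Bool :=
  frcLL (opts ld.r ld.C E.l) fun O => allL (allO E.N (leaf E) O) ms

theorem cond_mono {a b c : Bool} (h : cond a b true = true) (h' : b = true → c = true) : cond a c true = true := by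
  cases a
  · rfl
  · exact h' h

theorem bigE_of {E : En} {ld : LD} {ms : List ℕ} (h1 : bigC E ld ms = true)
    (h2 : ∀ m ∈ ms, ∃ l, m ∈ l ∧ bigM E ld l = true) : bigE E ld = true := by
  rw [bigC, frcL_eq, frcL_eq, frc_eq] at h1
  rw [bigE, frcLL_eq, frcL_eq, frc_eq]
  refine allL_of fun s hs => cond_mono (allL_spec h1 s hs) fun h3 => allL_of fun t ht =>
    cond_mono (allL_spec h3 t ht) fun h4 => cond_mono h4 fun h5 => ?_
  obtain ⟨l, h6, h7⟩ := h2 _ (memL_spec ((frc_eq _ _).symm.trans h5))
  rw [bigM, frcLL_eq] at h7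
  exact (frc_eq _ _).trans (allL_spec h7 _ h6)

/-- pieces -/
theorem forall_flatten {α : Type} {P : α → Prop} {L : List (List α)} (h : ∀ l ∈ L, ∀ a ∈ l, P a) :
    ∀ a ∈ L.flatten, P a := fun a ha => by
  obtain ⟨l, h1, h2⟩ := List.mem_flatten.1 ha
  exact h l h1 a h2

theorem fa_nil {α : Type} {P : α → Prop} : ∀ a ∈ ([] : List α), P a := fun _ h => absurd h List.not_mem_nil

theorem fa_cons {α : Type} {P : α → Prop} {a : α} {l : List α} (h1 : P a) (h2 : ∀ b ∈ l, P b) : ∀ b ∈ a :: l, P b :=
  List.forall_mem_cons.2 ⟨h1, h2⟩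

end Cfsg.Agent.TH.Spor
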