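import Cfsg.Agent.TH.Spor.Fix
import Cfsg.Agent.SB.SporL.LP

/-!
# S3541, sporadic rows: the engine, bounds for the fixed points (helper26)

A state lists the types of prime order, grouped by the prime, with their sizes and bounds for the fixed points.
-/

set_option autoImplicit false

namespace Cfsg.Agent.TH.Spor

open Cfsg Cfsg.Agent.TAB.Eng Cfsg.Agent.TAB.Use Cfsg.Agent.SB.SporL MulAction Finset

universe u

/-! ### small tools -/

/-- divisibility -/
def dv (p x : ℕ) : Bool := Nat.beq (Nat.mod x p) 0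

theorem dv_iff {p x : ℕ} : dv p x = true ↔ p ∣ x := by
  rw [dv, Nat.beq_eq, Nat.dvd_iff_mod_eq_zero]
  rfl

theorem dv_false {p x : ℕ} (h : dv p x = false) : ¬ p ∣ x := fun h1 => by
  rw [dv_iff.2 h1] at h
  cases h

/-- the minimum -/
noncomputable def mn (x y : ℕ) : ℕ := frc x fun x' => Nat.sub x' (Nat.sub x' y)

theorem le_mn {x y z : ℕ} (h1 : z ≤ x) (h2 : z ≤ y) : z ≤ mn x y := by
  rw [mn, frc_eq]
  show z ≤ x - (x - y)
  omega

/-- `List.map` -/
noncomputable def mapL {α β : Type} (f : α → β) (l : List α) : List β := List.rec [] (fun a _ ih => f a :: ih) l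

theorem mapL_eq {α β : Type} (f : α → β) (l : List α) : mapL f l = l.map f := by
  induction l with
  | nil => rfl
  | cons a l ih => exact congrArg (List.cons (f a)) ih

/-- `List.any` -/
noncomputable def anyL {α : Type} (f : α → Bool) (l : List α) : Bool :=
  List.rec false (fun a _ ih => cond (f a) true ih) l

theorem anyL_spec {α : Type} {f : α → Bool} {l : List α} (h : anyL f l = true) : ∃ a ∈ l, f a = true := by
  induction l with
  | nil => cases h
  | cons b l ih =>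
    have h1 : cond (f b) true (anyL f l) = true := h
    cases hb : f b with
    | false =>
      rw [hb] at h1
      obtain ⟨a, h2, h3⟩ := ih h1
      exact ⟨a, List.mem_cons_of_mem _ h2, h3⟩
    | true => exact ⟨b, List.mem_cons_self, hb⟩

theorem cond_le {b : Bool} {x y z : ℕ} (h1 : b = true → z ≤ x) (h2 : b = false → z ≤ y) : z ≤ cond b x y := by
  cases b
  · exact h2 rfl
  · exact h1 rfl

/-! ### definitions -/

/-- the numbers of a candidate -/
structure Cx where
  N : ℕ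
  j : ℕ
  a : ℕ
  d : ℕ
  n : ℕ
  mu : ℕ
  m : ℕ
  k : ℕ

/-- the numbers are evaluated -/
noncomputable def mkCx (N j a d n : ℕ) (κ : Cx → Bool) : Bool :=
  frc (Nat.div a d) fun mu => frc (Nat.mul j mu) fun m => frc (Nat.div (Nat.sub n 1) d) fun k =>
    κ ⟨N, j, a, d, n, mu, m, k⟩

theorem mkCx_eq (N j a d n : ℕ) (κ : Cx → Bool) :
    mkCx N j a d n κ = κ ⟨N, j, a, d, n, a / d, j * (a / d), (n - 1) / d⟩ := by
  rw [mkCx, frc_eq, frc_eq, frc_eq]
  rfl

/-- states: `(prime, [(type, size, bound)])` -/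
abbrev St : Type := List (ℕ × List (ℕ × ℕ × ℕ))

/-- new bounds -/
noncomputable def mapS (φ : ℕ → ℕ × ℕ × ℕ → ℕ) (S : St) : St :=
  mapL (fun g => (g.1, mapL (fun e => (e.1, e.2.1, φ g.1 e)) g.2)) S

/-- evaluate the bounds -/
noncomputable def frcE {β : Type} (L : List (ℕ × ℕ × ℕ)) : (List (ℕ × ℕ × ℕ) → β) → β :=
  List.rec (fun κ => κ []) (fun e _ ih κ => frc e.1 fun x => frc e.2.1 fun y => frc e.2.2 fun z =>
    ih fun L' => κ ((x, y, z) :: L')) L

theorem frcE_eq {β : Type} (L : List (ℕ × ℕ × ℕ)) (κ : List (ℕ × ℕ × ℕ) → β) : frcE L κ = κ L := by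
  induction L generalizing κ with
  | nil => rfl
  | cons e L ih =>
    show (frc e.1 fun x => frc e.2.1 fun y => frc e.2.2 fun z => frcE L fun L' => κ ((x, y, z) :: L')) = _
    rw [frc_eq, frc_eq, frc_eq, ih]

/-- evaluate a state -/
noncomputable def frcS {β : Type} (S : St) : (St → β) → β :=
  List.rec (fun κ => κ []) (fun g _ ih κ => frc g.1 fun p => frcE g.2 fun L => ih fun S' => κ ((p, L) :: S')) S

theorem frcS_eq {β : Type} (S : St) (κ : St → β) : frcS S κ = κ S := by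
  induction S generalizing κ with
  | nil => rfl
  | cons g S ih =>
    show (frc g.1 fun p => frcE g.2 fun L => frcS S fun S' => κ ((p, L) :: S')) = _
    rw [frc_eq, frcE_eq, ih]

/-- rounding -/
noncomputable def rnd (c : Cx) (p ct f : ℕ) : ℕ :=
  frc (Nat.div c.n (Nat.gcd c.n ct)) fun u => frc (Nat.mul u (Nat.div f u)) fun f1 =>
    cond (dv p c.d) f1 (cond (Nat.ble f1 c.k) 0 f1)

/-- the first bounds -/
noncomputable def ini (c : Cx) (p : ℕ) (e : ℕ × ℕ × ℕ) : ℕ :=
  cond (dv p c.a) (rnd c p e.2.1 (mn (Nat.div (Nat.mul c.n (Nat.sub c.a 1)) e.2.1)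
    (cond (dv p c.m) (cond (Nat.beq e.2.2 0) c.n
      (cond (dv p c.d && !dv p c.j && dv (p ^ 2) c.N && !dv (p ^ 3) c.N) (Nat.div e.2.2 (p ^ 2)) c.n)) 1))) 0

/-- the bound for the type `q` is less than `l` -/
noncomputable def upd (c : Cx) (q l p : ℕ) (e : ℕ × ℕ × ℕ) : ℕ :=
  cond (Nat.beq e.1 q) (rnd c p e.2.1 (mn e.2.2 (Nat.sub l 1))) e.2.2

/-- the upper bound for the number of elements of a type in `A` -/
noncomputable def hiN (c : Cx) (G ct : ℕ) : ℕ := mn (Nat.div (Nat.mul G ct) c.n) (Nat.sub c.a 1)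

/-- the lower bound -/
noncomputable def loN (c : Cx) (L ct : ℕ) : ℕ := Nat.div (Nat.add (Nat.mul L ct) (Nat.sub c.n 1)) c.n

/-- the bound of the row `U` -/
noncomputable def usum (c : Cx) (L : List (ℕ × ℕ × ℕ)) : ℕ :=
  List.rec 0 (fun e _ ih => frc e.2.2 fun f => Nat.add (Nat.mul (hiN c f e.2.1) (Nat.sub f 1)) ih) L

/-- the test `U` -/
noncomputable def uT (c : Cx) (S : St) : Bool :=
  anyL (fun g => cond (dv g.1 c.mu) (Nat.blt (usum c g.2) (Nat.mul (Nat.sub g.1 1) (Nat.sub c.n 1))) false) S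

/-- the bound of a type of prime order -/
noncomputable def lkS (n : ℕ) (S : St) (q : ℕ) : ℕ :=
  List.rec n (fun g _ ih => List.rec ih (fun e _ ih' => cond (Nat.beq e.1 q) e.2.2 ih') g.2) S

/-- the description of a type: number, order, size, types of some powers -/
abbrev Ze : Type := ℕ × ℕ × ℕ × List ℕ

/-- the bound of a type -/
noncomputable def gT (c : Cx) (S : St) (z : Ze) : ℕ :=
  cond (dv z.2.1 c.a) (List.rec (cond (dv z.2.1 c.m) c.n 1) (fun q _ ih => mn (lkS c.n S q) ih) z.2.2.2) 0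

/-- an empty box -/
noncomputable def boxT (c : Cx) (S : St) (Z : List Ze) : Bool :=
  frc (Nat.pow c.d 7) fun d7 => anyL (fun z => cond (dv (Nat.gcd z.2.1 d7) c.m) false
    (Nat.blt (hiN c (gT c S z) z.2.2.1) (loN c 1 z.2.2.1))) Z

/-! ### the meaning -/

variable {K : Type u} [Group K] {D : Dat} {T : TD K D} {A : Subgroup K} {d j : ℕ} {c : Cx}

/-- the shape of a state, with a property of the bounds -/
def Gd (T : TD K D) (Q : K → ℕ → Prop) (S : St) : Prop :=
  ∀ g ∈ S, g.1.Prime ∧ (∀ x, orderOf x = g.1 → T.ty x ∈ g.2.map Prod.fst) ∧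
    ∀ e ∈ g.2, D.ord e.1 = g.1 ∧ D.cnt e.1 = e.2.1 ∧ e.1 < D.n ∧ ∀ x, T.ty x = e.1 → Q x e.2.2

theorem Gd.mapS {Q Q' : K → ℕ → Prop} {S : St} (h : Gd T Q S) {φ : ℕ → ℕ × ℕ × ℕ → ℕ}
    (hφ : ∀ p e x, p.Prime → orderOf x = p → T.ty x = e.1 → D.cnt e.1 = e.2.1 → Q x e.2.2 → Q' x (φ p e)) :
    Gd T Q' (mapS φ S) := by
  intro g' hg'
  rw [Spor.mapS, mapL_eq] at hg'
  obtain ⟨g, hg, rfl⟩ := List.mem_map.1 hg'
  obtain ⟨h1, h2, h3⟩ := h g hg
  refine ⟨h1, fun x hx => ?_, fun e' he' => ?_⟩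
  · rw [mapL_eq, List.map_map]
    exact h2 x hx
  · rw [mapL_eq] at he'
    obtain ⟨e, he, rfl⟩ := List.mem_map.1 he'
    obtain ⟨h4, h5, h6, h7⟩ := h3 e he
    exact ⟨h4, h5, h6, fun x hx => hφ g.1 e x h1 (by rw [T.ord, hx, h4]) hx h5 (h7 x hx)⟩

/-- the entry describes its type -/
def ZOk (D : Dat) (z : Ze) : Prop :=
  z.1 < D.n ∧ D.ord z.1 = z.2.1 ∧ z.2.1 ≠ 1 ∧ D.cnt z.1 = z.2.2.1 ∧ ∀ q ∈ z.2.2.2, ∃ e, D.pwf z.1 e = q

/-- the situation -/
structure Hy (T : TD K D) (A : Subgroup K) (d j : ℕ) (c : Cx) : Prop where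
  mass : T.Mass
  unif : Unif T
  w : W A d j
  eq : c = ⟨D.N, j, Nat.card A, d, A.index, Nat.card A / d, j * (Nat.card A / d), (A.index - 1) / d⟩

theorem num_def (T : TD K D) (A : Subgroup K) (t : ℕ) : num T A t = Nat.card {s : A // T.ty s = t} := rfl

theorem fix_def (A : Subgroup K) (x : K) : fix A x = Nat.card (fixedBy (K ⧸ A) x) := rfl

variable [Finite K]

open Classical in
theorem index_mul_num [Fintype K] (T : TD K D) (A : Subgroup K) (t : ℕ) :
    A.index * num T A t = ∑ g : K, if T.ty g = t then fix A g else 0 := by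
  have := Fintype.ofFinite (K ⧸ A)
  have h1 : ∀ g : K, (if T.ty g = t then fix A g else 0) =
      ∑ β : K ⧸ A, if T.ty g = t ∧ g • β = β then 1 else 0 := fun g => by
    split_ifs with h
    · rw [fix_def, Nat.card_eq_fintype_card, Fintype.card_subtype, Finset.card_filter]
      exact Finset.sum_congr rfl fun β _ => by simp only [h, true_and, mem_fixedBy]
    · simp only [h, false_and, if_false, Finset.sum_const_zero]
  simp only [h1]
  rw [Finset.sum_comm, Finset.sum_congr rfl (g := fun _ => num T A t), Finset.sum_const, Finset.card_univ,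
    ← Nat.card_eq_fintype_card, smul_eq_mul]
  · rfl
  intro β _
  induction β using QuotientGroup.induction_on with
  | _ y =>
  rw [← Finset.card_filter, ← Fintype.card_subtype, ← Nat.card_eq_fintype_card]
  refine Nat.card_congr ⟨fun g => ⟨⟨y⁻¹ * g * y, mem_cj.1 ((smul_coe_eq_iff _ _).1 g.2.2)⟩, ?_⟩,
    fun s => ⟨y * s.1 * y⁻¹, (T.conj _ _).trans s.2, (smul_coe_eq_iff _ _).2 (conj_mem_cj y s.1.2)⟩,
    fun g => Subtype.ext (by simp [mul_assoc]), fun s => Subtype.ext (Subtype.ext (by simp [mul_assoc]))⟩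
  have h2 := T.conj g y⁻¹
  rw [inv_inv] at h2
  exact h2.trans g.2.1

omit [Finite K] in
open Classical in
theorem mul_cnt [Fintype K] (hm : T.Mass) {t : ℕ} (ht : t < D.n) (G : ℕ) :
    G * D.cnt t = ∑ g : K, if T.ty g = t then G else 0 := by
  rw [← hm.2 t ht, Nat.card_eq_fintype_card, Fintype.card_subtype, ← Finset.sum_filter, Finset.sum_const, smul_eq_mul,
    mul_comm]

theorem num_mul_le (hm : T.Mass) {t G : ℕ} (ht : t < D.n) (h : ∀ x, T.ty x = t → fix A x ≤ G) :
    A.index * num T A t ≤ G * D.cnt t := by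
  have := Fintype.ofFinite K
  rw [index_mul_num, mul_cnt hm ht]
  refine Finset.sum_le_sum fun g _ => ?_
  split_ifs with h1
  exacts [h g h1, le_rfl]

theorem le_num_mul (hm : T.Mass) {t G : ℕ} (ht : t < D.n) (h : ∀ x, T.ty x = t → G ≤ fix A x) :
    G * D.cnt t ≤ A.index * num T A t := by
  have := Fintype.ofFinite K
  rw [index_mul_num, mul_cnt hm ht]
  refine Finset.sum_le_sum fun g _ => ?_
  split_ifs with h1
  exacts [h g h1, le_rfl]

theorem num_le_pred {t : ℕ} (ht : D.ord t ≠ 1) : num T A t ≤ Nat.card A - 1 := by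
  rw [← ncard_sdiff_one, ← Nat.card_coe_set_eq]
  refine Nat.card_le_card_of_injective (fun s => ⟨s.1.1, s.1.2, fun h => ht ?_⟩)
    fun a b hab => Subtype.ext (Subtype.ext (congrArg Subtype.val hab :))
  rw [← s.2, ← T.ord, show (s.1 : K) = 1 from h, orderOf_one]

theorem Unif.fix_eq (hu : Unif T) {x y : K} (hp : (orderOf x).Prime) (h : T.ty x = T.ty y) : fix A x = fix A y := by
  obtain ⟨k, hk⟩ := hu x y hp h
  obtain ⟨l, hl⟩ := hu y x (by rwa [T.ord, ← h, ← T.ord]) h.symm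
  exact le_antisymm (fix_le_of_isConj A hk) (fix_le_of_isConj A hl)

theorem Hy.n_pos (_ : Hy T A d j c) : 0 < A.index := Nat.pos_of_ne_zero Subgroup.index_ne_zero_of_finite

theorem Hy.fix_mul (H : Hy T A d j c) {x : K} (hp : (orderOf x).Prime) :
    fix A x * D.cnt (T.ty x) = A.index * num T A (T.ty x) :=
  le_antisymm (le_num_mul H.mass (T.lt x) fun _ hy => (H.unif.fix_eq hp hy.symm).le)
    (num_mul_le H.mass (T.lt x) fun _ hy => (H.unif.fix_eq hp hy.symm).ge)

theorem fix_le_index (A : Subgroup K) (x : K) : fix A x ≤ A.index :=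
  Nat.card_le_card_of_injective _ Subtype.val_injective

theorem Hy.rnd (H : Hy T A d j c) {x : K} {p ct f : ℕ} (hp : p.Prime) (hx : orderOf x = p)
    (hc : D.cnt (T.ty x) = ct) (hf : fix A x ≤ f) : fix A x ≤ rnd c p ct f := by
  have h1 := H.fix_mul (hx ▸ hp)
  have h0 : 0 < Nat.gcd A.index ct := Nat.gcd_pos_of_pos_left _ H.n_pos
  have h2 : A.index / Nat.gcd A.index ct ∣ fix A x := by
    refine (Nat.coprime_div_gcd_div_gcd h0).dvd_of_dvd_mul_right ⟨num T A (T.ty x), ?_⟩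
    refine Nat.eq_of_mul_eq_mul_right h0 ?_
    rw [mul_assoc, Nat.div_mul_cancel (Nat.gcd_dvd_right _ _), mul_right_comm,
      Nat.div_mul_cancel (Nat.gcd_dvd_left _ _), ← h1, hc]
  have h3 : fix A x ≤ A.index / Nat.gcd A.index ct * (f / (A.index / Nat.gcd A.index ct)) := by
    obtain ⟨t, ht⟩ := h2
    rw [ht] at hf ⊢
    refine Nat.mul_le_mul_left _ ((Nat.le_div_iff_mul_le ?_).2 (mul_comm t _ ▸ hf))
    exact Nat.div_pos (Nat.le_of_dvd H.n_pos (Nat.gcd_dvd_left _ _)) h0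
  rw [Spor.rnd, frc_eq, frc_eq, H.eq]
  refine cond_le (fun _ => h3) fun h4 => cond_le (fun h5 => ?_) fun _ => h3
  by_contra h6
  have h7 := H.w.sig (hx ▸ hp) (hx ▸ dv_false h4) (by omega)
  have h8 := h3.trans (Nat.le_of_ble_eq_true h5)
  exact absurd (h7.trans h8) (Nat.not_succ_le_self _)

theorem cnt_pos (hm : T.Mass) (x : K) : 0 < D.cnt (T.ty x) := by
  rw [← hm.2 _ (T.lt x)]
  exact Nat.card_pos_iff.2 ⟨⟨⟨x, rfl⟩⟩, inferInstance⟩

/-- the bounds for the centralizers -/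
def QC (x : K) (b : ℕ) : Prop := b = 0 ∨ Nat.card (Subgroup.centralizer ({x} : Set K)) ≤ b

theorem Hy.ini (H : Hy T A d j c) {S : St} (h : Gd T QC S) : Gd T (fun x f => fix A x ≤ f) (mapS (ini c) S) := by
  refine h.mapS fun p e x hp hx h1 h2 h3 => ?_
  rw [← h1] at h2
  have h4 := H.eq
  refine cond_le (fun _ => H.rnd hp hx h2 (le_mn ?_ ?_)) fun h5 => ?_
  · rw [h4, ← h2]
    refine (Nat.le_div_iff_mul_le (cnt_pos H.mass x)).2 ?_
    rw [H.fix_mul (hx ▸ hp)]
    exact Nat.mul_le_mul_left _ (num_le_pred (by rw [← T.ord, hx]; exact hp.one_lt.ne'))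
  · subst h4
    refine cond_le (fun _ => cond_le (fun _ => fix_le_index A x) fun h5 => cond_le (fun h6 => ?_)
      fun _ => fix_le_index A x) fun h5 => H.w.fix_le_one (hx ▸ dv_false h5)
    simp only [Bool.and_eq_true, Bool.not_eq_true', dv_iff] at h6
    have h7 := H.w.fix_mul_le hp hx h6.1.1.1 (dv_false h6.1.1.2) (H.mass.1 ▸ h6.1.2) (H.mass.1 ▸ dv_false h6.2)
    refine (Nat.le_div_iff_mul_le (pow_pos hp.pos 2)).2 (h7.trans (h3.resolve_left fun h8 => ?_))
    rw [h8] at h5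
    cases h5
  · subst h4
    exact (fix_eq_zero (hx ▸ dv_false h5)).le

theorem Hy.upd (H : Hy T A d j c) {S : St} (h : Gd T (fun x f => fix A x ≤ f) S) {q l : ℕ}
    (hq : ¬ ∀ x, T.ty x = q → l ≤ fix A x) : Gd T (fun x f => fix A x ≤ f) (mapS (upd c q l) S) := by
  refine h.mapS fun p e x hp hx h1 h2 h3 => cond_le (fun h4 => H.rnd hp hx (h1 ▸ h2) (le_mn h3 ?_)) fun _ => h3
  by_contra h5
  refine hq fun y hy => ?_
  rw [← H.unif.fix_eq (hx ▸ hp) (h1.trans ((Nat.eq_of_beq_eq_true h4).trans hy.symm))]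
  have h6 : ¬ fix A x ≤ l - 1 := h5
  omega

theorem Hy.hiN (H : Hy T A d j c) {t G : ℕ} (ht : t < D.n) (h1 : D.ord t ≠ 1) (h : ∀ x, T.ty x = t → fix A x ≤ G) :
    num T A t ≤ hiN c G (D.cnt t) := by
  rw [H.eq]
  exact le_mn ((Nat.le_div_iff_mul_le H.n_pos).2 (mul_comm A.index _ ▸ num_mul_le H.mass ht h)) (num_le_pred h1)

theorem Hy.loN (H : Hy T A d j c) {t L : ℕ} (ht : t < D.n) (h : ∀ x, T.ty x = t → L ≤ fix A x) :
    loN c L (D.cnt t) ≤ num T A t := by
  rw [H.eq]
  have h1 := le_num_mul H.mass ht h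
  have h2 := H.n_pos
  refine Nat.le_of_lt_succ ((Nat.div_lt_iff_lt_mul h2).2 ?_)
  show L * D.cnt t + (A.index - 1) < (num T A t + 1) * A.index
  rw [add_mul, one_mul, mul_comm (num T A t)]
  omega

omit [Finite K] in
open Classical in
theorem num_mul [Fintype A] (t G : ℕ) : num T A t * G = ∑ x : A, if T.ty x = t then G else 0 := by
  rw [num_def, Nat.card_eq_fintype_card, Fintype.card_subtype, ← Finset.sum_filter, Finset.sum_const, smul_eq_mul]

theorem Hy.uT (H : Hy T A d j c) {S : St} (h : Gd T (fun x f => fix A x ≤ f) S) : ¬ uT c S = true := by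
  classical
  intro h1
  have := Fintype.ofFinite A
  obtain ⟨g, hg, h2⟩ := anyL_spec h1
  obtain ⟨hp, h3, h4⟩ := h g hg
  have key : ∀ (L : List (ℕ × ℕ × ℕ)), (∀ e ∈ L, e ∈ g.2) →
      ∑ x : A, (if T.ty x ∈ L.map Prod.fst then fix A (x : K) - 1 else 0) ≤ usum c L := by
    intro L hL
    induction L with
    | nil => exact (Finset.sum_eq_zero fun x _ => if_neg List.not_mem_nil).le
    | cons e L ih =>
      obtain ⟨h5, h6, h7, h8⟩ := h4 e (hL e List.mem_cons_self)
      have h9 : usum c (e :: L) = Spor.hiN c e.2.2 e.2.1 * (e.2.2 - 1) + usum c L :=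
        frc_eq e.2.2 fun f => Spor.hiN c f e.2.1 * (f - 1) + usum c L
      rw [h9, ← h6]
      refine le_trans ?_ (Nat.add_le_add (Nat.mul_le_mul_right _ (H.hiN h7 (h5 ▸ hp.one_lt.ne') h8))
        (ih fun e' he' => hL e' (List.mem_cons_of_mem _ he')))
      rw [num_mul, ← Finset.sum_add_distrib]
      refine Finset.sum_le_sum fun x _ => ?_
      by_cases h10 : T.ty x = e.1
      · rw [if_pos h10, if_pos (by rw [List.map_cons, h10]; exact List.mem_cons_self)]
        exact (Nat.sub_le_sub_right (h8 x h10) 1).trans (Nat.le_add_right _ _)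
      · simp only [List.map_cons, List.mem_cons, h10, false_or, if_false, zero_add, le_refl]
  cases h5 : dv g.1 c.mu with
  | false =>
    rw [h5] at h2
    cases h2
  | true =>
    rw [h5, cond_true, Nat.blt_eq] at h2
    rw [H.eq] at h5
    have h6 := (H.w.rowU hp (dv_iff.1 h5)).trans (le_trans (Finset.sum_le_sum fun x _ => ?_) (key g.2 fun _ h => h))
    · rw [H.eq] at h2 h6
      exact absurd h6 (not_le.2 h2)
    · split_ifs with h7 h8
      exacts [le_rfl, absurd (h3 x h7) h8, Nat.zero_le _, le_rfl]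

theorem Hy.lkS (H : Hy T A d j c) {S : St} (h : Gd T (fun x f => fix A x ≤ f) S) (x : K) :
    fix A x ≤ lkS c.n S (T.ty x) := by
  induction S with
  | nil =>
    rw [H.eq]
    exact fix_le_index A x
  | cons g S ih =>
    have h1 := ih fun g' hg' => h g' (List.mem_cons_of_mem _ hg')
    have h2 := (h g List.mem_cons_self).2.2
    show fix A x ≤ List.rec (Spor.lkS c.n S (T.ty x)) (fun e _ ih' => cond (Nat.beq e.1 (T.ty x)) e.2.2 ih') g.2
    generalize g.2 = L at h2
    induction L with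
    | nil => exact h1
    | cons e L ih' =>
      exact cond_le (fun h3 => (h2 e List.mem_cons_self).2.2.2 x (Nat.eq_of_beq_eq_true h3).symm)
        fun _ => ih' fun e' he' => h2 e' (List.mem_cons_of_mem _ he')

theorem Hy.gT (H : Hy T A d j c) {S : St} (h : Gd T (fun x f => fix A x ≤ f) S) {z : Ze} (hz : ZOk D z) (x : K)
    (hx : T.ty x = z.1) : fix A x ≤ gT c S z := by
  obtain ⟨-, h1, -, -, h2⟩ := hz
  have h3 : orderOf x = z.2.1 := by rw [T.ord, hx, h1]
  refine cond_le (fun _ => ?_) fun h4 => ?_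
  · generalize z.2.2.2 = L at h2
    induction L with
    | nil =>
      rw [H.eq]
      exact cond_le (fun _ => fix_le_index A x) fun h5 => H.w.fix_le_one (h3 ▸ dv_false h5)
    | cons q L ih =>
      refine le_mn ?_ (ih fun q' hq' => h2 q' (List.mem_cons_of_mem _ hq'))
      obtain ⟨e, he⟩ := h2 q List.mem_cons_self
      rw [← he, ← hx, ← T.pow]
      exact (fix_le_pow A x e).trans (H.lkS h _)
  · rw [H.eq] at h4
    exact (fix_eq_zero (h3 ▸ dv_false h4)).le

theorem Hy.one (H : Hy T A d j c) {z : Ze} (hz : ZOk D z) (h : dv (Nat.gcd z.2.1 (Nat.pow c.d 7)) c.m = false) (x : K)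
    (hx : T.ty x = z.1) : 1 ≤ fix A x := by
  rw [H.eq] at h
  exact H.w.one_le_fix (e := 7) (by rw [T.ord, hx, hz.2.1]; exact dv_false h)

theorem Hy.boxT (H : Hy T A d j c) {S : St} (h : Gd T (fun x f => fix A x ≤ f) S) {Z : List Ze}
    (hZ : ∀ z ∈ Z, ZOk D z) : ¬ boxT c S Z = true := by
  intro h1
  rw [Spor.boxT, frc_eq] at h1
  obtain ⟨z, hz, h2⟩ := anyL_spec h1
  have h3 := hZ z hz
  cases h4 : dv (Nat.gcd z.2.1 (Nat.pow c.d 7)) c.m with
  | true =>
    rw [h4] at h2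
    cases h2
  | false =>
    rw [h4, cond_false, Nat.blt_eq, ← h3.2.2.2.1] at h2
    exact absurd ((H.loN h3.1 (H.one h3 h4)).trans (H.hiN h3.1 (h3.2.1 ▸ h3.2.2.1) (H.gT h h3))) (not_le.2 h2)

end Cfsg.Agent.TH.Spor
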