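import Cfsg.Agent.TH.Spor.EngA

/-!
# S3541, sporadic rows: the engine, certificates (helper26)
-/

set_option autoImplicit false

namespace Cfsg.Agent.TH.Spor

open Cfsg Cfsg.Agent.TAB.Eng Cfsg.Agent.TAB.Use Cfsg.Agent.SB.SporL MulAction Finset

universe u

/-- rows: the constituents `(degree, coefficient)` and the values -/
abbrev Rw : Type := List (ℕ × ℤ) × List ℤ

/-- the sign rule -/
noncomputable def sgn (c : Cx) (y : ℤ) (L : List (ℕ × ℤ)) : Bool :=
  allL (fun p => cond (dv (Nat.mul c.mu p.1) c.N) (Int.rec (fun _ => true) (fun _ => false) (Int.mul y p.2)) true) L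

/-- the rows of a table -/
noncomputable def prep (dg : List ℕ) (R : Rows) : List Rw :=
  mapL (fun r => (mapL (fun p => (ntd dg 0 p.1, p.2)) r.1, r.2)) R.rel

/-- evaluate rows -/
noncomputable def frcRw {β : Type} (L : List Rw) : (List Rw → β) → β :=
  List.rec (fun κ => κ []) (fun r _ ih κ => frcW r.1 fun x => frcLZ r.2 fun y => ih fun L' => κ ((x, y) :: L')) L

theorem frcRw_eq {β : Type} (L : List Rw) (κ : List Rw → β) : frcRw L κ = κ L := by
  induction L generalizing κ with
  | nil => rfl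
  | cons r L ih =>
    show (frcW r.1 fun x => frcLZ r.2 fun y => frcRw L fun L' => κ ((x, y) :: L')) = _
    rw [frcW_eq, frcLZ_eq, ih]

/-- evaluate the table -/
noncomputable def frcR (R : Rows) (κ : List Rw → Bool) : Bool := frcL R.deg fun dg => frcRw (prep dg R) κ

theorem frcR_eq (R : Rows) (κ : List Rw → Bool) : frcR R κ = κ (prep R.deg R) := by
  rw [frcR, frcL_eq, frcRw_eq]

/-- the constituents exist -/
noncomputable def okIdx (R : Rows) : Bool :=
  frc R.n fun n => allL (fun r => allL (fun p => Nat.blt p.1 n) r.1) R.rel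

/-- the combination of the rows -/
noncomputable def accC (c : Cx) (RL : List Rw) (ce : List (ℤ × ℕ)) : List ℤ → (List ℤ → Bool) → Bool :=
  List.rec (fun V κ => κ V) (fun p _ ih V κ => Prod.rec (fun L w =>
    cond (sgn c p.1 L) (frcLZ (axz p.1 V w) fun V' => ih V' κ) false) (ntd RL ([], []) p.2)) ce

/-- the lower bound for the fixed points -/
noncomputable def lT (c : Cx) (d7 q l : ℕ) (z : Ze) : ℕ :=
  cond (Nat.beq z.1 q) l (cond (dv (Nat.gcd z.2.1 d7) c.m) 0 1)

/-- the maximum over the boxes is negative -/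
noncomputable def bm (c : Cx) (S : St) (d7 q l s : ℕ) (Z : List Ze) : List ℤ → ℕ → ℕ → Bool :=
  List.rec (fun _ x y => Nat.blt x y) (fun z _ ih V x y => List.rec false (fun w V' _ =>
    frc (gT c S z) fun G => Int.rec
      (fun m => frc (Nat.add x (Nat.mul (hiN c G z.2.2.1) m)) fun x' => ih V' x' y)
      (fun m => frc (Nat.add y (Nat.mul (loN c (lT c d7 q l z) z.2.2.1) (Nat.succ m))) fun y' => ih V' x y')
      (Int.add w (Int.ofNat (Nat.mul s (Nat.sub G 1))))) V) Z

theorem bm_cons (c : Cx) (S : St) (d7 q l s : ℕ) (z : Ze) (Z : List Ze) (w : ℤ) (V : List ℤ) (x y : ℕ) :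
    bm c S d7 q l s (z :: Z) (w :: V) x y = Int.rec
      (fun m => bm c S d7 q l s Z V (x + hiN c (gT c S z) z.2.2.1 * m) y)
      (fun m => bm c S d7 q l s Z V x (y + loN c (lT c d7 q l z) z.2.2.1 * (m + 1)))
      (w + ((s * (gT c S z - 1) : ℕ) : ℤ)) := by
  have h : bm c S d7 q l s (z :: Z) (w :: V) x y = frc (gT c S z) fun G => Int.rec
      (fun m => frc (Nat.add x (Nat.mul (hiN c G z.2.2.1) m)) fun x' => bm c S d7 q l s Z V x' y)
      (fun m => frc (Nat.add y (Nat.mul (loN c (lT c d7 q l z) z.2.2.1) (Nat.succ m))) fun y' =>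
        bm c S d7 q l s Z V x y') (Int.add w (Int.ofNat (Nat.mul s (Nat.sub G 1)))) := rfl
  rw [h]
  simp only [frc_eq]
  rfl

/-- a step: type, bound, multipliers of the trivial character, of the row `S` and of the rows of the table -/
abbrev Step : Type := ℕ × ℕ × ℤ × ℕ × List (ℤ × ℕ)

/-- the check of a step -/
noncomputable def far (c : Cx) (RL : List Rw) (Z : List Ze) (nD : ℕ) (S : St) (st : Step) : Bool :=
  accC c RL st.2.2.2.2 (List.replicate nD st.2.2.1) fun V => List.rec false (fun v V' _ =>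
    frc (Nat.pow c.d 7) fun d7 => Int.rec (fun x => bm c S d7 st.1 st.2.1 st.2.2.2.1 Z V' x 0)
      (fun y => bm c S d7 st.1 st.2.1 st.2.2.2.1 Z V' 0 (Nat.succ y))
      (Int.sub v (Int.add (Int.mul st.2.2.1 (Int.ofNat c.a))
        (Int.ofNat (Nat.mul st.2.2.2.1 (Nat.mul (Nat.sub c.mu 1) (Nat.sub c.n 1))))))) V

/-- the steps -/
noncomputable def run (c : Cx) (RL : List Rw) (Z : List Ze) (nD : ℕ) (L : List Step) : St → Bool :=
  List.rec (fun S => cond (uT c S) true (boxT c S Z)) (fun st _ ih S => cond (far c RL Z nD S st)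
    (cond (Nat.beq st.2.1 0) true (frcS (mapS (upd c st.1 st.2.1) S) ih)) false) L

/-- a candidate: order, subdegree, steps -/
noncomputable def okC (N j : ℕ) (P : St) (RL : List Rw) (Z : List Ze) (nD : ℕ) (x : ℕ × ℕ × List Step) : Bool :=
  frc (Nat.div N x.1) fun n => mkCx N j x.1 x.2.1 n fun c => frcS (mapS (ini c) P) (run c RL Z nD x.2.2)

/-- the candidates -/
noncomputable def okL (D : Dat) (R : Rows) (j : ℕ) (P : St) (Z : List Ze) (CL : List (ℕ × ℕ × List Step)) : Bool :=
  frc D.N fun N => frc D.n fun nD => frcR R fun RL => allL (okC N j P RL Z nD) CL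

/-- the list of the types -/
noncomputable def okZ (D : Dat) (Z : List Ze) : Bool :=
  Nat.beq (D.ord 0) 1 && Nat.blt 0 D.n && decide (Z.map Prod.fst = List.range' 1 (D.n - 1)) &&
    allL (fun z => Nat.beq (D.ord z.1) z.2.1 && !Nat.beq z.2.1 1 && Nat.beq (D.cnt z.1) z.2.2.1 &&
      allL (fun q => anyL (fun p => Nat.beq (D.pwf z.1 p.1) q) (D.pw z.1)) z.2.2.2) Z

/-- the list of the types of prime order -/
noncomputable def okS (D : Dat) (L : List (ℕ × ℕ)) (P : St) : Bool :=
  allL (fun g => isPr g.1 && allL (fun t => !Nat.beq (D.ord t) g.1 || memL t (g.2.map Prod.fst)) (List.range D.n) &&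
    allL (fun e => Nat.beq (D.ord e.1) g.1 && Nat.beq (D.cnt e.1) e.2.1 && Nat.blt e.1 D.n &&
      (Nat.beq e.2.2 0 || decide ((e.1, e.2.2) ∈ L))) g.2) P

variable {K : Type u} [Group K] {D : Dat} {T : TD K D} {A : Subgroup K} {d j : ℕ} {c : Cx}

/-- the meaning of `okZ` -/
structure ZS (D : Dat) (Z : List Ze) : Prop where
  zero : D.ord 0 = 1
  pos : 0 < D.n
  seq : Z.map Prod.fst = List.range' 1 (D.n - 1)
  ok : ∀ z ∈ Z, ZOk D z

theorem zs_of {Z : List Ze} (h : okZ D Z = true) : ZS D Z := by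
  simp only [okZ, Bool.and_eq_true, Nat.beq_eq, Nat.blt_eq, decide_eq_true_eq] at h
  obtain ⟨⟨⟨h1, h2⟩, h3⟩, h4⟩ := h
  refine ⟨h1, h2, h3, fun z hz => ?_⟩
  have h5 := allL_spec h4 z hz
  simp only [Bool.and_eq_true, Nat.beq_eq] at h5
  obtain ⟨⟨⟨h6, h7⟩, h8⟩, h9⟩ := h5
  refine ⟨?_, h6, ne_of_not_beq h7, h8, fun q hq => ?_⟩
  · have h10 := List.mem_range'_1.1 (h3 ▸ List.mem_map_of_mem hz)
    omega
  · obtain ⟨p, -, h10⟩ := anyL_spec (allL_spec h9 q hq)
    exact ⟨p.1, Nat.eq_of_beq_eq_true h10⟩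

theorem gd_of {L : List (ℕ × ℕ)} {P : St} (h : okS D L P = true)
    (hL : ∀ p ∈ L, ∀ x, T.ty x = p.1 → Nat.card (Subgroup.centralizer ({x} : Set K)) ≤ p.2) : Gd T QC P := by
  intro g hg
  have h1 := allL_spec h g hg
  simp only [Bool.and_eq_true] at h1
  refine ⟨isPr_spec h1.1.1, fun x hx => ?_, fun e he => ?_⟩
  · have h2 := allL_spec h1.1.2 _ (List.mem_range.2 (T.lt x))
    rw [← T.ord, hx, Nat.beq_refl] at h2
    exact memL_spec h2
  · have h2 := allL_spec h1.2 e he
    simp only [Bool.and_eq_true, Bool.or_eq_true, Nat.beq_eq, Nat.blt_eq, decide_eq_true_eq] at h2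
    exact ⟨h2.1.1.1, h2.1.1.2, h2.1.2, fun x hx => h2.2.imp id fun h3 => hL (e.1, e.2.2) h3 x hx⟩

/-- the sign rule holds for the row -/
def RowOk (T : TD K D) (A : Subgroup K) (c : Cx) (r : Rw) : Prop :=
  ∀ y : ℤ, sgn c y r.1 = true → 0 ≤ y * ∑ t ∈ range D.n, (num T A t : ℤ) * nth r.2 t

theorem allL_cons {β : Type} {f : β → Bool} {a : β} {r : List β} (h : allL f (a :: r) = true) :
    f a = true ∧ allL f r = true := by
  have h1 : cond (f a) (allL f r) false = true := h
  cases h2 : f a with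
  | false =>
    rw [h2] at h1
    cases h1
  | true =>
    rw [h2] at h1
    exact ⟨rfl, h1⟩

theorem ntd_eq (l : List ℕ) (n : ℕ) : ntd l 0 n = l.getD n 0 := by
  induction l generalizing n with
  | nil => rfl
  | cons a l ih => cases n with
    | zero => rfl
    | succ n => exact ih n

theorem rowOk_of (hC : BoxCH) {K : Type} [Group K] [Finite K] {T : TD K D} {A : Subgroup K} (H : Hy T A d j c)
    {R : Rows} (h : Tab T R) (hi : okIdx R = true) : ∀ r ∈ prep R.deg R, RowOk T A c r := by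
  obtain ⟨χ, hE, hR⟩ := h
  intro r' hr' y hy
  rw [prep, mapL_eq] at hr'
  obtain ⟨r, hr, rfl⟩ := List.mem_map.1 hr'
  rw [okIdx, frc_eq] at hi
  have := Fintype.ofFinite A
  have h1 : ∀ L : List (ℕ × ℤ), (∀ p ∈ L, p.1 < R.n) → sgn c y (mapL (fun p => (ntd R.deg 0 p.1, p.2)) L) = true →
      ∃ m : ℤ, ∑ s : A, (L.map fun p => (p.2 : ℂ) * χ p.1 s).sum = m ∧ 0 ≤ y * m := by
    intro L h2 h3
    induction L with
    | nil => exact ⟨0, by simp, (mul_zero y).ge⟩
    | cons p L ih =>
      have h4 : cond (dv (Nat.mul c.mu (ntd R.deg 0 p.1)) c.N)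
          (Int.rec (fun _ => true) (fun _ => false) (Int.mul y p.2)) true = true := (allL_cons h3).1
      obtain ⟨m, hm, hm'⟩ := ih (fun q hq => h2 q (List.mem_cons_of_mem _ hq)) (allL_cons h3).2
      have h5 := h2 p List.mem_cons_self
      obtain ⟨k, hk⟩ := sum_char (Characters.Core.isIrr_isCharacter (hE.irr _ h5)) A
      refine ⟨p.2 * k + m, ?_, ?_⟩
      · simp only [List.map_cons, List.sum_cons, Finset.sum_add_distrib, hm, ← Finset.mul_sum, hk]
        push_cast
        rfl
      · rw [mul_add, ← mul_assoc]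
        refine add_nonneg ?_ hm'
        cases h6 : dv (Nat.mul c.mu (ntd R.deg 0 p.1)) c.N with
        | true =>
          refine mul_nonneg ?_ (Int.natCast_nonneg k)
          rw [h6, cond_true] at h4
          change Int.rec _ _ (y * p.2) = true at h4
          generalize y * p.2 = z at h4
          cases z with
          | ofNat z => exact Int.natCast_nonneg z
          | negSucc z => cases h4
        | false =>
          rw [H.eq, ntd_eq] at h6
          have h7 := hC K A _ _ _ (hE.irr _ h5) (hE.deg _ h5) H.w.lo' (H.mass.1 ▸ dv_false h6)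
          rw [hk, Nat.cast_eq_zero] at h7
          rw [h7, Nat.cast_zero, mul_zero]
  obtain ⟨m, hm, hm'⟩ := h1 r.1 (fun p hp => Nat.blt_eq ▸ allL_spec (allL_spec hi r hr) p hp) hy
  rw [Finset.sum_congr rfl fun (s : A) _ => hR r hr (s : K), sum_num A fun t => ((r.2.getD t 0 : ℤ) : ℂ)] at hm
  have h2 : ((∑ t ∈ range D.n, (num T A t : ℤ) * nth r.2 t : ℤ) : ℂ) = (m : ℂ) := by
    push_cast
    rw [← hm]
    exact Finset.sum_congr rfl fun t _ => by rw [nsmul_eq_mul, nth_eq]
  rwa [Int.cast_injective h2]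

theorem accC_spec {RL : List Rw} (hR : ∀ r ∈ RL, RowOk T A c r) {κ : List ℤ → Bool} (ce : List (ℤ × ℕ)) :
    ∀ V : List ℤ, V.length = D.n → accC c RL ce V κ = true → ∃ V' : List ℤ, κ V' = true ∧
      ∑ t ∈ range D.n, (num T A t : ℤ) * nth V t ≤ ∑ t ∈ range D.n, (num T A t : ℤ) * nth V' t := by
  induction ce with
  | nil => exact fun V _ h => ⟨V, h, le_rfl⟩
  | cons p ce ih =>
    intro V hV h
    have h1 : RowOk T A c (ntd RL ([], []) p.2) := by
      rcases ntd_mem RL ([], []) p.2 with h2 | h2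
      · rw [h2]
        exact fun y _ => by simp only [nth_nil, mul_zero, Finset.sum_const_zero, le_refl]
      · exact hR _ h2
    have h2 : cond (sgn c p.1 (ntd RL ([], []) p.2).1)
        (frcLZ (axz p.1 V (ntd RL ([], []) p.2).2) fun V' => accC c RL ce V' κ) false = true := h
    cases h3 : sgn c p.1 (ntd RL ([], []) p.2).1 with
    | false =>
      rw [h3] at h2
      cases h2
    | true =>
      rw [h3, cond_true, frcLZ_eq] at h2
      obtain ⟨V', h4, h5⟩ := ih _ ((length_axz _ _ _).trans hV) h2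
      refine ⟨V', h4, le_trans ?_ h5⟩
      rw [Finset.sum_congr rfl fun t ht => congrArg _ (nth_axz p.1 V _ (hV ▸ mem_range.1 ht))]
      simp only [mul_add, Finset.sum_add_distrib, mul_left_comm _ p.1, ← Finset.mul_sum]
      exact le_add_of_nonneg_right (h1 _ h3)

variable [Finite K]

open Classical in
/-- the part of the row `S` which belongs to a type -/
noncomputable def sg (T : TD K D) (A : Subgroup K) [Fintype A] (t : ℕ) : ℕ :=
  ∑ x : A, if T.ty x = t then (if (x : K) = 1 then 0 else fix A (x : K) - 1) else 0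

omit [Finite K] in
theorem sg_le [Fintype A] {t G : ℕ} (h : ∀ x, T.ty x = t → fix A x ≤ G) : sg T A t ≤ num T A t * (G - 1) := by
  rw [num_mul]
  refine Finset.sum_le_sum fun x _ => ?_
  split_ifs with h1 h2
  exacts [Nat.zero_le _, Nat.sub_le_sub_right (h x h1) 1, le_rfl]

theorem Hy.bm [Fintype A] (H : Hy T A d j c) {S : St} (h : Gd T (fun x f => fix A x ≤ f) S) {q l s : ℕ}
    (hq : ∀ x, T.ty x = q → l ≤ fix A x) (Z : List Ze) : ∀ (i k : ℕ) (V : List ℤ) (x y : ℕ), (∀ z ∈ Z, ZOk D z) →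
      Z.map Prod.fst = List.range' i k → bm c S (Nat.pow c.d 7) q l s Z V x y = true →
      (x : ℤ) + ∑ u ∈ range k, ((num T A (u + i) : ℤ) * nth V u + s * sg T A (u + i)) < y := by
  induction Z with
  | nil =>
    intro i k V x y _ h1 h2
    obtain rfl : k = 0 := by simpa using congrArg List.length h1.symm
    have h3 : x < y := Nat.blt_eq ▸ h2
    simpa using h3
  | cons z Z ih =>
    intro i k V x y hZ h1 h2
    cases k with
    | zero => cases h1
    | succ k =>
    cases V with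
    | nil => cases h2
    | cons w V =>
    obtain ⟨h3, h4⟩ := List.cons.inj h1
    have hz := hZ z List.mem_cons_self
    have h5 := H.gT h hz
    have h6 := H.hiN hz.1 (hz.2.1 ▸ hz.2.2.1) h5
    have h7 := H.loN (L := lT c (Nat.pow c.d 7) q l z) hz.1 fun x hx => by
      unfold lT
      cases h7 : Nat.beq z.1 q with
      | true => exact hq x (hx.trans (Nat.eq_of_beq_eq_true h7))
      | false => cases h8 : dv (Nat.gcd z.2.1 (Nat.pow c.d 7)) c.m with
        | true => exact Nat.zero_le _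
        | false => exact H.one hz h8 x hx
    have h8 := sg_le h5
    rw [hz.2.2.2.1] at h6 h7
    have h9 := (bm_cons c S (Nat.pow c.d 7) q l s z Z w V x y).symm.trans h2
    have h10 : (num T A z.1 : ℤ) * w + s * sg T A z.1 ≤ num T A z.1 * (w + ((s * (Spor.gT c S z - 1) : ℕ) : ℤ)) := by
      rw [mul_add]
      refine add_le_add le_rfl ?_
      rw [← Nat.cast_mul, ← Nat.cast_mul, Nat.cast_le, mul_left_comm]
      exact Nat.mul_le_mul_left _ h8
    have h11 : ∀ u, u + 1 + i = u + (i + 1) := fun u => by omega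
    rw [Finset.sum_range_succ', zero_add, ← h3]
    simp only [nth_succ, nth_zero, h3, h11]
    rw [h3] at h6 h7 h10
    generalize w + ((s * (Spor.gT c S z - 1) : ℕ) : ℤ) = r at h9 h10
    cases r with
    | ofNat m =>
      have h12 := ih (i + 1) k V _ y (fun z' hz' => hZ z' (List.mem_cons_of_mem _ hz')) h4 h9
      have h13 : (num T A i : ℤ) * m ≤ (Spor.hiN c (Spor.gT c S z) z.2.2.1 : ℤ) * m :=
        mul_le_mul_of_nonneg_right (Nat.cast_le.2 h6) (Int.natCast_nonneg m)
      rw [Int.ofNat_eq_natCast] at h10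
      push_cast at h12
      linarith
    | negSucc m =>
      have h12 := ih (i + 1) k V x _ (fun z' hz' => hZ z' (List.mem_cons_of_mem _ hz')) h4 h9
      have h13 : (Spor.loN c (lT c (Nat.pow c.d 7) q l z) z.2.2.1 : ℤ) * (m + 1) ≤ (num T A i : ℤ) * (m + 1) :=
        mul_le_mul_of_nonneg_right (Nat.cast_le.2 h7) (by positivity)
      rw [Int.negSucc_eq] at h10
      push_cast at h12
      linarith

omit [Finite K] in
theorem ZS.ty_zero {Z : List Ze} (hZ : ZS D Z) (g : K) : T.ty g = 0 ↔ g = 1 := by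
  refine ⟨fun h => orderOf_eq_one_iff.1 (by rw [T.ord, h, hZ.zero]), fun h => ?_⟩
  by_contra h1
  have h2 := T.lt g
  obtain ⟨z, hz, h3⟩ := List.mem_map.1 (hZ.seq ▸ List.mem_range'_1.2 ⟨Nat.pos_of_ne_zero h1, by omega⟩)
  have h4 := hZ.ok z hz
  exact h4.2.2.1 (by rw [← h4.2.1, h3, ← T.ord, h, orderOf_one])

theorem Hy.far (H : Hy T A d j c) {RL : List Rw} (hR : ∀ r ∈ RL, RowOk T A c r) {Z : List Ze} (hZ : ZS D Z) {S : St}
    (h : Gd T (fun x f => fix A x ≤ f) S) {st : Step} (hs : far c RL Z D.n S st = true) :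
    ¬ ∀ x, T.ty x = st.1 → st.2.1 ≤ fix A x := by
  classical
  intro hq
  have := Fintype.ofFinite A
  obtain ⟨q, l, lam, s, ce⟩ := st
  obtain ⟨V, h1, h2⟩ := accC_spec hR ce _ List.length_replicate hs
  cases V with
  | nil => cases h1
  | cons v V =>
  have h3 : (Int.rec (fun x => Spor.bm c S (Nat.pow c.d 7) q l s Z V x 0)
      (fun y => Spor.bm c S (Nat.pow c.d 7) q l s Z V 0 (y + 1))
      (v - (lam * c.a + ((s * ((c.mu - 1) * (c.n - 1)) : ℕ) : ℤ))) : Bool) = true :=
    (frc_eq (Nat.pow c.d 7) fun d7 => (Int.rec (fun x => Spor.bm c S d7 q l s Z V x 0)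
      (fun y => Spor.bm c S d7 q l s Z V 0 (y + 1))
      (v - (lam * c.a + ((s * ((c.mu - 1) * (c.n - 1)) : ℕ) : ℤ))) : Bool)).symm.trans h1
  have h4 : v - (lam * c.a + ((s * ((c.mu - 1) * (c.n - 1)) : ℕ) : ℤ)) +
      ∑ u ∈ range (D.n - 1), ((num T A (u + 1) : ℤ) * nth V u + s * sg T A (u + 1)) < 0 := by
    generalize v - (lam * c.a + ((s * ((c.mu - 1) * (c.n - 1)) : ℕ) : ℤ)) = r at h3
    cases r with
    | ofNat m => exact H.bm h hq Z 1 _ V m 0 hZ.ok hZ.seq h3
    | negSucc m =>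
      have h5 := H.bm h hq Z 1 _ V 0 (m + 1) hZ.ok hZ.seq h3
      rw [Int.negSucc_eq]
      push_cast at h5
      linarith
  have h5 : ∑ t ∈ range D.n, (num T A t : ℤ) * nth (List.replicate D.n lam) t = lam * Nat.card A := by
    rw [card_eq_sum (T := T) A, Nat.cast_sum, Finset.mul_sum]
    exact Finset.sum_congr rfl fun t ht => by rw [nth_eq, List.getD_replicate _ (mem_range.1 ht), mul_comm]
  have h6 : num T A 0 = 1 := by
    rw [num_def, Nat.card_eq_one_iff_exists]
    exact ⟨⟨1, (hZ.ty_zero _).2 rfl⟩, fun s => Subtype.ext (Subtype.ext ((hZ.ty_zero _).1 s.2))⟩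
  have h7 : sg T A 0 = 0 := Finset.sum_eq_zero fun x _ => by
    split_ifs with h7 h8
    exacts [rfl, absurd ((hZ.ty_zero _).1 h7) h8, rfl]
  have h8 : (Nat.card A / d - 1) * (A.index - 1) ≤ ∑ t ∈ range D.n, sg T A t := by
    refine H.w.rowS.trans (le_of_eq ?_)
    unfold sg
    rw [Finset.sum_comm]
    exact Finset.sum_congr rfl fun x _ => by rw [Finset.sum_ite_eq, if_pos (mem_range.2 (T.lt _))]
  obtain ⟨k, hk⟩ : ∃ k, D.n = k + 1 := ⟨_, (Nat.succ_pred_eq_of_pos hZ.pos).symm⟩
  rw [h5] at h2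
  rw [hk, Finset.sum_range_succ'] at h2 h8
  rw [hk, Nat.add_sub_cancel, Finset.sum_add_distrib, ← Finset.mul_sum, H.eq] at h4
  simp only [nth_succ, nth_zero, h6] at h2
  rw [h7, add_zero] at h8
  have h9 : ((s * ((Nat.card A / d - 1) * (A.index - 1)) : ℕ) : ℤ) ≤ s * ∑ u ∈ range k, (sg T A (u + 1) : ℤ) := by
    exact_mod_cast Nat.mul_le_mul_left s h8
  push_cast at h2
  linarith

theorem Hy.run (H : Hy T A d j c) {RL : List Rw} (hR : ∀ r ∈ RL, RowOk T A c r) {Z : List Ze} (hZ : ZS D Z)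
    (L : List Step) : ∀ S, Gd T (fun x f => fix A x ≤ f) S → ¬ run c RL Z D.n L S = true := by
  induction L with
  | nil =>
    intro S h h1
    have h2 : cond (Spor.uT c S) true (Spor.boxT c S Z) = true := h1
    cases h3 : Spor.uT c S with
    | true => exact H.uT h h3
    | false =>
      rw [h3] at h2
      exact H.boxT h hZ.ok h2
  | cons st L ih =>
    intro S h h1
    have h2 : cond (Spor.far c RL Z D.n S st) (cond (Nat.beq st.2.1 0) true
        (frcS (mapS (Spor.upd c st.1 st.2.1) S) (Spor.run c RL Z D.n L))) false = true := h1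
    cases h3 : Spor.far c RL Z D.n S st with
    | false =>
      rw [h3] at h2
      cases h2
    | true =>
      have h4 := H.far hR hZ h h3
      rw [h3, cond_true] at h2
      cases h5 : Nat.beq st.2.1 0 with
      | true => exact h4 fun x _ => (Nat.eq_of_beq_eq_true h5).le.trans (Nat.zero_le _)
      | false =>
        rw [h5, cond_false, frcS_eq] at h2
        exact ih _ (H.upd h h4) h2

theorem hy_of (hm : T.Mass) (hu : Unif T) (h : W A d j) : Hy T A d j ⟨D.N, j, Nat.card A, d, D.N / Nat.card A,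
    Nat.card A / d, j * (Nat.card A / d), (D.N / Nat.card A - 1) / d⟩ := by
  have h1 : D.N / Nat.card A = A.index := by
    rw [← hm.1]
    exact Nat.div_eq_of_eq_mul_right Nat.card_pos A.card_mul_index.symm
  rw [h1]
  exact ⟨hm, hu, h, rfl⟩

/-- **the candidates of a list do not occur** -/
theorem not_mem_of_okL (hC : BoxCH) {K : Type} [Group K] [Finite K] {T : TD K D} {A : Subgroup K} (hm : T.Mass)
    (hu : Unif T) (h : W A d j) {R : Rows} (hT : Tab T R) (hi : okIdx R = true) {P : St} (hP : Gd T QC P) {Z : List Ze}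
    (hZ : ZS D Z) {CL : List (ℕ × ℕ × List Step)} (hL : okL D R j P Z CL = true) :
    (Nat.card A, d) ∉ CL.map fun x => (x.1, x.2.1) := by
  intro h1
  obtain ⟨⟨a, d', L⟩, hx, h2⟩ := List.mem_map.1 h1
  obtain ⟨rfl, rfl⟩ := Prod.mk.inj h2
  rw [okL, frc_eq, frc_eq, frcR_eq] at hL
  have h3 := allL_spec hL _ hx
  rw [okC, frc_eq, mkCx_eq, frcS_eq] at h3
  have H := hy_of hm hu h
  exact H.run (rowOk_of hC H hT hi) hZ L _ (H.ini hP) h3

end Cfsg.Agent.TH.Spor
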