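import Cfsg.Agent.TH.Spor.Defs

/-!
# S3541, sporadic rows: fixed points in a configuration `W A d j` (helper26)
-/

set_option autoImplicit false

namespace Cfsg.Agent.TH.Spor

open MulAction

variable {K : Type*} [Group K] [Finite K] {A : Subgroup K} {d j : ℕ}

omit [Finite K] in
theorem fix_conj (A : Subgroup K) (x g : K) : fix A (g * x * g⁻¹) = fix A x := by
  refine Nat.card_congr ⟨fun β => ⟨g⁻¹ • β.1, ?_⟩, fun β => ⟨g • β.1, ?_⟩, fun β => by simp, fun β => by simp⟩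
  · have h2 : (g * x * g⁻¹) • β.1 = β.1 := β.2
    rw [mem_fixedBy]
    conv_rhs => rw [← h2]
    simp [mul_smul]
  · have h2 : x • β.1 = β.1 := β.2
    rw [mem_fixedBy]
    simp [mul_smul, h2]

theorem fix_le_pow (A : Subgroup K) (x : K) (k : ℕ) : fix A x ≤ fix A (x ^ k) :=
  Nat.card_le_card_of_injective _ (Set.inclusion_injective (by
    have := fixedBy_subset_fixedBy_zpow (K ⧸ A) x k
    rwa [zpow_natCast] at this))

theorem fix_le_of_isConj (A : Subgroup K) {x y : K} {k : ℕ} (h : IsConj (x ^ k) y) : fix A x ≤ fix A y := by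
  obtain ⟨c, rfl⟩ := isConj_iff.1 h
  rw [fix_conj]
  exact fix_le_pow A x k

omit [Finite K] in
theorem exists_conj_mem {x : K} (h : 1 ≤ fix A x) : ∃ g : K, g⁻¹ * x * g ∈ A := by
  obtain ⟨⟨β, hβ⟩⟩ := (Nat.card_pos_iff.1 h).1
  induction β using QuotientGroup.induction_on with
  | _ g => exact ⟨g, mem_cj.1 ((smul_coe_eq_iff x g).1 hβ)⟩

omit [Finite K] in
theorem fix_eq_zero {x : K} (h : ¬ orderOf x ∣ Nat.card A) : fix A x = 0 := by
  by_contra h1
  obtain ⟨g, hg⟩ := exists_conj_mem (Nat.pos_of_ne_zero h1)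
  have h2 : orderOf ((MulAut.conj g⁻¹) x) = orderOf x := MulEquiv.orderOf_eq _ x
  rw [MulAut.conj_apply, inv_inv] at h2
  exact h (h2 ▸ A.orderOf_dvd_natCard hg)

omit [Finite K] in
/-- a subgroup whose order does not divide `j μ` fixes at most one point -/
theorem W.eq_of_fix (h : W A d j) {Y : Subgroup K} (hY : ¬ Nat.card Y ∣ j * (Nat.card A / d)) {β γ : K ⧸ A}
    (h1 : ∀ y ∈ Y, y • β = β) (h2 : ∀ y ∈ Y, y • γ = γ) : β = γ := by
  induction β using QuotientGroup.induction_on with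
  | _ a =>
  induction γ using QuotientGroup.induction_on with
  | _ b =>
  rw [QuotientGroup.eq]
  by_contra h3
  refine hY (dvd_trans ?_ (h.hi _ h3))
  rw [← card_cj a (A ⊓ cj (a⁻¹ * b) A), cj_inf, ← cj_mul, mul_inv_cancel_left]
  exact Subgroup.card_dvd_of_le fun y hy => ⟨(smul_coe_eq_iff y a).1 (h1 y hy), (smul_coe_eq_iff y b).1 (h2 y hy)⟩

omit [Finite K] in
theorem smul_eq_of_zpowers {x : K} {β : K ⧸ A} (h : x • β = β) : ∀ y ∈ Subgroup.zpowers x, y • β = β :=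
  fun _ hy => (Subgroup.zpowers_le (H := stabilizer K β)).2 h hy

theorem W.fix_le_one (h : W A d j) {x : K} (hx : ¬ orderOf x ∣ j * (Nat.card A / d)) : fix A x ≤ 1 :=
  Finite.card_le_one_iff_subsingleton.2 ⟨fun β γ => Subtype.ext (h.eq_of_fix (by rwa [Nat.card_zpowers])
    (smul_eq_of_zpowers β.2) (smul_eq_of_zpowers γ.2))⟩

omit [Finite K] in
theorem W.four_le (h : W A d j) : 5 ≤ A.index := by
  have h1 := h.two
  have h2 := h.one_lt
  omega

omit [Finite K] in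
theorem W.not_dvd (h : W A d j) {p : ℕ} (hp : p.Prime) (hd : p ∣ d) : ¬ p ∣ A.index := fun h1 => by
  have h2 := h.four_le
  have h3 := (Nat.dvd_sub h1 (hd.trans h.dvd'))
  rw [Nat.sub_sub_self (by omega), Nat.dvd_one] at h3
  exact hp.one_lt.ne' h3

omit [Finite K] in
/-- a `p`-subgroup, `p ∣ d`, fixes a point -/
theorem W.exists_fix (h : W A d j) {p : ℕ} (hp : p.Prime) (hd : p ∣ d) {Y : Subgroup K} (hY : IsPGroup p Y) :
    ∃ β : K ⧸ A, ∀ y ∈ Y, y • β = β := by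
  have := Fact.mk hp
  obtain ⟨β, hβ⟩ := hY.nonempty_fixed_point_of_prime_not_dvd_card (K ⧸ A) (h.not_dvd hp hd)
  exact ⟨β, fun y hy => hβ ⟨y, hy⟩⟩

theorem W.one_le_fix (h : W A d j) {x : K} {e : ℕ} (hx : ¬ Nat.gcd (orderOf x) (d ^ e) ∣ j * (Nat.card A / d)) :
    1 ≤ fix A x := by
  rw [Nat.dvd_iff_prime_pow_dvd_dvd] at hx
  push Not at hx
  obtain ⟨p, k, hp, h1, h2⟩ := hx
  have hk : k ≠ 0 := by
    rintro rfl
    exact h2 (one_dvd _)
  have h3 : p ∣ d := hp.dvd_of_dvd_pow ((dvd_pow_self p hk).trans (h1.trans (Nat.gcd_dvd_right _ _)))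
  have h4 : orderOf (x ^ (orderOf x / p ^ k)) = p ^ k :=
    orderOf_pow_orderOf_div (orderOf_pos x).ne' (h1.trans (Nat.gcd_dvd_left _ _))
  have h5 : Nat.card (Subgroup.zpowers (x ^ (orderOf x / p ^ k))) = p ^ k := by rw [Nat.card_zpowers, h4]
  obtain ⟨β, hβ⟩ := h.exists_fix hp h3 (IsPGroup.of_card h5)
  refine Nat.card_pos_iff.2 ⟨⟨⟨β, h.eq_of_fix (by rwa [h5]) (smul_eq_of_zpowers ?_) hβ⟩⟩, inferInstance⟩
  rw [← mul_smul, ← pow_succ, pow_succ', mul_smul, hβ _ (Subgroup.mem_zpowers _)]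

theorem W.mu_pos (h : W A d j) : 0 < Nat.card A / d :=
  Nat.div_pos (Nat.le_of_dvd Nat.card_pos h.dvd) (lt_trans one_pos h.one_lt)

omit [Finite K] in
theorem W.lo' (h : W A d j) (g : K) : Nat.card A / d ∣ Nat.card ↥(A ⊓ cj g A) := by
  by_cases hg : g ∈ A
  · rw [cj_of_mem hg, inf_idem]
    exact Nat.div_dvd_of_dvd h.dvd
  · exact h.lo g hg

theorem W.card_orbit_dvd (h : W A d j) (β : K ⧸ A) : Nat.card (orbit A β) ∣ d := by
  induction β using QuotientGroup.induction_on with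
  | _ g =>
  have h1 : Nat.card (stabilizer A (g : K ⧸ A)) = Nat.card ↥(A ⊓ cj g A) := Nat.card_congr
    { toFun := fun a => ⟨a.1.1, a.1.2, (smul_coe_eq_iff _ _).1 a.2⟩
      invFun := fun a => ⟨⟨a.1, a.2.1⟩, (smul_coe_eq_iff _ _).2 a.2.2⟩
      left_inv := fun _ => rfl
      right_inv := fun _ => rfl }
  have h2 := Gen.card_orbit_mul (L := A) (g : K ⧸ A)
  obtain ⟨c, hc⟩ := h.lo' g
  rw [h1, hc, ← Nat.div_mul_cancel h.dvd, Nat.mul_div_cancel _ (lt_trans one_pos h.one_lt)] at h2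
  refine ⟨c, Nat.eq_of_mul_eq_mul_left h.mu_pos ?_⟩
  rw [← h2]
  ring

/-- **SIGMA** : an element of prime order `s ∤ d` of `A` fixes a point in every orbit -/
theorem W.sig_mem (h : W A d j) {x : K} (hp : (orderOf x).Prime) (hd : ¬ orderOf x ∣ d) (hx : x ∈ A) :
    A.index - 1 ≤ d * (fix A x - 1) := by
  classical
  have := Fintype.ofFinite (K ⧸ A)
  have := Fact.mk hp
  let α : K ⧸ A := ((1 : K) : K ⧸ A)
  have h0 : ∀ a : A, a • α = α := fun a => (smul_coe_eq_iff (a : K) 1).2 (by rw [cj_one]; exact a.2)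
  have h1 : Finset.univ.erase α ⊆ ((fixedBy (K ⧸ A) x).toFinset.erase α).biUnion fun γ => (orbit A γ).toFinset := by
    intro β hβ
    have h2 : IsPGroup (orderOf x) (Subgroup.zpowers (⟨x, hx⟩ : A)) :=
      IsPGroup.of_card (n := 1) (by rw [Nat.card_zpowers, pow_one, ← Subgroup.orderOf_coe])
    obtain ⟨γ, hγ⟩ := h2.nonempty_fixed_point_of_prime_not_dvd_card (orbit A β)
      fun h3 => hd (h3.trans (h.card_orbit_dvd β))
    have h3 : β ∈ orbit A γ.1 := mem_orbit_symm.1 γ.2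
    refine Finset.mem_biUnion.2 ⟨γ.1, Finset.mem_erase.2 ⟨fun h4 => ?_, Set.mem_toFinset.2 ?_⟩, Set.mem_toFinset.2 h3⟩
    · obtain ⟨a, ha⟩ := h3
      rw [h4] at ha
      exact Finset.ne_of_mem_erase hβ (ha.symm.trans (h0 a))
    · exact congrArg Subtype.val (hγ ⟨⟨x, hx⟩, Subgroup.mem_zpowers _⟩)
  have h2 := (Finset.card_le_card h1).trans (Finset.card_biUnion_le_card_mul _ _ d fun γ _ => by
    rw [Set.toFinset_card, ← Nat.card_eq_fintype_card]
    exact Nat.le_of_dvd (lt_trans one_pos h.one_lt) (h.card_orbit_dvd γ))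
  rw [Finset.card_erase_of_mem (Finset.mem_univ _), Finset.card_univ, ← Nat.card_eq_fintype_card,
    Finset.card_erase_of_mem (Set.mem_toFinset.2 (show α ∈ fixedBy (K ⧸ A) x from h0 ⟨x, hx⟩)),
    Set.toFinset_card, ← Nat.card_eq_fintype_card,
    mul_comm] at h2
  exact h2

theorem W.sig (h : W A d j) {x : K} (hp : (orderOf x).Prime) (hd : ¬ orderOf x ∣ d) (hx : 1 ≤ fix A x) :
    (A.index - 1) / d + 1 ≤ fix A x := by
  obtain ⟨g, hg⟩ := exists_conj_mem hx
  have h2 : orderOf ((MulAut.conj g⁻¹) x) = orderOf x := MulEquiv.orderOf_eq _ x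
  have h3 := fix_conj A x g⁻¹
  rw [inv_inv] at h3
  rw [MulAut.conj_apply, inv_inv] at h2
  have h4 := h.sig_mem (h2 ▸ hp) (h2 ▸ hd) hg
  rw [h3] at h4
  have h5 := Nat.div_le_of_le_mul h4
  omega

open Classical in
/-- the row `S` -/
theorem W.rowS (h : W A d j) [Fintype A] :
    (Nat.card A / d - 1) * (A.index - 1) ≤ ∑ x : A, if (x : K) = 1 then 0 else (fix A x - 1) := by
  have h1 := sigma_le (H := A) ((Finset.univ.filter fun x : A => ¬ (x : K) = 1).map ⟨Subtype.val, Subtype.val_injective⟩)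
    (fun x hx => by
      obtain ⟨y, -, rfl⟩ := Finset.mem_map.1 hx
      exact y.2) (j := Nat.card A / d - 1) fun g hg => by
      refine (Nat.sub_le_sub_right (Nat.le_of_dvd Nat.card_pos (h.lo g hg)) 1).trans ?_
      rw [← ncard_sdiff_one]
      refine Set.ncard_le_ncard fun y hy => ⟨?_, hy.1.2⟩
      exact Finset.mem_coe.2 (Finset.mem_map.2 ⟨⟨y, hy.1.1⟩, Finset.mem_filter.2 ⟨Finset.mem_univ _, hy.2⟩, rfl⟩)
  rw [Finset.sum_map, Finset.sum_filter] at h1
  refine h1.trans (le_of_eq (Finset.sum_congr rfl fun x _ => ?_))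
  rw [ite_not]
  rfl

open Classical in
/-- the row `U` -/
theorem W.rowU (h : W A d j) [Fintype A] {p : ℕ} (hp : p.Prime) (hd : p ∣ Nat.card A / d) :
    (p - 1) * (A.index - 1) ≤ ∑ x : A, if orderOf (x : K) = p then fix A x - 1 else 0 := by
  have h1 := sigma_le (H := A)
    ((Finset.univ.filter fun x : A => orderOf (x : K) = p).map ⟨Subtype.val, Subtype.val_injective⟩)
    (fun x hx => by
      obtain ⟨y, -, rfl⟩ := Finset.mem_map.1 hx
      exact y.2) (j := p - 1) fun g hg => by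
      refine (sub_one_le_ncard_orderOf hp (hd.trans (h.lo g hg))).trans ?_
      refine Set.ncard_le_ncard fun y hy => ⟨?_, hy.2.2⟩
      exact Finset.mem_coe.2 (Finset.mem_map.2 ⟨⟨y, hy.2.1⟩, Finset.mem_filter.2 ⟨Finset.mem_univ _, hy.1⟩, rfl⟩)
  rw [Finset.sum_map, Finset.sum_filter] at h1
  exact h1

/-- Sylow subgroups of order `p ^ 2` -/
theorem W.fix_mul_le (h : W A d j) {x : K} {p : ℕ} (hp : p.Prime) (hx : orderOf x = p) (hd : p ∣ d) (hj : ¬ p ∣ j)
    (h2 : p ^ 2 ∣ Nat.card K) (h3 : ¬ p ^ 3 ∣ Nat.card K) :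
    fix A x * p ^ 2 ≤ Nat.card (Subgroup.centralizer ({x} : Set K)) := by
  have := Fact.mk hp
  have hf : (Nat.card K).factorization p = 2 := le_antisymm
    (Nat.le_of_lt_succ (lt_of_not_ge fun h4 => h3 ((hp.pow_dvd_iff_le_factorization Nat.card_pos.ne').2 h4)))
    ((hp.pow_dvd_iff_le_factorization Nat.card_pos.ne').1 h2)
  have hm : ¬ p ^ 2 ∣ j * (Nat.card A / d) := fun h4 => h3 (by
    have h6 := (Nat.Coprime.pow_left 2 (hp.coprime_iff_not_dvd.2 hj)).dvd_of_dvd_mul_left h4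
    refine dvd_trans ?_ A.card_subgroup_dvd_card
    rw [← Nat.div_mul_cancel h.dvd, pow_succ]
    exact Nat.mul_dvd_mul h6 hd)
  let C := Subgroup.centralizer ({x} : Set K)
  have key : ∀ β : K ⧸ A, x • β = β → ∃ P : Sylow p C, Nat.card P = p ^ 2 ∧ ∀ y ∈ (P : Subgroup C), (y : K) • β = β := by
    intro β hβ
    have h4 : ¬ p ∣ (stabilizer K β).index := by
      induction β using QuotientGroup.induction_on with
      | _ g =>
      rw [stabilizer_coe, index_cj]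
      exact h.not_dvd hp hd
    obtain ⟨P, h5, h6⟩ := exists_sylow_le_of_not_dvd_index h4 (Y := Subgroup.zpowers x)
      (IsPGroup.of_card (n := 1) (by rw [Nat.card_zpowers, hx, pow_one])) (Subgroup.zpowers_le.2 hβ)
    have h7 : Nat.card P = p ^ 2 := by rw [P.card_eq_multiplicity, hf]
    have h8 : (P : Subgroup K) ≤ C := fun y hy => Subgroup.mem_centralizer_singleton_iff.2 (congrArg Subtype.val
      ((IsPGroup.isMulCommutative_of_card_eq_prime_sq h7).is_comm.comm ⟨y, hy⟩ ⟨x, h5 (Subgroup.mem_zpowers x)⟩))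
    refine ⟨P.subtype h8, ?_, fun y hy => h6 hy⟩
    rw [← h7]
    exact Nat.card_congr (Subgroup.subgroupOfEquivOfLe h8).toEquiv
  rcases Nat.eq_zero_or_pos (fix A x) with h4 | h4
  · rw [h4, zero_mul]
    exact Nat.zero_le _
  obtain ⟨⟨β, hβ⟩⟩ := (Nat.card_pos_iff.1 h4).1
  obtain ⟨P, h5, h6⟩ := key β hβ
  have h7 : fixedBy (K ⧸ A) x ⊆ orbit C β := fun γ hγ => by
    obtain ⟨Q, h7, h8⟩ := key γ hγ
    obtain ⟨c, hc⟩ := exists_smul_eq C P Q
    refine ⟨c, h.eq_of_fix (Y := (Q : Subgroup C).map C.subtype) ?_ ?_ ?_⟩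
    · rwa [Subgroup.card_map_of_injective C.subtype_injective, h7]
    · rintro _ ⟨y, hy, rfl⟩
      rw [← hc] at hy
      obtain ⟨z, hz, rfl⟩ := hy
      show ((c : K) * z * (c : K)⁻¹) • (c : K) • β = (c : K) • β
      rw [mul_smul, mul_smul, inv_smul_smul, h6 z hz]
    · rintro _ ⟨y, hy, rfl⟩
      exact h8 y hy
  rw [← Gen.card_orbit_mul (L := C) β]
  refine Nat.mul_le_mul (Nat.card_le_card_of_injective _ (Set.inclusion_injective h7)) ?_
  rw [← h5]
  exact Subgroup.card_le_of_le fun y hy => h6 y hy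

end Cfsg.Agent.TH.Spor
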