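import Cfsg.Agent.TAB.J3.Main
import Cfsg.Agent.H299.SprJ3
import Cfsg.Agent.H348.Der.JThree

/-!
# S3541, the group `J₃` : the rational classes (helper29)
-/

set_option autoImplicit false
set_option maxRecDepth 100000

namespace Cfsg.Agent.TH.Spor.J3

open Cfsg Cfsg.Spor Subgroup Cfsg.Agent.TAB.Eng Cfsg.Agent.TAB.ON Cfsg.Agent.TAB.Sm1

/-- the types `1A 2A 3A 3B 4A 5AB 6A 8A 9ABC 10AB 12A 15AB 17AB 19AB` -/
def dat : Dat where
  n := 14
  N := 50232960
  ordL := [1, 2, 3, 3, 4, 5, 6, 8, 9, 10, 12, 15, 17, 19]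
  cntL := [1, 26163, 46512, 206720, 523260, 3348864, 2093040, 6279120, 5581440, 10046592, 4186080, 6697728, 5909760,
    5287680]
  pwL := [[], [(1, 1)], [(1, 2)], [(1, 3)], [(1, 4), (2, 1)], [(1, 5)], [(1, 6), (2, 2), (3, 1)],
    [(1, 7), (2, 4), (4, 1)], [(1, 8), (3, 3)], [(1, 9), (2, 5), (5, 1)], [(1, 10), (2, 6), (3, 4), (4, 2), (6, 1)],
    [(1, 11), (3, 5), (5, 2)], [(1, 12)], [(1, 13)]]

/-- the numbers of classes -/
def clsN (i : ℕ) : ℕ := [1, 1, 1, 1, 1, 2, 1, 1, 3, 2, 1, 2, 2, 2].getD i 0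

/-- the value of the key -/
def val (i : ℕ) : Bool := i == 3

theorem okPow : dat.okPow = true := by decide +kernel
theorem okSep : dat.okSep val = true := by decide +kernel
theorem okSum : dat.okSum = true := by decide +kernel

section generic

variable {G : Type*} [Group G] [Finite G]

/-- the key : order three and a small centralizer -/
def key (G : Type*) [Group G] [Finite G] : Key G Bool where
  P g a := a = true ↔ orderOf g = 3 ∧ Nat.card (centralizer ({g} : Set G)) ≤ 243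
  func _ _ _ ha hb := Bool.eq_iff_iff.2 (ha.trans hb.symm)
  conj g h _ ha := by rwa [orderOf_conj', ← card_cent_conj (isConj_iff.2 ⟨h, rfl⟩)]
  gal g k _ hk ha := by
    rwa [hk.symm.orderOf_pow, le_antisymm (cent_pow_le hk) (card_le_of_le fun y hy =>
      mem_centralizer_singleton_iff.2 (Commute.pow_right (mem_centralizer_singleton_iff.1 hy) k).eq)]

theorem ty_of {i : ℕ} (hi : i < 14) {g : G} (ho : orderOf g = dat.ord i) (h3 : 3 ∣ dat.ord i →
    (Nat.card (centralizer ({g ^ (dat.ord i / 3)} : Set G)) ≤ 243 ↔ i = 3 ∨ i = 8)) : Ty (key G) dat val i g := by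
  have h1 : ∀ i < 14, ∀ p ∈ dat.pw i, (dat.ord i / Nat.gcd (dat.ord i) p.1 = 3 → 3 ∣ dat.ord i ∧
      p.1 = dat.ord i / 3 ∧ (val p.2 = true ↔ i = 3 ∨ i = 8)) ∧
      (val p.2 = true → dat.ord i / Nat.gcd (dat.ord i) p.1 = 3) := by decide +kernel
  refine ⟨ho, fun p hp => ?_⟩
  obtain ⟨h2, h4⟩ := h1 i hi p hp
  show _ ↔ _
  rw [orderOf_pow, ho]
  refine ⟨fun h => ⟨h4 h, ?_⟩, fun h => ?_⟩
  · obtain ⟨h5, h6, h7⟩ := h2 (h4 h)
    rw [h6]
    exact (h3 h5).2 (h7.1 h)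
  · obtain ⟨h5, h6, h7⟩ := h2 h.1
    exact h7.2 ((h3 h5).1 (h6 ▸ h.2))

theorem not_conj_norm {x : G} {m k p : ℕ} (hx : orderOf x = p)
    (hm : Nat.card (normalizer ((zpowers x : Subgroup G) : Set G)) = m) (h : ¬ k ^ m ≡ 1 [MOD p]) :
    ¬ IsConj x (x ^ k) := fun hc => by
  obtain ⟨c, hc⟩ := isConj_iff.1 hc
  have h1 : ∀ j : ℕ, c ^ j * x * (c ^ j)⁻¹ = x ^ k ^ j := fun j => by
    induction j with
    | zero => simp
    | succ j ih =>
      rw [pow_succ' k, pow_mul, ← hc, conj_pow, ← ih, pow_succ']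
      group
  have h2 := h1 m
  rw [orderOf_dvd_iff_pow_eq_one.1 (hm ▸ Subgroup.orderOf_dvd_natCard _
    (SP.NJ3.mem_norm_zpowers (hc ▸ npow_mem_zpowers x k))), one_mul, inv_one, mul_one] at h2
  exact h (by rw [← hx, ← pow_eq_pow_iff_modEq, pow_one, ← h2])

end generic

section model

open Cfsg.Agent.J3.Core Cfsg.Agent.J3.Tab Cfsg.Agent.J3.Mono Cfsg.Agent.J3.Elts Cfsg.Agent.H898.J3Three
  Cfsg.Agent.H792.SpJ3
open Cfsg.Agent.J3.Nineteen (exists_scalar center_eq)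

theorem chk_four : ∀ s k : Fin 3, ∀ a w : F9, ∃ i : Fin 9,
    appT (tab k a w) (appT (tD (1, 0)) (2 ^ (2 * (i : ℕ)))) ≠
      appT (tS s) (appT (powT (tD (1, 0)) 4) (appT (tab k a w) (2 ^ (2 * (i : ℕ))))) := by decide +kernel

theorem nine_model {F : Type} [Field F] [Fintype F] {ω : F} (hF : Fintype.card F = 4) (hω : ω ^ 2 + ω + 1 = 0) :
    ∃ x : Spor.J3 F ω, orderOf x = 9 ∧ (¬ ∃ t, orderOf t = 2 ∧ t * x ^ 3 = x ^ 3 * t) ∧ ¬ IsConj x (x ^ 4) := by
  have : Fact (Nat.Prime 3) := ⟨Nat.prime_three⟩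
  have hI : IsoJ3 (Spor.J3 F ω) := ⟨F, inferInstance, inferInstance, ω, hF, hω, ⟨MulEquiv.refl _⟩⟩
  have H : Good ω := good_of_card hF hω
  have := finite_three hF H
  obtain ⟨G⟩ := exists_gens hF H
  obtain ⟨s0, hs0⟩ := exists_scalar H G
  obtain ⟨S, hS⟩ := exists_S hF H G
  have h9 : orderOf (pr (G.d (1, 0)) : Spor.J3 F ω) = 9 := H348.Der.JThree.order9 hF H G
  have h1 : ¬ ∃ t : Spor.J3 F ω, orderOf t = 2 ∧ t * pr (G.d (1, 0)) ^ 3 = pr (G.d (1, 0)) ^ 3 * t :=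
    fun ⟨t, ht, h⟩ => H299.SprJ3.no_inv_nine hF hω H G h9 ht h
  refine ⟨_, h9, h1, fun hc => ?_⟩
  obtain ⟨c, hc⟩ := isConj_iff.1 hc
  obtain ⟨a, ha⟩ := H299.SprJ3.cube_mem_Z hF H G S hS
    ((hS _).2 ⟨0, 0, (1, 0), by rw [pow_zero, a_zero H G, one_mul, one_mul]⟩) h9
  have h2 : (S : Subgroup (Spor.J3 F ω)) = centralizer {pr (G.d (1, 0)) ^ 3} := by
    refine eq_of_le_of_card_ge (fun y hy => ?_) ?_
    · obtain ⟨k, b, w, rfl⟩ := (hS y).1 hy
      rw [mem_centralizer_singleton_iff, ha]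
      exact (pr_comm hF H G a k b w).symm
    · refine ((H495.Wf.j3_cases hI (by rw [orderOf_pow, h9]; rfl)).resolve_left h1).trans (Nat.le_of_dvd Nat.card_pos ?_)
      exact S.pow_dvd_card_of_pow_dvd_card (n := 5) (by rw [TAB.J3.card_eq hI]; norm_num)
  have h3 : c ∈ (S : Subgroup (Spor.J3 F ω)) := by
    rw [h2, mem_centralizer_singleton_iff, ← mul_inv_eq_iff_eq_mul, ← conj_pow, hc, ← pow_mul,
      ← pow_mod_orderOf, h9]
  obtain ⟨k, b, w, rfl⟩ := (hS c).1 h3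
  rw [mul_inv_eq_iff_eq_mul, ← map_pow, ← map_mul, ← map_mul, ← mul_inv_eq_one, ← map_inv, ← map_mul] at hc
  have h4 := (QuotientGroup.eq_one_iff _).1 hc
  rw [center_eq hF H hs0] at h4
  obtain ⟨n, hn⟩ := mem_powers_iff_mem_zpowers.2 h4
  have h5 : s0 ^ n = s0 ^ (n % 3) := by
    conv_lhs => rw [← Nat.div_add_mod n 3, pow_add, pow_mul, s0_cube H hs0, one_pow, one_mul]
  have rd : RepG ω (tD (1, 0)) (G.d (1, 0)) := by
    unfold RepG
    rw [G.hd]
    exact repD H _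
  have h6 := repG_el G H hs0 ⟨k % 3, Nat.mod_lt _ (by norm_num)⟩ b w
  rw [el, pow_zero, one_mul, ← e_mod H G k] at h6
  obtain ⟨i, hi⟩ := chk_four ⟨n % 3, Nat.mod_lt _ (by norm_num)⟩ ⟨k % 3, Nat.mod_lt _ (by norm_num)⟩ b w
  have h7 := (repG_s H hs0 ⟨n % 3, Nat.mod_lt _ (by norm_num)⟩).mul ((rd.pow H 4).mul h6)
  rw [← h5, show s0 ^ n = _ from hn, inv_mul_cancel_right] at h7
  have h8 := app_eq H (h6.mul rd) h7 (n := 2 ^ (2 * (i : ℕ))) (Nat.pow_lt_pow_right (by norm_num) (by omega))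
  rw [appT_compT, appT_compT, appT_compT] at h8
  exact hi h8

end model

variable {K : Type} [Group K]

theorem nine (h : IsoJ3 K) :
    ∃ x : K, orderOf x = 9 ∧ Nat.card (centralizer ({x ^ 3} : Set K)) ≤ 243 ∧ ¬ IsConj x (x ^ 4) := by
  obtain ⟨F, _, _, ω, hF, hω, ⟨e⟩⟩ := id h
  obtain ⟨x, h1, h2, h3⟩ := nine_model hF hω
  obtain ⟨x, rfl⟩ := e.surjective x
  rw [e.orderOf_eq] at h1
  have := H306.SD.J.finite_of h
  refine ⟨x, h1, (H495.Wf.j3_cases h (by rw [orderOf_pow, h1]; rfl)).resolve_left fun ⟨t, h4, h5⟩ =>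
    h2 ⟨e t, (e.orderOf_eq t).trans h4, by rw [← map_pow, ← map_mul, h5, map_mul]⟩, fun h4 => h3 ?_⟩
  rw [← map_pow]
  exact e.toMonoidHom.map_isConj h4

theorem big [Finite K] (h : IsoJ3 K) {y t : K} (hy : orderOf y = 3) (ht : orderOf t = 2) (hc : Commute t y) :
    Nat.card (centralizer ({y} : Set K)) = 1080 := by
  obtain ⟨-, h1, h2, -⟩ := CpAutJThree.base h
  obtain ⟨c, h3, ⟨s, h4, h5⟩, h6⟩ := CpAutJThree.exc h
  obtain ⟨g, hg⟩ := CpAutJThree.conj_three h1 h2 h3 hy h4 ht h5 hc.eq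
  rw [← CpAutJThree.card_centralizer_conj g hg, h6]

theorem ty_inv [Finite K] (h : IsoJ3 K) {i : ℕ} (hi : i < 14) (hn : ¬ (i = 3 ∨ i = 8)) {g t : K}
    (ho : orderOf g = dat.ord i) (ht : orderOf t = 2) (hc : Commute t (g ^ (dat.ord i / 3))) :
    Ty (key K) dat val i g :=
  ty_of hi ho fun h3 => by
    rw [big h (ho ▸ orderOf_pow_orderOf_div (orderOf_pos g).ne' (ho ▸ h3)) ht hc]
    exact iff_of_false (by norm_num) hn

theorem ty_even [Finite K] (h : IsoJ3 K) {i : ℕ} (hi : i < 14) (hn : ¬ (i = 3 ∨ i = 8)) (h2 : 2 ∣ dat.ord i) {g : K}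
    (ho : orderOf g = dat.ord i) : Ty (key K) dat val i g :=
  ty_inv h hi hn ho (orderOf_pow_orderOf_div (orderOf_pos g).ne' (ho ▸ h2)) (Commute.pow_pow_self g _ _)

theorem boxes [Finite K] (h : IsoJ3 K) : ∀ i < dat.n, BoxR (key K) dat val i (clsN i) := by
  have hN := TAB.J3.card_eq h
  obtain ⟨t, D, hD, -⟩ := H417.JThreeCols.exists_coded_iso h
  have ho := J3Type.CharOrder.ord_y hD
  have hc := fun a => (J3Type.CharOrder.cc_y hD (j := 26163) hN a).le
  obtain ⟨x, x1, x2, x3⟩ := nine h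
  obtain ⟨c, c1, ⟨s, c2, c3⟩, c4⟩ := CpAutJThree.exc h
  have : Fact (Nat.Prime 5) := ⟨Nat.prime_five⟩
  obtain ⟨⟨z, z2⟩, z1⟩ := exists_prime_orderOf_dvd_card' (G := centralizer ({c} : Set K)) 5 (by rw [c4]; norm_num)
  rw [Subgroup.orderOf_mk] at z1
  have z3 : Commute z c := mem_centralizer_singleton_iff.1 z2
  have z4 : orderOf (z * c) = 15 := by
    rw [z3.orderOf_mul_eq_mul_orderOf_of_coprime (by rw [z1, c1]; norm_num), z1, c1]
  intro i hi
  change i < 14 at hi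
  interval_cases i
  · exact BoxR.one (x := 1) (ty_of (by norm_num) orderOf_one fun e => absurd e (by decide)) (hc 0) (by decide +kernel)
  · exact BoxR.one (ty_even h (by norm_num) (by norm_num) (by decide) (ho 1)) (hc 1) (by decide +kernel)
  · exact BoxR.one (ty_inv h (by norm_num) (by norm_num) c1 c2 (Commute.pow_right c3 _)) c4.le (by decide +kernel)
  · exact BoxR.one (x := x ^ 3) (ty_of (by norm_num) (by rw [orderOf_pow, x1]; rfl) fun _ =>
      iff_of_true (by rwa [show dat.ord 3 / 3 = 1 from rfl, pow_one]) (Or.inl rfl)) x2 (by decide +kernel)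
  · exact BoxR.one (ty_even h (by norm_num) (by norm_num) (by decide) (ho 2)) (hc 2) (by decide +kernel)
  · exact BoxR.two (k := 2) (ty_of (by norm_num) z1 fun e => absurd e (by decide)) (H296.JT.cn5 h z1).1.le
      (by decide) (TAB.J3.not_sq h z1) (by decide +kernel)
  · exact BoxR.one (ty_even h (by norm_num) (by norm_num) (by decide) (ho 3)) (hc 3) (by decide +kernel)
  · exact BoxR.one (ty_even h (by norm_num) (by norm_num) (by decide) (ho 4)) (hc 4) (by decide +kernel)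
  · have h1 : ¬ IsConj x (x ^ 2) := fun e => x3 (e.trans (by simpa only [← pow_mul] using e.pow 2))
    refine ⟨x, 27, [1, 2, 4], ty_of (by norm_num) x1 fun _ => iff_of_true x2 (Or.inr rfl),
      H299.SprJ3.card_cent_nine h x1, rfl, by decide, ?_, by decide +kernel⟩
    simp only [List.pairwise_cons, List.forall_mem_cons, pow_one, List.not_mem_nil, IsEmpty.forall_iff, implies_true,
      List.Pairwise.nil, and_true]
    refine ⟨⟨h1, x3⟩, fun e => h1 ?_⟩
    have h2 := e.pow 5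
    rwa [← pow_mul, ← pow_mul, ← pow_mod_orderOf, ← pow_mod_orderOf x (4 * 5), x1, pow_one] at h2
  · have h1 : orderOf (J3Type.CharOrder.y t D 6) = 10 := ho 6
    refine BoxR.two (k := 7) (ty_even h (by norm_num) (by norm_num) (by decide) h1) (hc 6) (by decide)
      (fun e => TAB.J3.not_sq h (x := J3Type.CharOrder.y t D 6 ^ 2) (by rw [orderOf_pow, h1]; rfl) ?_)
      (by decide +kernel)
    have h2 := e.pow 2
    rwa [← pow_mul, ← pow_mod_orderOf _ (7 * 2), h1, show 7 * 2 % 10 = 2 * 2 from rfl, pow_mul] at h2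
  · exact BoxR.one (ty_even h (by norm_num) (by norm_num) (by decide) (ho 5)) (hc 5) (by decide +kernel)
  · have h1 : orderOf ((z * c) ^ 3) = 5 := by rw [orderOf_pow, z4]; rfl
    have h2 : orderOf ((z * c) ^ 5) = 3 := by rw [orderOf_pow, z4]; rfl
    refine BoxR.two (k := 2) (c := 15) (ty_inv h (by norm_num) (by norm_num) z4 c2 ?_) ?_ (by decide)
      (fun e => TAB.J3.not_sq h h1 (by simpa only [← pow_mul] using e.pow 3)) (by decide +kernel)
    · rw [show dat.ord 11 / 3 = 5 from rfl, z3.mul_pow, ← z1, pow_orderOf_eq_one, one_mul]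
      exact Commute.pow_right c3 _
    · have h3 : Nat.card (centralizer ({z * c} : Set K)) ∣ 2 * 15 := (card_dvd_of_le fun y hy =>
        mem_centralizer_singleton_iff.2 (Commute.pow_right (mem_centralizer_singleton_iff.1 hy) 3).eq).trans
          (H296.JT.cn5 h h1).1.dvd
      refine Nat.le_of_dvd (by norm_num) (Nat.Coprime.dvd_of_dvd_mul_left
        ((Nat.Prime.coprime_iff_not_dvd Nat.prime_two).2 fun h4 => ?_).symm h3)
      obtain ⟨u, u1, u2⟩ := SP.NJ3.exists_ord Nat.prime_two h4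
      have u3 : Commute u (z * c) := mem_centralizer_singleton_iff.1 u1
      exact SP.NJ3.no30 h u2 h2 h1 (Commute.pow_pow_self _ _ _).eq (u3.pow_right 5).eq (u3.pow_right 3).eq
  · obtain ⟨y, hy⟩ := TAB.J3.exists_ord h (p := 17) (by norm_num) (by norm_num)
    exact BoxR.two (k := 3) (ty_of (by norm_num) hy fun e => absurd e (by decide)) (H898.J3Cent.seventeen h hy).1.le
      (by decide) (not_conj_norm hy (H898.J3Cent.seventeen h hy).2 (by decide +kernel)) (by decide +kernel)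
  · obtain ⟨y, hy⟩ := TAB.J3.exists_ord h (p := 19) (by norm_num) (by norm_num)
    exact BoxR.two (k := 2) (ty_of (by norm_num) hy fun e => absurd e (by decide)) (H898.J3Cent.card_nineteen h hy).le
      (by decide) (not_conj_norm hy (H898.J3Cent.card_normalizer_nineteen h hy) (by decide +kernel))
      (by decide +kernel)

/-- **the types of `J₃`** -/
theorem exists_types [Finite K] (h : IsoJ3 K) : ∃ T : TD K dat, T.Mass ∧ Rat T ∧ 21 ≤ Nat.card (ConjClasses K) := by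
  obtain ⟨T, hm, hr, -, hc⟩ := exists_td_rat okPow okSep okSum (TAB.J3.card_eq h) clsN (boxes h)
  exact ⟨T, hm, hr, hc⟩

end Cfsg.Agent.TH.Spor.J3
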