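import Cfsg.Agent.TH.Spor.NBD

/-!
# S3541, sporadic rows: B, certificates (helper26; generated by notes/TH/spor26/gen.py.txt)
-/

set_option autoImplicit false
set_option Elab.async false

namespace Cfsg.Agent.TH.Spor.NB

open Cfsg Cfsg.Agent.TAB.Eng Cfsg.Agent.H940.Eng

/-- a candidate -/
def c0 : ℕ × ℕ × List Step :=
  (13060694016, 3, [(0, 0, .ofNat 0, 0, [(.negSucc 0, 132)])])

/-- a candidate -/
def c1 : ℕ × ℕ × List Step :=
  (52242776064, 3, [(0, 0, .ofNat 0, 0, [(.negSucc 0, 132)])])

/-- a candidate -/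
def c2 : ℕ × ℕ × List Step :=
  (52242776064, 9, [(0, 0, .ofNat 0, 0, [(.negSucc 0, 132)])])

/-- a candidate -/
def c3 : ℕ × ℕ × List Step :=
  (208971104256, 3, [(0, 0, .ofNat 0, 0, [(.ofNat 34, 90), (.negSucc 30, 111), (.ofNat 20, 117), (.negSucc 23, 135),
  (.ofNat 26, 143), (.ofNat 81, 149), (.negSucc 44, 150), (.negSucc 35, 158)])])

/-- a candidate -/
def c4 : ℕ × ℕ × List Step :=
  (835884417024, 3, [(0, 0, .ofNat 0, 0, [(.ofNat 3, 90), (.ofNat 2, 100), (.negSucc 0, 123), (.negSucc 0, 140),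
  (.negSucc 0, 150), (.negSucc 0, 158)])])

/-- a candidate -/
def c5 : ℕ × ℕ × List Step :=
  (2199023255552, 2, [(0, 0, .ofNat 0, 0, [(.negSucc 0, 47), (.negSucc 688, 87), (.negSucc 211, 90), (.negSucc 5,
  107), (.negSucc 39, 119), (.negSucc 47, 131), (.negSucc 33, 142), (.negSucc 427, 148), (.negSucc 51, 152),
  (.negSucc 427, 156), (.negSucc 471, 158), (.negSucc 728, 161), (.negSucc 223, 162), (.negSucc 93, 163), (.negSucc
  193, 165), (.negSucc 4, 172), (.negSucc 422, 174)])])

/-- a candidate -/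
def c6 : ℕ × ℕ × List Step :=
  (2199023255552, 4, [(0, 0, .ofNat 0, 0, [(.negSucc 0, 47), (.negSucc 688, 87), (.negSucc 211, 90), (.negSucc 5,
  107), (.negSucc 39, 119), (.negSucc 47, 131), (.negSucc 33, 142), (.negSucc 427, 148), (.negSucc 51, 152),
  (.negSucc 427, 156), (.negSucc 471, 158), (.negSucc 728, 161), (.negSucc 223, 162), (.negSucc 93, 163), (.negSucc
  193, 165), (.negSucc 4, 172), (.negSucc 422, 174)])])

/-- a candidate -/
def c7 : ℕ × ℕ × List Step :=
  (2199023255552, 8, [(0, 0, .ofNat 0, 0, [(.negSucc 10, 47), (.negSucc 1937, 87), (.negSucc 669, 90), (.negSucc 132,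
  107), (.negSucc 70, 112), (.negSucc 110, 119), (.negSucc 59, 137), (.negSucc 99, 142), (.negSucc 1239, 148),
  (.negSucc 203, 152), (.negSucc 1239, 156), (.negSucc 1303, 158), (.negSucc 2186, 161), (.negSucc 589, 162),
  (.negSucc 278, 163), (.negSucc 523, 165), (.negSucc 1276, 174)])])

/-- a candidate -/
def c8 : ℕ × ℕ × List Step :=
  (3343537668096, 3, [(0, 0, .negSucc 5179570741, 1, [(.ofNat 27294122564, 9), (.ofNat 9204683304, 31), (.ofNat
  373618022, 38), (.ofNat 31381059609, 90), (.ofNat 23510515270, 100), (.ofNat 11690505811, 105)])])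

/-- a candidate -/
def c9 : ℕ × ℕ × List Step :=
  (3343537668096, 9, [(0, 0, .ofNat 0, 0, [(.negSucc 40, 12), (.negSucc 255, 23), (.negSucc 84, 33), (.negSucc 149,
  51), (.negSucc 93, 66), (.negSucc 13, 74), (.ofNat 54, 86), (.negSucc 126, 92), (.negSucc 45, 94), (.negSucc 15,
  95), (.negSucc 32, 96), (.negSucc 64, 101), (.ofNat 2, 102), (.negSucc 113, 104), (.negSucc 7, 110), (.negSucc 340,
  113), (.negSucc 66, 117), (.negSucc 109, 121), (.negSucc 258, 124), (.negSucc 8, 134), (.negSucc 545, 144),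
  (.negSucc 196, 146), (.negSucc 165, 147), (.negSucc 58, 149), (.negSucc 111, 152), (.negSucc 95, 153), (.negSucc
  248, 154), (.negSucc 1, 155), (.negSucc 290, 158), (.negSucc 264, 159), (.negSucc 211, 161), (.negSucc 728, 162),
  (.negSucc 249, 172), (.negSucc 347, 173)])])

/-- candidates -/
def CL0 : List (ℕ × ℕ × List Step) :=
  [c0, c1, c2, c3, c4, c5, c6, c7, c8, c9]

theorem okC0 : okL TAB.B.Fin.datF R 2 P Z CL0 = true := by decide +kernel

/-- a candidate -/
def c10 : ℕ × ℕ × List Step :=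
  (12754584000000, 15, [(0, 0, .ofNat 0, 0, [(.negSucc 631, 4), (.negSucc 62, 12), (.negSucc 171, 17), (.negSucc 40,
  23), (.negSucc 71, 30), (.negSucc 23, 33), (.negSucc 53, 51), (.negSucc 199, 66), (.negSucc 63, 71), (.negSucc 18,
  74), (.negSucc 270, 81), (.negSucc 208, 82), (.negSucc 267, 95), (.negSucc 131, 108), (.negSucc 214, 110),
  (.negSucc 314, 113), (.negSucc 90, 115), (.negSucc 456, 122), (.negSucc 193, 123), (.negSucc 321, 124), (.negSucc
  189, 125), (.negSucc 289, 132), (.negSucc 227, 137), (.negSucc 311, 138), (.negSucc 527, 139), (.negSucc 69, 140),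
  (.negSucc 396, 143), (.negSucc 129, 144), (.negSucc 252, 145), (.negSucc 49, 146), (.negSucc 28, 147), (.negSucc
  516, 148), (.negSucc 371, 149), (.negSucc 661, 150), (.negSucc 68, 152), (.negSucc 80, 153), (.negSucc 307, 154),
  (.negSucc 104, 155), (.negSucc 979, 158), (.negSucc 909, 159), (.negSucc 2186, 160), (.negSucc 1121, 162),
  (.negSucc 1282, 163), (.negSucc 176, 164), (.negSucc 813, 165), (.negSucc 282, 172), (.negSucc 531, 173)])])

/-- a candidate -/
def c11 : ℕ × ℕ × List Step :=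
  (12754584000000, 45, [(0, 0, .negSucc 6, 0, [(.negSucc 5, 2), (.negSucc 23, 4), (.negSucc 3, 12), (.negSucc 0, 19),
  (.negSucc 4, 50), (.negSucc 5, 51), (.negSucc 3, 66), (.negSucc 1, 81), (.negSucc 3, 82), (.negSucc 3, 95),
  (.negSucc 8, 108), (.negSucc 0, 110), (.negSucc 9, 113), (.negSucc 5, 115), (.negSucc 18, 122), (.negSucc 8, 123),
  (.negSucc 13, 124), (.negSucc 0, 125), (.negSucc 9, 132), (.negSucc 3, 136), (.negSucc 10, 137), (.negSucc 20,
  138), (.negSucc 13, 139), (.negSucc 6, 140), (.negSucc 0, 142), (.negSucc 6, 143), (.negSucc 10, 145), (.negSucc 0,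
  147), (.negSucc 15, 149), (.negSucc 32, 150), (.negSucc 0, 152), (.negSucc 9, 154), (.negSucc 22, 158), (.negSucc
  10, 159), (.negSucc 80, 160), (.negSucc 36, 162), (.negSucc 33, 163), (.negSucc 12, 164), (.negSucc 28, 165),
  (.negSucc 13, 172), (.negSucc 15, 173)])])

/-- a candidate -/
def c12 : ℕ × ℕ × List Step :=
  (13374150672384, 3, [(0, 0, .ofNat 0, 0, [(.negSucc 8, 12), (.negSucc 31, 23), (.negSucc 8, 33), (.ofNat 1, 36),
  (.negSucc 3, 37), (.negSucc 0, 47), (.negSucc 7, 51), (.negSucc 20, 66), (.negSucc 2, 74), (.negSucc 16, 92),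
  (.negSucc 14, 104), (.negSucc 1, 111), (.negSucc 25, 113), (.negSucc 3, 121), (.negSucc 14, 124), (.negSucc 8,
  125), (.negSucc 1, 129), (.negSucc 32, 144), (.negSucc 15, 146), (.negSucc 2, 147), (.negSucc 17, 148), (.negSucc
  3, 149), (.negSucc 11, 152), (.negSucc 14, 153), (.negSucc 23, 154), (.negSucc 0, 155), (.negSucc 33, 158),
  (.negSucc 39, 159), (.negSucc 2, 160), (.negSucc 16, 161), (.negSucc 80, 162), (.negSucc 25, 172), (.negSucc 33,
  173)])])

/-- a candidate -/
def c13 : ℕ × ℕ × List Step :=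
  (53496602689536, 3, [(0, 0, .ofNat 0, 0, [(.negSucc 8, 12), (.negSucc 31, 23), (.negSucc 8, 33), (.ofNat 1, 36),
  (.negSucc 3, 37), (.negSucc 0, 47), (.negSucc 7, 51), (.negSucc 20, 66), (.negSucc 2, 74), (.negSucc 16, 92),
  (.negSucc 14, 104), (.negSucc 1, 111), (.negSucc 25, 113), (.negSucc 3, 121), (.negSucc 14, 124), (.negSucc 8,
  125), (.negSucc 1, 129), (.negSucc 32, 144), (.negSucc 15, 146), (.negSucc 2, 147), (.negSucc 17, 148), (.negSucc
  3, 149), (.negSucc 11, 152), (.negSucc 14, 153), (.negSucc 23, 154), (.negSucc 0, 155), (.negSucc 33, 158),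
  (.negSucc 39, 159), (.negSucc 2, 160), (.negSucc 16, 161), (.negSucc 80, 162), (.negSucc 25, 172), (.negSucc 33,
  173)])])

/-- a candidate -/
def c14 : ℕ × ℕ × List Step :=
  (67108864000000, 5, [(0, 0, .ofNat 0, 0, [(.negSucc 0, 159), (.negSucc 0, 160)])])

/-- a candidate -/
def c15 : ℕ × ℕ × List Step :=
  (204073344000000, 15, [(0, 0, .negSucc 138, 0, [(.negSucc 382, 4), (.negSucc 98, 12), (.negSucc 14, 33), (.negSucc
  50, 66), (.negSucc 50, 71), (.negSucc 202, 81), (.negSucc 157, 82), (.negSucc 210, 95), (.negSucc 25, 97),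
  (.negSucc 42, 99), (.negSucc 208, 108), (.negSucc 165, 110), (.negSucc 160, 113), (.negSucc 151, 115), (.negSucc
  417, 122), (.negSucc 151, 123), (.negSucc 281, 124), (.negSucc 181, 125), (.negSucc 203, 130), (.negSucc 142, 132),
  (.negSucc 98, 136), (.negSucc 136, 137), (.negSucc 304, 138), (.negSucc 410, 139), (.negSucc 93, 142), (.negSucc
  166, 143), (.negSucc 150, 144), (.negSucc 251, 145), (.negSucc 123, 146), (.negSucc 92, 147), (.negSucc 437, 148),
  (.negSucc 222, 149), (.negSucc 157, 150), (.negSucc 31, 152), (.negSucc 219, 153), (.negSucc 301, 154), (.negSucc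
  61, 155), (.negSucc 542, 158), (.negSucc 970, 159), (.negSucc 2186, 160), (.negSucc 841, 162), (.negSucc 991, 163),
  (.negSucc 178, 164), (.negSucc 692, 165), (.negSucc 367, 172), (.negSucc 493, 173), (.negSucc 32, 174)])])

/-- a candidate -/
def c16 : ℕ × ℕ × List Step :=
  (204073344000000, 75, [(0, 0, .negSucc 138, 0, [(.negSucc 382, 4), (.negSucc 98, 12), (.negSucc 14, 33), (.negSucc
  50, 66), (.negSucc 50, 71), (.negSucc 202, 81), (.negSucc 157, 82), (.negSucc 210, 95), (.negSucc 25, 97),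
  (.negSucc 42, 99), (.negSucc 208, 108), (.negSucc 165, 110), (.negSucc 160, 113), (.negSucc 151, 115), (.negSucc
  417, 122), (.negSucc 151, 123), (.negSucc 281, 124), (.negSucc 181, 125), (.negSucc 203, 130), (.negSucc 142, 132),
  (.negSucc 98, 136), (.negSucc 136, 137), (.negSucc 304, 138), (.negSucc 410, 139), (.negSucc 93, 142), (.negSucc
  166, 143), (.negSucc 150, 144), (.negSucc 251, 145), (.negSucc 123, 146), (.negSucc 92, 147), (.negSucc 437, 148),
  (.negSucc 222, 149), (.negSucc 157, 150), (.negSucc 31, 152), (.negSucc 219, 153), (.negSucc 301, 154), (.negSucc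
  61, 155), (.negSucc 542, 158), (.negSucc 970, 159), (.negSucc 2186, 160), (.negSucc 841, 162), (.negSucc 991, 163),
  (.negSucc 178, 164), (.negSucc 692, 165), (.negSucc 367, 172), (.negSucc 493, 173), (.negSucc 32, 174)])])

/-- a candidate -/
def c17 : ℕ × ℕ × List Step :=
  (213986410758144, 3, [(0, 0, .negSucc 124, 0, [(.negSucc 197, 12), (.negSucc 99, 21), (.negSucc 238, 23), (.negSucc
  34, 33), (.negSucc 58, 37), (.ofNat 21, 45), (.negSucc 3, 54), (.negSucc 88, 66), (.ofNat 38, 70), (.negSucc 55,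
  92), (.negSucc 42, 95), (.negSucc 74, 104), (.negSucc 94, 108), (.negSucc 16, 110), (.negSucc 122, 113), (.negSucc
  12, 123), (.negSucc 100, 125), (.negSucc 34, 135), (.negSucc 376, 143), (.negSucc 6, 144), (.negSucc 28, 146),
  (.negSucc 203, 148), (.negSucc 15, 149), (.negSucc 134, 153), (.negSucc 156, 154), (.negSucc 23, 155), (.negSucc
  48, 157), (.negSucc 375, 158), (.negSucc 728, 159), (.negSucc 137, 160), (.negSucc 503, 162), (.negSucc 404, 163),
  (.negSucc 129, 172), (.negSucc 180, 173)])])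

/-- a candidate -/
def c18 : ℕ × ℕ × List Step :=
  (213986410758144, 9, [(0, 0, .negSucc 3811, 0, [(.negSucc 6261, 12), (.negSucc 2298, 21), (.negSucc 6245, 23),
  (.negSucc 528, 33), (.ofNat 1978, 45), (.negSucc 1955, 66), (.ofNat 1883, 70), (.negSucc 428, 85), (.negSucc 253,
  92), (.negSucc 2202, 95), (.negSucc 1682, 96), (.negSucc 3855, 104), (.negSucc 3997, 108), (.negSucc 4847, 113),
  (.negSucc 66, 122), (.negSucc 3690, 125), (.negSucc 1028, 135), (.negSucc 138, 136), (.negSucc 12508, 143),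
  (.negSucc 2082, 144), (.negSucc 1411, 146), (.negSucc 6319, 148), (.negSucc 284, 149), (.negSucc 855, 152),
  (.negSucc 4142, 153), (.negSucc 3721, 154), (.negSucc 711, 155), (.negSucc 290, 157), (.negSucc 11611, 158),
  (.negSucc 19682, 159), (.negSucc 8604, 160), (.negSucc 17802, 162), (.negSucc 12995, 163), (.negSucc 4837, 172),
  (.negSucc 5056, 173)])])

/-- a candidate -/
def c19 : ℕ × ℕ × List Step :=
  (213986410758144, 27, [(0, 0, .negSucc 256, 0, [(.negSucc 170, 23), (.ofNat 120, 36), (.ofNat 91, 45), (.ofNat 60,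
  52), (.ofNat 26, 56), (.ofNat 96, 70), (.ofNat 8, 76), (.negSucc 71, 78), (.negSucc 20, 84), (.negSucc 75, 94),
  (.negSucc 239, 104), (.negSucc 107, 108), (.negSucc 215, 113), (.negSucc 166, 125), (.negSucc 99, 130), (.negSucc
  237, 134), (.negSucc 235, 135), (.negSucc 18, 143), (.negSucc 121, 144), (.negSucc 180, 146), (.negSucc 112, 147),
  (.negSucc 123, 148), (.negSucc 126, 153), (.negSucc 109, 154), (.negSucc 147, 156), (.negSucc 284, 159), (.negSucc
  325, 160), (.negSucc 728, 162), (.negSucc 288, 163), (.negSucc 300, 172), (.negSucc 251, 173)])])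

/-- candidates -/
def CL1 : List (ℕ × ℕ × List Step) :=
  [c10, c11, c12, c13, c14, c15, c16, c17, c18, c19]

theorem okC1 : okL TAB.B.Fin.datF R 2 P Z CL1 = true := by decide +kernel

/-- a candidate -/
def c20 : ℕ × ℕ × List Step :=
  (213986410758144, 81, [(0, 0, .negSucc 43, 0, [(.negSucc 37, 23), (.ofNat 24, 27), (.ofNat 1, 35), (.ofNat 20, 36),
  (.ofNat 8, 45), (.ofNat 5, 62), (.ofNat 23, 70), (.ofNat 6, 76), (.negSucc 18, 78), (.negSucc 18, 84), (.ofNat 5,
  90), (.negSucc 25, 92), (.negSucc 24, 101), (.negSucc 14, 108), (.negSucc 39, 113), (.negSucc 5, 118), (.negSucc 0,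
  121), (.negSucc 0, 123), (.negSucc 24, 130), (.negSucc 8, 135), (.negSucc 9, 139), (.negSucc 17, 143), (.negSucc
  22, 144), (.negSucc 27, 146), (.negSucc 27, 147), (.negSucc 7, 148), (.negSucc 25, 153), (.negSucc 14, 154),
  (.negSucc 41, 159), (.negSucc 72, 160), (.negSucc 80, 162), (.negSucc 55, 163), (.negSucc 53, 172), (.negSucc 52,
  173)])])

/-- a candidate -/
def c21 : ℕ × ℕ × List Step :=
  (855945643032576, 3, [(0, 0, .negSucc 23, 0, [(.negSucc 70, 12), (.negSucc 36, 21), (.negSucc 86, 23), (.negSucc 9,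
  33), (.negSucc 26, 37), (.ofNat 1, 41), (.ofNat 10, 45), (.negSucc 27, 66), (.ofNat 11, 70), (.negSucc 28, 92),
  (.negSucc 10, 95), (.negSucc 43, 104), (.negSucc 8, 107), (.negSucc 43, 108), (.negSucc 12, 110), (.negSucc 30,
  113), (.negSucc 0, 124), (.negSucc 26, 125), (.negSucc 4, 136), (.negSucc 80, 143), (.negSucc 6, 144), (.negSucc
  23, 146), (.negSucc 62, 148), (.negSucc 27, 149), (.negSucc 22, 152), (.negSucc 52, 153), (.negSucc 53, 154),
  (.negSucc 11, 155), (.negSucc 24, 157), (.negSucc 129, 158), (.negSucc 242, 159), (.negSucc 77, 160), (.negSucc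
  188, 162), (.negSucc 141, 163), (.negSucc 58, 172), (.negSucc 74, 173)])])

/-- a candidate -/
def c22 : ℕ × ℕ × List Step :=
  (1073741824000000, 5, [(0, 0, .ofNat 0, 0, [(.negSucc 0, 159), (.negSucc 0, 160)])])

/-- a candidate -/
def c23 : ℕ × ℕ × List Step :=
  (3265173504000000, 15, [(0, 0, .ofNat 0, 0, [(.negSucc 1385, 4), (.negSucc 210, 12), (.negSucc 201, 17), (.negSucc
  103, 23), (.negSucc 35, 33), (.negSucc 321, 66), (.negSucc 255, 71), (.negSucc 61, 74), (.negSucc 663, 81),
  (.negSucc 507, 82), (.negSucc 712, 95), (.negSucc 164, 99), (.negSucc 45, 104), (.negSucc 531, 108), (.negSucc 506,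
  110), (.negSucc 359, 113), (.negSucc 454, 115), (.negSucc 1199, 122), (.negSucc 516, 123), (.negSucc 799, 124),
  (.negSucc 594, 125), (.negSucc 477, 130), (.negSucc 442, 132), (.negSucc 67, 134), (.negSucc 225, 136), (.negSucc
  331, 137), (.negSucc 863, 138), (.negSucc 1212, 139), (.negSucc 246, 142), (.negSucc 316, 143), (.negSucc 339,
  144), (.negSucc 722, 145), (.negSucc 370, 146), (.negSucc 131, 147), (.negSucc 1492, 148), (.negSucc 587, 149),
  (.negSucc 540, 150), (.negSucc 131, 152), (.negSucc 679, 153), (.negSucc 995, 154), (.negSucc 219, 155), (.negSucc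
  1875, 158), (.negSucc 3225, 159), (.negSucc 6560, 160), (.negSucc 2677, 162), (.negSucc 2981, 163), (.negSucc 388,
  164), (.negSucc 2008, 165), (.negSucc 990, 172), (.negSucc 1471, 173)])])

/-- a candidate -/
def c24 : ℕ × ℕ × List Step :=
  (3423782572130304, 3, [(0, 0, .ofNat 0, 0, [(.negSucc 125782, 12), (.ofNat 4829, 19), (.negSucc 87702, 21),
  (.negSucc 219435, 23), (.negSucc 102042, 37), (.ofNat 16749, 45), (.negSucc 5195, 54), (.negSucc 48031, 66),
  (.negSucc 17048, 85), (.ofNat 349, 86), (.negSucc 113906, 92), (.negSucc 32834, 95), (.negSucc 149161, 104),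
  (.negSucc 26913, 107), (.negSucc 105711, 108), (.negSucc 82038, 113), (.negSucc 39011, 124), (.negSucc 70123, 125),
  (.negSucc 42586, 136), (.negSucc 97250, 143), (.negSucc 57732, 144), (.negSucc 64619, 146), (.negSucc 140940, 148),
  (.negSucc 125759, 149), (.negSucc 150385, 152), (.negSucc 100959, 153), (.negSucc 118064, 154), (.negSucc 44482,
  155), (.negSucc 49938, 157), (.negSucc 319944, 158), (.negSucc 531440, 159), (.negSucc 231939, 160), (.negSucc
  460363, 162), (.negSucc 300118, 163), (.negSucc 148734, 172), (.negSucc 212800, 173)])])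

/-- a candidate -/
def c25 : ℕ × ℕ × List Step :=
  (13153337344000000, 35, [(0, 0, .ofNat 0, 0, [(.negSucc 1107048, 4), (.negSucc 66503, 30), (.negSucc 418861, 33),
  (.ofNat 26594, 42), (.ofNat 96937, 50), (.ofNat 121969, 54), (.negSucc 109432, 65), (.ofNat 198147, 70), (.negSucc
  96850, 72), (.negSucc 268717, 73), (.negSucc 339496, 79), (.negSucc 638698, 84), (.negSucc 192011, 90), (.negSucc
  479526, 108), (.negSucc 982964, 109), (.negSucc 1120404, 118), (.negSucc 60969, 119), (.negSucc 744849, 121),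
  (.negSucc 434657, 122), (.negSucc 491355, 128), (.negSucc 1116288, 129), (.negSucc 1003248, 131), (.negSucc 379481,
  132), (.negSucc 174573, 133), (.negSucc 519800, 134), (.negSucc 58038, 135), (.negSucc 583991, 136), (.negSucc
  2936952, 142), (.negSucc 520945, 143), (.negSucc 2047723, 144), (.negSucc 1514948, 146), (.negSucc 328424, 148),
  (.negSucc 533217, 152), (.negSucc 728900, 153), (.negSucc 468118, 156), (.negSucc 3882640, 162), (.negSucc 130537,
  163), (.negSucc 1758162, 164), (.negSucc 4782968, 165), (.negSucc 1687458, 172), (.negSucc 987975, 173), (.negSucc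
  2153370, 174)])])

/-- a candidate -/
def c26 : ℕ × ℕ × List Step :=
  (13153337344000000, 175, [(0, 0, .ofNat 0, 0, [(.negSucc 1107048, 4), (.negSucc 66503, 30), (.negSucc 418861, 33),
  (.ofNat 26594, 42), (.ofNat 96937, 50), (.ofNat 121969, 54), (.negSucc 109432, 65), (.ofNat 198147, 70), (.negSucc
  96850, 72), (.negSucc 268717, 73), (.negSucc 339496, 79), (.negSucc 638698, 84), (.negSucc 192011, 90), (.negSucc
  479526, 108), (.negSucc 982964, 109), (.negSucc 1120404, 118), (.negSucc 60969, 119), (.negSucc 744849, 121),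
  (.negSucc 434657, 122), (.negSucc 491355, 128), (.negSucc 1116288, 129), (.negSucc 1003248, 131), (.negSucc 379481,
  132), (.negSucc 174573, 133), (.negSucc 519800, 134), (.negSucc 58038, 135), (.negSucc 583991, 136), (.negSucc
  2936952, 142), (.negSucc 520945, 143), (.negSucc 2047723, 144), (.negSucc 1514948, 146), (.negSucc 328424, 148),
  (.negSucc 533217, 152), (.negSucc 728900, 153), (.negSucc 468118, 156), (.negSucc 3882640, 162), (.negSucc 130537,
  163), (.negSucc 1758162, 164), (.negSucc 4782968, 165), (.negSucc 1687458, 172), (.negSucc 987975, 173), (.negSucc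
  2153370, 174)])])

/-- a candidate -/
def c27 : ℕ × ℕ × List Step :=
  (13695130288521216, 3, [(0, 0, .ofNat 0, 0, [(.negSucc 39768, 12), (.negSucc 14156, 21), (.negSucc 38334, 23),
  (.negSucc 1867, 33), (.negSucc 22200, 37), (.ofNat 26357, 45), (.negSucc 14446, 54), (.negSucc 3083, 55), (.negSucc
  18234, 58), (.negSucc 7221, 66), (.ofNat 1761, 70), (.ofNat 6189, 86), (.negSucc 33793, 92), (.negSucc 884, 95),
  (.negSucc 3803, 103), (.negSucc 59564, 104), (.negSucc 15280, 107), (.negSucc 48105, 108), (.negSucc 7250, 113),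
  (.negSucc 10784, 122), (.negSucc 22698, 123), (.negSucc 7257, 124), (.negSucc 17762, 125), (.negSucc 53265, 138),
  (.negSucc 107108, 143), (.negSucc 27786, 146), (.negSucc 38211, 148), (.negSucc 32152, 152), (.negSucc 10389, 153),
  (.negSucc 28097, 154), (.negSucc 7898, 155), (.negSucc 91000, 158), (.negSucc 146087, 159), (.negSucc 177146, 160),
  (.negSucc 147045, 162), (.negSucc 120726, 163), (.negSucc 55535, 172), (.negSucc 43176, 173)])])

/-- a candidate -/
def c28 : ℕ × ℕ × List Step :=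
  (13695130288521216, 9, [(0, 0, .ofNat 0, 0, [(.negSucc 157858, 12), (.negSucc 67204, 21), (.negSucc 117919, 23),
  (.negSucc 30112, 33), (.ofNat 108451, 45), (.negSucc 7128, 58), (.ofNat 42817, 70), (.ofNat 48884, 86), (.negSucc
  48505, 92), (.negSucc 55158, 95), (.negSucc 35958, 96), (.negSucc 153157, 104), (.negSucc 150765, 108), (.negSucc
  89824, 113), (.negSucc 21869, 122), (.negSucc 32994, 123), (.negSucc 50550, 124), (.negSucc 62508, 125), (.negSucc
  86292, 138), (.negSucc 346262, 143), (.negSucc 96170, 144), (.negSucc 42882, 146), (.negSucc 94872, 148), (.negSucc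
  22707, 149), (.negSucc 36676, 152), (.negSucc 60282, 153), (.negSucc 72118, 154), (.negSucc 22613, 155), (.negSucc
  258257, 158), (.negSucc 377538, 159), (.negSucc 456223, 160), (.negSucc 531440, 162), (.negSucc 339917, 163),
  (.negSucc 182724, 172), (.negSucc 132233, 173)])])

/-- a candidate -/
def c29 : ℕ × ℕ × List Step :=
  (17179869184000000, 5, [(0, 0, .ofNat 0, 0, [(.negSucc 0, 159), (.negSucc 0, 160)])])

/-- candidates -/
def CL2 : List (ℕ × ℕ × List Step) :=
  [c20, c21, c22, c23, c24, c25, c26, c27, c28, c29]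

theorem okC2 : okL TAB.B.Fin.datF R 2 P Z CL2 = true := by decide +kernel

/-- a candidate -/
def c30 : ℕ × ℕ × List Step :=
  (52242776064000000, 15, [(0, 0, .ofNat 4782969, 0, [(.negSucc 741370, 2), (.negSucc 1927842, 4), (.ofNat 432760,
  8), (.ofNat 292954, 9), (.negSucc 598479, 12), (.ofNat 388842, 13), (.ofNat 228140, 14), (.ofNat 553518, 16),
  (.negSucc 519420, 22), (.negSucc 1452487, 23), (.ofNat 114295, 24), (.negSucc 920034, 26), (.negSucc 1942831, 30),
  (.negSucc 1320014, 33), (.negSucc 433112, 35), (.negSucc 241781, 40), (.negSucc 607598, 43), (.ofNat 517947, 45),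
  (.negSucc 2382536, 51), (.negSucc 1288129, 53), (.negSucc 382323, 55), (.negSucc 57155, 59), (.ofNat 475114, 60),
  (.negSucc 763649, 63), (.negSucc 100079, 64), (.negSucc 357815, 65), (.negSucc 539781, 66), (.negSucc 236196, 67),
  (.negSucc 1367753, 71), (.ofNat 1165404, 80), (.ofNat 345014, 86), (.negSucc 408340, 87), (.ofNat 35481, 90),
  (.negSucc 79259, 93), (.negSucc 292379, 95), (.negSucc 531800, 102), (.negSucc 8721, 103), (.negSucc 346523, 107),
  (.negSucc 694135, 112), (.negSucc 122769, 113), (.negSucc 19922, 115), (.negSucc 1444555, 116), (.negSucc 395951,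
  119), (.negSucc 527874, 120), (.negSucc 754579, 121), (.negSucc 282498, 122), (.negSucc 99567, 123), (.negSucc
  2122864, 124), (.negSucc 958609, 125), (.negSucc 321261, 126), (.negSucc 747559, 127), (.negSucc 713567, 128),
  (.negSucc 1296855, 129), (.ofNat 405654, 130), (.negSucc 633350, 131), (.negSucc 337035, 132), (.negSucc 382098,
  133), (.negSucc 1253839, 134), (.negSucc 456131, 137), (.negSucc 15773, 138), (.negSucc 459796, 139), (.negSucc
  217648, 140), (.negSucc 959034, 141), (.negSucc 96075, 142), (.negSucc 24909, 143), (.negSucc 3114061, 144),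
  (.negSucc 864121, 145), (.negSucc 371649, 146), (.negSucc 664410, 147), (.negSucc 1848550, 148), (.negSucc 2707111,
  149), (.negSucc 977284, 150), (.negSucc 1654480, 151), (.negSucc 1245572, 152), (.negSucc 1036500, 153), (.negSucc
  506526, 154), (.negSucc 1161707, 155), (.negSucc 247432, 156), (.negSucc 1594124, 157), (.negSucc 2864074, 158),
  (.negSucc 1918132, 159), (.negSucc 1961755, 160), (.negSucc 2016265, 161), (.negSucc 3928367, 162), (.negSucc
  3001060, 163), (.negSucc 2291284, 164), (.negSucc 3368834, 165), (.negSucc 745551, 167), (.negSucc 899092, 169),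
  (.negSucc 462977, 171), (.negSucc 2454475, 172), (.negSucc 2447389, 173), (.negSucc 429206, 174)])])

/-- a candidate -/
def c31 : ℕ × ℕ × List Step :=
  (52242776064000000, 45, [(0, 0, .ofNat 1594323, 0, [(.negSucc 243383, 2), (.negSucc 598603, 4), (.ofNat 206029, 8),
  (.ofNat 154593, 9), (.negSucc 26905, 10), (.negSucc 232331, 12), (.ofNat 285935, 13), (.ofNat 33420, 14), (.ofNat
  38769, 16), (.negSucc 462028, 23), (.ofNat 67218, 24), (.negSucc 275978, 26), (.ofNat 96814, 27), (.negSucc 26360,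
  28), (.negSucc 629182, 30), (.negSucc 493687, 33), (.negSucc 137877, 40), (.negSucc 265328, 43), (.ofNat 26926,
  44), (.ofNat 213710, 45), (.negSucc 675129, 51), (.negSucc 333695, 53), (.negSucc 371557, 55), (.ofNat 89592, 56),
  (.ofNat 109372, 58), (.negSucc 61140, 59), (.ofNat 29479, 60), (.negSucc 216044, 63), (.negSucc 54889, 65),
  (.negSucc 246653, 66), (.negSucc 7077, 67), (.ofNat 8495, 76), (.ofNat 306773, 80), (.negSucc 14373, 83), (.ofNat
  153542, 86), (.ofNat 55770, 90), (.negSucc 64025, 95), (.negSucc 84198, 102), (.negSucc 75419, 107), (.negSucc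
  159481, 109), (.negSucc 338668, 112), (.negSucc 119334, 114), (.negSucc 357273, 116), (.negSucc 182873, 119),
  (.negSucc 60300, 120), (.negSucc 406312, 121), (.negSucc 27372, 122), (.negSucc 102869, 123), (.negSucc 656910,
  124), (.negSucc 321576, 125), (.negSucc 454411, 126), (.negSucc 251767, 127), (.negSucc 271337, 128), (.negSucc
  365251, 129), (.ofNat 162232, 130), (.negSucc 413996, 131), (.negSucc 279480, 132), (.negSucc 155517, 133),
  (.negSucc 242206, 134), (.negSucc 246947, 137), (.negSucc 8358, 138), (.negSucc 219589, 139), (.negSucc 342711,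
  141), (.negSucc 113230, 142), (.negSucc 6364, 143), (.negSucc 809693, 144), (.negSucc 317771, 145), (.negSucc
  283044, 146), (.negSucc 210994, 147), (.negSucc 763200, 149), (.negSucc 480003, 150), (.negSucc 441428, 151),
  (.negSucc 653419, 152), (.negSucc 276060, 153), (.negSucc 58739, 154), (.negSucc 424517, 155), (.negSucc 220618,
  157), (.negSucc 721280, 158), (.negSucc 658678, 159), (.negSucc 498438, 160), (.negSucc 408423, 161), (.negSucc
  1464369, 162), (.negSucc 907670, 163), (.negSucc 757734, 164), (.negSucc 1125430, 165), (.negSucc 317926, 167),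
  (.negSucc 470043, 169), (.negSucc 26016, 171), (.negSucc 1235949, 172), (.negSucc 818709, 173)])])

/-- a candidate -/
def c32 : ℕ × ℕ × List Step :=
  (54780521154084864, 3, [(0, 0, .ofNat 1594323, 0, [(.negSucc 86069, 2), (.ofNat 1002901, 6), (.negSucc 49262, 12),
  (.negSucc 427367, 21), (.ofNat 29640, 22), (.negSucc 73714, 23), (.negSucc 41501, 33), (.ofNat 77336, 36), (.ofNat
  65516, 39), (.negSucc 12353, 47), (.negSucc 688103, 49), (.negSucc 333635, 51), (.ofNat 364259, 58), (.negSucc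
  714450, 66), (.negSucc 59025, 69), (.negSucc 144105, 74), (.ofNat 7902, 80), (.negSucc 148086, 84), (.ofNat 192449,
  86), (.negSucc 295538, 88), (.ofNat 258252, 90), (.negSucc 274366, 92), (.ofNat 102334, 93), (.negSucc 208430, 94),
  (.ofNat 283710, 100), (.negSucc 7645, 108), (.negSucc 237141, 123), (.negSucc 500720, 124), (.negSucc 121142, 125),
  (.negSucc 39457, 134), (.negSucc 177876, 136), (.negSucc 68029, 143), (.negSucc 1383869, 144), (.negSucc 18047,
  147), (.negSucc 93476, 148), (.negSucc 277333, 152), (.negSucc 67246, 155), (.negSucc 149524, 158), (.negSucc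
  146307, 163), (.negSucc 188827, 165)])])

/-- a candidate -/
def c33 : ℕ × ℕ × List Step :=
  (178036693750775808, 39, [(0, 0, .ofNat 531441, 0, [(.ofNat 166564, 1), (.ofNat 71082, 5), (.ofNat 25015, 6),
  (.negSucc 9838, 10), (.negSucc 177523, 12), (.ofNat 77755, 16), (.ofNat 163311, 19), (.negSucc 12518, 21),
  (.negSucc 1910, 23), (.ofNat 54496, 24), (.negSucc 49948, 33), (.ofNat 97853, 36), (.ofNat 82816, 45), (.negSucc
  67158, 47), (.negSucc 192747, 49), (.negSucc 31958, 51), (.ofNat 30946, 56), (.ofNat 146681, 58), (.negSucc 112788,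
  65), (.negSucc 167596, 66), (.ofNat 23005, 70), (.negSucc 46608, 74), (.ofNat 59913, 75), (.ofNat 38115, 80),
  (.negSucc 157400, 81), (.negSucc 50239, 88), (.negSucc 25417, 89), (.ofNat 124725, 90), (.negSucc 56115, 92),
  (.negSucc 126239, 94), (.ofNat 86822, 100), (.ofNat 53347, 102), (.negSucc 4290, 103), (.negSucc 971, 107),
  (.negSucc 7306, 108), (.negSucc 45434, 110), (.ofNat 4267, 113), (.ofNat 51413, 121), (.negSucc 9935, 122),
  (.negSucc 62182, 125), (.negSucc 125253, 129), (.negSucc 70186, 131), (.negSucc 62936, 136), (.ofNat 31375, 138),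
  (.negSucc 43764, 140), (.negSucc 2873, 146), (.negSucc 47803, 147), (.negSucc 32122, 148), (.negSucc 62739, 149),
  (.negSucc 34844, 150), (.negSucc 28267, 163), (.ofNat 140, 166), (.ofNat 13136, 173)])])

/-- a candidate -/
def c34 : ℕ × ℕ × List Step :=
  (219122084616339456, 3, [(0, 0, .ofNat 59049, 0, [(.ofNat 11564, 1), (.negSucc 24725, 2), (.ofNat 13821, 6),
  (.negSucc 26485, 12), (.ofNat 11853, 19), (.negSucc 25766, 23), (.ofNat 12663, 27), (.ofNat 6825, 29), (.ofNat
  9909, 32), (.negSucc 20177, 33), (.ofNat 37192, 36), (.ofNat 11390, 45), (.negSucc 1634, 47), (.negSucc 23545, 49),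
  (.negSucc 32879, 51), (.negSucc 7825, 52), (.ofNat 5261, 55), (.ofNat 14869, 58), (.negSucc 8600, 65), (.negSucc
  34812, 66), (.ofNat 13456, 72), (.negSucc 1955, 74), (.ofNat 4860, 77), (.ofNat 11066, 80), (.negSucc 2924, 81),
  (.ofNat 10705, 86), (.negSucc 9531, 88), (.negSucc 31, 89), (.ofNat 10438, 90), (.ofNat 1524, 93), (.negSucc 39478,
  94), (.negSucc 2875, 103), (.negSucc 209, 111), (.ofNat 20102, 113), (.negSucc 3238, 116), (.ofNat 2056, 118),
  (.ofNat 9994, 121), (.negSucc 5450, 124), (.negSucc 17456, 125), (.negSucc 27653, 129), (.ofNat 1373, 132),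
  (.negSucc 822, 134), (.ofNat 25326, 135), (.negSucc 27434, 136), (.ofNat 4064, 138), (.negSucc 2583, 144),
  (.negSucc 9891, 148), (.ofNat 3871, 166), (.negSucc 7130, 171), (.ofNat 7308, 173)])])

/-- a candidate -/
def c35 : ℕ × ℕ × List Step :=
  (317995352064000000, 65, [(0, 0, .ofNat 59049, 0, [(.ofNat 9788, 3), (.negSucc 11644, 4), (.ofNat 3078, 6),
  (.negSucc 2820, 8), (.ofNat 6900, 16), (.ofNat 2322, 19), (.ofNat 4912, 21), (.negSucc 3175, 22), (.ofNat 2380,
  24), (.negSucc 5940, 26), (.negSucc 934, 30), (.negSucc 4301, 31), (.ofNat 1892, 32), (.negSucc 7240, 33), (.ofNat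
  5216, 34), (.negSucc 4944, 37), (.negSucc 4548, 38), (.negSucc 5486, 43), (.negSucc 49, 47), (.ofNat 3214, 48),
  (.ofNat 3675, 49), (.negSucc 8069, 51), (.ofNat 5201, 54), (.negSucc 2823, 58), (.ofNat 3050, 59), (.ofNat 1938,
  60), (.ofNat 5424, 62), (.negSucc 2482, 63), (.negSucc 3745, 64), (.negSucc 12310, 66), (.ofNat 4695, 72),
  (.negSucc 3805, 75), (.ofNat 2303, 78), (.ofNat 2, 81), (.negSucc 8231, 83), (.ofNat 2853, 84), (.ofNat 626, 87),
  (.ofNat 1034, 89), (.ofNat 2734, 97), (.ofNat 457, 99), (.negSucc 565, 101), (.ofNat 2033, 103), (.negSucc 110,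
  106), (.negSucc 3850, 107), (.negSucc 902, 108), (.negSucc 2816, 110), (.ofNat 7399, 111), (.ofNat 6636, 113),
  (.negSucc 3013, 114), (.negSucc 3107, 116), (.ofNat 12605, 118), (.ofNat 1102, 121), (.negSucc 1597, 125),
  (.negSucc 445, 128), (.ofNat 7936, 130), (.negSucc 246, 132), (.negSucc 10351, 133), (.ofNat 2942, 135), (.negSucc
  1068, 139), (.negSucc 2040, 142), (.negSucc 1768, 144), (.ofNat 93, 147), (.negSucc 1489, 149), (.negSucc 2904,
  158), (.negSucc 4232, 167), (.negSucc 5554, 168), (.negSucc 9481, 169), (.ofNat 1596, 173)])])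

/-- a candidate -/
def c36 : ℕ × ℕ × List Step :=
  (473520144384000000, 35, [(0, 0, .ofNat 14348907, 0, [(.ofNat 369231, 1), (.ofNat 2524564, 3), (.negSucc 2558526,
  4), (.negSucc 1220301, 8), (.ofNat 469488, 13), (.ofNat 2536581, 16), (.ofNat 458876, 17), (.ofNat 8573, 19),
  (.ofNat 2953592, 21), (.negSucc 795984, 22), (.negSucc 1669159, 26), (.ofNat 1293038, 27), (.negSucc 2641170, 30),
  (.negSucc 1203785, 31), (.ofNat 640104, 32), (.negSucc 1278883, 33), (.ofNat 275910, 34), (.negSucc 51109, 35),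
  (.negSucc 1147398, 37), (.negSucc 4288335, 38), (.negSucc 282693, 40), (.negSucc 1842365, 43), (.negSucc 296599,
  44), (.negSucc 556048, 45), (.ofNat 1011486, 46), (.ofNat 253141, 47), (.ofNat 1844169, 48), (.negSucc 2433656,
  51), (.ofNat 1323750, 53), (.ofNat 474033, 54), (.negSucc 204361, 56), (.ofNat 1380684, 59), (.ofNat 301623, 60),
  (.ofNat 1605030, 62), (.negSucc 1236143, 65), (.negSucc 876214, 66), (.negSucc 268645, 69), (.ofNat 2741994, 71),
  (.ofNat 1473080, 72), (.negSucc 2157902, 75), (.ofNat 1407323, 76), (.negSucc 554576, 77), (.ofNat 1366186, 78),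
  (.negSucc 709975, 79), (.negSucc 4822180, 80), (.ofNat 922745, 81), (.negSucc 2744876, 83), (.negSucc 2027898, 84),
  (.ofNat 1724603, 85), (.ofNat 1319537, 87), (.ofNat 1304003, 89), (.negSucc 1481729, 95), (.negSucc 112542, 96),
  (.ofNat 1250508, 97), (.negSucc 979099, 98), (.negSucc 735063, 101), (.ofNat 353407, 103), (.negSucc 758285, 105),
  (.negSucc 548889, 106), (.negSucc 918344, 108), (.negSucc 214797, 109), (.ofNat 3758180, 111), (.ofNat 1369369,
  113), (.negSucc 654328, 114), (.ofNat 1525670, 118), (.ofNat 1219573, 121), (.ofNat 458876, 124), (.ofNat 1886404,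
  126), (.ofNat 1500843, 130), (.ofNat 355314, 131), (.negSucc 291679, 133), (.ofNat 70703, 136), (.negSucc 834514,
  138), (.negSucc 87921, 142), (.ofNat 19497, 147), (.ofNat 131053, 148), (.negSucc 2739303, 156), (.ofNat 1634587,
  158), (.negSucc 333909, 161), (.negSucc 322010, 162), (.negSucc 114898, 164), (.negSucc 125703, 166), (.negSucc
  2133491, 168), (.negSucc 2904945, 169), (.negSucc 1570556, 172), (.ofNat 89634, 173)])])

/-- a candidate -/
def c37 : ℕ × ℕ × List Step :=
  (681091006464000000, 55, [(0, 0, .ofNat 2187, 0, [(.ofNat 489, 3), (.negSucc 486, 4), (.ofNat 63, 19), (.ofNat 351,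
  21), (.negSucc 600, 23), (.ofNat 81, 24), (.negSucc 90, 26), (.ofNat 143, 27), (.negSucc 153, 30), (.negSucc 203,
  31), (.negSucc 405, 33), (.ofNat 28, 34), (.negSucc 389, 38), (.ofNat 246, 49), (.negSucc 351, 51), (.ofNat 237,
  60), (.ofNat 102, 62), (.negSucc 221, 63), (.negSucc 265, 66), (.ofNat 151, 78), (.ofNat 12, 81), (.negSucc 314,
  83), (.ofNat 142, 87), (.ofNat 55, 89), (.ofNat 97, 103), (.negSucc 1, 107), (.negSucc 79, 109), (.ofNat 234, 113),
  (.ofNat 3, 115), (.negSucc 38, 117), (.ofNat 193, 118), (.negSucc 51, 125), (.negSucc 113, 129), (.ofNat 179, 130),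
  (.negSucc 40, 132), (.negSucc 226, 133), (.ofNat 1, 134), (.ofNat 249, 135), (.negSucc 190, 144), (.ofNat 30, 147),
  (.negSucc 177, 149), (.ofNat 26, 154), (.ofNat 35, 166), (.negSucc 236, 168), (.negSucc 416, 169), (.negSucc 16,
  170)])])

/-- a candidate -/
def c38 : ℕ × ℕ × List Step :=
  (835884417024000000, 15, [(0, 0, .ofNat 14348907, 0, [(.ofNat 1211648, 1), (.negSucc 3511592, 2), (.negSucc
  2848640, 4), (.negSucc 807390, 6), (.ofNat 528229, 8), (.ofNat 121997, 9), (.negSucc 1997062, 12), (.ofNat 1049921,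
  13), (.ofNat 1942831, 14), (.ofNat 970323, 16), (.negSucc 2411242, 17), (.ofNat 1951858, 19), (.ofNat 941111, 21),
  (.negSucc 1140064, 23), (.ofNat 952526, 24), (.ofNat 918357, 25), (.negSucc 1260855, 26), (.negSucc 3575420, 30),
  (.ofNat 292346, 31), (.negSucc 3342854, 33), (.negSucc 161786, 35), (.negSucc 97785, 37), (.ofNat 1120961, 41),
  (.negSucc 1710459, 43), (.ofNat 1499143, 45), (.negSucc 163337, 47), (.negSucc 2965715, 51), (.negSucc 1625312,
  53), (.negSucc 1019532, 55), (.ofNat 176511, 60), (.negSucc 2631912, 63), (.negSucc 192663, 65), (.negSucc 1089398,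
  66), (.negSucc 385987, 67), (.negSucc 1864882, 71), (.ofNat 11214, 74), (.ofNat 93539, 76), (.ofNat 1414836, 78),
  (.ofNat 3321917, 80), (.negSucc 30789, 82), (.negSucc 1259977, 83), (.negSucc 376762, 85), (.ofNat 1723259, 86),
  (.ofNat 618005, 87), (.ofNat 555132, 88), (.ofNat 2136547, 90), (.negSucc 167825, 100), (.negSucc 233513, 101),
  (.negSucc 312960, 103), (.ofNat 127851, 108), (.ofNat 519169, 111), (.negSucc 551161, 112), (.ofNat 997199, 113),
  (.negSucc 1791152, 116), (.negSucc 311597, 120), (.negSucc 393824, 121), (.negSucc 88472, 122), (.negSucc 1656109,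
  125), (.negSucc 277023, 126), (.negSucc 11886, 128), (.negSucc 202945, 129), (.ofNat 4401581, 130), (.negSucc
  1106514, 131), (.negSucc 1896362, 133), (.ofNat 2413942, 135), (.ofNat 795731, 138), (.ofNat 1974629, 143),
  (.negSucc 850225, 144), (.ofNat 135875, 147), (.negSucc 1833885, 149), (.negSucc 303254, 151), (.ofNat 385098,
  152), (.ofNat 691925, 154), (.negSucc 1593700, 158), (.negSucc 1841036, 159), (.negSucc 2479281, 163), (.negSucc
  392487, 164), (.ofNat 418108, 166), (.negSucc 2865368, 167), (.negSucc 1029282, 168), (.negSucc 2708449, 169),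
  (.negSucc 1966741, 171), (.ofNat 1077827, 174)])])

/-- a candidate -/
def c39 : ℕ × ℕ × List Step :=
  (876488338465357824, 3, [(0, 0, .ofNat 59049, 0, [(.ofNat 19604, 1), (.negSucc 18492, 2), (.ofNat 7941, 6),
  (.negSucc 8002, 12), (.ofNat 3865, 13), (.ofNat 11736, 19), (.negSucc 21841, 23), (.ofNat 2657, 24), (.ofNat 5649,
  27), (.ofNat 1471, 29), (.ofNat 9614, 32), (.negSucc 9925, 33), (.ofNat 24726, 36), (.ofNat 12048, 45), (.negSucc
  6891, 47), (.negSucc 19289, 49), (.negSucc 24989, 51), (.negSucc 2013, 52), (.negSucc 1700, 53), (.ofNat 12094,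
  58), (.negSucc 6891, 65), (.negSucc 27125, 66), (.negSucc 4972, 71), (.ofNat 12343, 72), (.negSucc 2434, 74),
  (.ofNat 2507, 77), (.ofNat 9152, 80), (.negSucc 2679, 81), (.ofNat 9570, 86), (.negSucc 8598, 88), (.ofNat 12259,
  90), (.negSucc 24750, 94), (.negSucc 223, 103), (.ofNat 12273, 113), (.negSucc 6668, 116), (.ofNat 2970, 118),
  (.ofNat 8607, 121), (.negSucc 2102, 124), (.negSucc 11584, 125), (.negSucc 45, 126), (.negSucc 17984, 129),
  (.negSucc 412, 131), (.negSucc 191, 134), (.ofNat 15428, 135), (.negSucc 10569, 136), (.ofNat 3030, 138), (.negSucc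
  3958, 144), (.negSucc 4319, 148), (.ofNat 1381, 161), (.negSucc 814, 163), (.ofNat 2940, 166), (.ofNat 294, 169),
  (.negSucc 6731, 171), (.ofNat 9107, 173)])])

/-- candidates -/
def CL3 : List (ℕ × ℕ × List Step) :=
  [c30, c31, c32, c33, c34, c35, c36, c37, c38, c39]

theorem okC3 : okL TAB.B.Fin.datF R 2 P Z CL3 = true := by decide +kernel

end Cfsg.Agent.TH.Spor.NB
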