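import Cfsg.Agent.TH.Spor.NBD

/-!
# S3541, sporadic rows: B, certificates (helper26; generated by notes/TH/spor26/gen.py.txt)
-/

set_option autoImplicit false
set_option Elab.async false

namespace Cfsg.Agent.TH.Spor.NB

open Cfsg Cfsg.Agent.TAB.Eng Cfsg.Agent.H940.Eng

/-- a candidate -/
def c40 : ℕ × ℕ × List Step :=
  (876488338465357824, 9, [(0, 0, .ofNat 177147, 0, [(.ofNat 38404, 1), (.negSucc 32826, 2), (.ofNat 7489, 5),
  (.ofNat 32446, 6), (.negSucc 4298, 12), (.ofNat 5839, 13), (.ofNat 30473, 19), (.negSucc 3173, 23), (.ofNat 14276,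
  24), (.ofNat 13008, 32), (.negSucc 14868, 33), (.negSucc 1400, 34), (.ofNat 49617, 36), (.negSucc 3092, 39),
  (.ofNat 8002, 42), (.ofNat 22256, 45), (.negSucc 28099, 47), (.negSucc 61686, 49), (.negSucc 11885, 51), (.negSucc
  19513, 53), (.negSucc 2015, 57), (.ofNat 38154, 58), (.negSucc 2889, 62), (.negSucc 36784, 65), (.negSucc 6781,
  66), (.negSucc 16714, 71), (.ofNat 10428, 75), (.ofNat 14777, 80), (.negSucc 25130, 81), (.ofNat 20080, 86),
  (.negSucc 11215, 88), (.negSucc 10318, 89), (.ofNat 30899, 90), (.negSucc 8172, 92), (.negSucc 11696, 94), (.ofNat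
  5232, 113), (.negSucc 24662, 116), (.ofNat 3795, 118), (.ofNat 10304, 121), (.negSucc 8592, 123), (.negSucc 8571,
  125), (.negSucc 15897, 126), (.negSucc 29569, 129), (.negSucc 6549, 131), (.negSucc 739, 134), (.ofNat 9119, 135),
  (.negSucc 11802, 136), (.ofNat 13193, 138), (.negSucc 9330, 140), (.negSucc 22372, 144), (.negSucc 13316, 147),
  (.negSucc 2350, 148), (.negSucc 1742, 163), (.ofNat 6083, 166), (.negSucc 21442, 171), (.ofNat 17624, 173)])])

/-- a candidate -/
def c41 : ℕ × ℕ × List Step :=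
  (949529033337470976, 13, [(0, 0, .ofNat 59049, 0, [(.ofNat 53, 1), (.negSucc 7415, 2), (.ofNat 14954, 6), (.negSucc
  1587, 22), (.negSucc 17757, 23), (.ofNat 7912, 24), (.negSucc 9677, 33), (.ofNat 9142, 36), (.ofNat 1159, 39),
  (.negSucc 7973, 51), (.negSucc 10416, 52), (.ofNat 2137, 56), (.negSucc 10260, 66), (.ofNat 4827, 78), (.negSucc
  707, 92), (.ofNat 487, 93), (.negSucc 6630, 94), (.ofNat 6488, 103), (.ofNat 1577, 111), (.ofNat 326, 113), (.ofNat
  7447, 118), (.negSucc 2057, 125), (.negSucc 4458, 129), (.ofNat 134, 139), (.negSucc 622, 142), (.negSucc 664,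
  144), (.ofNat 2326, 166), (.negSucc 3270, 168)])])

/-- a candidate -/
def c42 : ℕ × ℕ × List Step :=
  (1174136684544000000, 25, [(0, 0, .ofNat 177147, 0, [(.ofNat 42095, 3), (.negSucc 38351, 4), (.ofNat 8776, 19),
  (.ofNat 27461, 21), (.negSucc 47377, 23), (.ofNat 4474, 24), (.negSucc 8360, 26), (.ofNat 6879, 27), (.negSucc
  12129, 30), (.negSucc 18684, 31), (.negSucc 34372, 33), (.ofNat 5544, 34), (.negSucc 32003, 38), (.negSucc 694,
  43), (.ofNat 17227, 49), (.negSucc 33342, 51), (.negSucc 4541, 58), (.ofNat 18038, 60), (.ofNat 1392, 62),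
  (.negSucc 17710, 63), (.negSucc 22704, 66), (.ofNat 11578, 78), (.negSucc 27569, 83), (.ofNat 8742, 87), (.ofNat
  5154, 89), (.ofNat 5338, 103), (.negSucc 2116, 106), (.negSucc 3529, 107), (.negSucc 1254, 109), (.ofNat 19428,
  113), (.negSucc 1876, 117), (.ofNat 19895, 118), (.negSucc 2712, 120), (.ofNat 1931, 124), (.negSucc 7643, 129),
  (.ofNat 17484, 130), (.negSucc 18312, 133), (.ofNat 2580, 134), (.ofNat 21871, 135), (.negSucc 592, 142), (.negSucc
  17100, 144), (.ofNat 2887, 147), (.negSucc 12187, 149), (.ofNat 1576, 166), (.negSucc 17566, 168), (.negSucc 32099,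
  169), (.negSucc 1786, 170)])])

/-- a candidate -/
def c43 : ℕ × ℕ × List Step :=
  (1174136684544000000, 125, [(0, 0, .ofNat 59049, 0, [(.ofNat 13963, 3), (.negSucc 15181, 4), (.negSucc 604, 8),
  (.ofNat 94, 16), (.ofNat 10942, 21), (.negSucc 17252, 23), (.negSucc 6004, 26), (.ofNat 1271, 28), (.ofNat 1793,
  29), (.negSucc 2668, 31), (.negSucc 9115, 33), (.ofNat 664, 34), (.negSucc 8583, 38), (.ofNat 387, 48), (.ofNat
  5831, 49), (.negSucc 8623, 51), (.negSucc 486, 57), (.negSucc 1192, 58), (.ofNat 5773, 60), (.ofNat 6153, 62),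
  (.negSucc 4917, 63), (.negSucc 8226, 66), (.ofNat 1179, 72), (.ofNat 1163, 73), (.ofNat 2374, 78), (.ofNat 68, 81),
  (.negSucc 8608, 83), (.ofNat 4702, 87), (.ofNat 4494, 103), (.negSucc 259, 108), (.negSucc 9, 109), (.ofNat 1519,
  111), (.ofNat 7304, 113), (.negSucc 1578, 114), (.negSucc 1655, 116), (.negSucc 2268, 117), (.ofNat 5199, 118),
  (.ofNat 788, 124), (.negSucc 2540, 125), (.negSucc 3988, 129), (.ofNat 4215, 130), (.negSucc 5314, 133), (.ofNat
  644, 134), (.ofNat 1404, 135), (.negSucc 746, 142), (.negSucc 2631, 144), (.ofNat 994, 147), (.negSucc 3597, 149),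
  (.ofNat 2530, 150), (.negSucc 429, 158), (.ofNat 551, 166), (.negSucc 7040, 168), (.negSucc 11641, 169), (.negSucc
  4517, 170)])])

/-- a candidate -/
def c44 : ℕ × ℕ × List Step :=
  (1609851469824000000, 65, [(0, 0, .ofNat 4782969, 0, [(.ofNat 1207345, 3), (.negSucc 1068429, 4), (.negSucc 139568,
  8), (.ofNat 35941, 20), (.ofNat 843040, 21), (.negSucc 18038, 22), (.negSucc 1326205, 23), (.ofNat 186211, 24),
  (.negSucc 580073, 26), (.negSucc 133214, 30), (.negSucc 353692, 31), (.negSucc 783522, 33), (.ofNat 199717, 34),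
  (.negSucc 835550, 38), (.negSucc 146983, 43), (.ofNat 188793, 48), (.ofNat 519412, 49), (.negSucc 590262, 51),
  (.ofNat 50877, 59), (.ofNat 491046, 60), (.ofNat 346455, 62), (.negSucc 266357, 63), (.negSucc 804978, 66), (.ofNat
  23099, 72), (.ofNat 4091, 73), (.ofNat 181904, 78), (.ofNat 103879, 81), (.negSucc 627357, 83), (.ofNat 143597,
  84), (.ofNat 342706, 87), (.ofNat 89340, 93), (.ofNat 153878, 103), (.negSucc 87806, 107), (.negSucc 8646, 109),
  (.ofNat 55147, 111), (.ofNat 694166, 113), (.negSucc 43788, 114), (.negSucc 161177, 117), (.ofNat 538726, 118),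
  (.ofNat 165865, 124), (.negSucc 218590, 125), (.negSucc 233378, 129), (.ofNat 469666, 130), (.negSucc 470769, 133),
  (.ofNat 110717, 134), (.ofNat 321392, 135), (.negSucc 60619, 144), (.ofNat 79611, 147), (.negSucc 260919, 149),
  (.negSucc 557360, 168), (.negSucc 845168, 169), (.negSucc 202388, 170)])])

/-- a candidate -/
def c45 : ℕ × ℕ × List Step :=
  (1706597351424000000, 35, [(0, 0, .ofNat 177147, 0, [(.ofNat 9194, 1), (.ofNat 37708, 3), (.negSucc 46519, 4),
  (.ofNat 7749, 10), (.negSucc 33634, 12), (.ofNat 884, 13), (.ofNat 4281, 16), (.ofNat 20880, 19), (.ofNat 22054,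
  21), (.negSucc 47944, 23), (.ofNat 21861, 24), (.ofNat 635, 25), (.negSucc 8947, 26), (.negSucc 29620, 30),
  (.negSucc 10276, 31), (.negSucc 746, 34), (.negSucc 3527, 36), (.negSucc 41939, 38), (.ofNat 7759, 39), (.negSucc
  7494, 44), (.ofNat 784, 45), (.ofNat 10670, 47), (.negSucc 29677, 51), (.negSucc 4895, 52), (.ofNat 28403, 53),
  (.ofNat 4262, 54), (.ofNat 7239, 55), (.negSucc 17145, 58), (.ofNat 16951, 60), (.ofNat 3336, 62), (.negSucc 30423,
  63), (.negSucc 9364, 66), (.negSucc 1666, 69), (.ofNat 26100, 71), (.negSucc 5951, 75), (.ofNat 11851, 78),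
  (.negSucc 1701, 79), (.negSucc 16123, 80), (.negSucc 30240, 83), (.negSucc 38574, 84), (.ofNat 3012, 87), (.ofNat
  13944, 89), (.ofNat 88, 93), (.ofNat 6041, 96), (.ofNat 16474, 97), (.negSucc 24790, 98), (.negSucc 11179, 102),
  (.ofNat 4517, 103), (.negSucc 4095, 110), (.ofNat 15881, 111), (.ofNat 27763, 113), (.negSucc 5835, 117), (.ofNat
  8055, 118), (.negSucc 15753, 121), (.ofNat 1064, 122), (.ofNat 1300, 123), (.ofNat 8092, 124), (.ofNat 822, 126),
  (.negSucc 1445, 127), (.ofNat 7405, 131), (.negSucc 24878, 133), (.ofNat 1173, 134), (.negSucc 765, 139), (.ofNat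
  7874, 141), (.negSucc 15926, 144), (.ofNat 47541, 150), (.negSucc 14675, 156), (.negSucc 5098, 166), (.negSucc
  30966, 168), (.negSucc 31681, 169), (.negSucc 46, 170), (.negSucc 3475, 172), (.negSucc 1230, 174)])])

/-- a candidate -/
def c46 : ℕ × ℕ × List Step :=
  (2229025112064000000, 5, [(0, 0, .ofNat 6561, 0, [(.negSucc 194, 2), (.ofNat 1370, 3), (.negSucc 1366, 4), (.ofNat
  304, 19), (.ofNat 915, 21), (.negSucc 2, 22), (.negSucc 1790, 23), (.ofNat 315, 24), (.negSucc 167, 26), (.ofNat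
  505, 27), (.negSucc 460, 30), (.negSucc 626, 31), (.negSucc 1374, 33), (.ofNat 84, 34), (.negSucc 1150, 38),
  (.ofNat 689, 49), (.negSucc 1147, 51), (.negSucc 100, 52), (.ofNat 678, 60), (.ofNat 126, 62), (.negSucc 700, 63),
  (.negSucc 712, 66), (.ofNat 447, 78), (.negSucc 957, 83), (.ofNat 396, 87), (.ofNat 42, 89), (.ofNat 278, 103),
  (.negSucc 139, 107), (.negSucc 123, 109), (.ofNat 24, 111), (.ofNat 669, 113), (.ofNat 519, 118), (.negSucc 128,
  120), (.ofNat 45, 124), (.negSucc 244, 129), (.ofNat 696, 130), (.negSucc 707, 133), (.ofNat 138, 134), (.ofNat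
  903, 135), (.negSucc 554, 144), (.ofNat 63, 147), (.negSucc 546, 149), (.ofNat 76, 154), (.ofNat 92, 166),
  (.negSucc 743, 168), (.negSucc 1215, 169)])])

/-- a candidate -/
def c47 : ℕ × ℕ × List Step :=
  (2641807540224000000, 5, [(0, 0, .ofNat 177147, 0, [(.ofNat 43198, 3), (.negSucc 39084, 4), (.ofNat 10016, 19),
  (.ofNat 28503, 21), (.negSucc 46651, 23), (.ofNat 4031, 24), (.negSucc 9186, 26), (.ofNat 7722, 27), (.negSucc
  13373, 30), (.negSucc 20963, 31), (.negSucc 34002, 33), (.ofNat 5978, 34), (.negSucc 33583, 38), (.negSucc 677,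
  43), (.ofNat 17293, 49), (.negSucc 33026, 51), (.negSucc 5509, 58), (.ofNat 18153, 60), (.negSucc 17731, 63),
  (.negSucc 24812, 66), (.ofNat 11196, 78), (.negSucc 26385, 83), (.ofNat 7078, 87), (.ofNat 4319, 89), (.ofNat 4136,
  103), (.negSucc 53, 106), (.negSucc 2781, 107), (.negSucc 425, 109), (.ofNat 385, 111), (.ofNat 20515, 113),
  (.negSucc 350, 117), (.ofNat 21905, 118), (.negSucc 3248, 120), (.ofNat 3788, 124), (.negSucc 6190, 129), (.ofNat
  18389, 130), (.negSucc 19326, 133), (.ofNat 1698, 134), (.ofNat 22253, 135), (.negSucc 282, 142), (.negSucc 16792,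
  144), (.ofNat 3773, 147), (.negSucc 11677, 149), (.ofNat 435, 166), (.negSucc 17143, 168), (.negSucc 31548,
  169)])])

/-- a candidate -/
def c48 : ℕ × ℕ × List Step :=
  (3131031158784000000, 5, [(0, 0, .ofNat 4782969, 0, [(.ofNat 934969, 3), (.negSucc 902800, 4), (.ofNat 88514, 16),
  (.ofNat 360716, 19), (.ofNat 512777, 21), (.negSucc 239808, 22), (.ofNat 246883, 24), (.ofNat 107779, 27),
  (.negSucc 435030, 30), (.negSucc 317039, 31), (.ofNat 7515, 32), (.negSucc 616531, 33), (.ofNat 290869, 34),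
  (.negSucc 203627, 36), (.negSucc 214641, 37), (.negSucc 626736, 38), (.ofNat 30141, 39), (.negSucc 563055, 42),
  (.negSucc 171378, 43), (.ofNat 128204, 48), (.ofNat 775118, 49), (.negSucc 982057, 51), (.negSucc 275327, 53),
  (.ofNat 363266, 54), (.ofNat 38272, 59), (.ofNat 209706, 60), (.negSucc 515662, 63), (.negSucc 326685, 64),
  (.negSucc 672608, 66), (.negSucc 27373, 75), (.ofNat 144077, 78), (.negSucc 19374, 79), (.negSucc 531829, 83),
  (.ofNat 64071, 84), (.ofNat 356798, 87), (.ofNat 411161, 89), (.ofNat 173393, 97), (.negSucc 38311, 101), (.negSucc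
  337593, 106), (.negSucc 87797, 107), (.negSucc 164856, 108), (.negSucc 40739, 109), (.negSucc 185875, 110), (.ofNat
  199496, 111), (.ofNat 701795, 113), (.negSucc 233607, 114), (.ofNat 828172, 118), (.ofNat 170035, 124), (.negSucc
  129229, 125), (.negSucc 163056, 128), (.negSucc 272773, 129), (.ofNat 275402, 130), (.negSucc 310951, 132),
  (.negSucc 672887, 133), (.ofNat 342265, 135), (.negSucc 40610, 139), (.negSucc 66677, 142), (.negSucc 328491, 144),
  (.ofNat 4329, 147), (.negSucc 186474, 149), (.negSucc 78905, 158), (.negSucc 91476, 162), (.negSucc 471126, 168),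
  (.negSucc 822889, 169), (.ofNat 197318, 173)])])

/-- a candidate -/
def c49 : ℕ × ℕ × List Step :=
  (3505953353861431296, 3, [(0, 0, .ofNat 177147, 0, [(.ofNat 20, 1), (.negSucc 30415, 2), (.negSucc 76194, 3),
  (.negSucc 31649, 4), (.ofNat 11304, 5), (.ofNat 21510, 6), (.ofNat 30248, 8), (.negSucc 10400, 11), (.negSucc
  18927, 12), (.ofNat 6593, 13), (.negSucc 25168, 14), (.ofNat 20508, 19), (.negSucc 18292, 23), (.ofNat 19996, 24),
  (.ofNat 24494, 32), (.negSucc 21091, 33), (.ofNat 32001, 36), (.ofNat 16286, 45), (.negSucc 50088, 49), (.ofNat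
  7013, 50), (.negSucc 16279, 51), (.negSucc 18975, 52), (.ofNat 9034, 56), (.negSucc 8331, 57), (.ofNat 20426, 58),
  (.negSucc 3021, 65), (.negSucc 20913, 66), (.negSucc 14074, 68), (.ofNat 21569, 78), (.ofNat 7910, 79), (.ofNat
  8469, 80), (.negSucc 16623, 81), (.ofNat 25944, 86), (.negSucc 2318, 92), (.negSucc 26420, 94), (.negSucc 1831,
  105), (.negSucc 32891, 116), (.ofNat 16871, 119), (.ofNat 8015, 121), (.negSucc 7598, 123), (.negSucc 9247, 125),
  (.negSucc 6265, 126), (.negSucc 7761, 129), (.negSucc 2615, 131), (.negSucc 6659, 134), (.negSucc 1504, 136),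
  (.ofNat 585, 139), (.negSucc 1819, 140), (.negSucc 851, 142), (.negSucc 8780, 144), (.ofNat 1554, 154), (.ofNat
  2477, 166), (.negSucc 14466, 171), (.ofNat 573, 173), (.ofNat 1453, 174)])])

/-- candidates -/
def CL4 : List (ℕ × ℕ × List Step) :=
  [c40, c41, c42, c43, c44, c45, c46, c47, c48, c49]

theorem okC4 : okL TAB.B.Fin.datF R 2 P Z CL4 = true := by decide +kernel

/-- a candidate -/
def c50 : ℕ × ℕ × List Step :=
  (3505953353861431296, 6, [(0, 0, .ofNat 4782969, 0, [(.ofNat 1079737, 1), (.negSucc 953521, 2), (.ofNat 140434, 5),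
  (.ofNat 954968, 6), (.negSucc 96035, 12), (.ofNat 144424, 13), (.ofNat 825931, 19), (.negSucc 59751, 23), (.ofNat
  379249, 24), (.ofNat 327713, 32), (.negSucc 413146, 33), (.negSucc 2595, 34), (.ofNat 1302783, 36), (.negSucc
  84425, 39), (.ofNat 35321, 40), (.ofNat 140885, 42), (.ofNat 671732, 45), (.negSucc 860203, 47), (.negSucc 1786842,
  49), (.negSucc 448550, 51), (.negSucc 635420, 53), (.ofNat 1030613, 58), (.negSucc 58414, 62), (.negSucc 930108,
  65), (.negSucc 175011, 66), (.negSucc 420261, 71), (.ofNat 309531, 75), (.ofNat 57985, 78), (.ofNat 428232, 80),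
  (.negSucc 661975, 81), (.ofNat 544419, 86), (.negSucc 281573, 88), (.negSucc 329086, 89), (.ofNat 889032, 90),
  (.negSucc 214527, 92), (.negSucc 293042, 94), (.ofNat 5488, 106), (.ofNat 129069, 113), (.negSucc 687397, 116),
  (.ofNat 86329, 118), (.ofNat 249486, 121), (.negSucc 251926, 123), (.negSucc 154865, 125), (.negSucc 358880, 126),
  (.negSucc 798625, 129), (.negSucc 159558, 131), (.negSucc 980, 134), (.ofNat 237272, 135), (.negSucc 264379, 136),
  (.ofNat 380720, 138), (.negSucc 281760, 140), (.negSucc 546666, 144), (.negSucc 308992, 147), (.negSucc 15584,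
  148), (.negSucc 29685, 163), (.ofNat 138780, 166), (.negSucc 515724, 171), (.ofNat 512100, 173)])])

/-- a candidate -/
def c51 : ℕ × ℕ × List Step :=
  (3578994048733544448, 7, [(0, 0, .ofNat 19683, 0, [(.ofNat 2917, 6), (.negSucc 6334, 12), (.ofNat 2826, 20),
  (.negSucc 3216, 23), (.ofNat 4121, 24), (.negSucc 1525, 26), (.ofNat 5903, 36), (.negSucc 1475, 43), (.ofNat 682,
  46), (.ofNat 540, 50), (.negSucc 737, 51), (.negSucc 3941, 52), (.ofNat 450, 53), (.ofNat 541, 54), (.ofNat 349,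
  55), (.negSucc 1257, 63), (.negSucc 511, 66), (.negSucc 291, 69), (.ofNat 1735, 78), (.negSucc 1881, 80), (.negSucc
  132, 81), (.negSucc 3750, 84), (.negSucc 494, 89), (.negSucc 1183, 92), (.ofNat 359, 93), (.ofNat 566, 97),
  (.negSucc 1935, 98), (.ofNat 1301, 103), (.negSucc 2242, 104), (.ofNat 3176, 111), (.ofNat 247, 113), (.negSucc
  1876, 114), (.ofNat 923, 118), (.negSucc 219, 128), (.negSucc 1486, 129), (.ofNat 2390, 131), (.ofNat 1616, 134),
  (.negSucc 442, 136), (.ofNat 16, 139), (.negSucc 692, 142), (.negSucc 314, 144), (.negSucc 743, 156), (.ofNat 588,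
  158), (.ofNat 237, 166), (.negSucc 3227, 168), (.ofNat 139, 169)])])

/-- a candidate -/
def c52 : ℕ × ℕ × List Step :=
  (4843313823744000000, 55, [(0, 0, .ofNat 19683, 0, [(.ofNat 4792, 3), (.negSucc 4288, 4), (.ofNat 1076, 19),
  (.ofNat 3105, 21), (.negSucc 5243, 23), (.ofNat 523, 24), (.negSucc 809, 26), (.ofNat 714, 27), (.negSucc 1396,
  30), (.negSucc 2226, 31), (.negSucc 3834, 33), (.ofNat 564, 34), (.negSucc 3446, 38), (.negSucc 59, 43), (.ofNat
  1999, 49), (.negSucc 3703, 51), (.negSucc 544, 58), (.ofNat 1973, 60), (.negSucc 1894, 63), (.negSucc 2585, 66),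
  (.ofNat 1328, 78), (.negSucc 2954, 83), (.ofNat 946, 87), (.ofNat 572, 89), (.ofNat 586, 103), (.negSucc 358, 107),
  (.negSucc 180, 109), (.ofNat 2134, 113), (.negSucc 68, 117), (.ofNat 2270, 118), (.negSucc 341, 120), (.ofNat 255,
  124), (.negSucc 868, 129), (.ofNat 2034, 130), (.negSucc 2107, 133), (.ofNat 253, 134), (.ofNat 2653, 135),
  (.negSucc 167, 142), (.negSucc 1957, 144), (.ofNat 236, 147), (.negSucc 1383, 149), (.ofNat 74, 154), (.ofNat 191,
  166), (.negSucc 1931, 168), (.negSucc 3524, 169)])])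

/-- a candidate -/
def c53 : ℕ × ℕ × List Step :=
  (4843313823744000000, 275, [(0, 0, .ofNat 19683, 0, [(.ofNat 4792, 3), (.negSucc 4288, 4), (.ofNat 1076, 19),
  (.ofNat 3105, 21), (.negSucc 5243, 23), (.ofNat 523, 24), (.negSucc 809, 26), (.ofNat 714, 27), (.negSucc 1396,
  30), (.negSucc 2226, 31), (.negSucc 3834, 33), (.ofNat 564, 34), (.negSucc 3446, 38), (.negSucc 59, 43), (.ofNat
  1999, 49), (.negSucc 3703, 51), (.negSucc 544, 58), (.ofNat 1973, 60), (.negSucc 1894, 63), (.negSucc 2585, 66),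
  (.ofNat 1328, 78), (.negSucc 2954, 83), (.ofNat 946, 87), (.ofNat 572, 89), (.ofNat 586, 103), (.negSucc 358, 107),
  (.negSucc 180, 109), (.ofNat 2134, 113), (.negSucc 68, 117), (.ofNat 2270, 118), (.negSucc 341, 120), (.ofNat 255,
  124), (.negSucc 868, 129), (.ofNat 2034, 130), (.negSucc 2107, 133), (.ofNat 253, 134), (.ofNat 2653, 135),
  (.negSucc 167, 142), (.negSucc 1957, 144), (.ofNat 236, 147), (.negSucc 1383, 149), (.ofNat 74, 154), (.ofNat 191,
  166), (.negSucc 1931, 168), (.negSucc 3524, 169)])])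

/-- a candidate -/
def c54 : ℕ × ℕ × List Step :=
  (5064154844466511872, 13, [(0, 0, .ofNat 6561, 0, [(.negSucc 2021, 4), (.negSucc 815, 11), (.negSucc 883, 14),
  (.negSucc 31, 22), (.negSucc 801, 23), (.ofNat 392, 24), (.negSucc 476, 33), (.ofNat 97, 36), (.ofNat 795, 39),
  (.ofNat 272, 46), (.negSucc 702, 51), (.negSucc 209, 52), (.ofNat 470, 54), (.ofNat 452, 56), (.negSucc 1712, 66),
  (.negSucc 266, 69), (.ofNat 137, 78), (.negSucc 731, 94), (.ofNat 602, 113), (.negSucc 152, 117), (.ofNat 1152,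
  118), (.negSucc 257, 125), (.ofNat 219, 139), (.negSucc 696, 168)])])

/-- a candidate -/
def c55 : ℕ × ℕ × List Step :=
  (5064154844466511872, 26, [(0, 0, .ofNat 6561, 0, [(.ofNat 193, 1), (.negSucc 660, 2), (.ofNat 1771, 6), (.ofNat
  70, 7), (.negSucc 515, 22), (.negSucc 1472, 23), (.ofNat 997, 24), (.negSucc 675, 33), (.ofNat 1305, 36), (.negSucc
  43, 48), (.negSucc 787, 51), (.negSucc 1102, 52), (.ofNat 197, 56), (.negSucc 1186, 66), (.negSucc 123, 71),
  (.ofNat 621, 78), (.ofNat 129, 93), (.negSucc 687, 94), (.ofNat 490, 103), (.ofNat 54, 111), (.ofNat 49, 113),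
  (.negSucc 35, 117), (.ofNat 970, 118), (.negSucc 82, 125), (.negSucc 390, 128), (.negSucc 551, 129), (.negSucc 7,
  142), (.negSucc 344, 168)])])

/-- a candidate -/
def c56 : ℕ × ℕ × List Step :=
  (5393690394624000000, 35, [(0, 0, .ofNat 19683, 0, [(.ofNat 2046, 1), (.ofNat 3039, 3), (.negSucc 4302, 4), (.ofNat
  304, 13), (.ofNat 233, 16), (.ofNat 2278, 19), (.ofNat 2500, 21), (.negSucc 571, 22), (.negSucc 5846, 23), (.ofNat
  2371, 24), (.negSucc 1106, 26), (.ofNat 241, 27), (.negSucc 2749, 30), (.negSucc 1339, 31), (.ofNat 95, 32),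
  (.negSucc 328, 33), (.negSucc 277, 35), (.negSucc 43, 37), (.negSucc 3333, 38), (.ofNat 708, 39), (.ofNat 160, 40),
  (.negSucc 8, 43), (.negSucc 846, 44), (.ofNat 1786, 47), (.ofNat 763, 48), (.negSucc 2965, 51), (.negSucc 1960,
  52), (.ofNat 4285, 53), (.ofNat 590, 54), (.ofNat 437, 55), (.negSucc 1404, 58), (.ofNat 1903, 60), (.negSucc 3161,
  63), (.negSucc 312, 64), (.negSucc 591, 66), (.negSucc 721, 69), (.ofNat 2751, 71), (.ofNat 741, 72), (.ofNat 443,
  73), (.negSucc 1294, 75), (.ofNat 1722, 78), (.negSucc 636, 79), (.negSucc 1910, 80), (.ofNat 494, 81), (.negSucc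
  2703, 83), (.negSucc 4008, 84), (.ofNat 899, 87), (.ofNat 692, 89), (.ofNat 108, 93), (.negSucc 334, 95), (.ofNat
  691, 96), (.ofNat 2539, 97), (.negSucc 2319, 98), (.negSucc 1052, 102), (.negSucc 923, 108), (.negSucc 169, 110),
  (.ofNat 2501, 111), (.ofNat 2164, 113), (.ofNat 471, 115), (.negSucc 77, 117), (.negSucc 277, 121), (.ofNat 13,
  122), (.ofNat 274, 123), (.ofNat 885, 124), (.negSucc 138, 125), (.ofNat 2038, 126), (.ofNat 1057, 130), (.ofNat
  754, 131), (.negSucc 3093, 133), (.ofNat 439, 134), (.ofNat 893, 136), (.negSucc 76, 139), (.ofNat 994, 141),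
  (.negSucc 833, 144), (.ofNat 77, 147), (.ofNat 4847, 150), (.ofNat 487, 154), (.negSucc 1484, 156), (.ofNat 1000,
  158), (.negSucc 70, 164), (.negSucc 4293, 168), (.negSucc 3221, 169), (.negSucc 412, 170), (.negSucc 199, 172)])])

/-- a candidate -/
def c57 : ℕ × ℕ × List Step :=
  (5944066965504000000, 5, [(0, 0, .ofNat 4782969, 0, [(.negSucc 113240, 2), (.ofNat 1023876, 3), (.negSucc 980529,
  4), (.ofNat 185542, 19), (.ofNat 695229, 21), (.negSucc 1260503, 23), (.ofNat 139432, 24), (.negSucc 238285, 26),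
  (.ofNat 336438, 27), (.negSucc 330505, 30), (.negSucc 512734, 31), (.negSucc 994965, 33), (.ofNat 89570, 34),
  (.negSucc 921624, 38), (.ofNat 474775, 49), (.negSucc 788138, 51), (.negSucc 39015, 52), (.negSucc 76977, 58),
  (.ofNat 487964, 60), (.ofNat 107192, 62), (.negSucc 506755, 63), (.negSucc 586965, 66), (.ofNat 292568, 78),
  (.negSucc 709095, 83), (.ofNat 257209, 87), (.ofNat 23736, 89), (.ofNat 219456, 103), (.negSucc 82840, 107),
  (.negSucc 37689, 109), (.ofNat 32040, 111), (.ofNat 568239, 113), (.ofNat 462533, 118), (.negSucc 79927, 120),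
  (.ofNat 89959, 124), (.negSucc 148360, 129), (.ofNat 517047, 130), (.negSucc 516923, 133), (.ofNat 57550, 134),
  (.ofNat 573351, 135), (.negSucc 404929, 144), (.ofNat 114963, 147), (.negSucc 378742, 149), (.ofNat 37405, 150),
  (.ofNat 7577, 166), (.negSucc 544102, 168), (.negSucc 870540, 169), (.negSucc 35976, 170)])])

/-- a candidate -/
def c58 : ℕ × ℕ × List Step :=
  (6362656086637412352, 7, [(0, 0, .ofNat 19683, 0, [(.negSucc 2226, 4), (.ofNat 866, 10), (.negSucc 609, 11),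
  (.negSucc 805, 12), (.negSucc 10901, 14), (.negSucc 19, 22), (.negSucc 861, 23), (.ofNat 1197, 24), (.negSucc 2221,
  33), (.ofNat 2526, 36), (.negSucc 1789, 43), (.ofNat 477, 45), (.ofNat 253, 46), (.negSucc 1935, 51), (.ofNat 284,
  53), (.ofNat 626, 55), (.negSucc 24, 63), (.negSucc 1140, 66), (.ofNat 546, 78), (.negSucc 1, 80), (.negSucc 4812,
  84), (.ofNat 2344, 86), (.negSucc 562, 89), (.negSucc 407, 92), (.negSucc 175, 94), (.ofNat 1112, 97), (.negSucc
  3215, 98), (.ofNat 1816, 101), (.ofNat 1396, 111), (.ofNat 1016, 113), (.negSucc 2742, 114), (.negSucc 2416, 125),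
  (.ofNat 473, 131), (.ofNat 834, 134), (.negSucc 137, 144), (.negSucc 274, 147), (.ofNat 70, 154), (.negSucc 1448,
  168), (.ofNat 635, 173)])])

/-- a candidate -/
def c59 : ℕ × ℕ × List Step :=
  (6362656086637412352, 14, [(0, 0, .ofNat 4782969, 0, [(.ofNat 712776, 6), (.negSucc 1537358, 12), (.ofNat 683388,
  20), (.negSucc 782649, 23), (.ofNat 998678, 24), (.negSucc 370500, 26), (.ofNat 1420856, 36), (.negSucc 357075,
  43), (.ofNat 167010, 46), (.ofNat 125056, 50), (.negSucc 183899, 51), (.negSucc 954722, 52), (.ofNat 114847, 53),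
  (.ofNat 132011, 54), (.ofNat 82330, 55), (.negSucc 305924, 63), (.negSucc 130684, 66), (.negSucc 71140, 69),
  (.ofNat 420445, 78), (.negSucc 460298, 80), (.negSucc 29736, 81), (.negSucc 912205, 84), (.negSucc 108228, 89),
  (.negSucc 290994, 92), (.ofNat 86860, 93), (.ofNat 142528, 97), (.negSucc 468948, 98), (.ofNat 318640, 103),
  (.negSucc 548141, 104), (.ofNat 773205, 111), (.ofNat 61299, 113), (.negSucc 460453, 114), (.ofNat 228501, 118),
  (.negSucc 53560, 128), (.negSucc 358578, 129), (.ofNat 578922, 131), (.ofNat 391563, 134), (.negSucc 104426, 136),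
  (.ofNat 6973, 139), (.negSucc 169446, 142), (.negSucc 76426, 144), (.negSucc 184059, 156), (.ofNat 142005, 158),
  (.ofNat 60309, 166), (.negSucc 784262, 168), (.ofNat 28818, 169)])])

/-- candidates -/
def CL5 : List (ℕ × ℕ × List Step) :=
  [c50, c51, c52, c53, c54, c55, c56, c57, c58, c59]

theorem okC5 : okL TAB.B.Fin.datF R 2 P Z CL5 = true := by decide +kernel

/-- a candidate -/
def c60 : ℕ × ℕ × List Step :=
  (6362656086637412352, 28, [(0, 0, .ofNat 4782969, 0, [(.ofNat 712776, 6), (.negSucc 1537358, 12), (.ofNat 683388,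
  20), (.negSucc 782649, 23), (.ofNat 998678, 24), (.negSucc 370500, 26), (.ofNat 1420856, 36), (.negSucc 357075,
  43), (.ofNat 167010, 46), (.ofNat 125056, 50), (.negSucc 183899, 51), (.negSucc 954722, 52), (.ofNat 114847, 53),
  (.ofNat 132011, 54), (.ofNat 82330, 55), (.negSucc 305924, 63), (.negSucc 130684, 66), (.negSucc 71140, 69),
  (.ofNat 420445, 78), (.negSucc 460298, 80), (.negSucc 29736, 81), (.negSucc 912205, 84), (.negSucc 108228, 89),
  (.negSucc 290994, 92), (.ofNat 86860, 93), (.ofNat 142528, 97), (.negSucc 468948, 98), (.ofNat 318640, 103),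
  (.negSucc 548141, 104), (.ofNat 773205, 111), (.ofNat 61299, 113), (.negSucc 460453, 114), (.ofNat 228501, 118),
  (.negSucc 53560, 128), (.negSucc 358578, 129), (.ofNat 578922, 131), (.ofNat 391563, 134), (.negSucc 104426, 136),
  (.ofNat 6973, 139), (.negSucc 169446, 142), (.negSucc 76426, 144), (.negSucc 184059, 156), (.ofNat 142005, 158),
  (.ofNat 60309, 166), (.negSucc 784262, 168), (.ofNat 28818, 169)])])

/-- a candidate -/
def c61 : ℕ × ℕ × List Step :=
  (6362656086637412352, 56, [(0, 0, .ofNat 1594323, 0, [(.ofNat 355869, 6), (.ofNat 77743, 16), (.negSucc 3389, 18),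
  (.ofNat 317226, 20), (.negSucc 61927, 22), (.negSucc 259345, 23), (.ofNat 245641, 24), (.negSucc 27855, 25),
  (.negSucc 130496, 26), (.negSucc 24579, 30), (.ofNat 442573, 36), (.negSucc 160380, 43), (.ofNat 72664, 46),
  (.ofNat 81520, 50), (.negSucc 25383, 51), (.negSucc 152979, 52), (.ofNat 149223, 53), (.ofNat 69123, 54), (.negSucc
  35921, 60), (.negSucc 8550, 63), (.negSucc 18585, 64), (.negSucc 78869, 68), (.negSucc 45116, 69), (.ofNat 106640,
  71), (.ofNat 104810, 73), (.ofNat 165313, 78), (.negSucc 53065, 80), (.negSucc 377875, 84), (.ofNat 82466, 93),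
  (.negSucc 26226, 94), (.negSucc 35703, 95), (.ofNat 75404, 97), (.negSucc 325562, 98), (.negSucc 250427, 104),
  (.negSucc 53739, 107), (.ofNat 157439, 111), (.ofNat 115205, 113), (.negSucc 69113, 114), (.ofNat 33383, 118),
  (.ofNat 34525, 124), (.negSucc 14862, 125), (.ofNat 26870, 126), (.negSucc 13128, 127), (.negSucc 98683, 128),
  (.negSucc 133020, 129), (.ofNat 147015, 131), (.ofNat 65890, 134), (.negSucc 16890, 142), (.negSucc 62380, 144),
  (.negSucc 72724, 147), (.ofNat 7046, 157), (.ofNat 105520, 158), (.ofNat 38558, 166), (.negSucc 244006, 168),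
  (.negSucc 8298, 170)])])

/-- a candidate -/
def c62 : ℕ × ℕ × List Step :=
  (6362656086637412352, 112, [(0, 0, .ofNat 1594323, 0, [(.ofNat 355869, 6), (.ofNat 77743, 16), (.negSucc 3389, 18),
  (.ofNat 317226, 20), (.negSucc 61927, 22), (.negSucc 259345, 23), (.ofNat 245641, 24), (.negSucc 27855, 25),
  (.negSucc 130496, 26), (.negSucc 24579, 30), (.ofNat 442573, 36), (.negSucc 160380, 43), (.ofNat 72664, 46),
  (.ofNat 81520, 50), (.negSucc 25383, 51), (.negSucc 152979, 52), (.ofNat 149223, 53), (.ofNat 69123, 54), (.negSucc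
  35921, 60), (.negSucc 8550, 63), (.negSucc 18585, 64), (.negSucc 78869, 68), (.negSucc 45116, 69), (.ofNat 106640,
  71), (.ofNat 104810, 73), (.ofNat 165313, 78), (.negSucc 53065, 80), (.negSucc 377875, 84), (.ofNat 82466, 93),
  (.negSucc 26226, 94), (.negSucc 35703, 95), (.ofNat 75404, 97), (.negSucc 325562, 98), (.negSucc 250427, 104),
  (.negSucc 53739, 107), (.ofNat 157439, 111), (.ofNat 115205, 113), (.negSucc 69113, 114), (.ofNat 33383, 118),
  (.ofNat 34525, 124), (.negSucc 14862, 125), (.ofNat 26870, 126), (.negSucc 13128, 127), (.negSucc 98683, 128),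
  (.negSucc 133020, 129), (.ofNat 147015, 131), (.ofNat 65890, 134), (.negSucc 16890, 142), (.negSucc 62380, 144),
  (.negSucc 72724, 147), (.ofNat 7046, 157), (.ofNat 105520, 158), (.ofNat 38558, 166), (.negSucc 244006, 168),
  (.negSucc 8298, 170)])])

/-- a candidate -/
def c63 : ℕ × ℕ × List Step :=
  (6362656086637412352, 224, [(0, 0, .ofNat 177147, 0, [(.ofNat 38030, 6), (.ofNat 10184, 16), (.ofNat 36919, 20),
  (.negSucc 8722, 22), (.negSucc 28388, 23), (.ofNat 25289, 24), (.negSucc 2473, 25), (.negSucc 12750, 26), (.negSucc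
  4564, 30), (.ofNat 48775, 36), (.negSucc 17269, 43), (.ofNat 7446, 46), (.ofNat 10579, 50), (.negSucc 3156, 51),
  (.negSucc 13293, 52), (.ofNat 17183, 53), (.ofNat 9131, 54), (.negSucc 5222, 60), (.negSucc 3111, 63), (.negSucc
  2252, 67), (.negSucc 4670, 68), (.negSucc 6856, 69), (.ofNat 10968, 71), (.ofNat 9409, 73), (.ofNat 17806, 78),
  (.negSucc 4351, 80), (.negSucc 45325, 84), (.negSucc 218, 92), (.ofNat 7280, 93), (.negSucc 2224, 94), (.negSucc
  3305, 95), (.ofNat 8072, 97), (.negSucc 32962, 98), (.negSucc 26612, 104), (.ofNat 3392, 106), (.negSucc 1512,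
  107), (.ofNat 16323, 111), (.ofNat 14833, 113), (.negSucc 7985, 114), (.ofNat 3327, 118), (.ofNat 4678, 124),
  (.negSucc 1599, 125), (.ofNat 3637, 126), (.negSucc 1852, 127), (.negSucc 15421, 128), (.negSucc 16413, 129),
  (.ofNat 17292, 131), (.ofNat 6463, 134), (.negSucc 7151, 144), (.negSucc 7758, 147), (.ofNat 794, 157), (.ofNat
  12036, 158), (.ofNat 4847, 166), (.negSucc 14, 167), (.negSucc 26921, 168)])])

/-- a candidate -/
def c64 : ℕ × ℕ × List Step :=
  (7044820107264000000, 5, [(0, 0, .ofNat 59049, 0, [(.ofNat 14393, 3), (.negSucc 13031, 4), (.ofNat 3341, 19),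
  (.ofNat 9509, 21), (.negSucc 15543, 23), (.ofNat 1345, 24), (.negSucc 3071, 26), (.ofNat 2605, 27), (.negSucc 4470,
  30), (.negSucc 6995, 31), (.negSucc 11330, 33), (.ofNat 1997, 34), (.negSucc 11218, 38), (.negSucc 227, 43),
  (.ofNat 5765, 49), (.negSucc 10991, 51), (.negSucc 1835, 58), (.ofNat 6052, 60), (.negSucc 5920, 63), (.negSucc
  8290, 66), (.ofNat 3725, 78), (.negSucc 8786, 83), (.ofNat 2342, 87), (.ofNat 1428, 89), (.ofNat 1367, 103),
  (.negSucc 922, 107), (.negSucc 133, 109), (.ofNat 131, 111), (.ofNat 6849, 113), (.negSucc 111, 117), (.ofNat 7317,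
  118), (.negSucc 1081, 120), (.ofNat 1273, 124), (.negSucc 2049, 129), (.ofNat 6133, 130), (.negSucc 6, 132),
  (.negSucc 6444, 133), (.ofNat 558, 134), (.ofNat 7404, 135), (.negSucc 80, 142), (.negSucc 5588, 144), (.ofNat
  1279, 147), (.negSucc 3894, 149), (.ofNat 133, 166), (.negSucc 5707, 168), (.negSucc 10520, 169)])])

/-- a candidate -/
def c65 : ℕ × ℕ × List Step :=
  (8349416423424000000, 5, [(0, 0, .ofNat 531441, 0, [(.ofNat 108683, 3), (.negSucc 85971, 4), (.negSucc 812, 8),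
  (.negSucc 20762, 12), (.ofNat 19540, 16), (.ofNat 32207, 19), (.ofNat 51442, 21), (.negSucc 16996, 22), (.ofNat
  35038, 24), (.ofNat 13421, 27), (.negSucc 34499, 30), (.negSucc 39032, 31), (.negSucc 71945, 33), (.ofNat 21075,
  34), (.negSucc 20686, 36), (.negSucc 26303, 37), (.negSucc 65645, 38), (.negSucc 69445, 42), (.negSucc 26951, 43),
  (.ofNat 13027, 48), (.ofNat 84593, 49), (.negSucc 109504, 51), (.negSucc 33249, 53), (.ofNat 31347, 54), (.ofNat
  4787, 59), (.ofNat 23125, 60), (.negSucc 50076, 63), (.negSucc 38071, 64), (.negSucc 78339, 66), (.negSucc 2438,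
  75), (.ofNat 29012, 78), (.ofNat 2153, 81), (.negSucc 59761, 83), (.ofNat 10707, 84), (.ofNat 40635, 87), (.ofNat
  56375, 89), (.ofNat 5535, 97), (.negSucc 1002, 101), (.negSucc 19967, 106), (.negSucc 24274, 107), (.negSucc 14614,
  108), (.negSucc 983, 109), (.negSucc 16747, 110), (.ofNat 31146, 111), (.ofNat 80956, 113), (.negSucc 28648, 114),
  (.ofNat 86865, 118), (.ofNat 17707, 124), (.negSucc 28010, 128), (.negSucc 25101, 129), (.ofNat 33144, 130),
  (.negSucc 34756, 132), (.negSucc 73594, 133), (.ofNat 48661, 135), (.negSucc 7290, 142), (.negSucc 25446, 144),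
  (.negSucc 26539, 149), (.negSucc 9005, 162), (.ofNat 14936, 165), (.negSucc 12408, 167), (.negSucc 46046, 168),
  (.negSucc 89530, 169), (.ofNat 19048, 173)])])

/-- a candidate -/
def c66 : ℕ × ℕ × List Step :=
  (8349416423424000000, 10, [(0, 0, .ofNat 531441, 0, [(.ofNat 108683, 3), (.negSucc 85971, 4), (.negSucc 812, 8),
  (.negSucc 20762, 12), (.ofNat 19540, 16), (.ofNat 32207, 19), (.ofNat 51442, 21), (.negSucc 16996, 22), (.ofNat
  35038, 24), (.ofNat 13421, 27), (.negSucc 34499, 30), (.negSucc 39032, 31), (.negSucc 71945, 33), (.ofNat 21075,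
  34), (.negSucc 20686, 36), (.negSucc 26303, 37), (.negSucc 65645, 38), (.negSucc 69445, 42), (.negSucc 26951, 43),
  (.ofNat 13027, 48), (.ofNat 84593, 49), (.negSucc 109504, 51), (.negSucc 33249, 53), (.ofNat 31347, 54), (.ofNat
  4787, 59), (.ofNat 23125, 60), (.negSucc 50076, 63), (.negSucc 38071, 64), (.negSucc 78339, 66), (.negSucc 2438,
  75), (.ofNat 29012, 78), (.ofNat 2153, 81), (.negSucc 59761, 83), (.ofNat 10707, 84), (.ofNat 40635, 87), (.ofNat
  56375, 89), (.ofNat 5535, 97), (.negSucc 1002, 101), (.negSucc 19967, 106), (.negSucc 24274, 107), (.negSucc 14614,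
  108), (.negSucc 983, 109), (.negSucc 16747, 110), (.ofNat 31146, 111), (.ofNat 80956, 113), (.negSucc 28648, 114),
  (.ofNat 86865, 118), (.ofNat 17707, 124), (.negSucc 28010, 128), (.negSucc 25101, 129), (.ofNat 33144, 130),
  (.negSucc 34756, 132), (.negSucc 73594, 133), (.ofNat 48661, 135), (.negSucc 7290, 142), (.negSucc 25446, 144),
  (.negSucc 26539, 149), (.negSucc 9005, 162), (.ofNat 14936, 165), (.negSucc 12408, 167), (.negSucc 46046, 168),
  (.negSucc 89530, 169), (.ofNat 19048, 173)])])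

/-- a candidate -/
def c67 : ℕ × ℕ × List Step :=
  (13374150672384000000, 5, [(0, 0, .ofNat 6561, 0, [(.negSucc 194, 2), (.ofNat 1370, 3), (.negSucc 1366, 4), (.ofNat
  304, 19), (.ofNat 915, 21), (.negSucc 2, 22), (.negSucc 1790, 23), (.ofNat 315, 24), (.negSucc 167, 26), (.ofNat
  505, 27), (.negSucc 460, 30), (.negSucc 626, 31), (.negSucc 1374, 33), (.ofNat 84, 34), (.negSucc 1150, 38),
  (.ofNat 689, 49), (.negSucc 1147, 51), (.negSucc 100, 52), (.ofNat 678, 60), (.ofNat 126, 62), (.negSucc 700, 63),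
  (.negSucc 712, 66), (.ofNat 447, 78), (.negSucc 957, 83), (.ofNat 396, 87), (.ofNat 42, 89), (.ofNat 278, 103),
  (.negSucc 139, 107), (.negSucc 123, 109), (.ofNat 24, 111), (.ofNat 669, 113), (.ofNat 519, 118), (.negSucc 128,
  120), (.ofNat 45, 124), (.negSucc 244, 129), (.ofNat 696, 130), (.negSucc 707, 133), (.ofNat 138, 134), (.ofNat
  903, 135), (.negSucc 554, 144), (.ofNat 63, 147), (.negSucc 546, 149), (.ofNat 76, 154), (.ofNat 92, 166),
  (.negSucc 743, 168), (.negSucc 1215, 169)])])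

/-- a candidate -/
def c68 : ℕ × ℕ × List Step :=
  (13374150672384000000, 15, [(0, 0, .ofNat 531441, 0, [(.ofNat 55461, 1), (.negSucc 110020, 2), (.negSucc 130698,
  4), (.negSucc 23888, 6), (.negSucc 59405, 12), (.ofNat 48451, 13), (.ofNat 65396, 14), (.ofNat 779, 15), (.ofNat
  32809, 16), (.negSucc 78427, 17), (.ofNat 90566, 19), (.ofNat 72412, 21), (.negSucc 56785, 23), (.ofNat 36598, 24),
  (.ofNat 17697, 25), (.negSucc 52937, 26), (.ofNat 2202, 28), (.negSucc 117041, 30), (.ofNat 11769, 31), (.negSucc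
  94212, 33), (.negSucc 3286, 37), (.ofNat 3125, 39), (.negSucc 414, 40), (.ofNat 24224, 41), (.negSucc 46721, 43),
  (.ofNat 58628, 45), (.negSucc 110451, 51), (.negSucc 62174, 53), (.negSucc 41327, 55), (.negSucc 4724, 59), (.ofNat
  11230, 60), (.negSucc 71704, 63), (.negSucc 18565, 65), (.negSucc 44276, 66), (.negSucc 26356, 67), (.negSucc
  69352, 71), (.ofNat 5868, 76), (.ofNat 48245, 78), (.ofNat 108500, 80), (.negSucc 56735, 83), (.negSucc 12673, 85),
  (.ofNat 62264, 86), (.ofNat 48181, 87), (.ofNat 30603, 88), (.ofNat 95163, 90), (.ofNat 111, 93), (.negSucc 14205,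
  100), (.negSucc 4990, 101), (.negSucc 9540, 103), (.ofNat 13825, 106), (.negSucc 381, 107), (.ofNat 30071, 108),
  (.ofNat 11701, 111), (.negSucc 12209, 112), (.ofNat 49529, 113), (.negSucc 80655, 116), (.negSucc 726, 120),
  (.negSucc 11402, 121), (.negSucc 49865, 125), (.negSucc 18780, 126), (.negSucc 14968, 129), (.ofNat 182281, 130),
  (.negSucc 35259, 131), (.negSucc 66384, 133), (.ofNat 91875, 135), (.ofNat 40369, 138), (.ofNat 80866, 143),
  (.negSucc 10936, 144), (.ofNat 10579, 147), (.negSucc 57107, 149), (.negSucc 15168, 151), (.ofNat 544, 152),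
  (.ofNat 36400, 154), (.negSucc 12079, 158), (.negSucc 35762, 159), (.negSucc 90596, 163), (.negSucc 5677, 164),
  (.ofNat 13825, 166), (.negSucc 98527, 167), (.negSucc 44809, 168), (.negSucc 117032, 169), (.negSucc 69794, 171),
  (.ofNat 55568, 174)])])

/-- a candidate -/
def c69 : ℕ × ℕ × List Step :=
  (15850845241344000000, 5, [(0, 0, .ofNat 59049, 0, [(.ofNat 14393, 3), (.negSucc 13031, 4), (.ofNat 3341, 19),
  (.ofNat 9509, 21), (.negSucc 15543, 23), (.ofNat 1345, 24), (.negSucc 3071, 26), (.ofNat 2605, 27), (.negSucc 4470,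
  30), (.negSucc 6995, 31), (.negSucc 11330, 33), (.ofNat 1997, 34), (.negSucc 11218, 38), (.negSucc 227, 43),
  (.ofNat 5765, 49), (.negSucc 10991, 51), (.negSucc 1835, 58), (.ofNat 6052, 60), (.negSucc 5920, 63), (.negSucc
  8290, 66), (.ofNat 3725, 78), (.negSucc 8786, 83), (.ofNat 2342, 87), (.ofNat 1428, 89), (.ofNat 1367, 103),
  (.negSucc 922, 107), (.negSucc 133, 109), (.ofNat 131, 111), (.ofNat 6849, 113), (.negSucc 111, 117), (.ofNat 7317,
  118), (.negSucc 1081, 120), (.ofNat 1273, 124), (.negSucc 2049, 129), (.ofNat 6133, 130), (.negSucc 6, 132),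
  (.negSucc 6444, 133), (.ofNat 558, 134), (.ofNat 7404, 135), (.negSucc 80, 142), (.negSucc 5588, 144), (.ofNat
  1279, 147), (.negSucc 3894, 149), (.ofNat 133, 166), (.negSucc 5707, 168), (.negSucc 10520, 169)])])

/-- candidates -/
def CL6 : List (ℕ × ℕ × List Step) :=
  [c60, c61, c62, c63, c64, c65, c66, c67, c68, c69]

theorem okC6 : okL TAB.B.Fin.datF R 2 P Z CL6 = true := by decide +kernel

/-- a candidate -/
def c70 : ℕ × ℕ × List Step :=
  (15850845241344000000, 25, [(0, 0, .ofNat 59049, 0, [(.ofNat 14393, 3), (.negSucc 13031, 4), (.ofNat 3341, 19),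
  (.ofNat 9509, 21), (.negSucc 15543, 23), (.ofNat 1345, 24), (.negSucc 3071, 26), (.ofNat 2605, 27), (.negSucc 4470,
  30), (.negSucc 6995, 31), (.negSucc 11330, 33), (.ofNat 1997, 34), (.negSucc 11218, 38), (.negSucc 227, 43),
  (.ofNat 5765, 49), (.negSucc 10991, 51), (.negSucc 1835, 58), (.ofNat 6052, 60), (.negSucc 5920, 63), (.negSucc
  8290, 66), (.ofNat 3725, 78), (.negSucc 8786, 83), (.ofNat 2342, 87), (.ofNat 1428, 89), (.ofNat 1367, 103),
  (.negSucc 922, 107), (.negSucc 133, 109), (.ofNat 131, 111), (.ofNat 6849, 113), (.negSucc 111, 117), (.ofNat 7317,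
  118), (.negSucc 1081, 120), (.ofNat 1273, 124), (.negSucc 2049, 129), (.ofNat 6133, 130), (.negSucc 6, 132),
  (.negSucc 6444, 133), (.ofNat 558, 134), (.ofNat 7404, 135), (.negSucc 80, 142), (.negSucc 5588, 144), (.ofNat
  1279, 147), (.negSucc 3894, 149), (.ofNat 133, 166), (.negSucc 5707, 168), (.negSucc 10520, 169)])])

/-- a candidate -/
def c71 : ℕ × ℕ × List Step :=
  (17046725197824000000, 35, [(0, 0, .ofNat 19683, 0, [(.ofNat 3747, 3), (.negSucc 3908, 4), (.ofNat 1078, 13),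
  (.ofNat 1011, 16), (.ofNat 2421, 19), (.ofNat 3269, 21), (.negSucc 1972, 22), (.ofNat 351, 24), (.negSucc 16, 25),
  (.negSucc 1101, 26), (.ofNat 949, 27), (.negSucc 323, 28), (.negSucc 3535, 30), (.negSucc 1917, 31), (.ofNat 1142,
  32), (.negSucc 682, 33), (.ofNat 566, 34), (.negSucc 184, 35), (.negSucc 529, 36), (.negSucc 1072, 37), (.negSucc
  4493, 38), (.ofNat 181, 39), (.negSucc 698, 40), (.ofNat 888, 41), (.negSucc 1617, 43), (.negSucc 378, 44),
  (.negSucc 477, 45), (.ofNat 1893, 46), (.ofNat 1300, 47), (.ofNat 2089, 48), (.ofNat 1623, 49), (.negSucc 3319,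
  51), (.negSucc 503, 52), (.ofNat 2215, 53), (.ofNat 1046, 54), (.negSucc 888, 56), (.ofNat 1720, 59), (.ofNat 593,
  60), (.negSucc 3048, 63), (.negSucc 1800, 69), (.ofNat 2925, 71), (.ofNat 233, 72), (.negSucc 146, 73), (.negSucc
  2007, 75), (.ofNat 1094, 76), (.negSucc 17, 77), (.ofNat 1231, 78), (.negSucc 3096, 80), (.ofNat 914, 81),
  (.negSucc 3201, 83), (.negSucc 4049, 84), (.ofNat 435, 85), (.ofNat 1090, 87), (.ofNat 1522, 89), (.ofNat 819, 91),
  (.negSucc 1135, 95), (.ofNat 1613, 97), (.negSucc 1758, 98), (.negSucc 859, 102), (.ofNat 284, 103), (.negSucc 721,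
  105), (.negSucc 678, 108), (.ofNat 2671, 111), (.ofNat 2683, 113), (.negSucc 83, 114), (.negSucc 385, 116),
  (.negSucc 9, 117), (.ofNat 3272, 118), (.ofNat 463, 121), (.ofNat 1252, 124), (.ofNat 2454, 126), (.ofNat 1564,
  130), (.ofNat 2171, 131), (.negSucc 86, 132), (.negSucc 1658, 133), (.ofNat 15, 134), (.ofNat 400, 135), (.negSucc
  179, 137), (.negSucc 428, 138), (.negSucc 177, 142), (.negSucc 1251, 144), (.ofNat 284, 147), (.negSucc 205, 149),
  (.ofNat 2761, 150), (.ofNat 17, 154), (.negSucc 3399, 156), (.ofNat 2109, 158), (.ofNat 117, 165), (.negSucc 221,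
  166), (.negSucc 2755, 168), (.negSucc 3456, 169), (.negSucc 55, 170), (.negSucc 1271, 172), (.ofNat 1326, 173)])])

/-- a candidate -/
def c72 : ℕ × ℕ × List Step :=
  (18786186952704000000, 5, [(0, 0, .ofNat 59049, 0, [(.ofNat 14393, 3), (.negSucc 13031, 4), (.ofNat 3341, 19),
  (.ofNat 9509, 21), (.negSucc 15543, 23), (.ofNat 1345, 24), (.negSucc 3071, 26), (.ofNat 2605, 27), (.negSucc 4470,
  30), (.negSucc 6995, 31), (.negSucc 11330, 33), (.ofNat 1997, 34), (.negSucc 11218, 38), (.negSucc 227, 43),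
  (.ofNat 5765, 49), (.negSucc 10991, 51), (.negSucc 1835, 58), (.ofNat 6052, 60), (.negSucc 5920, 63), (.negSucc
  8290, 66), (.ofNat 3725, 78), (.negSucc 8786, 83), (.ofNat 2342, 87), (.ofNat 1428, 89), (.ofNat 1367, 103),
  (.negSucc 922, 107), (.negSucc 133, 109), (.ofNat 131, 111), (.ofNat 6849, 113), (.negSucc 111, 117), (.ofNat 7317,
  118), (.negSucc 1081, 120), (.ofNat 1273, 124), (.negSucc 2049, 129), (.ofNat 6133, 130), (.negSucc 6, 132),
  (.negSucc 6444, 133), (.ofNat 558, 134), (.ofNat 7404, 135), (.negSucc 80, 142), (.negSucc 5588, 144), (.ofNat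
  1279, 147), (.negSucc 3894, 149), (.ofNat 133, 166), (.negSucc 5707, 168), (.negSucc 10520, 169)])])

/-- a candidate -/
def c73 : ℕ × ℕ × List Step :=
  (28631952389868355584, 7, [(0, 0, .ofNat 1594323, 0, [(.ofNat 237592, 6), (.negSucc 512452, 12), (.ofNat 227796,
  20), (.negSucc 260882, 23), (.ofNat 332893, 24), (.negSucc 123499, 26), (.ofNat 473619, 36), (.negSucc 119024, 43),
  (.ofNat 55670, 46), (.ofNat 41685, 50), (.negSucc 61299, 51), (.negSucc 318240, 52), (.ofNat 38282, 53), (.ofNat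
  44004, 54), (.ofNat 27443, 55), (.negSucc 101974, 63), (.negSucc 43561, 66), (.negSucc 23713, 69), (.ofNat 140148,
  78), (.negSucc 153432, 80), (.negSucc 9911, 81), (.negSucc 304068, 84), (.negSucc 36075, 89), (.negSucc 96997, 92),
  (.ofNat 28953, 93), (.ofNat 47509, 97), (.negSucc 156315, 98), (.ofNat 106213, 103), (.negSucc 182713, 104),
  (.ofNat 257735, 111), (.ofNat 20433, 113), (.negSucc 153484, 114), (.ofNat 76167, 118), (.negSucc 17853, 128),
  (.negSucc 119525, 129), (.ofNat 192974, 131), (.ofNat 130521, 134), (.negSucc 34808, 136), (.ofNat 2324, 139),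
  (.negSucc 56481, 142), (.negSucc 25475, 144), (.negSucc 61352, 156), (.ofNat 47335, 158), (.ofNat 20103, 166),
  (.negSucc 261420, 168), (.ofNat 9606, 169)])])

/-- a candidate -/
def c74 : ℕ × ℕ × List Step :=
  (34441342746624000000, 55, [(0, 0, .ofNat 2187, 0, [(.ofNat 533, 3), (.negSucc 517, 4), (.ofNat 56, 7), (.ofNat
  232, 19), (.ofNat 294, 21), (.negSucc 77, 22), (.ofNat 160, 24), (.negSucc 203, 30), (.negSucc 192, 31), (.ofNat
  14, 32), (.negSucc 277, 33), (.ofNat 84, 34), (.negSucc 98, 36), (.negSucc 35, 37), (.negSucc 233, 38), (.ofNat 48,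
  39), (.negSucc 262, 42), (.ofNat 56, 48), (.ofNat 405, 49), (.negSucc 480, 51), (.negSucc 190, 53), (.ofNat 176,
  54), (.ofNat 91, 60), (.negSucc 221, 63), (.negSucc 110, 64), (.negSucc 319, 66), (.negSucc 36, 75), (.ofNat 67,
  78), (.ofNat 30, 80), (.negSucc 277, 83), (.ofNat 100, 87), (.ofNat 236, 89), (.ofNat 42, 96), (.ofNat 105, 97),
  (.negSucc 88, 101), (.negSucc 194, 106), (.negSucc 46, 107), (.negSucc 2, 109), (.negSucc 115, 110), (.ofNat 31,
  111), (.ofNat 304, 113), (.negSucc 137, 114), (.ofNat 313, 118), (.negSucc 80, 128), (.negSucc 176, 129), (.negSucc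
  101, 132), (.negSucc 310, 133), (.ofNat 161, 135), (.negSucc 4, 139), (.negSucc 82, 142), (.negSucc 227, 144),
  (.ofNat 10, 147), (.negSucc 77, 149), (.negSucc 196, 168), (.negSucc 388, 169), (.ofNat 88, 173)])])

/-- a candidate -/
def c75 : ℕ × ℕ × List Step :=
  (35664401793024000000, 5, [(0, 0, .ofNat 4782969, 0, [(.negSucc 113240, 2), (.ofNat 1023876, 3), (.negSucc 980529,
  4), (.ofNat 185542, 19), (.ofNat 695229, 21), (.negSucc 1260503, 23), (.ofNat 139432, 24), (.negSucc 238285, 26),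
  (.ofNat 336438, 27), (.negSucc 330505, 30), (.negSucc 512734, 31), (.negSucc 994965, 33), (.ofNat 89570, 34),
  (.negSucc 921624, 38), (.ofNat 474775, 49), (.negSucc 788138, 51), (.negSucc 39015, 52), (.negSucc 76977, 58),
  (.ofNat 487964, 60), (.ofNat 107192, 62), (.negSucc 506755, 63), (.negSucc 586965, 66), (.ofNat 292568, 78),
  (.negSucc 709095, 83), (.ofNat 257209, 87), (.ofNat 23736, 89), (.ofNat 219456, 103), (.negSucc 82840, 107),
  (.negSucc 37689, 109), (.ofNat 32040, 111), (.ofNat 568239, 113), (.ofNat 462533, 118), (.negSucc 79927, 120),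
  (.ofNat 89959, 124), (.negSucc 148360, 129), (.ofNat 517047, 130), (.negSucc 516923, 133), (.ofNat 57550, 134),
  (.ofNat 573351, 135), (.negSucc 404929, 144), (.ofNat 114963, 147), (.negSucc 378742, 149), (.ofNat 37405, 150),
  (.ofNat 7577, 166), (.negSucc 544102, 168), (.negSucc 870540, 169), (.negSucc 35976, 170)])])

/-- a candidate -/
def c76 : ℕ × ℕ × List Step :=
  (42268920643584000000, 5, [(0, 0, .ofNat 531441, 0, [(.ofNat 129036, 3), (.negSucc 117442, 4), (.ofNat 30121, 19),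
  (.ofNat 85617, 21), (.negSucc 139894, 23), (.ofNat 12163, 24), (.negSucc 27849, 26), (.ofNat 24553, 27), (.negSucc
  40696, 30), (.negSucc 62826, 31), (.negSucc 101838, 33), (.ofNat 18182, 34), (.negSucc 101690, 38), (.negSucc 2214,
  43), (.ofNat 51752, 49), (.negSucc 98459, 51), (.negSucc 16457, 58), (.ofNat 54582, 60), (.negSucc 53788, 63),
  (.negSucc 75054, 66), (.ofNat 33237, 78), (.negSucc 78895, 83), (.ofNat 20594, 87), (.ofNat 12513, 89), (.ofNat
  12024, 103), (.negSucc 8227, 107), (.negSucc 1055, 109), (.ofNat 1114, 111), (.ofNat 61886, 113), (.negSucc 914,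
  117), (.ofNat 66197, 118), (.negSucc 9488, 120), (.ofNat 11605, 124), (.negSucc 18100, 129), (.ofNat 55127, 130),
  (.negSucc 366, 132), (.negSucc 57911, 133), (.ofNat 4851, 134), (.ofNat 66219, 135), (.negSucc 50261, 144), (.ofNat
  12329, 147), (.negSucc 35182, 149), (.ofNat 926, 166), (.negSucc 51271, 168), (.negSucc 94872, 169)])])

/-- a candidate -/
def c77 : ℕ × ℕ × List Step :=
  (95105071448064000000, 5, [(0, 0, .ofNat 59049, 0, [(.negSucc 1397, 2), (.ofNat 12640, 3), (.negSucc 12104, 4),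
  (.ofNat 2291, 19), (.ofNat 8583, 21), (.negSucc 15561, 23), (.ofNat 1721, 24), (.negSucc 2941, 26), (.ofNat 4154,
  27), (.negSucc 4079, 30), (.negSucc 6329, 31), (.negSucc 12283, 33), (.ofNat 1106, 34), (.negSucc 11377, 38),
  (.ofNat 5861, 49), (.negSucc 9729, 51), (.negSucc 481, 52), (.negSucc 949, 58), (.ofNat 6024, 60), (.ofNat 1323,
  62), (.negSucc 6255, 63), (.negSucc 7245, 66), (.ofNat 3612, 78), (.negSucc 8753, 83), (.ofNat 3175, 87), (.ofNat
  293, 89), (.ofNat 2709, 103), (.negSucc 1022, 107), (.negSucc 464, 109), (.ofNat 396, 111), (.ofNat 7015, 113),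
  (.ofNat 5710, 118), (.negSucc 986, 120), (.ofNat 1111, 124), (.negSucc 1831, 129), (.ofNat 6383, 130), (.negSucc
  6381, 133), (.ofNat 710, 134), (.ofNat 7078, 135), (.negSucc 4998, 144), (.ofNat 1419, 147), (.negSucc 4675, 149),
  (.ofNat 462, 150), (.ofNat 94, 166), (.negSucc 6716, 168), (.negSucc 10746, 169), (.negSucc 443, 170)])])

/-- a candidate -/
def c78 : ℕ × ℕ × List Step :=
  (112717121716224000000, 5, [(0, 0, .ofNat 531441, 0, [(.ofNat 129036, 3), (.negSucc 117442, 4), (.ofNat 30121, 19),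
  (.ofNat 85617, 21), (.negSucc 139894, 23), (.ofNat 12163, 24), (.negSucc 27849, 26), (.ofNat 24553, 27), (.negSucc
  40696, 30), (.negSucc 62826, 31), (.negSucc 101838, 33), (.ofNat 18182, 34), (.negSucc 101690, 38), (.negSucc 2214,
  43), (.ofNat 51752, 49), (.negSucc 98459, 51), (.negSucc 16457, 58), (.ofNat 54582, 60), (.negSucc 53788, 63),
  (.negSucc 75054, 66), (.ofNat 33237, 78), (.negSucc 78895, 83), (.ofNat 20594, 87), (.ofNat 12513, 89), (.ofNat
  12024, 103), (.negSucc 8227, 107), (.negSucc 1055, 109), (.ofNat 1114, 111), (.ofNat 61886, 113), (.negSucc 914,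
  117), (.ofNat 66197, 118), (.negSucc 9488, 120), (.ofNat 11605, 124), (.negSucc 18100, 129), (.ofNat 55127, 130),
  (.negSucc 366, 132), (.negSucc 57911, 133), (.ofNat 4851, 134), (.ofNat 66219, 135), (.negSucc 50261, 144), (.ofNat
  12329, 147), (.negSucc 35182, 149), (.ofNat 926, 166), (.negSucc 51271, 168), (.negSucc 94872, 169)])])

/-- a candidate -/
def c79 : ℕ × ℕ × List Step :=
  (194172854206464000000, 35, [(0, 0, .ofNat 177147, 0, [(.ofNat 18440, 1), (.ofNat 27400, 3), (.negSucc 38716, 4),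
  (.ofNat 2741, 13), (.ofNat 2087, 16), (.ofNat 20519, 19), (.ofNat 22500, 21), (.negSucc 5135, 22), (.negSucc 52696,
  23), (.ofNat 21349, 24), (.negSucc 9971, 26), (.ofNat 2176, 27), (.negSucc 24727, 30), (.negSucc 12060, 31),
  (.ofNat 838, 32), (.negSucc 2959, 33), (.negSucc 2520, 35), (.negSucc 378, 37), (.negSucc 29955, 38), (.ofNat 6342,
  39), (.ofNat 1463, 40), (.negSucc 111, 43), (.negSucc 7597, 44), (.ofNat 16046, 47), (.ofNat 6855, 48), (.negSucc
  26716, 51), (.negSucc 17666, 52), (.ofNat 38632, 53), (.ofNat 5298, 54), (.ofNat 3914, 55), (.negSucc 12623, 58),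
  (.ofNat 17137, 60), (.negSucc 28445, 63), (.negSucc 2813, 64), (.negSucc 5388, 66), (.negSucc 6455, 69), (.ofNat
  24728, 71), (.ofNat 6703, 72), (.ofNat 4028, 73), (.negSucc 11650, 75), (.ofNat 15509, 78), (.negSucc 5695, 79),
  (.negSucc 17243, 80), (.ofNat 4446, 81), (.negSucc 24359, 83), (.negSucc 36055, 84), (.ofNat 8109, 87), (.ofNat
  6253, 89), (.ofNat 967, 93), (.negSucc 2990, 95), (.ofNat 6273, 96), (.ofNat 22814, 97), (.negSucc 20908, 98),
  (.negSucc 9464, 102), (.negSucc 8305, 108), (.negSucc 1544, 110), (.ofNat 22527, 111), (.ofNat 19516, 113), (.ofNat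
  4248, 115), (.negSucc 694, 117), (.negSucc 2507, 121), (.ofNat 119, 122), (.ofNat 2463, 123), (.ofNat 7956, 124),
  (.negSucc 1238, 125), (.ofNat 18344, 126), (.ofNat 9497, 130), (.ofNat 6788, 131), (.negSucc 27848, 133), (.ofNat
  3990, 134), (.ofNat 8044, 136), (.negSucc 680, 139), (.ofNat 8921, 141), (.negSucc 7477, 144), (.ofNat 681, 147),
  (.ofNat 43543, 150), (.ofNat 4391, 154), (.negSucc 13343, 156), (.ofNat 9027, 158), (.negSucc 625, 164), (.negSucc
  38643, 168), (.negSucc 29014, 169), (.negSucc 3718, 170), (.negSucc 1746, 172)])])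

/-- candidates -/
def CL7 : List (ℕ × ℕ × List Step) :=
  [c70, c71, c72, c73, c74, c75, c76, c77, c78, c79]

theorem okC7 : okL TAB.B.Fin.datF R 2 P Z CL7 = true := by decide +kernel

end Cfsg.Agent.TH.Spor.NB
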