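import Cfsg.Agent.TH.Spor.NBD

/-!
# S3541, sporadic rows: B, certificates (helper26; generated by notes/TH/spor26/gen.py.txt)
-/

set_option autoImplicit false
set_option Elab.async false

namespace Cfsg.Agent.TH.Spor.NB

open Cfsg Cfsg.Agent.TAB.Eng Cfsg.Agent.H940.Eng

/-- a candidate -/
def c80 : ℕ × ℕ × List Step :=
  (194172854206464000000, 245, [(0, 0, .ofNat 19683, 0, [(.ofNat 4343, 3), (.negSucc 5458, 4), (.ofNat 798, 19),
  (.ofNat 217, 20), (.ofNat 4138, 21), (.negSucc 107, 22), (.negSucc 5860, 23), (.ofNat 689, 24), (.negSucc 617, 26),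
  (.ofNat 323, 27), (.negSucc 1446, 30), (.negSucc 1229, 31), (.negSucc 2005, 33), (.ofNat 19, 34), (.negSucc 3281,
  38), (.ofNat 31, 39), (.negSucc 497, 43), (.ofNat 1467, 49), (.negSucc 3549, 51), (.negSucc 173, 56), (.negSucc
  1083, 58), (.ofNat 1951, 60), (.ofNat 1772, 62), (.negSucc 2644, 63), (.negSucc 2707, 66), (.ofNat 246, 73),
  (.negSucc 116, 75), (.ofNat 1208, 78), (.negSucc 2898, 83), (.ofNat 112, 87), (.ofNat 545, 103), (.negSucc 213,
  109), (.ofNat 211, 111), (.ofNat 2146, 113), (.negSucc 191, 114), (.negSucc 813, 117), (.ofNat 2362, 118),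
  (.negSucc 71, 120), (.negSucc 178, 125), (.negSucc 738, 129), (.ofNat 815, 130), (.negSucc 1974, 133), (.ofNat 509,
  134), (.ofNat 674, 135), (.negSucc 1662, 144), (.negSucc 58, 145), (.ofNat 605, 147), (.negSucc 629, 149), (.ofNat
  2115, 150), (.negSucc 2488, 168), (.negSucc 3767, 169), (.negSucc 416, 170)])])

/-- a candidate -/
def c81 : ℕ × ℕ × List Step :=
  (213986410758144000000, 5, [(0, 0, .ofNat 59049, 0, [(.negSucc 1397, 2), (.ofNat 12640, 3), (.negSucc 12104, 4),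
  (.ofNat 2291, 19), (.ofNat 8583, 21), (.negSucc 15561, 23), (.ofNat 1721, 24), (.negSucc 2941, 26), (.ofNat 4154,
  27), (.negSucc 4079, 30), (.negSucc 6329, 31), (.negSucc 12283, 33), (.ofNat 1106, 34), (.negSucc 11377, 38),
  (.ofNat 5861, 49), (.negSucc 9729, 51), (.negSucc 481, 52), (.negSucc 949, 58), (.ofNat 6024, 60), (.ofNat 1323,
  62), (.negSucc 6255, 63), (.negSucc 7245, 66), (.ofNat 3612, 78), (.negSucc 8753, 83), (.ofNat 3175, 87), (.ofNat
  293, 89), (.ofNat 2709, 103), (.negSucc 1022, 107), (.negSucc 464, 109), (.ofNat 396, 111), (.ofNat 7015, 113),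
  (.ofNat 5710, 118), (.negSucc 986, 120), (.ofNat 1111, 124), (.negSucc 1831, 129), (.ofNat 6383, 130), (.negSucc
  6381, 133), (.ofNat 710, 134), (.ofNat 7078, 135), (.negSucc 4998, 144), (.ofNat 1419, 147), (.negSucc 4675, 149),
  (.ofNat 462, 150), (.ofNat 94, 166), (.negSucc 6716, 168), (.negSucc 10746, 169), (.negSucc 443, 170)])])

/-- a candidate -/
def c82 : ℕ × ℕ × List Step :=
  (213986410758144000000, 15, [(0, 0, .ofNat 59049, 0, [(.ofNat 9108, 1), (.negSucc 5691, 2), (.negSucc 10071, 4),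
  (.ofNat 1285, 9), (.negSucc 119, 10), (.negSucc 7962, 12), (.ofNat 7617, 13), (.ofNat 4538, 14), (.ofNat 159, 15),
  (.ofNat 12375, 16), (.negSucc 7656, 17), (.ofNat 6398, 19), (.ofNat 5336, 21), (.negSucc 8784, 23), (.ofNat 4165,
  24), (.ofNat 4404, 25), (.negSucc 5005, 26), (.negSucc 10929, 30), (.negSucc 6752, 33), (.negSucc 89, 37), (.ofNat
  998, 41), (.negSucc 11045, 43), (.ofNat 7379, 45), (.negSucc 909, 47), (.negSucc 12359, 49), (.ofNat 759, 50),
  (.negSucc 10681, 51), (.negSucc 513, 53), (.negSucc 4552, 55), (.ofNat 3583, 59), (.ofNat 3606, 60), (.negSucc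
  7769, 63), (.ofNat 46, 64), (.negSucc 79, 65), (.negSucc 7742, 66), (.negSucc 238, 68), (.negSucc 2884, 71),
  (.ofNat 8018, 72), (.ofNat 4933, 78), (.ofNat 3776, 80), (.negSucc 5146, 83), (.ofNat 5955, 86), (.ofNat 2161, 87),
  (.negSucc 4157, 88), (.ofNat 6096, 90), (.negSucc 986, 101), (.negSucc 1510, 108), (.ofNat 9210, 111), (.negSucc
  605, 112), (.ofNat 6991, 113), (.negSucc 6040, 116), (.ofNat 157, 120), (.ofNat 252, 123), (.negSucc 3563, 125),
  (.negSucc 1021, 126), (.ofNat 59, 128), (.negSucc 1561, 129), (.ofNat 17994, 130), (.negSucc 2849, 131), (.ofNat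
  23, 132), (.negSucc 10201, 133), (.ofNat 5925, 135), (.ofNat 440, 139), (.negSucc 1808, 140), (.ofNat 3917, 143),
  (.negSucc 58, 144), (.negSucc 1881, 149), (.ofNat 1283, 150), (.ofNat 2957, 154), (.negSucc 9388, 163), (.ofNat
  173, 166), (.negSucc 11188, 167), (.negSucc 5999, 168), (.negSucc 10370, 169), (.negSucc 4331, 171), (.ofNat 6761,
  174)])])

/-- a candidate -/
def c83 : ℕ × ℕ × List Step :=
  (213986410758144000000, 25, [(0, 0, .ofNat 59049, 0, [(.negSucc 1397, 2), (.ofNat 12640, 3), (.negSucc 12104, 4),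
  (.ofNat 2291, 19), (.ofNat 8583, 21), (.negSucc 15561, 23), (.ofNat 1721, 24), (.negSucc 2941, 26), (.ofNat 4154,
  27), (.negSucc 4079, 30), (.negSucc 6329, 31), (.negSucc 12283, 33), (.ofNat 1106, 34), (.negSucc 11377, 38),
  (.ofNat 5861, 49), (.negSucc 9729, 51), (.negSucc 481, 52), (.negSucc 949, 58), (.ofNat 6024, 60), (.ofNat 1323,
  62), (.negSucc 6255, 63), (.negSucc 7245, 66), (.ofNat 3612, 78), (.negSucc 8753, 83), (.ofNat 3175, 87), (.ofNat
  293, 89), (.ofNat 2709, 103), (.negSucc 1022, 107), (.negSucc 464, 109), (.ofNat 396, 111), (.ofNat 7015, 113),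
  (.ofNat 5710, 118), (.negSucc 986, 120), (.ofNat 1111, 124), (.negSucc 1831, 129), (.ofNat 6383, 130), (.negSucc
  6381, 133), (.ofNat 710, 134), (.ofNat 7078, 135), (.negSucc 4998, 144), (.ofNat 1419, 147), (.negSucc 4675, 149),
  (.ofNat 462, 150), (.ofNat 94, 166), (.negSucc 6716, 168), (.negSucc 10746, 169), (.negSucc 443, 170)])])

/-- a candidate -/
def c84 : ℕ × ℕ × List Step :=
  (213986410758144000000, 45, [(0, 0, .ofNat 59049, 0, [(.ofNat 9108, 1), (.negSucc 5691, 2), (.negSucc 10071, 4),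
  (.ofNat 1285, 9), (.negSucc 119, 10), (.negSucc 7962, 12), (.ofNat 7617, 13), (.ofNat 4538, 14), (.ofNat 159, 15),
  (.ofNat 12375, 16), (.negSucc 7656, 17), (.ofNat 6398, 19), (.ofNat 5336, 21), (.negSucc 8784, 23), (.ofNat 4165,
  24), (.ofNat 4404, 25), (.negSucc 5005, 26), (.negSucc 10929, 30), (.negSucc 6752, 33), (.negSucc 89, 37), (.ofNat
  998, 41), (.negSucc 11045, 43), (.ofNat 7379, 45), (.negSucc 909, 47), (.negSucc 12359, 49), (.ofNat 759, 50),
  (.negSucc 10681, 51), (.negSucc 513, 53), (.negSucc 4552, 55), (.ofNat 3583, 59), (.ofNat 3606, 60), (.negSucc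
  7769, 63), (.ofNat 46, 64), (.negSucc 79, 65), (.negSucc 7742, 66), (.negSucc 238, 68), (.negSucc 2884, 71),
  (.ofNat 8018, 72), (.ofNat 4933, 78), (.ofNat 3776, 80), (.negSucc 5146, 83), (.ofNat 5955, 86), (.ofNat 2161, 87),
  (.negSucc 4157, 88), (.ofNat 6096, 90), (.negSucc 986, 101), (.negSucc 1510, 108), (.ofNat 9210, 111), (.negSucc
  605, 112), (.ofNat 6991, 113), (.negSucc 6040, 116), (.ofNat 157, 120), (.ofNat 252, 123), (.negSucc 3563, 125),
  (.negSucc 1021, 126), (.ofNat 59, 128), (.negSucc 1561, 129), (.ofNat 17994, 130), (.negSucc 2849, 131), (.ofNat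
  23, 132), (.negSucc 10201, 133), (.ofNat 5925, 135), (.ofNat 440, 139), (.negSucc 1808, 140), (.ofNat 3917, 143),
  (.negSucc 58, 144), (.negSucc 1881, 149), (.ofNat 1283, 150), (.ofNat 2957, 154), (.negSucc 9388, 163), (.ofNat
  173, 166), (.negSucc 11188, 167), (.negSucc 5999, 168), (.negSucc 10370, 169), (.negSucc 4331, 171), (.ofNat 6761,
  174)])])

/-- a candidate -/
def c85 : ℕ × ℕ × List Step :=
  (213986410758144000000, 75, [(0, 0, .ofNat 59049, 0, [(.ofNat 9108, 1), (.negSucc 5691, 2), (.negSucc 10071, 4),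
  (.ofNat 1285, 9), (.negSucc 119, 10), (.negSucc 7962, 12), (.ofNat 7617, 13), (.ofNat 4538, 14), (.ofNat 159, 15),
  (.ofNat 12375, 16), (.negSucc 7656, 17), (.ofNat 6398, 19), (.ofNat 5336, 21), (.negSucc 8784, 23), (.ofNat 4165,
  24), (.ofNat 4404, 25), (.negSucc 5005, 26), (.negSucc 10929, 30), (.negSucc 6752, 33), (.negSucc 89, 37), (.ofNat
  998, 41), (.negSucc 11045, 43), (.ofNat 7379, 45), (.negSucc 909, 47), (.negSucc 12359, 49), (.ofNat 759, 50),
  (.negSucc 10681, 51), (.negSucc 513, 53), (.negSucc 4552, 55), (.ofNat 3583, 59), (.ofNat 3606, 60), (.negSucc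
  7769, 63), (.ofNat 46, 64), (.negSucc 79, 65), (.negSucc 7742, 66), (.negSucc 238, 68), (.negSucc 2884, 71),
  (.ofNat 8018, 72), (.ofNat 4933, 78), (.ofNat 3776, 80), (.negSucc 5146, 83), (.ofNat 5955, 86), (.ofNat 2161, 87),
  (.negSucc 4157, 88), (.ofNat 6096, 90), (.negSucc 986, 101), (.negSucc 1510, 108), (.ofNat 9210, 111), (.negSucc
  605, 112), (.ofNat 6991, 113), (.negSucc 6040, 116), (.ofNat 157, 120), (.ofNat 252, 123), (.negSucc 3563, 125),
  (.negSucc 1021, 126), (.ofNat 59, 128), (.negSucc 1561, 129), (.ofNat 17994, 130), (.negSucc 2849, 131), (.ofNat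
  23, 132), (.negSucc 10201, 133), (.ofNat 5925, 135), (.ofNat 440, 139), (.negSucc 1808, 140), (.ofNat 3917, 143),
  (.negSucc 58, 144), (.negSucc 1881, 149), (.ofNat 1283, 150), (.ofNat 2957, 154), (.negSucc 9388, 163), (.ofNat
  173, 166), (.negSucc 11188, 167), (.negSucc 5999, 168), (.negSucc 10370, 169), (.negSucc 4331, 171), (.ofNat 6761,
  174)])])

/-- a candidate -/
def c86 : ℕ × ℕ × List Step :=
  (213986410758144000000, 135, [(0, 0, .ofNat 531441, 0, [(.ofNat 91009, 1), (.negSucc 104770, 4), (.ofNat 6458, 9),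
  (.ofNat 60257, 13), (.ofNat 72042, 14), (.ofNat 379, 15), (.ofNat 89541, 16), (.negSucc 64778, 17), (.ofNat 70278,
  19), (.ofNat 74, 20), (.ofNat 86912, 21), (.negSucc 76048, 23), (.ofNat 43551, 24), (.ofNat 41839, 25), (.negSucc
  39791, 26), (.negSucc 78339, 30), (.negSucc 16778, 33), (.negSucc 3507, 36), (.ofNat 3616, 38), (.ofNat 14332, 41),
  (.negSucc 79466, 43), (.ofNat 57624, 45), (.negSucc 33923, 47), (.negSucc 2301, 48), (.negSucc 87675, 49),
  (.negSucc 70829, 51), (.ofNat 285, 52), (.negSucc 26617, 53), (.negSucc 57410, 55), (.ofNat 3009, 59), (.ofNat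
  42259, 60), (.negSucc 61947, 63), (.ofNat 7437, 64), (.negSucc 4362, 65), (.negSucc 89420, 66), (.negSucc 1588,
  68), (.ofNat 67, 70), (.negSucc 72914, 71), (.ofNat 48493, 72), (.ofNat 7842, 73), (.negSucc 1297, 74), (.ofNat
  30873, 78), (.ofNat 53838, 80), (.negSucc 51856, 83), (.ofNat 60316, 86), (.ofNat 25674, 87), (.negSucc 42979, 88),
  (.ofNat 56262, 90), (.negSucc 5625, 91), (.ofNat 22860, 98), (.negSucc 3224, 100), (.negSucc 6344, 101), (.negSucc
  1315, 103), (.ofNat 22183, 106), (.negSucc 3535, 109), (.ofNat 62102, 111), (.negSucc 11206, 112), (.ofNat 68264,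
  113), (.negSucc 71329, 116), (.negSucc 1350, 117), (.ofNat 31632, 118), (.negSucc 1889, 121), (.negSucc 41422,
  125), (.negSucc 19435, 126), (.negSucc 20301, 129), (.ofNat 157818, 130), (.negSucc 61478, 131), (.negSucc 82757,
  133), (.ofNat 24085, 135), (.negSucc 1777, 137), (.ofNat 34492, 143), (.negSucc 28357, 144), (.ofNat 5704, 146),
  (.ofNat 37266, 150), (.ofNat 138, 152), (.ofNat 40569, 154), (.negSucc 7574, 157), (.negSucc 22660, 158), (.negSucc
  734, 161), (.negSucc 99835, 163), (.ofNat 20878, 166), (.negSucc 77593, 167), (.negSucc 49145, 168), (.negSucc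
  101237, 169), (.negSucc 51359, 171), (.ofNat 11073, 173), (.ofNat 51208, 174)])])

/-- a candidate -/
def c87 : ℕ × ℕ × List Step :=
  (213986410758144000000, 225, [(0, 0, .ofNat 59049, 0, [(.ofNat 9108, 1), (.negSucc 5691, 2), (.negSucc 10071, 4),
  (.ofNat 1285, 9), (.negSucc 119, 10), (.negSucc 7962, 12), (.ofNat 7617, 13), (.ofNat 4538, 14), (.ofNat 159, 15),
  (.ofNat 12375, 16), (.negSucc 7656, 17), (.ofNat 6398, 19), (.ofNat 5336, 21), (.negSucc 8784, 23), (.ofNat 4165,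
  24), (.ofNat 4404, 25), (.negSucc 5005, 26), (.negSucc 10929, 30), (.negSucc 6752, 33), (.negSucc 89, 37), (.ofNat
  998, 41), (.negSucc 11045, 43), (.ofNat 7379, 45), (.negSucc 909, 47), (.negSucc 12359, 49), (.ofNat 759, 50),
  (.negSucc 10681, 51), (.negSucc 513, 53), (.negSucc 4552, 55), (.ofNat 3583, 59), (.ofNat 3606, 60), (.negSucc
  7769, 63), (.ofNat 46, 64), (.negSucc 79, 65), (.negSucc 7742, 66), (.negSucc 238, 68), (.negSucc 2884, 71),
  (.ofNat 8018, 72), (.ofNat 4933, 78), (.ofNat 3776, 80), (.negSucc 5146, 83), (.ofNat 5955, 86), (.ofNat 2161, 87),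
  (.negSucc 4157, 88), (.ofNat 6096, 90), (.negSucc 986, 101), (.negSucc 1510, 108), (.ofNat 9210, 111), (.negSucc
  605, 112), (.ofNat 6991, 113), (.negSucc 6040, 116), (.ofNat 157, 120), (.ofNat 252, 123), (.negSucc 3563, 125),
  (.negSucc 1021, 126), (.ofNat 59, 128), (.negSucc 1561, 129), (.ofNat 17994, 130), (.negSucc 2849, 131), (.ofNat
  23, 132), (.negSucc 10201, 133), (.ofNat 5925, 135), (.ofNat 440, 139), (.negSucc 1808, 140), (.ofNat 3917, 143),
  (.negSucc 58, 144), (.negSucc 1881, 149), (.ofNat 1283, 150), (.ofNat 2957, 154), (.negSucc 9388, 163), (.ofNat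
  173, 166), (.negSucc 11188, 167), (.negSucc 5999, 168), (.negSucc 10370, 169), (.negSucc 4331, 171), (.ofNat 6761,
  174)])])

/-- a candidate -/
def c88 : ℕ × ℕ × List Step :=
  (213986410758144000000, 675, [(0, 0, .ofNat 531441, 0, [(.ofNat 91009, 1), (.negSucc 104770, 4), (.ofNat 6458, 9),
  (.ofNat 60257, 13), (.ofNat 72042, 14), (.ofNat 379, 15), (.ofNat 89541, 16), (.negSucc 64778, 17), (.ofNat 70278,
  19), (.ofNat 74, 20), (.ofNat 86912, 21), (.negSucc 76048, 23), (.ofNat 43551, 24), (.ofNat 41839, 25), (.negSucc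
  39791, 26), (.negSucc 78339, 30), (.negSucc 16778, 33), (.negSucc 3507, 36), (.ofNat 3616, 38), (.ofNat 14332, 41),
  (.negSucc 79466, 43), (.ofNat 57624, 45), (.negSucc 33923, 47), (.negSucc 2301, 48), (.negSucc 87675, 49),
  (.negSucc 70829, 51), (.ofNat 285, 52), (.negSucc 26617, 53), (.negSucc 57410, 55), (.ofNat 3009, 59), (.ofNat
  42259, 60), (.negSucc 61947, 63), (.ofNat 7437, 64), (.negSucc 4362, 65), (.negSucc 89420, 66), (.negSucc 1588,
  68), (.ofNat 67, 70), (.negSucc 72914, 71), (.ofNat 48493, 72), (.ofNat 7842, 73), (.negSucc 1297, 74), (.ofNat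
  30873, 78), (.ofNat 53838, 80), (.negSucc 51856, 83), (.ofNat 60316, 86), (.ofNat 25674, 87), (.negSucc 42979, 88),
  (.ofNat 56262, 90), (.negSucc 5625, 91), (.ofNat 22860, 98), (.negSucc 3224, 100), (.negSucc 6344, 101), (.negSucc
  1315, 103), (.ofNat 22183, 106), (.negSucc 3535, 109), (.ofNat 62102, 111), (.negSucc 11206, 112), (.ofNat 68264,
  113), (.negSucc 71329, 116), (.negSucc 1350, 117), (.ofNat 31632, 118), (.negSucc 1889, 121), (.negSucc 41422,
  125), (.negSucc 19435, 126), (.negSucc 20301, 129), (.ofNat 157818, 130), (.negSucc 61478, 131), (.negSucc 82757,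
  133), (.ofNat 24085, 135), (.negSucc 1777, 137), (.ofNat 34492, 143), (.negSucc 28357, 144), (.ofNat 5704, 146),
  (.ofNat 37266, 150), (.ofNat 138, 152), (.ofNat 40569, 154), (.negSucc 7574, 157), (.negSucc 22660, 158), (.negSucc
  734, 161), (.negSucc 99835, 163), (.ofNat 20878, 166), (.negSucc 77593, 167), (.negSucc 49145, 168), (.negSucc
  101237, 169), (.negSucc 51359, 171), (.ofNat 11073, 173), (.ofNat 51208, 174)])])

/-- a candidate -/
def c89 : ℕ × ℕ × List Step :=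
  (253613523861504000000, 5, [(0, 0, .ofNat 531441, 0, [(.ofNat 129036, 3), (.negSucc 117442, 4), (.ofNat 30121, 19),
  (.ofNat 85617, 21), (.negSucc 139894, 23), (.ofNat 12163, 24), (.negSucc 27849, 26), (.ofNat 24553, 27), (.negSucc
  40696, 30), (.negSucc 62826, 31), (.negSucc 101838, 33), (.ofNat 18182, 34), (.negSucc 101690, 38), (.negSucc 2214,
  43), (.ofNat 51752, 49), (.negSucc 98459, 51), (.negSucc 16457, 58), (.ofNat 54582, 60), (.negSucc 53788, 63),
  (.negSucc 75054, 66), (.ofNat 33237, 78), (.negSucc 78895, 83), (.ofNat 20594, 87), (.ofNat 12513, 89), (.ofNat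
  12024, 103), (.negSucc 8227, 107), (.negSucc 1055, 109), (.ofNat 1114, 111), (.ofNat 61886, 113), (.negSucc 914,
  117), (.ofNat 66197, 118), (.negSucc 9488, 120), (.ofNat 11605, 124), (.negSucc 18100, 129), (.ofNat 55127, 130),
  (.negSucc 366, 132), (.negSucc 57911, 133), (.ofNat 4851, 134), (.ofNat 66219, 135), (.negSucc 50261, 144), (.ofNat
  12329, 147), (.negSucc 35182, 149), (.ofNat 926, 166), (.negSucc 51271, 168), (.negSucc 94872, 169)])])

/-- candidates -/
def CL8 : List (ℕ × ℕ × List Step) :=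
  [c80, c81, c82, c83, c84, c85, c86, c87, c88, c89]

theorem okC8 : okL TAB.B.Fin.datF R 2 P Z CL8 = true := by decide +kernel

/-- a candidate -/
def c90 : ℕ × ℕ × List Step :=
  (570630428688384000000, 5, [(0, 0, .ofNat 59049, 0, [(.negSucc 1397, 2), (.ofNat 12640, 3), (.negSucc 12104, 4),
  (.ofNat 2291, 19), (.ofNat 8583, 21), (.negSucc 15561, 23), (.ofNat 1721, 24), (.negSucc 2941, 26), (.ofNat 4154,
  27), (.negSucc 4079, 30), (.negSucc 6329, 31), (.negSucc 12283, 33), (.ofNat 1106, 34), (.negSucc 11377, 38),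
  (.ofNat 5861, 49), (.negSucc 9729, 51), (.negSucc 481, 52), (.negSucc 949, 58), (.ofNat 6024, 60), (.ofNat 1323,
  62), (.negSucc 6255, 63), (.negSucc 7245, 66), (.ofNat 3612, 78), (.negSucc 8753, 83), (.ofNat 3175, 87), (.ofNat
  293, 89), (.ofNat 2709, 103), (.negSucc 1022, 107), (.negSucc 464, 109), (.ofNat 396, 111), (.ofNat 7015, 113),
  (.ofNat 5710, 118), (.negSucc 986, 120), (.ofNat 1111, 124), (.negSucc 1831, 129), (.ofNat 6383, 130), (.negSucc
  6381, 133), (.ofNat 710, 134), (.ofNat 7078, 135), (.negSucc 4998, 144), (.ofNat 1419, 147), (.negSucc 4675, 149),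
  (.ofNat 462, 150), (.ofNat 94, 166), (.negSucc 6716, 168), (.negSucc 10746, 169), (.negSucc 443, 170)])])

/-- a candidate -/
def c91 : ℕ × ℕ × List Step :=
  (613682107121664000000, 35, [(0, 0, .ofNat 59049, 0, [(.ofNat 207, 1), (.ofNat 10124, 3), (.negSucc 15211, 4),
  (.ofNat 2711, 10), (.ofNat 1321, 11), (.negSucc 19442, 12), (.ofNat 3015, 16), (.negSucc 2087, 18), (.ofNat 9192,
  19), (.ofNat 9230, 21), (.negSucc 1270, 22), (.ofNat 4859, 24), (.negSucc 2037, 26), (.negSucc 3965, 28), (.negSucc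
  11907, 30), (.negSucc 4637, 31), (.ofNat 3694, 32), (.negSucc 813, 36), (.negSucc 1249, 37), (.negSucc 15363, 38),
  (.ofNat 6001, 39), (.negSucc 4011, 40), (.negSucc 1854, 42), (.negSucc 2554, 43), (.ofNat 3678, 46), (.ofNat 2256,
  47), (.ofNat 464, 48), (.negSucc 12650, 51), (.ofNat 2445, 53), (.ofNat 2671, 54), (.ofNat 873, 55), (.negSucc
  2914, 58), (.ofNat 431, 59), (.ofNat 1807, 60), (.ofNat 7107, 62), (.negSucc 11080, 63), (.negSucc 3429, 66),
  (.ofNat 8704, 71), (.ofNat 1600, 72), (.negSucc 2474, 75), (.ofNat 4727, 78), (.negSucc 8381, 80), (.negSucc 10795,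
  83), (.negSucc 9315, 84), (.ofNat 2677, 87), (.ofNat 4053, 89), (.negSucc 43, 95), (.ofNat 353, 97), (.negSucc
  10098, 98), (.negSucc 2020, 102), (.ofNat 711, 103), (.negSucc 78, 107), (.negSucc 1541, 110), (.ofNat 7905, 111),
  (.ofNat 6782, 113), (.negSucc 301, 114), (.ofNat 6344, 118), (.negSucc 330, 121), (.ofNat 2295, 124), (.ofNat 3604,
  131), (.negSucc 8975, 133), (.ofNat 1135, 136), (.negSucc 2452, 138), (.negSucc 15, 140), (.ofNat 3294, 141),
  (.negSucc 3183, 144), (.ofNat 3882, 148), (.ofNat 13285, 150), (.negSucc 2619, 153), (.negSucc 10214, 156),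
  (.negSucc 826, 166), (.negSucc 2361, 167), (.negSucc 6526, 168), (.negSucc 10967, 169), (.negSucc 4054, 172),
  (.ofNat 4768, 173)])])

/-- a candidate -/
def c92 : ℕ × ℕ × List Step :=
  (676302730297344000000, 5, [(0, 0, .ofNat 177147, 0, [(.ofNat 43012, 3), (.negSucc 39147, 4), (.ofNat 10040, 19),
  (.ofNat 28539, 21), (.negSucc 46631, 23), (.ofNat 4054, 24), (.negSucc 9282, 26), (.ofNat 8184, 27), (.negSucc
  13565, 30), (.negSucc 20941, 31), (.negSucc 33945, 33), (.ofNat 6061, 34), (.negSucc 33896, 38), (.negSucc 737,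
  43), (.ofNat 17251, 49), (.negSucc 32819, 51), (.negSucc 5485, 58), (.ofNat 18194, 60), (.negSucc 17929, 63),
  (.negSucc 25017, 66), (.ofNat 11079, 78), (.negSucc 26298, 83), (.ofNat 6865, 87), (.ofNat 4171, 89), (.ofNat 4008,
  103), (.negSucc 2742, 107), (.negSucc 351, 109), (.ofNat 371, 111), (.ofNat 20629, 113), (.negSucc 304, 117),
  (.ofNat 22066, 118), (.negSucc 3162, 120), (.ofNat 3868, 124), (.negSucc 6033, 129), (.ofNat 18376, 130), (.negSucc
  121, 132), (.negSucc 19303, 133), (.ofNat 1617, 134), (.ofNat 22073, 135), (.negSucc 16753, 144), (.ofNat 4110,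
  147), (.negSucc 11727, 149), (.ofNat 309, 166), (.negSucc 17090, 168), (.negSucc 31623, 169)])])

/-- a candidate -/
def c93 : ℕ × ℕ × List Step :=
  (676302730297344000000, 10, [(0, 0, .ofNat 177147, 0, [(.ofNat 43012, 3), (.negSucc 39147, 4), (.ofNat 10040, 19),
  (.ofNat 28539, 21), (.negSucc 46631, 23), (.ofNat 4054, 24), (.negSucc 9282, 26), (.ofNat 8184, 27), (.negSucc
  13565, 30), (.negSucc 20941, 31), (.negSucc 33945, 33), (.ofNat 6061, 34), (.negSucc 33896, 38), (.negSucc 737,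
  43), (.ofNat 17251, 49), (.negSucc 32819, 51), (.negSucc 5485, 58), (.ofNat 18194, 60), (.negSucc 17929, 63),
  (.negSucc 25017, 66), (.ofNat 11079, 78), (.negSucc 26298, 83), (.ofNat 6865, 87), (.ofNat 4171, 89), (.ofNat 4008,
  103), (.negSucc 2742, 107), (.negSucc 351, 109), (.ofNat 371, 111), (.ofNat 20629, 113), (.negSucc 304, 117),
  (.ofNat 22066, 118), (.negSucc 3162, 120), (.ofNat 3868, 124), (.negSucc 6033, 129), (.ofNat 18376, 130), (.negSucc
  121, 132), (.negSucc 19303, 133), (.ofNat 1617, 134), (.ofNat 22073, 135), (.negSucc 16753, 144), (.ofNat 4110,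
  147), (.negSucc 11727, 149), (.ofNat 309, 166), (.negSucc 17090, 168), (.negSucc 31623, 169)])])

/-- a candidate -/
def c94 : ℕ × ℕ × List Step :=
  (676302730297344000000, 25, [(0, 0, .ofNat 177147, 0, [(.ofNat 43012, 3), (.negSucc 39147, 4), (.ofNat 10040, 19),
  (.ofNat 28539, 21), (.negSucc 46631, 23), (.ofNat 4054, 24), (.negSucc 9282, 26), (.ofNat 8184, 27), (.negSucc
  13565, 30), (.negSucc 20941, 31), (.negSucc 33945, 33), (.ofNat 6061, 34), (.negSucc 33896, 38), (.negSucc 737,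
  43), (.ofNat 17251, 49), (.negSucc 32819, 51), (.negSucc 5485, 58), (.ofNat 18194, 60), (.negSucc 17929, 63),
  (.negSucc 25017, 66), (.ofNat 11079, 78), (.negSucc 26298, 83), (.ofNat 6865, 87), (.ofNat 4171, 89), (.ofNat 4008,
  103), (.negSucc 2742, 107), (.negSucc 351, 109), (.ofNat 371, 111), (.ofNat 20629, 113), (.negSucc 304, 117),
  (.ofNat 22066, 118), (.negSucc 3162, 120), (.ofNat 3868, 124), (.negSucc 6033, 129), (.ofNat 18376, 130), (.negSucc
  121, 132), (.negSucc 19303, 133), (.ofNat 1617, 134), (.ofNat 22073, 135), (.negSucc 16753, 144), (.ofNat 4110,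
  147), (.negSucc 11727, 149), (.ofNat 309, 166), (.negSucc 17090, 168), (.negSucc 31623, 169)])])

/-- a candidate -/
def c95 : ℕ × ℕ × List Step :=
  (676302730297344000000, 50, [(0, 0, .ofNat 177147, 0, [(.ofNat 43012, 3), (.negSucc 39147, 4), (.ofNat 10040, 19),
  (.ofNat 28539, 21), (.negSucc 46631, 23), (.ofNat 4054, 24), (.negSucc 9282, 26), (.ofNat 8184, 27), (.negSucc
  13565, 30), (.negSucc 20941, 31), (.negSucc 33945, 33), (.ofNat 6061, 34), (.negSucc 33896, 38), (.negSucc 737,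
  43), (.ofNat 17251, 49), (.negSucc 32819, 51), (.negSucc 5485, 58), (.ofNat 18194, 60), (.negSucc 17929, 63),
  (.negSucc 25017, 66), (.ofNat 11079, 78), (.negSucc 26298, 83), (.ofNat 6865, 87), (.ofNat 4171, 89), (.ofNat 4008,
  103), (.negSucc 2742, 107), (.negSucc 351, 109), (.ofNat 371, 111), (.ofNat 20629, 113), (.negSucc 304, 117),
  (.ofNat 22066, 118), (.negSucc 3162, 120), (.ofNat 3868, 124), (.negSucc 6033, 129), (.ofNat 18376, 130), (.negSucc
  121, 132), (.negSucc 19303, 133), (.ofNat 1617, 134), (.ofNat 22073, 135), (.negSucc 16753, 144), (.ofNat 4110,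
  147), (.negSucc 11727, 149), (.ofNat 309, 166), (.negSucc 17090, 168), (.negSucc 31623, 169)])])

/-- a candidate -/
def c96 : ℕ × ℕ × List Step :=
  (1521681143169024000000, 5, [(0, 0, .ofNat 59049, 0, [(.negSucc 1397, 2), (.ofNat 12640, 3), (.negSucc 12104, 4),
  (.ofNat 2291, 19), (.ofNat 8583, 21), (.negSucc 15561, 23), (.ofNat 1721, 24), (.negSucc 2941, 26), (.ofNat 4154,
  27), (.negSucc 4079, 30), (.negSucc 6329, 31), (.negSucc 12283, 33), (.ofNat 1106, 34), (.negSucc 11377, 38),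
  (.ofNat 5861, 49), (.negSucc 9729, 51), (.negSucc 481, 52), (.negSucc 949, 58), (.ofNat 6024, 60), (.ofNat 1323,
  62), (.negSucc 6255, 63), (.negSucc 7245, 66), (.ofNat 3612, 78), (.negSucc 8753, 83), (.ofNat 3175, 87), (.ofNat
  293, 89), (.ofNat 2709, 103), (.negSucc 1022, 107), (.negSucc 464, 109), (.ofNat 396, 111), (.ofNat 7015, 113),
  (.ofNat 5710, 118), (.negSucc 986, 120), (.ofNat 1111, 124), (.negSucc 1831, 129), (.ofNat 6383, 130), (.negSucc
  6381, 133), (.ofNat 710, 134), (.ofNat 7078, 135), (.negSucc 4998, 144), (.ofNat 1419, 147), (.negSucc 4675, 149),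
  (.ofNat 462, 150), (.ofNat 94, 166), (.negSucc 6716, 168), (.negSucc 10746, 169), (.negSucc 443, 170)])])

/-- a candidate -/
def c97 : ℕ × ℕ × List Step :=
  (3423782572130304000000, 5, [(0, 0, .ofNat 59049, 0, [(.negSucc 1397, 2), (.ofNat 12640, 3), (.negSucc 12104, 4),
  (.ofNat 2291, 19), (.ofNat 8583, 21), (.negSucc 15561, 23), (.ofNat 1721, 24), (.negSucc 2941, 26), (.ofNat 4154,
  27), (.negSucc 4079, 30), (.negSucc 6329, 31), (.negSucc 12283, 33), (.ofNat 1106, 34), (.negSucc 11377, 38),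
  (.ofNat 5861, 49), (.negSucc 9729, 51), (.negSucc 481, 52), (.negSucc 949, 58), (.ofNat 6024, 60), (.ofNat 1323,
  62), (.negSucc 6255, 63), (.negSucc 7245, 66), (.ofNat 3612, 78), (.negSucc 8753, 83), (.ofNat 3175, 87), (.ofNat
  293, 89), (.ofNat 2709, 103), (.negSucc 1022, 107), (.negSucc 464, 109), (.ofNat 396, 111), (.ofNat 7015, 113),
  (.ofNat 5710, 118), (.negSucc 986, 120), (.ofNat 1111, 124), (.negSucc 1831, 129), (.ofNat 6383, 130), (.negSucc
  6381, 133), (.ofNat 710, 134), (.ofNat 7078, 135), (.negSucc 4998, 144), (.ofNat 1419, 147), (.negSucc 4675, 149),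
  (.ofNat 462, 150), (.ofNat 94, 166), (.negSucc 6716, 168), (.negSucc 10746, 169), (.negSucc 443, 170)])])

/-- a candidate -/
def c98 : ℕ × ℕ × List Step :=
  (3423782572130304000000, 15, [(0, 0, .ofNat 177147, 0, [(.ofNat 26640, 1), (.negSucc 17294, 2), (.negSucc 30130,
  4), (.ofNat 3465, 9), (.negSucc 578, 10), (.negSucc 22144, 12), (.ofNat 23644, 13), (.ofNat 14956, 14), (.ofNat
  149, 15), (.ofNat 36969, 16), (.negSucc 21896, 17), (.ofNat 19936, 19), (.ofNat 15233, 21), (.negSucc 25939, 23),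
  (.ofNat 11700, 24), (.ofNat 13864, 25), (.negSucc 15403, 26), (.negSucc 30912, 30), (.negSucc 19108, 33), (.negSucc
  1200, 34), (.negSucc 337, 37), (.ofNat 2758, 41), (.negSucc 33397, 43), (.ofNat 21225, 45), (.negSucc 2055, 47),
  (.negSucc 36465, 49), (.ofNat 1929, 50), (.negSucc 30227, 51), (.negSucc 1691, 53), (.negSucc 14169, 55), (.negSucc
  92, 57), (.ofNat 10690, 59), (.ofNat 10204, 60), (.negSucc 22396, 63), (.negSucc 23680, 66), (.negSucc 355, 68),
  (.negSucc 9661, 71), (.ofNat 24864, 72), (.negSucc 536, 74), (.ofNat 14651, 78), (.ofNat 10120, 80), (.negSucc 534,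
  81), (.negSucc 17201, 83), (.ofNat 17950, 86), (.ofNat 8073, 87), (.negSucc 12238, 88), (.ofNat 18714, 90),
  (.negSucc 3225, 101), (.negSucc 4853, 108), (.ofNat 28089, 111), (.negSucc 1776, 112), (.ofNat 21211, 113),
  (.negSucc 18522, 116), (.ofNat 211, 120), (.negSucc 10123, 125), (.negSucc 3203, 126), (.ofNat 498, 128), (.negSucc
  4819, 129), (.ofNat 53745, 130), (.negSucc 7960, 131), (.negSucc 30325, 133), (.ofNat 17924, 135), (.ofNat 675,
  139), (.negSucc 6485, 140), (.ofNat 13046, 143), (.negSucc 550, 144), (.negSucc 6071, 149), (.ofNat 3595, 150),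
  (.ofNat 9373, 154), (.negSucc 28019, 163), (.ofNat 591, 166), (.negSucc 33674, 167), (.negSucc 19397, 168),
  (.negSucc 30707, 169), (.negSucc 13123, 171), (.ofNat 20587, 174)])])

/-- a candidate -/
def c99 : ℕ × ℕ × List Step :=
  (6593951620399104000000, 65, [(0, 0, .ofNat 6561, 0, [(.ofNat 1290, 1), (.negSucc 1302, 4), (.negSucc 408, 8),
  (.ofNat 19, 9), (.negSucc 481, 12), (.ofNat 732, 13), (.ofNat 682, 14), (.ofNat 24, 15), (.ofNat 1272, 16),
  (.negSucc 209, 17), (.ofNat 1, 18), (.ofNat 928, 19), (.ofNat 815, 21), (.negSucc 1114, 23), (.ofNat 554, 24),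
  (.ofNat 611, 25), (.negSucc 635, 26), (.negSucc 587, 30), (.negSucc 333, 33), (.negSucc 54, 34), (.negSucc 43, 36),
  (.negSucc 51, 37), (.negSucc 346, 41), (.negSucc 1197, 43), (.ofNat 774, 45), (.negSucc 402, 47), (.negSucc 103,
  48), (.negSucc 1195, 49), (.negSucc 807, 51), (.negSucc 758, 55), (.ofNat 113, 59), (.ofNat 652, 60), (.negSucc
  243, 63), (.ofNat 47, 64), (.negSucc 2, 65), (.negSucc 1897, 66), (.negSucc 19, 68), (.negSucc 749, 71), (.ofNat
  834, 72), (.ofNat 20, 74), (.ofNat 306, 78), (.negSucc 33, 81), (.negSucc 885, 83), (.ofNat 332, 84), (.ofNat 157,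
  86), (.ofNat 234, 87), (.negSucc 715, 88), (.ofNat 982, 90), (.negSucc 28, 91), (.negSucc 46, 101), (.ofNat 629,
  102), (.ofNat 78, 106), (.ofNat 1008, 111), (.ofNat 982, 113), (.negSucc 848, 116), (.ofNat 373, 118), (.negSucc
  62, 121), (.negSucc 549, 125), (.negSucc 41, 126), (.negSucc 152, 129), (.ofNat 2136, 130), (.negSucc 734, 131),
  (.negSucc 1231, 133), (.ofNat 298, 135), (.ofNat 440, 143), (.ofNat 108, 152), (.ofNat 636, 154), (.negSucc 238,
  158), (.negSucc 1415, 163), (.ofNat 334, 166), (.negSucc 1080, 167), (.negSucc 632, 168), (.negSucc 1335, 169),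
  (.negSucc 758, 171), (.ofNat 179, 173), (.ofNat 692, 174)])])

/-- candidates -/
def CL9 : List (ℕ × ℕ × List Step) :=
  [c90, c91, c92, c93, c94, c95, c96, c97, c98, c99]

theorem okC9 : okL TAB.B.Fin.datF R 2 P Z CL9 = true := by decide +kernel

/-- a candidate -/
def c100 : ℕ × ℕ × List Step :=
  (6990222751432704000000, 35, [(0, 0, .ofNat 59049, 0, [(.ofNat 4724, 1), (.negSucc 2361, 2), (.ofNat 2362, 3),
  (.negSucc 9447, 4), (.ofNat 4724, 8), (.negSucc 14171, 12), (.ofNat 4724, 13), (.ofNat 14172, 16), (.negSucc 9447,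
  17), (.ofNat 4724, 19), (.ofNat 9448, 21), (.negSucc 2361, 23), (.ofNat 2362, 24), (.ofNat 9448, 25), (.negSucc
  4723, 26), (.negSucc 9447, 30), (.negSucc 2361, 34), (.ofNat 7086, 41), (.negSucc 14171, 43), (.ofNat 4724, 45),
  (.ofNat 2362, 47), (.negSucc 14171, 49), (.negSucc 9447, 51), (.ofNat 14172, 53), (.ofNat 9448, 59), (.negSucc
  9447, 63), (.ofNat 2362, 64), (.negSucc 4723, 66), (.ofNat 11810, 72), (.ofNat 2362, 76), (.ofNat 4724, 78),
  (.negSucc 4723, 80), (.negSucc 4723, 83), (.negSucc 9447, 84), (.ofNat 9448, 86), (.ofNat 4724, 87), (.negSucc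
  9447, 88), (.ofNat 4724, 90), (.negSucc 4723, 98), (.negSucc 2361, 100), (.negSucc 2361, 101), (.ofNat 4724, 106),
  (.negSucc 4723, 108), (.ofNat 14172, 111), (.ofNat 2362, 112), (.ofNat 4724, 113), (.negSucc 9447, 116), (.negSucc
  2361, 125), (.ofNat 23620, 130), (.negSucc 14171, 133), (.negSucc 11809, 140), (.ofNat 4724, 143), (.negSucc 4723,
  144), (.ofNat 9448, 150), (.negSucc 2361, 151), (.negSucc 9447, 156), (.ofNat 4724, 158), (.ofNat 2362, 159),
  (.negSucc 4723, 162), (.negSucc 4723, 163), (.negSucc 11809, 167), (.negSucc 4723, 168), (.negSucc 9447, 169),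
  (.negSucc 4723, 171), (.ofNat 4724, 174)])])

/-- a candidate -/
def c101 : ℕ × ℕ × List Step :=
  (9130086859014144000000, 5, [(0, 0, .ofNat 59049, 0, [(.negSucc 1397, 2), (.ofNat 12640, 3), (.negSucc 12104, 4),
  (.ofNat 2291, 19), (.ofNat 8583, 21), (.negSucc 15561, 23), (.ofNat 1721, 24), (.negSucc 2941, 26), (.ofNat 4154,
  27), (.negSucc 4079, 30), (.negSucc 6329, 31), (.negSucc 12283, 33), (.ofNat 1106, 34), (.negSucc 11377, 38),
  (.ofNat 5861, 49), (.negSucc 9729, 51), (.negSucc 481, 52), (.negSucc 949, 58), (.ofNat 6024, 60), (.ofNat 1323,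
  62), (.negSucc 6255, 63), (.negSucc 7245, 66), (.ofNat 3612, 78), (.negSucc 8753, 83), (.ofNat 3175, 87), (.ofNat
  293, 89), (.ofNat 2709, 103), (.negSucc 1022, 107), (.negSucc 464, 109), (.ofNat 396, 111), (.ofNat 7015, 113),
  (.ofNat 5710, 118), (.negSucc 986, 120), (.ofNat 1111, 124), (.negSucc 1831, 129), (.ofNat 6383, 130), (.negSucc
  6381, 133), (.ofNat 710, 134), (.ofNat 7078, 135), (.negSucc 4998, 144), (.ofNat 1419, 147), (.negSucc 4675, 149),
  (.ofNat 462, 150), (.ofNat 94, 166), (.negSucc 6716, 168), (.negSucc 10746, 169), (.negSucc 443, 170)])])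

/-- a candidate -/
def c102 : ℕ × ℕ × List Step :=
  (9130086859014144000000, 25, [(0, 0, .ofNat 177147, 0, [(.ofNat 26640, 1), (.negSucc 17294, 2), (.negSucc 30130,
  4), (.ofNat 3465, 9), (.negSucc 578, 10), (.negSucc 22144, 12), (.ofNat 23644, 13), (.ofNat 14956, 14), (.ofNat
  149, 15), (.ofNat 36969, 16), (.negSucc 21896, 17), (.ofNat 19936, 19), (.ofNat 15233, 21), (.negSucc 25939, 23),
  (.ofNat 11700, 24), (.ofNat 13864, 25), (.negSucc 15403, 26), (.negSucc 30912, 30), (.negSucc 19108, 33), (.negSucc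
  1200, 34), (.negSucc 337, 37), (.ofNat 2758, 41), (.negSucc 33397, 43), (.ofNat 21225, 45), (.negSucc 2055, 47),
  (.negSucc 36465, 49), (.ofNat 1929, 50), (.negSucc 30227, 51), (.negSucc 1691, 53), (.negSucc 14169, 55), (.negSucc
  92, 57), (.ofNat 10690, 59), (.ofNat 10204, 60), (.negSucc 22396, 63), (.negSucc 23680, 66), (.negSucc 355, 68),
  (.negSucc 9661, 71), (.ofNat 24864, 72), (.negSucc 536, 74), (.ofNat 14651, 78), (.ofNat 10120, 80), (.negSucc 534,
  81), (.negSucc 17201, 83), (.ofNat 17950, 86), (.ofNat 8073, 87), (.negSucc 12238, 88), (.ofNat 18714, 90),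
  (.negSucc 3225, 101), (.negSucc 4853, 108), (.ofNat 28089, 111), (.negSucc 1776, 112), (.ofNat 21211, 113),
  (.negSucc 18522, 116), (.ofNat 211, 120), (.negSucc 10123, 125), (.negSucc 3203, 126), (.ofNat 498, 128), (.negSucc
  4819, 129), (.ofNat 53745, 130), (.negSucc 7960, 131), (.negSucc 30325, 133), (.ofNat 17924, 135), (.ofNat 675,
  139), (.negSucc 6485, 140), (.ofNat 13046, 143), (.negSucc 550, 144), (.negSucc 6071, 149), (.ofNat 3595, 150),
  (.ofNat 9373, 154), (.negSucc 28019, 163), (.ofNat 591, 166), (.negSucc 33674, 167), (.negSucc 19397, 168),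
  (.negSucc 30707, 169), (.negSucc 13123, 171), (.ofNat 20587, 174)])])

/-- a candidate -/
def c103 : ℕ × ℕ × List Step :=
  (54780521154084864000000, 5, [(0, 0, .ofNat 6561, 0, [(.ofNat 966, 1), (.negSucc 71, 2), (.negSucc 1038, 4),
  (.negSucc 812, 7), (.negSucc 60, 10), (.negSucc 426, 12), (.ofNat 717, 13), (.ofNat 781, 14), (.ofNat 1147, 16),
  (.negSucc 769, 17), (.ofNat 678, 19), (.ofNat 698, 21), (.negSucc 1059, 23), (.ofNat 638, 24), (.negSucc 615, 26),
  (.negSucc 942, 30), (.negSucc 430, 33), (.negSucc 4, 35), (.ofNat 32, 38), (.negSucc 19, 39), (.negSucc 47, 40),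
  (.negSucc 994, 43), (.ofNat 763, 45), (.negSucc 33, 48), (.negSucc 1058, 49), (.ofNat 25, 50), (.negSucc 771, 51),
  (.ofNat 28, 56), (.ofNat 162, 59), (.ofNat 727, 60), (.negSucc 854, 63), (.negSucc 22, 65), (.negSucc 859, 66),
  (.negSucc 667, 71), (.ofNat 402, 72), (.ofNat 10, 73), (.ofNat 479, 78), (.ofNat 544, 80), (.negSucc 774, 83),
  (.ofNat 706, 86), (.ofNat 366, 87), (.negSucc 463, 88), (.ofNat 720, 90), (.negSucc 99, 91), (.negSucc 124, 94),
  (.negSucc 21, 95), (.ofNat 333, 106), (.negSucc 40, 108), (.ofNat 810, 111), (.ofNat 10, 112), (.ofNat 787, 113),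
  (.negSucc 909, 116), (.ofNat 371, 118), (.negSucc 621, 125), (.negSucc 71, 126), (.negSucc 97, 129), (.ofNat 1940,
  130), (.negSucc 492, 131), (.negSucc 1131, 133), (.ofNat 326, 135), (.negSucc 87, 137), (.ofNat 7, 139), (.negSucc
  345, 140), (.ofNat 479, 143), (.negSucc 298, 144), (.negSucc 65, 149), (.ofNat 442, 150), (.negSucc 240, 158),
  (.negSucc 9, 159), (.negSucc 533, 163), (.ofNat 361, 166), (.negSucc 1108, 167), (.negSucc 656, 168), (.negSucc
  1199, 169), (.negSucc 695, 171), (.ofNat 563, 174)])])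

/-- a candidate -/
def c104 : ℕ × ℕ × List Step :=
  (54780521154084864000000, 10, [(0, 0, .ofNat 6561, 0, [(.ofNat 966, 1), (.negSucc 71, 2), (.negSucc 1038, 4),
  (.negSucc 812, 7), (.negSucc 60, 10), (.negSucc 426, 12), (.ofNat 717, 13), (.ofNat 781, 14), (.ofNat 1147, 16),
  (.negSucc 769, 17), (.ofNat 678, 19), (.ofNat 698, 21), (.negSucc 1059, 23), (.ofNat 638, 24), (.negSucc 615, 26),
  (.negSucc 942, 30), (.negSucc 430, 33), (.negSucc 4, 35), (.ofNat 32, 38), (.negSucc 19, 39), (.negSucc 47, 40),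
  (.negSucc 994, 43), (.ofNat 763, 45), (.negSucc 33, 48), (.negSucc 1058, 49), (.ofNat 25, 50), (.negSucc 771, 51),
  (.ofNat 28, 56), (.ofNat 162, 59), (.ofNat 727, 60), (.negSucc 854, 63), (.negSucc 22, 65), (.negSucc 859, 66),
  (.negSucc 667, 71), (.ofNat 402, 72), (.ofNat 10, 73), (.ofNat 479, 78), (.ofNat 544, 80), (.negSucc 774, 83),
  (.ofNat 706, 86), (.ofNat 366, 87), (.negSucc 463, 88), (.ofNat 720, 90), (.negSucc 99, 91), (.negSucc 124, 94),
  (.negSucc 21, 95), (.ofNat 333, 106), (.negSucc 40, 108), (.ofNat 810, 111), (.ofNat 10, 112), (.ofNat 787, 113),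
  (.negSucc 909, 116), (.ofNat 371, 118), (.negSucc 621, 125), (.negSucc 71, 126), (.negSucc 97, 129), (.ofNat 1940,
  130), (.negSucc 492, 131), (.negSucc 1131, 133), (.ofNat 326, 135), (.negSucc 87, 137), (.ofNat 7, 139), (.negSucc
  345, 140), (.ofNat 479, 143), (.negSucc 298, 144), (.negSucc 65, 149), (.ofNat 442, 150), (.negSucc 240, 158),
  (.negSucc 9, 159), (.negSucc 533, 163), (.ofNat 361, 166), (.negSucc 1108, 167), (.negSucc 656, 168), (.negSucc
  1199, 169), (.negSucc 695, 171), (.ofNat 563, 174)])])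

/-- a candidate -/
def c105 : ℕ × ℕ × List Step :=
  (54780521154084864000000, 15, [(0, 0, .ofNat 6561, 0, [(.ofNat 966, 1), (.negSucc 71, 2), (.negSucc 1038, 4),
  (.negSucc 812, 7), (.negSucc 60, 10), (.negSucc 426, 12), (.ofNat 717, 13), (.ofNat 781, 14), (.ofNat 1147, 16),
  (.negSucc 769, 17), (.ofNat 678, 19), (.ofNat 698, 21), (.negSucc 1059, 23), (.ofNat 638, 24), (.negSucc 615, 26),
  (.negSucc 942, 30), (.negSucc 430, 33), (.negSucc 4, 35), (.ofNat 32, 38), (.negSucc 19, 39), (.negSucc 47, 40),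
  (.negSucc 994, 43), (.ofNat 763, 45), (.negSucc 33, 48), (.negSucc 1058, 49), (.ofNat 25, 50), (.negSucc 771, 51),
  (.ofNat 28, 56), (.ofNat 162, 59), (.ofNat 727, 60), (.negSucc 854, 63), (.negSucc 22, 65), (.negSucc 859, 66),
  (.negSucc 667, 71), (.ofNat 402, 72), (.ofNat 10, 73), (.ofNat 479, 78), (.ofNat 544, 80), (.negSucc 774, 83),
  (.ofNat 706, 86), (.ofNat 366, 87), (.negSucc 463, 88), (.ofNat 720, 90), (.negSucc 99, 91), (.negSucc 124, 94),
  (.negSucc 21, 95), (.ofNat 333, 106), (.negSucc 40, 108), (.ofNat 810, 111), (.ofNat 10, 112), (.ofNat 787, 113),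
  (.negSucc 909, 116), (.ofNat 371, 118), (.negSucc 621, 125), (.negSucc 71, 126), (.negSucc 97, 129), (.ofNat 1940,
  130), (.negSucc 492, 131), (.negSucc 1131, 133), (.ofNat 326, 135), (.negSucc 87, 137), (.ofNat 7, 139), (.negSucc
  345, 140), (.ofNat 479, 143), (.negSucc 298, 144), (.negSucc 65, 149), (.ofNat 442, 150), (.negSucc 240, 158),
  (.negSucc 9, 159), (.negSucc 533, 163), (.ofNat 361, 166), (.negSucc 1108, 167), (.negSucc 656, 168), (.negSucc
  1199, 169), (.negSucc 695, 171), (.ofNat 563, 174)])])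

/-- a candidate -/
def c106 : ℕ × ℕ × List Step :=
  (54780521154084864000000, 30, [(0, 0, .ofNat 59049, 0, [(.ofNat 8839, 1), (.negSucc 5878, 2), (.negSucc 9955, 4),
  (.ofNat 1161, 9), (.negSucc 178, 10), (.negSucc 7578, 12), (.ofNat 7834, 13), (.ofNat 4920, 14), (.ofNat 31, 15),
  (.ofNat 12406, 16), (.negSucc 7382, 17), (.ofNat 6560, 19), (.ofNat 4985, 21), (.negSucc 8594, 23), (.ofNat 3928,
  24), (.ofNat 4680, 25), (.negSucc 5148, 26), (.negSucc 10377, 30), (.negSucc 6552, 33), (.negSucc 388, 34),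
  (.negSucc 103, 37), (.ofNat 943, 41), (.negSucc 11125, 43), (.ofNat 6980, 45), (.negSucc 628, 47), (.negSucc 12194,
  49), (.ofNat 668, 50), (.negSucc 10165, 51), (.negSucc 507, 53), (.negSucc 4620, 55), (.negSucc 10, 57), (.ofNat
  3673, 59), (.ofNat 3418, 60), (.negSucc 7423, 63), (.ofNat 44, 64), (.negSucc 7771, 66), (.negSucc 114, 68),
  (.negSucc 3103, 71), (.ofNat 8275, 72), (.negSucc 179, 74), (.ofNat 4995, 78), (.ofNat 3373, 80), (.negSucc 92,
  81), (.negSucc 5664, 83), (.ofNat 5958, 86), (.ofNat 2695, 87), (.negSucc 4029, 88), (.ofNat 6166, 90), (.negSucc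
  1080, 101), (.negSucc 1596, 108), (.ofNat 9464, 111), (.negSucc 715, 112), (.ofNat 7042, 113), (.negSucc 6201,
  116), (.ofNat 76, 120), (.negSucc 3422, 125), (.negSucc 1062, 126), (.ofNat 162, 128), (.negSucc 1477, 129),
  (.ofNat 17949, 130), (.negSucc 2643, 131), (.negSucc 10100, 133), (.ofNat 6041, 135), (.ofNat 447, 139), (.negSucc
  2061, 140), (.ofNat 4348, 143), (.negSucc 2083, 149), (.ofNat 1206, 150), (.ofNat 3146, 154), (.negSucc 9260, 163),
  (.ofNat 171, 166), (.negSucc 11277, 167), (.negSucc 6386, 168), (.negSucc 10190, 169), (.negSucc 4387, 171),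
  (.ofNat 6820, 174)])])

/-- a candidate -/
def c107 : ℕ × ℕ × List Step :=
  (100430955449155584000000, 55, [(0, 0, .ofNat 6561, 0, [(.ofNat 978, 1), (.negSucc 1117, 2), (.negSucc 1362, 4),
  (.negSucc 170, 6), (.ofNat 34, 9), (.negSucc 995, 12), (.ofNat 864, 13), (.ofNat 713, 14), (.ofNat 32, 15), (.ofNat
  323, 16), (.negSucc 958, 17), (.ofNat 750, 19), (.ofNat 769, 21), (.negSucc 1126, 23), (.ofNat 305, 24), (.ofNat
  565, 25), (.negSucc 472, 26), (.negSucc 1382, 30), (.negSucc 1334, 33), (.negSucc 13, 40), (.ofNat 43, 41),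
  (.negSucc 317, 43), (.ofNat 946, 45), (.negSucc 115, 47), (.negSucc 34, 48), (.negSucc 662, 49), (.ofNat 210, 50),
  (.negSucc 1166, 51), (.negSucc 443, 53), (.negSucc 592, 55), (.negSucc 36, 58), (.negSucc 203, 59), (.ofNat 331,
  60), (.negSucc 961, 63), (.negSucc 589, 66), (.negSucc 506, 71), (.ofNat 8, 76), (.negSucc 4, 77), (.ofNat 460,
  78), (.ofNat 1549, 80), (.negSucc 33, 82), (.negSucc 446, 83), (.negSucc 752, 85), (.ofNat 936, 86), (.ofNat 537,
  87), (.ofNat 728, 90), (.negSucc 14, 100), (.negSucc 150, 101), (.ofNat 587, 108), (.negSucc 143, 112), (.ofNat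
  831, 113), (.negSucc 825, 116), (.negSucc 67, 121), (.negSucc 333, 125), (.negSucc 334, 126), (.negSucc 56, 129),
  (.ofNat 2371, 130), (.negSucc 93, 131), (.ofNat 13, 132), (.negSucc 1129, 133), (.ofNat 1021, 135), (.negSucc 30,
  140), (.ofNat 294, 143), (.negSucc 182, 144), (.negSucc 464, 149), (.ofNat 115, 152), (.ofNat 641, 154), (.negSucc
  39, 159), (.negSucc 1214, 163), (.ofNat 197, 166), (.negSucc 1252, 167), (.negSucc 664, 168), (.negSucc 1416, 169),
  (.ofNat 139, 170), (.negSucc 563, 171), (.ofNat 794, 174)])])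

/-- a candidate -/
def c108 : ℕ × ℕ × List Step :=
  (447374256091693056000000, 49, [(0, 0, .ofNat 729, 0, [(.ofNat 218, 1), (.negSucc 56, 2), (.negSucc 34, 4), (.ofNat
  11, 8), (.ofNat 10, 9), (.negSucc 23, 10), (.negSucc 23, 11), (.negSucc 217, 12), (.ofNat 21, 13), (.negSucc 96,
  17), (.ofNat 13, 19), (.ofNat 3, 22), (.negSucc 80, 23), (.ofNat 16, 24), (.negSucc 63, 26), (.ofNat 26, 28),
  (.negSucc 2, 29), (.negSucc 4, 30), (.ofNat 36, 32), (.negSucc 132, 33), (.negSucc 100, 34), (.ofNat 25, 38),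
  (.ofNat 23, 39), (.ofNat 30, 42), (.negSucc 114, 43), (.ofNat 64, 45), (.ofNat 54, 46), (.negSucc 71, 49),
  (.negSucc 54, 51), (.ofNat 10, 58), (.ofNat 40, 59), (.ofNat 5, 60), (.negSucc 32, 61), (.negSucc 88, 63), (.ofNat
  12, 64), (.negSucc 82, 65), (.negSucc 57, 66), (.negSucc 1, 67), (.negSucc 26, 71), (.ofNat 53, 72), (.ofNat 8,
  76), (.ofNat 8, 78), (.ofNat 37, 80), (.negSucc 22, 81), (.negSucc 59, 83), (.ofNat 69, 86), (.negSucc 56, 88),
  (.ofNat 76, 90), (.ofNat 4, 92), (.negSucc 119, 94), (.ofNat 27, 100), (.negSucc 9, 110), (.ofNat 89, 111), (.ofNat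
  74, 113), (.negSucc 59, 116), (.negSucc 55, 125), (.negSucc 36, 126), (.ofNat 122, 130), (.ofNat 11, 134), (.ofNat
  119, 135), (.negSucc 30, 140), (.ofNat 28, 141), (.negSucc 26, 144), (.negSucc 16, 157), (.negSucc 56, 163),
  (.ofNat 23, 166), (.negSucc 117, 167), (.negSucc 100, 171), (.ofNat 42, 174)])])

/-- candidates -/
def CL10 : List (ℕ × ℕ × List Step) :=
  [c100, c101, c102, c103, c104, c105, c106, c107, c108]

theorem okC10 : okL TAB.B.Fin.datF R 2 P Z CL10 = true := by decide +kernel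

end Cfsg.Agent.TH.Spor.NB
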