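import Cfsg.Agent.TH.Spor.NCo1D

/-!
# S3541, sporadic rows: Co1, certificates (helper26; generated by notes/TH/spor26/gen.py.txt)
-/

set_option autoImplicit false
set_option Elab.async false

namespace Cfsg.Agent.TH.Spor.NCo1

open Cfsg Cfsg.Agent.TAB.Eng Cfsg.Agent.H940.Eng

/-- a candidate -/
def c0 : ℕ × ℕ × List Step :=
  (2097152, 2, [(0, 0, .ofNat 0, 0, [(.negSucc 0, 15), (.negSucc 1, 63), (.negSucc 2, 65), (.negSucc 1, 86),
  (.negSucc 1, 87), (.negSucc 2, 89), (.negSucc 8, 95), (.negSucc 2, 96)])])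

/-- a candidate -/
def c1 : ℕ × ℕ × List Step :=
  (4100625, 5, [(0, 0, .ofNat 0, 0, [(.negSucc 0, 79)])])

/-- a candidate -/
def c2 : ℕ × ℕ × List Step :=
  (4860000, 25, [(0, 0, .ofNat 0, 0, [(.negSucc 2, 66), (.negSucc 2, 88), (.negSucc 1, 94)])])

/-- a candidate -/
def c3 : ℕ × ℕ × List Step :=
  (6291456, 2, [(0, 0, .ofNat 0, 0, [(.ofNat 20, 34), (.negSucc 50, 43), (.negSucc 75, 56), (.negSucc 9, 61),
  (.negSucc 30, 63), (.negSucc 2, 72), (.negSucc 23, 84), (.negSucc 56, 86), (.negSucc 45, 88), (.negSucc 9, 90),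
  (.negSucc 13, 91), (.negSucc 29, 92), (.negSucc 35, 94), (.negSucc 56, 95), (.negSucc 80, 96)])])

/-- a candidate -/
def c4 : ℕ × ℕ × List Step :=
  (6291456, 4, [(0, 0, .ofNat 0, 0, [(.negSucc 0, 61), (.negSucc 0, 66), (.negSucc 0, 88), (.negSucc 0, 94)])])

/-- a candidate -/
def c5 : ℕ × ℕ × List Step :=
  (6291456, 8, [(0, 0, .ofNat 0, 0, [(.negSucc 0, 61), (.negSucc 0, 66), (.negSucc 0, 88), (.negSucc 0, 94)])])

/-- a candidate -/
def c6 : ℕ × ℕ × List Step :=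
  (10077696, 9, [(0, 0, .negSucc 18, 0, [(.negSucc 14, 9), (.negSucc 56, 24), (.negSucc 39, 44), (.negSucc 0, 46),
  (.negSucc 15, 47), (.negSucc 27, 53), (.negSucc 13, 54), (.negSucc 18, 56), (.negSucc 96, 57), (.negSucc 18, 61),
  (.negSucc 35, 62), (.negSucc 97, 64), (.negSucc 99, 68), (.negSucc 19, 71), (.negSucc 15, 81), (.negSucc 34, 84),
  (.negSucc 110, 86), (.negSucc 11, 90), (.negSucc 57, 92), (.negSucc 81, 93), (.negSucc 18, 94), (.negSucc 34, 95),
  (.negSucc 242, 96)])])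

/-- a candidate -/
def c7 : ℕ × ℕ × List Step :=
  (10935000, 5, [(0, 0, .ofNat 0, 0, [(.negSucc 0, 32), (.negSucc 0, 44), (.negSucc 0, 51), (.negSucc 0, 60),
  (.negSucc 1, 62), (.negSucc 3, 66), (.negSucc 0, 70), (.negSucc 0, 75), (.negSucc 0, 81), (.negSucc 0, 90),
  (.negSucc 1, 92), (.negSucc 26, 94)])])

/-- a candidate -/
def c8 : ℕ × ℕ × List Step :=
  (12960000, 5, [(0, 0, .ofNat 0, 0, [(.negSucc 2, 66), (.negSucc 2, 88), (.negSucc 1, 94)])])

/-- a candidate -/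
def c9 : ℕ × ℕ × List Step :=
  (15360000, 5, [(0, 0, .ofNat 0, 0, [(.negSucc 2, 66), (.negSucc 2, 88), (.negSucc 1, 94)])])

/-- a candidate -/
def c10 : ℕ × ℕ × List Step :=
  (15360000, 25, [(0, 0, .ofNat 0, 0, [(.negSucc 2, 66), (.negSucc 2, 88), (.negSucc 1, 94)])])

/-- a candidate -/
def c11 : ℕ × ℕ × List Step :=
  (18874368, 2, [(0, 0, .ofNat 0, 0, [(.ofNat 180, 34), (.negSucc 458, 43), (.negSucc 682, 56), (.negSucc 87, 61),
  (.negSucc 279, 63), (.negSucc 24, 72), (.negSucc 213, 84), (.negSucc 514, 86), (.negSucc 409, 88), (.negSucc 90,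
  90), (.negSucc 124, 91), (.negSucc 270, 92), (.negSucc 321, 94), (.negSucc 511, 95), (.negSucc 728, 96)])])

/-- a candidate -/
def c12 : ℕ × ℕ × List Step :=
  (24603750, 5, [(0, 0, .ofNat 0, 0, [(.negSucc 0, 79)])])

/-- a candidate -/
def c13 : ℕ × ℕ × List Step :=
  (24603750, 15, [(0, 0, .ofNat 0, 0, [(.negSucc 15, 19), (.ofNat 13, 25), (.negSucc 9, 34), (.ofNat 3, 35),
  (.negSucc 5, 41), (.negSucc 0, 43), (.ofNat 25, 46), (.ofNat 27, 47), (.negSucc 4, 52), (.negSucc 5, 54), (.negSucc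
  26, 58), (.negSucc 0, 60), (.negSucc 2, 68), (.negSucc 10, 70), (.negSucc 18, 72), (.negSucc 17, 79), (.negSucc 1,
  80), (.negSucc 24, 86), (.negSucc 10, 92), (.negSucc 2, 94)])])

/-- a candidate -/
def c14 : ℕ × ℕ × List Step :=
  (24603750, 45, [(0, 0, .negSucc 1, 0, [(.negSucc 8, 10), (.negSucc 6, 34), (.negSucc 7, 40), (.negSucc 0, 51),
  (.negSucc 10, 52), (.negSucc 9, 54), (.negSucc 4, 58), (.negSucc 19, 70), (.negSucc 18, 72), (.negSucc 5, 79),
  (.negSucc 16, 86), (.negSucc 4, 89), (.negSucc 26, 90), (.negSucc 17, 91), (.negSucc 4, 92), (.negSucc 22, 94),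
  (.negSucc 5, 95)])])

/-- a candidate -/
def c15 : ℕ × ℕ × List Step :=
  (29160000, 5, [(0, 0, .ofNat 0, 0, [(.negSucc 2, 66), (.negSucc 2, 88), (.negSucc 1, 94)])])

/-- a candidate -/
def c16 : ℕ × ℕ × List Step :=
  (34560000, 5, [(0, 0, .ofNat 0, 0, [(.negSucc 2, 66), (.negSucc 2, 88), (.negSucc 1, 94)])])

/-- a candidate -/
def c17 : ℕ × ℕ × List Step :=
  (36578304, 7, [(0, 0, .ofNat 0, 0, [(.negSucc 9, 58), (.negSucc 138, 62), (.negSucc 327, 65), (.negSucc 138, 66),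
  (.negSucc 81, 80), (.negSucc 138, 81), (.negSucc 175, 82), (.negSucc 637, 86), (.negSucc 700, 90), (.negSucc 728,
  92), (.negSucc 551, 93), (.negSucc 319, 94), (.negSucc 614, 96)])])

/-- a candidate -/
def c18 : ℕ × ℕ × List Step :=
  (40310784, 3, [(0, 0, .ofNat 0, 0, [(.negSucc 218, 9), (.negSucc 44, 24), (.negSucc 136, 46), (.negSucc 83, 54),
  (.negSucc 185, 56), (.negSucc 89, 57), (.negSucc 229, 68), (.negSucc 136, 70), (.negSucc 317, 71), (.negSucc 86,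
  72), (.negSucc 34, 74), (.negSucc 16, 75), (.negSucc 212, 84), (.negSucc 424, 86), (.negSucc 357, 90), (.negSucc
  15, 92), (.negSucc 152, 93), (.negSucc 137, 94), (.negSucc 728, 96)])])

/-- a candidate -/
def c19 : ℕ × ℕ × List Step :=
  (40960000, 5, [(0, 0, .ofNat 0, 0, [(.negSucc 0, 94)])])

/-- a candidate -/
def c20 : ℕ × ℕ × List Step :=
  (56623104, 2, [(0, 0, .ofNat 0, 0, [(.negSucc 80, 56), (.negSucc 14, 61), (.negSucc 27, 62), (.negSucc 14, 63),
  (.negSucc 8, 64), (.negSucc 25, 72), (.negSucc 2, 84), (.negSucc 43, 86), (.negSucc 43, 87), (.negSucc 43, 88),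
  (.negSucc 43, 89), (.negSucc 18, 91), (.negSucc 68, 92), (.negSucc 27, 93), (.negSucc 28, 94), (.negSucc 51, 95),
  (.negSucc 46, 96)])])

/-- a candidate -/
def c21 : ℕ × ℕ × List Step :=
  (56623104, 4, [(0, 0, .ofNat 0, 0, [(.negSucc 11, 36), (.negSucc 0, 43), (.negSucc 4, 44), (.negSucc 78, 56),
  (.negSucc 9, 62), (.negSucc 80, 63), (.negSucc 23, 72), (.negSucc 26, 84), (.negSucc 49, 86), (.negSucc 27, 88),
  (.negSucc 21, 91), (.negSucc 9, 93), (.negSucc 27, 94), (.negSucc 54, 95), (.negSucc 77, 96)])])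

/-- a candidate -/
def c22 : ℕ × ℕ × List Step :=
  (56623104, 8, [(0, 0, .ofNat 0, 0, [(.negSucc 120, 43), (.negSucc 140, 56), (.negSucc 27, 62), (.negSucc 68, 63),
  (.negSucc 25, 70), (.negSucc 43, 71), (.negSucc 37, 72), (.negSucc 3, 76), (.negSucc 3, 79), (.negSucc 92, 84),
  (.negSucc 41, 86), (.negSucc 242, 88), (.negSucc 27, 93), (.negSucc 242, 94), (.negSucc 135, 96)])])

/-- a candidate -/
def c23 : ℕ × ℕ × List Step :=
  (56623104, 16, [(0, 0, .ofNat 0, 0, [(.negSucc 120, 43), (.negSucc 140, 56), (.negSucc 27, 62), (.negSucc 68, 63),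
  (.negSucc 25, 70), (.negSucc 43, 71), (.negSucc 37, 72), (.negSucc 3, 76), (.negSucc 3, 79), (.negSucc 92, 84),
  (.negSucc 41, 86), (.negSucc 242, 88), (.negSucc 27, 93), (.negSucc 242, 94), (.negSucc 135, 96)])])

/-- a candidate -/
def c24 : ℕ × ℕ × List Step :=
  (65028096, 7, [(0, 0, .ofNat 0, 0, [(.negSucc 9, 58), (.negSucc 138, 62), (.negSucc 327, 65), (.negSucc 138, 66),
  (.negSucc 81, 80), (.negSucc 138, 81), (.negSucc 175, 82), (.negSucc 637, 86), (.negSucc 700, 90), (.negSucc 728,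
  92), (.negSucc 551, 93), (.negSucc 319, 94), (.negSucc 614, 96)])])

/-- a candidate -/
def c25 : ℕ × ℕ × List Step :=
  (65610000, 5, [(0, 0, .ofNat 0, 0, [(.negSucc 2, 66), (.negSucc 2, 88), (.negSucc 1, 94)])])

/-- a candidate -/
def c26 : ℕ × ℕ × List Step :=
  (65610000, 25, [(0, 0, .ofNat 0, 0, [(.negSucc 2, 66), (.negSucc 2, 88), (.negSucc 1, 94)])])

/-- a candidate -/
def c27 : ℕ × ℕ × List Step :=
  (70560000, 35, [(0, 0, .negSucc 2, 0, [(.negSucc 3, 6), (.negSucc 12, 15), (.negSucc 1, 28), (.negSucc 0, 31),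
  (.negSucc 1, 35), (.negSucc 7, 36), (.negSucc 3, 62), (.negSucc 1, 63), (.negSucc 14, 67), (.negSucc 17, 70),
  (.negSucc 11, 77), (.negSucc 0, 78), (.negSucc 8, 81), (.negSucc 6, 82), (.negSucc 8, 84), (.negSucc 1, 85),
  (.negSucc 4, 86), (.negSucc 14, 87), (.negSucc 11, 88), (.negSucc 18, 89), (.negSucc 26, 90), (.negSucc 1, 91),
  (.negSucc 15, 92), (.negSucc 3, 94), (.negSucc 13, 95), (.negSucc 16, 96)])])

/-- candidates -/
def CL0 : List (ℕ × ℕ × List Step) :=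
  [c0, c1, c2, c3, c4, c5, c6, c7, c8, c9, c10, c11, c12, c13, c14, c15, c16, c17, c18, c19, c20, c21, c22, c23, c24,
  c25, c26, c27]

theorem okC0 : okL TAB.Co1.D (TAB.Sm2.mkRows TAB.Co1.RA TAB.Co1.RB) 2 P Z CL0 = true := by decide +kernel

/-- a candidate -/
def c28 : ℕ × ℕ × List Step :=
  (77760000, 5, [(0, 0, .ofNat 0, 0, [(.negSucc 2, 66), (.negSucc 2, 88), (.negSucc 1, 94)])])

/-- a candidate -/
def c29 : ℕ × ℕ × List Step :=
  (92160000, 5, [(0, 0, .ofNat 0, 0, [(.negSucc 2, 66), (.negSucc 2, 88), (.negSucc 1, 94)])])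

/-- a candidate -/
def c30 : ℕ × ℕ × List Step :=
  (115605504, 7, [(0, 0, .ofNat 0, 0, [(.ofNat 4, 31), (.negSucc 11, 49), (.negSucc 30, 58), (.negSucc 14, 63),
  (.negSucc 18, 65), (.negSucc 222, 66), (.negSucc 31, 67), (.negSucc 11, 79), (.negSucc 97, 80), (.negSucc 18, 82),
  (.negSucc 51, 89), (.negSucc 126, 90), (.negSucc 242, 94), (.negSucc 24, 96)])])

/-- a candidate -/
def c31 : ℕ × ℕ × List Step :=
  (161243136, 3, [(0, 0, .ofNat 0, 0, [(.negSucc 218, 9), (.negSucc 44, 24), (.negSucc 136, 46), (.negSucc 83, 54),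
  (.negSucc 185, 56), (.negSucc 89, 57), (.negSucc 229, 68), (.negSucc 136, 70), (.negSucc 317, 71), (.negSucc 86,
  72), (.negSucc 34, 74), (.negSucc 16, 75), (.negSucc 212, 84), (.negSucc 424, 86), (.negSucc 357, 90), (.negSucc
  15, 92), (.negSucc 152, 93), (.negSucc 137, 94), (.negSucc 728, 96)])])

/-- a candidate -/
def c32 : ℕ × ℕ × List Step :=
  (164602368, 7, [(0, 0, .ofNat 0, 0, [(.negSucc 0, 7), (.negSucc 1, 58), (.negSucc 5, 62), (.negSucc 3, 65),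
  (.negSucc 5, 66), (.negSucc 1, 75), (.negSucc 5, 77), (.negSucc 0, 79), (.negSucc 0, 80), (.negSucc 5, 81),
  (.negSucc 2, 82), (.negSucc 21, 86), (.negSucc 26, 90), (.negSucc 21, 92), (.negSucc 15, 93), (.negSucc 23, 94),
  (.negSucc 20, 96)])])

/-- a candidate -/
def c33 : ℕ × ℕ × List Step :=
  (169869312, 2, [(0, 0, .ofNat 0, 0, [(.negSucc 20, 15), (.negSucc 728, 56), (.negSucc 155, 61), (.negSucc 272, 62),
  (.negSucc 146, 63), (.negSucc 135, 64), (.negSucc 196, 72), (.negSucc 44, 75), (.negSucc 22, 79), (.negSucc 44,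
  81), (.negSucc 31, 84), (.negSucc 445, 86), (.negSucc 407, 87), (.negSucc 449, 88), (.negSucc 428, 89), (.negSucc
  165, 91), (.negSucc 684, 92), (.negSucc 227, 93), (.negSucc 326, 94), (.negSucc 557, 95), (.negSucc 477, 96)])])

/-- a candidate -/
def c34 : ℕ × ℕ × List Step :=
  (174960000, 5, [(0, 0, .ofNat 0, 0, [(.negSucc 2, 66), (.negSucc 2, 88), (.negSucc 1, 94)])])

/-- a candidate -/
def c35 : ℕ × ℕ × List Step :=
  (207028224, 13, [(0, 0, .ofNat 0, 0, [(.negSucc 364, 24), (.ofNat 73, 40), (.negSucc 592, 46), (.negSucc 171, 56),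
  (.negSucc 27, 62), (.negSucc 11, 70), (.negSucc 16, 72), (.negSucc 592, 75), (.negSucc 1249, 86), (.negSucc 72,
  89), (.negSucc 2186, 90), (.negSucc 27, 93), (.negSucc 1249, 96)])])

/-- a candidate -/
def c36 : ℕ × ℕ × List Step :=
  (207360000, 5, [(0, 0, .ofNat 0, 0, [(.negSucc 2, 66), (.negSucc 2, 88), (.negSucc 1, 94)])])

/-- a candidate -/
def c37 : ℕ × ℕ × List Step :=
  (207360000, 25, [(0, 0, .ofNat 0, 0, [(.ofNat 2, 16), (.negSucc 34, 36), (.negSucc 57, 46), (.negSucc 111, 50),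
  (.negSucc 42, 57), (.negSucc 118, 58), (.negSucc 137, 60), (.negSucc 56, 62), (.negSucc 67, 66), (.negSucc 18, 67),
  (.negSucc 36, 75), (.negSucc 185, 81), (.negSucc 88, 82), (.negSucc 46, 84), (.negSucc 128, 85), (.negSucc 69, 86),
  (.negSucc 185, 87), (.negSucc 705, 88), (.negSucc 69, 89), (.negSucc 329, 90), (.negSucc 100, 91), (.negSucc 108,
  92), (.negSucc 114, 93), (.negSucc 728, 94), (.negSucc 159, 96)])])

/-- a candidate -/
def c38 : ℕ × ℕ × List Step :=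
  (245760000, 5, [(0, 0, .ofNat 0, 0, [(.negSucc 2, 66), (.negSucc 2, 88), (.negSucc 1, 94)])])

/-- a candidate -/
def c39 : ℕ × ℕ × List Step :=
  (292626432, 7, [(0, 0, .ofNat 0, 0, [(.negSucc 9, 58), (.negSucc 138, 62), (.negSucc 327, 65), (.negSucc 138, 66),
  (.negSucc 81, 80), (.negSucc 138, 81), (.negSucc 175, 82), (.negSucc 637, 86), (.negSucc 700, 90), (.negSucc 728,
  92), (.negSucc 551, 93), (.negSucc 319, 94), (.negSucc 614, 96)])])

/-- a candidate -/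
def c40 : ℕ × ℕ × List Step :=
  (393660000, 5, [(0, 0, .ofNat 0, 0, [(.negSucc 2, 66), (.negSucc 2, 88), (.negSucc 1, 94)])])

/-- a candidate -/
def c41 : ℕ × ℕ × List Step :=
  (393660000, 15, [(0, 0, .negSucc 772, 0, [(.negSucc 31, 5), (.negSucc 685, 6), (.negSucc 34, 10), (.negSucc 288,
  11), (.negSucc 772, 17), (.negSucc 443, 18), (.negSucc 102, 19), (.negSucc 99, 25), (.negSucc 242, 28), (.negSucc
  347, 34), (.negSucc 443, 41), (.negSucc 44, 42), (.negSucc 113, 49), (.negSucc 521, 52), (.negSucc 24, 53),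
  (.negSucc 169, 54), (.negSucc 124, 56), (.negSucc 434, 58), (.negSucc 1085, 62), (.negSucc 561, 64), (.negSucc 590,
  66), (.negSucc 605, 67), (.negSucc 649, 68), (.negSucc 1861, 70), (.negSucc 1268, 72), (.negSucc 1101, 73),
  (.negSucc 26, 76), (.negSucc 538, 77), (.negSucc 144, 78), (.negSucc 55, 79), (.negSucc 706, 80), (.negSucc 1189,
  84), (.negSucc 1259, 86), (.negSucc 228, 87), (.negSucc 829, 88), (.negSucc 1497, 89), (.negSucc 2186, 90),
  (.negSucc 1168, 91), (.negSucc 1592, 92), (.negSucc 627, 93), (.negSucc 1603, 94), (.negSucc 1434, 95), (.negSucc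
  1718, 96)])])

/-- a candidate -/
def c42 : ℕ × ℕ × List Step :=
  (466560000, 5, [(0, 0, .ofNat 0, 0, [(.negSucc 34, 14), (.negSucc 68, 43), (.negSucc 13, 46), (.negSucc 126, 50),
  (.negSucc 53, 56), (.negSucc 90, 58), (.negSucc 102, 60), (.negSucc 110, 62), (.negSucc 14, 67), (.negSucc 48, 70),
  (.negSucc 43, 75), (.negSucc 21, 79), (.negSucc 204, 81), (.negSucc 84, 82), (.negSucc 75, 84), (.negSucc 119, 85),
  (.negSucc 118, 86), (.negSucc 235, 87), (.negSucc 728, 88), (.negSucc 147, 89), (.negSucc 328, 90), (.negSucc 118,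
  91), (.negSucc 205, 92), (.negSucc 145, 93), (.negSucc 719, 94), (.negSucc 194, 96)])])

/-- a candidate -/
def c43 : ℕ × ℕ × List Step :=
  (509607936, 2, [(0, 0, .ofNat 44, 0, [(.negSucc 36, 15), (.negSucc 7, 43), (.negSucc 66, 56), (.negSucc 31, 62),
  (.negSucc 28, 63), (.negSucc 49, 72), (.negSucc 13, 73), (.negSucc 43, 75), (.negSucc 32, 86), (.negSucc 44, 87),
  (.negSucc 80, 88), (.negSucc 36, 89), (.negSucc 12, 90), (.negSucc 11, 91), (.negSucc 62, 92), (.negSucc 31, 93),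
  (.negSucc 80, 94), (.negSucc 43, 95), (.negSucc 18, 96)])])

/-- a candidate -/
def c44 : ℕ × ℕ × List Step :=
  (509607936, 4, [(0, 0, .ofNat 230, 0, [(.ofNat 103, 10), (.ofNat 2, 23), (.negSucc 33, 35), (.ofNat 28, 42),
  (.negSucc 183, 56), (.negSucc 52, 62), (.negSucc 127, 63), (.negSucc 86, 72), (.negSucc 61, 75), (.negSucc 30, 79),
  (.negSucc 14, 84), (.negSucc 83, 86), (.negSucc 210, 88), (.negSucc 37, 90), (.negSucc 31, 91), (.negSucc 22, 93),
  (.negSucc 242, 94), (.negSucc 5, 95), (.negSucc 99, 96)])])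

/-- a candidate -/
def c45 : ℕ × ℕ × List Step :=
  (509607936, 8, [(0, 0, .ofNat 6561, 0, [(.ofNat 3190, 10), (.negSucc 546, 35), (.ofNat 1365, 42), (.negSucc 5661,
  56), (.negSucc 1050, 62), (.negSucc 2472, 63), (.negSucc 451, 68), (.negSucc 2368, 72), (.negSucc 1459, 75),
  (.negSucc 729, 79), (.negSucc 545, 84), (.negSucc 2276, 86), (.negSucc 4861, 88), (.negSucc 685, 90), (.negSucc
  956, 93), (.negSucc 5273, 94), (.negSucc 2821, 96)])])

/-- a candidate -/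
def c46 : ℕ × ℕ × List Step :=
  (520224768, 7, [(0, 0, .ofNat 0, 0, [(.negSucc 15, 15), (.negSucc 25, 55), (.negSucc 8, 58), (.negSucc 153, 61),
  (.negSucc 128, 62), (.negSucc 359, 67), (.negSucc 1, 69), (.negSucc 42, 75), (.negSucc 16, 79), (.negSucc 90, 80),
  (.negSucc 102, 81), (.negSucc 212, 82), (.negSucc 1, 84), (.negSucc 255, 85), (.negSucc 401, 86), (.negSucc 138,
  89), (.negSucc 728, 90), (.negSucc 134, 91), (.negSucc 391, 92), (.negSucc 223, 93), (.negSucc 482, 96)])])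

/-- a candidate -/
def c47 : ℕ × ℕ × List Step :=
  (552960000, 5, [(0, 0, .ofNat 0, 0, [(.negSucc 76, 35), (.negSucc 316, 36), (.negSucc 139, 41), (.negSucc 6, 46),
  (.negSucc 100, 50), (.negSucc 301, 51), (.negSucc 102, 58), (.negSucc 24, 60), (.negSucc 85, 62), (.negSucc 112,
  63), (.negSucc 207, 66), (.negSucc 71, 70), (.negSucc 59, 71), (.negSucc 77, 75), (.negSucc 4, 79), (.negSucc 360,
  81), (.negSucc 412, 82), (.negSucc 79, 84), (.negSucc 1, 85), (.negSucc 58, 87), (.negSucc 1976, 88), (.negSucc 20,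
  91), (.negSucc 333, 92), (.negSucc 7, 93), (.negSucc 2186, 94), (.negSucc 79, 96)])])

/-- a candidate -/
def c48 : ℕ × ℕ × List Step :=
  (644972544, 3, [(0, 0, .ofNat 337, 0, [(.negSucc 505, 9), (.negSucc 140, 24), (.negSucc 207, 33), (.ofNat 4, 36),
  (.negSucc 466, 46), (.ofNat 72, 51), (.negSucc 287, 54), (.negSucc 520, 56), (.negSucc 249, 57), (.negSucc 96, 61),
  (.negSucc 542, 68), (.negSucc 487, 70), (.negSucc 731, 71), (.negSucc 155, 72), (.negSucc 144, 74), (.negSucc 90,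
  75), (.negSucc 3, 77), (.negSucc 563, 84), (.negSucc 1372, 86), (.negSucc 1065, 90), (.negSucc 90, 93), (.negSucc
  380, 94), (.negSucc 90, 95), (.negSucc 2186, 96)])])

/-- a candidate -/
def c49 : ℕ × ℕ × List Step :=
  (644972544, 9, [(0, 0, .ofNat 0, 0, [(.negSucc 262, 9), (.ofNat 16, 16), (.negSucc 396, 24), (.negSucc 16, 29),
  (.negSucc 279, 32), (.negSucc 5, 33), (.negSucc 409, 44), (.negSucc 269, 46), (.negSucc 175, 47), (.negSucc 207,
  54), (.negSucc 342, 56), (.negSucc 674, 57), (.negSucc 309, 62), (.negSucc 1936, 64), (.negSucc 223, 68), (.negSucc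
  47, 71), (.negSucc 15, 72), (.negSucc 63, 74), (.negSucc 151, 75), (.negSucc 418, 84), (.negSucc 1372, 86),
  (.negSucc 39, 88), (.negSucc 270, 89), (.negSucc 206, 90), (.negSucc 442, 92), (.negSucc 880, 95), (.negSucc 2186,
  96)])])

/-- a candidate -/
def c50 : ℕ × ℕ × List Step :=
  (644972544, 27, [(0, 0, .ofNat 0, 0, [(.ofNat 21, 16), (.negSucc 938, 17), (.ofNat 59, 23), (.negSucc 778, 24),
  (.ofNat 77, 28), (.negSucc 519, 29), (.ofNat 94, 30), (.negSucc 251, 33), (.ofNat 64, 36), (.ofNat 263, 37),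
  (.negSucc 30, 43), (.negSucc 130, 44), (.negSucc 74, 45), (.negSucc 221, 46), (.negSucc 115, 47), (.negSucc 179,
  53), (.negSucc 220, 56), (.negSucc 620, 57), (.negSucc 1195, 64), (.negSucc 112, 66), (.negSucc 216, 68), (.negSucc
  937, 69), (.negSucc 70, 71), (.negSucc 109, 72), (.negSucc 284, 75), (.negSucc 99, 80), (.negSucc 101, 81),
  (.negSucc 338, 84), (.negSucc 1227, 86), (.negSucc 24, 88), (.negSucc 256, 92), (.negSucc 897, 93), (.negSucc 166,
  95), (.negSucc 2186, 96)])])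

/-- a candidate -/
def c51 : ℕ × ℕ × List Step :=
  (644972544, 81, [(0, 0, .ofNat 0, 0, [(.negSucc 2288, 17), (.negSucc 1833, 24), (.negSucc 2288, 29), (.negSucc 974,
  33), (.negSucc 52, 35), (.ofNat 1855, 37), (.negSucc 863, 46), (.negSucc 4, 50), (.negSucc 1955, 57), (.negSucc 52,
  62), (.negSucc 4864, 64), (.negSucc 52, 68), (.negSucc 3009, 69), (.negSucc 969, 75), (.negSucc 1949, 84),
  (.negSucc 3788, 86), (.negSucc 52, 89), (.negSucc 2341, 93), (.negSucc 6560, 96)])])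

/-- a candidate -/
def c52 : ℕ × ℕ × List Step :=
  (655360000, 5, [(0, 0, .ofNat 19, 0, [(.ofNat 12, 16), (.negSucc 4, 58), (.negSucc 4, 63), (.negSucc 27, 65),
  (.negSucc 4, 67), (.negSucc 3, 77), (.negSucc 17, 81), (.negSucc 31, 82), (.negSucc 0, 85), (.negSucc 18, 86),
  (.negSucc 62, 88), (.negSucc 32, 89), (.negSucc 34, 90), (.negSucc 4, 92), (.negSucc 242, 94), (.negSucc 68, 95),
  (.negSucc 18, 96)])])

/-- a candidate -/
def c53 : ℕ × ℕ × List Step :=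
  (655360000, 25, [(0, 0, .ofNat 0, 0, [(.negSucc 0, 88), (.negSucc 0, 94)])])

/-- a candidate -/
def c54 : ℕ × ℕ × List Step :=
  (803722500, 35, [(0, 0, .ofNat 814, 0, [(.negSucc 616, 6), (.negSucc 589, 19), (.negSucc 409, 32), (.negSucc 96,
  35), (.negSucc 1033, 41), (.negSucc 542, 44), (.negSucc 183, 49), (.negSucc 1476, 63), (.negSucc 407, 64),
  (.negSucc 865, 67), (.negSucc 1348, 69), (.negSucc 953, 75), (.negSucc 98, 76), (.negSucc 245, 80), (.negSucc 1335,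
  81), (.negSucc 1233, 84), (.negSucc 1444, 85), (.negSucc 1426, 86), (.negSucc 1399, 87), (.negSucc 2013, 89),
  (.negSucc 314, 90), (.negSucc 1735, 91), (.negSucc 2186, 92), (.negSucc 1108, 93), (.negSucc 859, 94), (.negSucc
  1391, 95), (.negSucc 380, 96)])])

/-- a candidate -/
def c55 : ℕ × ℕ × List Step :=
  (898560000, 65, [(0, 0, .ofNat 115, 0, [(.ofNat 23, 19), (.negSucc 200, 35), (.negSucc 374, 36), (.negSucc 438,
  41), (.negSucc 5, 43), (.ofNat 24, 48), (.negSucc 41, 50), (.negSucc 316, 51), (.negSucc 26, 58), (.negSucc 41,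
  60), (.negSucc 151, 62), (.negSucc 68, 63), (.negSucc 11, 64), (.negSucc 111, 67), (.negSucc 109, 73), (.negSucc
  79, 75), (.negSucc 33, 77), (.negSucc 366, 81), (.negSucc 468, 82), (.negSucc 271, 84), (.negSucc 134, 85),
  (.negSucc 1980, 88), (.negSucc 539, 92), (.negSucc 59, 93), (.negSucc 2186, 94), (.negSucc 162, 96)])])

/-- candidates -/
def CL1 : List (ℕ × ℕ × List Step) :=
  [c28, c29, c30, c31, c32, c33, c34, c35, c36, c37, c38, c39, c40, c41, c42, c43, c44, c45, c46, c47, c48, c49, c50,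
  c51, c52, c53, c54, c55]

theorem okC1 : okL TAB.Co1.D (TAB.Sm2.mkRows TAB.Co1.RA TAB.Co1.RB) 2 P Z CL1 = true := by decide +kernel

/-- a candidate -/
def c56 : ℕ × ℕ × List Step :=
  (924844032, 7, [(0, 0, .ofNat 1257, 0, [(.negSucc 366, 5), (.negSucc 322, 6), (.negSucc 1325, 14), (.negSucc 136,
  39), (.ofNat 422, 52), (.negSucc 635, 55), (.negSucc 81, 58), (.negSucc 781, 61), (.negSucc 513, 62), (.negSucc
  2174, 67), (.negSucc 766, 71), (.negSucc 1250, 80), (.negSucc 752, 82), (.negSucc 766, 84), (.negSucc 2685, 86),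
  (.negSucc 849, 89), (.negSucc 6560, 90), (.negSucc 311, 91), (.negSucc 3171, 92), (.negSucc 406, 93), (.negSucc
  3775, 96)])])

/-- a candidate -/
def c57 : ℕ × ℕ × List Step :=
  (924844032, 14, [(0, 0, .ofNat 1531, 0, [(.negSucc 1554, 15), (.ofNat 18, 19), (.negSucc 1530, 26), (.negSucc 228,
  38), (.negSucc 744, 39), (.negSucc 1427, 61), (.negSucc 2083, 63), (.negSucc 485, 67), (.negSucc 102, 69),
  (.negSucc 975, 74), (.negSucc 336, 82), (.negSucc 102, 84), (.negSucc 2083, 86), (.negSucc 623, 90), (.negSucc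
  1381, 91), (.negSucc 1203, 92), (.negSucc 1972, 95), (.negSucc 2186, 96), (.ofNat 142, 97), (.ofNat 37, 98)])])

/-- a candidate -/
def c58 : ℕ × ℕ × List Step :=
  (1048080384, 13, [(0, 0, .ofNat 2187, 0, [(.ofNat 474, 10), (.negSucc 12, 17), (.ofNat 700, 19), (.ofNat 259, 23),
  (.ofNat 193, 31), (.negSucc 132, 35), (.negSucc 62, 36), (.negSucc 427, 39), (.negSucc 76, 54), (.negSucc 67, 56),
  (.negSucc 204, 73), (.negSucc 118, 75), (.negSucc 139, 80), (.negSucc 338, 82), (.negSucc 300, 86), (.negSucc 33,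
  93), (.negSucc 95, 96), (.ofNat 43, 98)])])

/-- a candidate -/
def c59 : ℕ × ℕ × List Step :=
  (1049760000, 5, [(0, 0, .ofNat 132, 0, [(.ofNat 27, 16), (.ofNat 24, 27), (.ofNat 10, 29), (.negSucc 30, 32),
  (.negSucc 65, 35), (.ofNat 19, 37), (.negSucc 39, 43), (.ofNat 16, 48), (.ofNat 1, 52), (.negSucc 26, 56),
  (.negSucc 41, 57), (.negSucc 14, 58), (.negSucc 30, 62), (.negSucc 36, 67), (.negSucc 25, 79), (.negSucc 39, 81),
  (.negSucc 55, 82), (.negSucc 41, 84), (.negSucc 36, 86), (.negSucc 189, 88), (.negSucc 35, 89), (.negSucc 69, 90),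
  (.negSucc 34, 91), (.negSucc 62, 92), (.negSucc 3, 93), (.negSucc 242, 94), (.negSucc 13, 95), (.negSucc 90,
  96)])])

/-- a candidate -/
def c60 : ℕ × ℕ × List Step :=
  (1104150528, 13, [(0, 0, .ofNat 6561, 0, [(.ofNat 194, 8), (.ofNat 1698, 10), (.ofNat 239, 12), (.negSucc 2874,
  15), (.ofNat 70, 23), (.negSucc 608, 35), (.ofNat 876, 37), (.ofNat 348, 42), (.ofNat 751, 47), (.ofNat 117, 52),
  (.negSucc 66, 63), (.negSucc 368, 75), (.ofNat 87, 78), (.ofNat 55, 81), (.negSucc 311, 86), (.negSucc 27, 87),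
  (.negSucc 4, 88), (.negSucc 311, 96), (.ofNat 573, 98)])])

/-- a candidate -/
def c61 : ℕ × ℕ × List Step :=
  (1244160000, 5, [(0, 0, .ofNat 2187, 0, [(.ofNat 600, 9), (.ofNat 718, 16), (.ofNat 826, 27), (.ofNat 472, 29),
  (.negSucc 492, 35), (.ofNat 365, 37), (.negSucc 606, 43), (.negSucc 393, 50), (.ofNat 154, 52), (.negSucc 335, 57),
  (.negSucc 574, 66), (.negSucc 167, 67), (.negSucc 97, 70), (.negSucc 5, 73), (.negSucc 44, 74), (.negSucc 329, 79),
  (.negSucc 25, 81), (.negSucc 801, 82), (.negSucc 609, 85), (.negSucc 541, 86), (.negSucc 292, 87), (.negSucc 513,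
  88), (.negSucc 336, 89), (.negSucc 1378, 90), (.negSucc 29, 92), (.negSucc 23, 93), (.negSucc 1210, 94), (.negSucc
  870, 96)])])

/-- a candidate -/
def c62 : ℕ × ℕ × List Step :=
  (1316818944, 7, [(0, 0, .ofNat 1268, 0, [(.ofNat 414, 10), (.ofNat 47, 19), (.negSucc 58, 26), (.ofNat 382, 29),
  (.negSucc 65, 35), (.negSucc 826, 45), (.ofNat 414, 53), (.negSucc 331, 58), (.negSucc 675, 67), (.ofNat 28, 72),
  (.negSucc 657, 75), (.negSucc 137, 79), (.negSucc 787, 80), (.negSucc 385, 81), (.negSucc 519, 82), (.negSucc 1200,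
  86), (.negSucc 243, 88), (.negSucc 2186, 90), (.negSucc 534, 92), (.negSucc 34, 93), (.negSucc 381, 94), (.negSucc
  1200, 96)])])

/-- a candidate -/
def c63 : ℕ × ℕ × List Step :=
  (1474560000, 5, [(0, 0, .ofNat 6471, 0, [(.negSucc 985, 6), (.ofNat 1208, 9), (.ofNat 409, 10), (.negSucc 518, 11),
  (.ofNat 953, 16), (.ofNat 518, 19), (.ofNat 59, 27), (.ofNat 433, 29), (.negSucc 1788, 35), (.ofNat 2670, 37),
  (.negSucc 1057, 41), (.negSucc 1558, 43), (.ofNat 1469, 48), (.ofNat 297, 52), (.negSucc 2316, 56), (.negSucc 1889,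
  63), (.negSucc 577, 66), (.negSucc 1868, 72), (.negSucc 508, 79), (.negSucc 1162, 82), (.negSucc 33, 84), (.negSucc
  188, 86), (.negSucc 1267, 87), (.negSucc 4656, 88), (.negSucc 280, 91), (.negSucc 605, 92), (.negSucc 6560, 94),
  (.negSucc 1208, 96)])])

/-- a candidate -/
def c64 : ℕ × ℕ × List Step :=
  (1528823808, 2, [(0, 0, .ofNat 6561, 0, [(.ofNat 1858, 10), (.ofNat 233, 12), (.negSucc 2978, 15), (.ofNat 260,
  23), (.negSucc 596, 35), (.ofNat 179, 37), (.ofNat 391, 42), (.ofNat 762, 47), (.ofNat 145, 52), (.ofNat 417, 69),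
  (.negSucc 73, 75), (.ofNat 210, 78), (.negSucc 92, 80), (.ofNat 42, 81), (.ofNat 697, 98)])])

/-- a candidate -/
def c65 : ℕ × ℕ × List Step :=
  (2341011456, 7, [(0, 0, .ofNat 243, 0, [(.ofNat 66, 10), (.negSucc 45, 15), (.ofNat 2, 19), (.negSucc 92, 26),
  (.ofNat 14, 29), (.negSucc 34, 33), (.negSucc 27, 35), (.negSucc 27, 39), (.ofNat 3, 40), (.negSucc 72, 45),
  (.ofNat 16, 47), (.ofNat 17, 50), (.ofNat 3, 52), (.ofNat 42, 53), (.negSucc 27, 55), (.negSucc 27, 61), (.ofNat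
  63, 72), (.negSucc 41, 74), (.negSucc 27, 75), (.negSucc 10, 80), (.negSucc 22, 86), (.negSucc 22, 96), (.ofNat 19,
  98)])])

/-- a candidate -/
def c66 : ℕ × ℕ × List Step :=
  (2540160000, 35, [(0, 0, .ofNat 2187, 0, [(.negSucc 493, 5), (.negSucc 817, 6), (.ofNat 581, 10), (.ofNat 729, 13),
  (.negSucc 978, 15), (.negSucc 0, 25), (.negSucc 261, 28), (.ofNat 219, 29), (.ofNat 433, 30), (.ofNat 77, 31),
  (.negSucc 434, 33), (.negSucc 553, 34), (.negSucc 41, 35), (.negSucc 184, 38), (.negSucc 85, 41), (.negSucc 145,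
  43), (.negSucc 681, 44), (.ofNat 665, 45), (.ofNat 214, 47), (.ofNat 422, 48), (.negSucc 66, 50), (.ofNat 194, 52),
  (.negSucc 369, 55), (.ofNat 328, 56), (.negSucc 152, 57), (.negSucc 182, 58), (.negSucc 21, 60), (.negSucc 886,
  61), (.negSucc 92, 63), (.negSucc 48, 68), (.ofNat 206, 71), (.ofNat 42, 72), (.negSucc 389, 73), (.negSucc 333,
  74), (.negSucc 139, 75), (.negSucc 45, 76), (.negSucc 427, 77), (.negSucc 63, 79), (.negSucc 210, 81), (.negSucc
  212, 82), (.negSucc 188, 84), (.negSucc 92, 86), (.negSucc 104, 87), (.negSucc 566, 88), (.negSucc 35, 89),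
  (.negSucc 203, 91), (.negSucc 291, 93), (.negSucc 34, 94), (.negSucc 795, 95), (.negSucc 862, 96), (.ofNat 47,
  98)])])

/-- a candidate -/
def c67 : ℕ × ℕ × List Step :=
  (2579890176, 3, [(0, 0, .ofNat 6561, 0, [(.ofNat 285, 5), (.ofNat 1054, 10), (.ofNat 1089, 16), (.negSucc 3133,
  17), (.negSucc 920, 26), (.ofNat 785, 28), (.ofNat 1339, 31), (.negSucc 2443, 32), (.ofNat 830, 34), (.ofNat 1423,
  37), (.negSucc 1074, 44), (.negSucc 308, 48), (.ofNat 2027, 50), (.ofNat 1346, 52), (.negSucc 718, 54), (.ofNat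
  500, 55), (.negSucc 323, 66), (.negSucc 90, 68), (.negSucc 1957, 70), (.negSucc 3470, 71), (.negSucc 1338, 72),
  (.negSucc 1439, 74), (.negSucc 3944, 75), (.negSucc 499, 76), (.negSucc 423, 77), (.negSucc 1415, 79), (.negSucc
  2083, 80), (.ofNat 138, 81), (.negSucc 3389, 86), (.negSucc 577, 88), (.negSucc 3659, 90), (.negSucc 944, 96),
  (.ofNat 399, 98)])])

/-- a candidate -/
def c68 : ℕ × ℕ × List Step :=
  (2799360000, 5, [(0, 0, .ofNat 6561, 0, [(.ofNat 412, 1), (.negSucc 2279, 6), (.ofNat 1508, 16), (.ofNat 645, 27),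
  (.ofNat 535, 31), (.negSucc 1338, 32), (.negSucc 1525, 34), (.negSucc 1988, 35), (.ofNat 1944, 37), (.negSucc 65,
  39), (.negSucc 1180, 41), (.ofNat 122, 42), (.negSucc 591, 43), (.ofNat 137, 45), (.negSucc 66, 46), (.ofNat 219,
  47), (.ofNat 1325, 48), (.ofNat 697, 52), (.negSucc 41, 55), (.negSucc 92, 56), (.negSucc 73, 58), (.negSucc 151,
  68), (.negSucc 22, 72), (.negSucc 524, 79), (.ofNat 439, 80), (.negSucc 936, 82), (.negSucc 173, 89), (.negSucc 73,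
  92), (.negSucc 737, 94), (.negSucc 1648, 95), (.negSucc 1352, 96)])])

/-- a candidate -/
def c69 : ℕ × ℕ × List Step :=
  (2799360000, 25, [(0, 0, .ofNat 729, 0, [(.ofNat 145, 1), (.ofNat 6, 8), (.ofNat 36, 10), (.negSucc 126, 14),
  (.ofNat 162, 16), (.negSucc 32, 17), (.negSucc 96, 18), (.ofNat 67, 27), (.ofNat 15, 29), (.ofNat 28, 30), (.ofNat
  70, 31), (.negSucc 104, 32), (.negSucc 173, 34), (.negSucc 78, 35), (.ofNat 210, 37), (.negSucc 89, 38), (.negSucc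
  90, 41), (.ofNat 79, 45), (.ofNat 129, 47), (.ofNat 134, 48), (.negSucc 14, 50), (.negSucc 82, 56), (.negSucc 42,
  57), (.ofNat 73, 59), (.negSucc 30, 66), (.ofNat 24, 71), (.negSucc 12, 72), (.ofNat 56, 80), (.negSucc 126, 82),
  (.ofNat 25, 83), (.negSucc 33, 89), (.negSucc 105, 92), (.negSucc 232, 94), (.negSucc 77, 95), (.negSucc 82, 96),
  (.ofNat 101, 97)])])

/-- a candidate -/
def c70 : ℕ × ℕ × List Step :=
  (3317760000, 5, [(0, 0, .ofNat 2187, 0, [(.ofNat 31, 1), (.negSucc 543, 6), (.ofNat 320, 9), (.ofNat 698, 16),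
  (.ofNat 284, 19), (.ofNat 210, 26), (.ofNat 117, 27), (.ofNat 107, 31), (.negSucc 539, 35), (.ofNat 996, 37),
  (.negSucc 258, 39), (.negSucc 527, 41), (.ofNat 20, 42), (.negSucc 302, 43), (.ofNat 353, 45), (.ofNat 661, 48),
  (.negSucc 344, 53), (.negSucc 195, 56), (.ofNat 66, 62), (.ofNat 60, 71), (.negSucc 87, 72), (.negSucc 4, 78),
  (.ofNat 144, 80), (.negSucc 310, 82), (.ofNat 137, 86), (.negSucc 1, 87), (.negSucc 56, 89), (.negSucc 29, 92),
  (.ofNat 40, 93), (.negSucc 551, 94), (.negSucc 422, 96), (.negSucc 21, 98)])])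

/-- a candidate -/
def c71 : ℕ × ℕ × List Step :=
  (3932160000, 5, [(0, 0, .ofNat 6561, 0, [(.ofNat 257, 1), (.negSucc 2432, 6), (.negSucc 9, 15), (.ofNat 1076, 16),
  (.negSucc 142, 18), (.ofNat 781, 27), (.ofNat 75, 29), (.ofNat 411, 31), (.negSucc 1331, 32), (.negSucc 1366, 34),
  (.negSucc 1952, 35), (.ofNat 2058, 37), (.negSucc 207, 39), (.negSucc 1597, 41), (.ofNat 342, 42), (.negSucc 469,
  43), (.ofNat 226, 45), (.ofNat 1447, 48), (.ofNat 474, 52), (.negSucc 168, 55), (.negSucc 133, 58), (.negSucc 41,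
  68), (.negSucc 209, 79), (.ofNat 912, 80), (.negSucc 894, 82), (.negSucc 589, 94), (.negSucc 1292, 95), (.negSucc
  1357, 96)])])

/-- a candidate -/
def c72 : ℕ × ℕ × List Step :=
  (3932160000, 10, [(0, 0, .ofNat 6561, 0, [(.ofNat 297, 1), (.negSucc 2399, 6), (.ofNat 136, 10), (.negSucc 45, 15),
  (.ofNat 1208, 16), (.ofNat 706, 27), (.ofNat 112, 29), (.ofNat 471, 31), (.negSucc 1347, 32), (.negSucc 1379, 34),
  (.negSucc 2010, 35), (.ofNat 2108, 37), (.negSucc 246, 39), (.negSucc 1651, 41), (.ofNat 326, 42), (.negSucc 534,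
  43), (.ofNat 213, 45), (.ofNat 1323, 48), (.ofNat 417, 52), (.negSucc 43, 55), (.ofNat 8, 57), (.negSucc 80, 58),
  (.negSucc 43, 68), (.negSucc 203, 79), (.ofNat 825, 80), (.negSucc 886, 82), (.negSucc 556, 94), (.negSucc 1387,
  95), (.negSucc 1340, 96)])])

/-- a candidate -/
def c73 : ℕ × ℕ × List Step :=
  (3932160000, 20, [(0, 0, .ofNat 2187, 0, [(.ofNat 49, 1), (.ofNat 305, 5), (.negSucc 862, 6), (.ofNat 52, 7),
  (.ofNat 45, 10), (.negSucc 48, 11), (.ofNat 290, 13), (.ofNat 246, 14), (.ofNat 29, 16), (.ofNat 203, 20), (.ofNat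
  5, 22), (.negSucc 336, 25), (.ofNat 181, 26), (.ofNat 134, 30), (.negSucc 583, 35), (.ofNat 935, 37), (.negSucc
  101, 41), (.negSucc 74, 43), (.ofNat 798, 45), (.ofNat 435, 48), (.negSucc 389, 49), (.ofNat 145, 52), (.negSucc
  777, 53), (.negSucc 498, 56), (.negSucc 581, 63), (.negSucc 245, 68), (.ofNat 58, 69), (.ofNat 830, 71), (.negSucc
  547, 72), (.negSucc 149, 73), (.negSucc 41, 74), (.negSucc 305, 77), (.negSucc 248, 79), (.ofNat 158, 80),
  (.negSucc 45, 82), (.negSucc 104, 83), (.ofNat 46, 86), (.negSucc 313, 88), (.negSucc 138, 91), (.ofNat 88, 92),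
  (.negSucc 136, 95), (.negSucc 715, 96)])])

/-- a candidate -/
def c74 : ℕ × ℕ × List Step :=
  (3932160000, 40, [(0, 0, .ofNat 6561, 0, [(.ofNat 446, 5), (.negSucc 2573, 6), (.ofNat 361, 10), (.negSucc 115,
  11), (.ofNat 588, 13), (.ofNat 519, 14), (.ofNat 406, 16), (.ofNat 263, 20), (.ofNat 356, 22), (.negSucc 1344, 25),
  (.ofNat 1282, 26), (.ofNat 389, 30), (.negSucc 1475, 35), (.ofNat 3225, 37), (.negSucc 179, 38), (.negSucc 558,
  41), (.negSucc 1, 42), (.ofNat 2645, 45), (.ofNat 1397, 48), (.negSucc 1211, 49), (.ofNat 222, 52), (.negSucc 2176,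
  53), (.negSucc 1837, 56), (.negSucc 1999, 63), (.ofNat 107, 65), (.negSucc 478, 68), (.ofNat 61, 69), (.ofNat 2577,
  71), (.negSucc 1156, 72), (.negSucc 309, 73), (.negSucc 44, 74), (.negSucc 570, 77), (.negSucc 785, 79), (.ofNat
  287, 80), (.negSucc 53, 83), (.ofNat 326, 86), (.negSucc 198, 88), (.negSucc 251, 91), (.ofNat 636, 92), (.negSucc
  1938, 96), (.ofNat 2, 98)])])

/-- a candidate -/
def c75 : ℕ × ℕ × List Step :=
  (4161798144, 7, [(0, 0, .ofNat 243, 0, [(.ofNat 34, 8), (.ofNat 66, 10), (.negSucc 45, 14), (.negSucc 68, 15),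
  (.ofNat 6, 19), (.negSucc 61, 26), (.negSucc 50, 33), (.negSucc 20, 35), (.negSucc 11, 37), (.negSucc 54, 39),
  (.ofNat 9, 47), (.ofNat 18, 50), (.ofNat 30, 53), (.negSucc 37, 55), (.negSucc 37, 61), (.ofNat 66, 72), (.negSucc
  15, 74), (.negSucc 14, 75), (.negSucc 9, 84), (.negSucc 9, 96), (.ofNat 18, 98)])])

/-- a candidate -/
def c76 : ℕ × ℕ × List Step :=
  (4548960000, 65, [(0, 0, .ofNat 2187, 0, [(.ofNat 183, 1), (.ofNat 512, 5), (.negSucc 509, 6), (.negSucc 90, 9),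
  (.negSucc 169, 11), (.ofNat 324, 13), (.negSucc 194, 17), (.ofNat 121, 20), (.negSucc 320, 25), (.ofNat 388, 26),
  (.ofNat 215, 29), (.ofNat 31, 30), (.negSucc 75, 32), (.negSucc 123, 34), (.negSucc 419, 35), (.ofNat 888, 37),
  (.negSucc 99, 38), (.negSucc 318, 41), (.negSucc 69, 43), (.negSucc 190, 44), (.ofNat 621, 45), (.ofNat 110, 47),
  (.ofNat 334, 48), (.negSucc 226, 49), (.negSucc 591, 53), (.negSucc 438, 56), (.negSucc 9, 60), (.negSucc 356, 63),
  (.negSucc 319, 68), (.ofNat 276, 69), (.ofNat 769, 71), (.negSucc 162, 72), (.negSucc 77, 73), (.negSucc 227, 74),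
  (.negSucc 198, 77), (.negSucc 14, 79), (.ofNat 283, 80), (.negSucc 60, 82), (.negSucc 215, 91), (.negSucc 128, 95),
  (.negSucc 537, 96), (.ofNat 248, 97)])])

/-- a candidate -/
def c77 : ℕ × ℕ × List Step :=
  (4586471424, 2, [(0, 0, .ofNat 6561, 0, [(.ofNat 1964, 10), (.negSucc 2622, 15), (.ofNat 290, 23), (.ofNat 48, 30),
  (.negSucc 62, 32), (.ofNat 4, 34), (.negSucc 530, 35), (.ofNat 325, 42), (.ofNat 635, 47), (.ofNat 74, 51), (.ofNat
  252, 52), (.negSucc 87, 56), (.ofNat 685, 69), (.negSucc 155, 74), (.ofNat 231, 78), (.ofNat 10, 81), (.negSucc 62,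
  86), (.ofNat 705, 98)])])

/-- a candidate -/
def c78 : ℕ × ℕ × List Step :=
  (4586471424, 4, [(0, 0, .ofNat 6561, 0, [(.ofNat 2136, 10), (.negSucc 197, 17), (.ofNat 35, 19), (.ofNat 589, 23),
  (.ofNat 932, 30), (.ofNat 167, 31), (.negSucc 305, 35), (.ofNat 244, 40), (.ofNat 183, 42), (.negSucc 709, 43),
  (.ofNat 235, 47), (.ofNat 140, 52), (.negSucc 679, 55), (.negSucc 555, 56), (.ofNat 20, 59), (.negSucc 56, 62),
  (.ofNat 848, 69), (.negSucc 410, 74), (.ofNat 62, 78), (.negSucc 346, 86), (.ofNat 44, 89), (.negSucc 346, 96),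
  (.ofNat 808, 98)])])

/-- a candidate -/
def c79 : ℕ × ℕ × List Step :=
  (4586471424, 8, [(0, 0, .ofNat 6561, 0, [(.ofNat 2136, 10), (.negSucc 197, 17), (.ofNat 35, 19), (.ofNat 589, 23),
  (.ofNat 932, 30), (.ofNat 167, 31), (.negSucc 305, 35), (.ofNat 244, 40), (.ofNat 183, 42), (.negSucc 709, 43),
  (.ofNat 235, 47), (.ofNat 140, 52), (.negSucc 679, 55), (.negSucc 555, 56), (.ofNat 20, 59), (.negSucc 56, 62),
  (.ofNat 848, 69), (.negSucc 410, 74), (.ofNat 62, 78), (.negSucc 346, 86), (.ofNat 44, 89), (.negSucc 346, 96),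
  (.ofNat 808, 98)])])

/-- a candidate -/
def c80 : ℕ × ℕ × List Step :=
  (4586471424, 16, [(0, 0, .ofNat 6561, 0, [(.negSucc 1736, 9), (.ofNat 454, 10), (.ofNat 693, 12), (.ofNat 319, 16),
  (.negSucc 497, 17), (.ofNat 836, 19), (.ofNat 2395, 23), (.negSucc 336, 24), (.ofNat 1423, 30), (.negSucc 220, 32),
  (.negSucc 684, 35), (.ofNat 407, 36), (.ofNat 610, 37), (.negSucc 29, 44), (.negSucc 544, 53), (.negSucc 393, 54),
  (.negSucc 268, 56), (.negSucc 453, 62), (.ofNat 470, 65), (.negSucc 19, 71), (.negSucc 331, 72), (.negSucc 25, 74),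
  (.negSucc 202, 75), (.ofNat 132, 76), (.negSucc 9, 79), (.negSucc 55, 80), (.ofNat 707, 84), (.negSucc 927, 86),
  (.ofNat 380, 89), (.ofNat 133, 98)])])

/-- a candidate -/
def c81 : ℕ × ℕ × List Step :=
  (4586471424, 32, [(0, 0, .ofNat 6561, 0, [(.negSucc 1736, 9), (.ofNat 454, 10), (.ofNat 693, 12), (.ofNat 319, 16),
  (.negSucc 497, 17), (.ofNat 836, 19), (.ofNat 2395, 23), (.negSucc 336, 24), (.ofNat 1423, 30), (.negSucc 220, 32),
  (.negSucc 684, 35), (.ofNat 407, 36), (.ofNat 610, 37), (.negSucc 29, 44), (.negSucc 544, 53), (.negSucc 393, 54),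
  (.negSucc 268, 56), (.negSucc 453, 62), (.ofNat 470, 65), (.negSucc 19, 71), (.negSucc 331, 72), (.negSucc 25, 74),
  (.negSucc 202, 75), (.ofNat 132, 76), (.negSucc 9, 79), (.negSucc 55, 80), (.ofNat 707, 84), (.negSucc 927, 86),
  (.ofNat 380, 89), (.ofNat 133, 98)])])

/-- a candidate -/
def c82 : ℕ × ℕ × List Step :=
  (4586471424, 64, [(0, 0, .ofNat 2187, 0, [(.negSucc 581, 9), (.ofNat 157, 10), (.ofNat 231, 12), (.ofNat 105, 16),
  (.negSucc 174, 17), (.ofNat 273, 19), (.ofNat 794, 23), (.negSucc 110, 24), (.ofNat 471, 30), (.negSucc 73, 32),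
  (.negSucc 219, 35), (.ofNat 136, 36), (.ofNat 205, 37), (.negSucc 9, 44), (.negSucc 179, 53), (.negSucc 136, 54),
  (.negSucc 85, 56), (.negSucc 155, 62), (.ofNat 156, 65), (.negSucc 6, 71), (.negSucc 103, 72), (.negSucc 9, 74),
  (.negSucc 69, 75), (.ofNat 44, 76), (.negSucc 14, 80), (.ofNat 236, 84), (.negSucc 309, 86), (.ofNat 128, 89),
  (.ofNat 3, 97), (.ofNat 45, 98)])])

/-- a candidate -/
def c83 : ℕ × ℕ × List Step :=
  (5589762048, 13, [(0, 0, .ofNat 6561, 0, [(.negSucc 1807, 9), (.ofNat 326, 12), (.ofNat 141, 16), (.negSucc 222,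
  17), (.ofNat 265, 19), (.ofNat 2246, 23), (.negSucc 570, 24), (.ofNat 770, 30), (.ofNat 422, 31), (.negSucc 312,
  32), (.negSucc 411, 35), (.ofNat 284, 36), (.ofNat 1032, 37), (.negSucc 167, 44), (.ofNat 39, 52), (.negSucc 588,
  53), (.negSucc 495, 54), (.ofNat 568, 65), (.negSucc 86, 72), (.negSucc 18, 74), (.negSucc 436, 75), (.ofNat 482,
  76), (.negSucc 5, 77), (.ofNat 257, 78), (.ofNat 642, 84), (.negSucc 954, 86), (.ofNat 482, 89), (.ofNat 211, 95),
  (.ofNat 181, 97), (.ofNat 516, 98)])])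

/-- candidates -/
def CL2 : List (ℕ × ℕ × List Step) :=
  [c56, c57, c58, c59, c60, c61, c62, c63, c64, c65, c66, c67, c68, c69, c70, c71, c72, c73, c74, c75, c76, c77, c78,
  c79, c80, c81, c82, c83]

theorem okC2 : okL TAB.Co1.D (TAB.Sm2.mkRows TAB.Co1.RA TAB.Co1.RB) 2 P Z CL2 = true := by decide +kernel

/-- a candidate -/
def c84 : ℕ × ℕ × List Step :=
  (6298560000, 5, [(0, 0, .ofNat 2187, 0, [(.ofNat 241, 1), (.negSucc 66, 5), (.negSucc 638, 6), (.ofNat 147, 10),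
  (.ofNat 233, 16), (.negSucc 45, 18), (.negSucc 110, 23), (.ofNat 408, 27), (.ofNat 142, 31), (.negSucc 476, 32),
  (.negSucc 292, 34), (.negSucc 499, 35), (.ofNat 694, 37), (.negSucc 67, 39), (.negSucc 321, 41), (.ofNat 65, 42),
  (.negSucc 347, 43), (.ofNat 116, 45), (.ofNat 445, 48), (.negSucc 234, 53), (.negSucc 104, 55), (.negSucc 127, 56),
  (.negSucc 34, 63), (.ofNat 251, 69), (.ofNat 32, 71), (.negSucc 27, 79), (.ofNat 246, 80), (.negSucc 232, 82),
  (.negSucc 257, 95), (.negSucc 403, 96)])])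

/-- a candidate -/
def c85 : ℕ × ℕ × List Step :=
  (6298560000, 15, [(0, 0, .ofNat 9, 0, [(.negSucc 1, 6), (.ofNat 2, 10), (.negSucc 1, 11), (.ofNat 2, 13), (.ofNat
  2, 16), (.negSucc 1, 18), (.ofNat 2, 21), (.ofNat 2, 22), (.ofNat 2, 26), (.ofNat 2, 29), (.negSucc 1, 34),
  (.negSucc 1, 35), (.ofNat 4, 37), (.negSucc 1, 40), (.negSucc 1, 43), (.ofNat 2, 45), (.negSucc 1, 53), (.ofNat 2,
  55), (.negSucc 3, 56), (.ofNat 2, 61), (.ofNat 2, 69), (.negSucc 1, 72), (.negSucc 1, 74), (.negSucc 1, 79),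
  (.ofNat 2, 80), (.ofNat 2, 81), (.ofNat 2, 92), (.negSucc 1, 96), (.negSucc 2, 97)])])

/-- a candidate -/
def c86 : ℕ × ℕ × List Step :=
  (7464960000, 5, [(0, 0, .ofNat 2187, 0, [(.ofNat 24, 1), (.negSucc 413, 6), (.ofNat 252, 9), (.ofNat 341, 16),
  (.negSucc 346, 18), (.ofNat 170, 19), (.ofNat 48, 26), (.ofNat 289, 27), (.ofNat 83, 31), (.negSucc 414, 34),
  (.negSucc 443, 35), (.ofNat 719, 37), (.negSucc 283, 39), (.negSucc 502, 41), (.negSucc 405, 43), (.ofNat 303, 45),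
  (.ofNat 13, 47), (.ofNat 586, 48), (.negSucc 45, 53), (.negSucc 228, 56), (.negSucc 32, 58), (.ofNat 93, 59),
  (.ofNat 62, 60), (.ofNat 218, 69), (.ofNat 86, 71), (.negSucc 82, 74), (.negSucc 29, 75), (.ofNat 350, 80),
  (.negSucc 188, 82), (.ofNat 76, 86), (.negSucc 170, 94), (.negSucc 14, 95), (.negSucc 361, 96)])])

/-- a candidate -/
def c87 : ℕ × ℕ × List Step :=
  (8028160000, 35, [(0, 0, .ofNat 6561, 0, [(.ofNat 584, 1), (.negSucc 4698, 5), (.ofNat 729, 9), (.ofNat 1387, 10),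
  (.negSucc 769, 22), (.ofNat 1337, 30), (.negSucc 197, 33), (.negSucc 341, 34), (.ofNat 828, 42), (.ofNat 415, 43),
  (.negSucc 2030, 44), (.ofNat 368, 46), (.ofNat 2292, 48), (.ofNat 1691, 52), (.ofNat 978, 56), (.negSucc 246, 58),
  (.negSucc 109, 61), (.negSucc 84, 62), (.negSucc 145, 67), (.ofNat 928, 72), (.negSucc 1070, 74), (.negSucc 582,
  77), (.ofNat 951, 80), (.ofNat 485, 91), (.negSucc 583, 96)])])

/-- a candidate -/
def c88 : ℕ × ℕ × List Step :=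
  (8847360000, 5, [(0, 0, .ofNat 2187, 0, [(.ofNat 101, 1), (.negSucc 419, 6), (.ofNat 228, 9), (.ofNat 25, 12),
  (.ofNat 659, 16), (.ofNat 284, 19), (.negSucc 147, 24), (.ofNat 214, 27), (.ofNat 189, 31), (.negSucc 391, 35),
  (.ofNat 817, 37), (.negSucc 195, 39), (.negSucc 485, 41), (.negSucc 458, 43), (.negSucc 170, 44), (.ofNat 424, 45),
  (.ofNat 758, 48), (.ofNat 92, 52), (.negSucc 223, 53), (.negSucc 70, 55), (.negSucc 136, 56), (.ofNat 17, 62),
  (.negSucc 114, 63), (.ofNat 51, 69), (.ofNat 187, 71), (.ofNat 260, 80), (.negSucc 311, 82), (.ofNat 14, 84),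
  (.ofNat 108, 86), (.ofNat 21, 93), (.negSucc 198, 94), (.negSucc 398, 96)])])

/-- a candidate -/
def c89 : ℕ × ℕ × List Step :=
  (8847360000, 25, [(0, 0, .ofNat 6561, 0, [(.ofNat 1002, 1), (.ofNat 464, 5), (.ofNat 551, 10), (.ofNat 1076, 13),
  (.ofNat 1395, 14), (.ofNat 909, 16), (.ofNat 350, 22), (.negSucc 411, 24), (.negSucc 1548, 25), (.ofNat 272, 26),
  (.ofNat 232, 31), (.negSucc 468, 35), (.ofNat 3302, 37), (.negSucc 1527, 41), (.negSucc 1344, 43), (.negSucc 584,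
  44), (.ofNat 1484, 45), (.ofNat 934, 48), (.negSucc 418, 49), (.ofNat 155, 52), (.negSucc 1388, 53), (.negSucc
  1755, 56), (.negSucc 62, 57), (.ofNat 1510, 59), (.negSucc 735, 60), (.negSucc 1011, 63), (.ofNat 351, 65),
  (.negSucc 792, 68), (.ofNat 481, 69), (.ofNat 3032, 71), (.negSucc 2524, 72), (.negSucc 273, 73), (.negSucc 67,
  75), (.negSucc 832, 77), (.ofNat 1328, 80), (.negSucc 111, 83), (.ofNat 89, 86), (.ofNat 507, 92), (.ofNat 37, 93),
  (.negSucc 701, 96), (.ofNat 1082, 97), (.ofNat 168, 98)])])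

/-- a candidate -/
def c90 : ℕ × ℕ × List Step :=
  (10319560704, 3, [(0, 0, .ofNat 6561, 0, [(.ofNat 862, 5), (.ofNat 136, 8), (.negSucc 1288, 9), (.ofNat 2055, 16),
  (.negSucc 1905, 17), (.ofNat 1086, 18), (.ofNat 2268, 19), (.ofNat 877, 23), (.negSucc 1161, 26), (.negSucc 1629,
  32), (.ofNat 1716, 34), (.negSucc 574, 35), (.ofNat 2440, 37), (.negSucc 303, 41), (.negSucc 557, 43), (.negSucc
  1775, 44), (.negSucc 737, 45), (.ofNat 204, 46), (.negSucc 253, 47), (.ofNat 770, 49), (.ofNat 1460, 50), (.ofNat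
  15, 51), (.ofNat 1649, 52), (.negSucc 913, 53), (.negSucc 514, 54), (.ofNat 827, 55), (.ofNat 193, 63), (.negSucc
  281, 70), (.negSucc 2973, 71), (.negSucc 1434, 72), (.negSucc 1570, 74), (.negSucc 139, 77), (.negSucc 889, 79),
  (.ofNat 1411, 81), (.ofNat 339, 84), (.negSucc 2141, 86), (.ofNat 952, 94), (.negSucc 172, 96), (.ofNat 33, 98)])])

/-- a candidate -/
def c91 : ℕ × ℕ × List Step :=
  (10534551552, 7, [(0, 0, .ofNat 729, 0, [(.ofNat 80, 2), (.ofNat 61, 8), (.ofNat 130, 10), (.ofNat 253, 13),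
  (.negSucc 154, 15), (.ofNat 248, 19), (.ofNat 42, 23), (.ofNat 58, 24), (.negSucc 38, 26), (.negSucc 27, 27),
  (.ofNat 68, 30), (.ofNat 107, 31), (.negSucc 129, 33), (.negSucc 26, 35), (.negSucc 176, 39), (.negSucc 118, 41),
  (.negSucc 45, 44), (.ofNat 30, 47), (.ofNat 52, 50), (.ofNat 34, 51), (.ofNat 37, 52), (.ofNat 132, 53), (.negSucc
  77, 60), (.negSucc 193, 61), (.negSucc 5, 62), (.ofNat 36, 64), (.ofNat 215, 72), (.negSucc 97, 74), (.negSucc 57,
  80), (.negSucc 3, 91), (.ofNat 11, 95)])])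

/-- a candidate -/
def c92 : ℕ × ℕ × List Step :=
  (13759414272, 2, [(0, 0, .ofNat 6561, 0, [(.ofNat 1965, 10), (.negSucc 2603, 15), (.ofNat 293, 23), (.ofNat 51,
  30), (.negSucc 64, 32), (.ofNat 2, 34), (.negSucc 522, 35), (.ofNat 318, 42), (.ofNat 620, 47), (.ofNat 75, 51),
  (.ofNat 258, 52), (.negSucc 92, 56), (.ofNat 697, 69), (.negSucc 161, 74), (.negSucc 6, 77), (.ofNat 240, 78),
  (.negSucc 64, 86), (.ofNat 705, 98)])])

/-- a candidate -/
def c93 : ℕ × ℕ × List Step :=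
  (16796160000, 5, [(0, 0, .ofNat 19683, 0, [(.ofNat 2816, 1), (.negSucc 2571, 6), (.negSucc 1025, 9), (.ofNat 4034,
  10), (.negSucc 9, 11), (.ofNat 4961, 13), (.ofNat 1054, 14), (.ofNat 59, 16), (.negSucc 317, 17), (.negSucc 5302,
  18), (.negSucc 2845, 25), (.ofNat 2405, 26), (.negSucc 677, 27), (.ofNat 2340, 29), (.ofNat 2748, 30), (.negSucc
  1766, 32), (.negSucc 5327, 34), (.negSucc 2981, 35), (.ofNat 4797, 37), (.negSucc 860, 38), (.negSucc 3447, 41),
  (.negSucc 107, 44), (.ofNat 3646, 45), (.ofNat 1865, 47), (.ofNat 2354, 48), (.negSucc 362, 49), (.negSucc 887,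
  53), (.negSucc 2898, 56), (.ofNat 131, 57), (.ofNat 578, 59), (.negSucc 214, 67), (.ofNat 2693, 69), (.ofNat 910,
  70), (.ofNat 4699, 71), (.negSucc 360, 72), (.negSucc 726, 73), (.negSucc 1830, 74), (.negSucc 109, 79), (.ofNat
  3905, 80), (.negSucc 791, 82), (.ofNat 571, 84), (.negSucc 180, 86), (.negSucc 1387, 91), (.ofNat 657, 92),
  (.negSucc 2372, 96)])])

/-- a candidate -/
def c94 : ℕ × ℕ × List Step :=
  (18728091648, 7, [(0, 0, .ofNat 2187, 0, [(.ofNat 167, 2), (.ofNat 188, 8), (.ofNat 427, 10), (.ofNat 729, 13),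
  (.negSucc 5, 14), (.negSucc 677, 15), (.ofNat 641, 19), (.ofNat 168, 24), (.negSucc 210, 26), (.negSucc 66, 27),
  (.ofNat 193, 30), (.ofNat 241, 31), (.negSucc 426, 33), (.negSucc 146, 35), (.negSucc 19, 37), (.negSucc 504, 39),
  (.negSucc 293, 41), (.negSucc 70, 44), (.ofNat 28, 47), (.ofNat 220, 50), (.ofNat 182, 51), (.ofNat 101, 52),
  (.ofNat 368, 53), (.negSucc 226, 60), (.negSucc 603, 61), (.negSucc 157, 63), (.ofNat 77, 64), (.ofNat 594, 72),
  (.negSucc 299, 74), (.negSucc 15, 80), (.ofNat 54, 92)])])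

/-- a candidate -/
def c95 : ℕ × ℕ × List Step :=
  (19906560000, 5, [(0, 0, .ofNat 243, 0, [(.ofNat 20, 1), (.ofNat 31, 5), (.negSucc 68, 6), (.ofNat 2, 7), (.negSucc
  15, 11), (.ofNat 26, 13), (.ofNat 40, 14), (.ofNat 16, 16), (.negSucc 15, 17), (.ofNat 7, 22), (.ofNat 6, 23),
  (.negSucc 6, 24), (.negSucc 40, 25), (.ofNat 43, 26), (.ofNat 1, 29), (.ofNat 13, 30), (.negSucc 65, 35), (.ofNat
  128, 37), (.negSucc 20, 41), (.ofNat 79, 45), (.ofNat 52, 48), (.negSucc 30, 49), (.negSucc 76, 53), (.ofNat 2,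
  54), (.negSucc 60, 56), (.negSucc 12, 60), (.negSucc 45, 63), (.negSucc 16, 68), (.ofNat 17, 69), (.ofNat 100, 71),
  (.negSucc 39, 72), (.negSucc 2, 73), (.negSucc 18, 77), (.negSucc 16, 79), (.ofNat 23, 80), (.ofNat 7, 84), (.ofNat
  19, 86), (.negSucc 0, 91), (.ofNat 30, 92), (.ofNat 2, 93), (.negSucc 58, 96)])])

/-- a candidate -/
def c96 : ℕ × ℕ × List Step :=
  (29812064256, 13, [(0, 0, .ofNat 2187, 0, [(.negSucc 320, 1), (.ofNat 201, 5), (.negSucc 44, 6), (.ofNat 277, 8),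
  (.negSucc 627, 9), (.negSucc 99, 13), (.ofNat 120, 14), (.negSucc 377, 15), (.ofNat 221, 16), (.ofNat 1058, 18),
  (.ofNat 25, 19), (.ofNat 9, 22), (.ofNat 90, 23), (.negSucc 845, 26), (.ofNat 37, 27), (.ofNat 601, 31), (.negSucc
  10, 35), (.negSucc 386, 41), (.ofNat 35, 42), (.negSucc 367, 44), (.ofNat 199, 49), (.ofNat 68, 52), (.negSucc 242,
  53), (.negSucc 159, 54), (.ofNat 97, 58), (.ofNat 273, 69), (.negSucc 240, 71), (.negSucc 305, 74), (.negSucc 256,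
  75), (.negSucc 322, 79), (.ofNat 205, 85), (.negSucc 275, 86), (.ofNat 78, 87), (.ofNat 40, 94), (.ofNat 377,
  98)])])

/-- a candidate -/
def c97 : ℕ × ℕ × List Step :=
  (40577531904, 91, [(0, 0, .ofNat 2187, 0, [(.ofNat 19, 2), (.ofNat 323, 8), (.ofNat 44, 10), (.negSucc 466, 15),
  (.ofNat 331, 16), (.ofNat 674, 18), (.ofNat 578, 19), (.negSucc 137, 21), (.ofNat 380, 22), (.ofNat 196, 23),
  (.ofNat 533, 24), (.negSucc 1562, 26), (.ofNat 144, 31), (.negSucc 266, 33), (.ofNat 706, 34), (.negSucc 283, 35),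
  (.negSucc 543, 41), (.ofNat 29, 43), (.negSucc 130, 44), (.negSucc 739, 48), (.ofNat 31, 49), (.ofNat 550, 50),
  (.ofNat 492, 52), (.negSucc 79, 55), (.ofNat 562, 56), (.ofNat 58, 57), (.negSucc 916, 61), (.negSucc 168, 63),
  (.negSucc 116, 70), (.ofNat 37, 72), (.negSucc 256, 74), (.negSucc 24, 75), (.ofNat 48, 77), (.negSucc 231, 79),
  (.negSucc 302, 80), (.negSucc 118, 82), (.ofNat 81, 83), (.ofNat 401, 85), (.negSucc 57, 86), (.ofNat 146, 87),
  (.ofNat 112, 92), (.ofNat 376, 94), (.ofNat 34, 97)])])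

/-- a candidate -/
def c98 : ℕ × ℕ × List Step :=
  (41278242816, 2, [(0, 0, .ofNat 729, 0, [(.negSucc 81, 6), (.negSucc 55, 9), (.ofNat 84, 10), (.negSucc 175, 15),
  (.negSucc 4, 17), (.ofNat 132, 19), (.negSucc 21, 20), (.ofNat 142, 23), (.ofNat 45, 24), (.negSucc 8, 32),
  (.negSucc 86, 35), (.negSucc 52, 39), (.negSucc 36, 41), (.ofNat 62, 47), (.ofNat 17, 51), (.ofNat 43, 52), (.ofNat
  38, 59), (.negSucc 36, 60), (.negSucc 52, 74), (.negSucc 15, 75), (.negSucc 9, 82), (.ofNat 77, 84), (.negSucc 3,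
  86), (.ofNat 41, 98)])])

/-- a candidate -/
def c99 : ℕ × ℕ × List Step :=
  (41278242816, 3, [(0, 0, .ofNat 729, 0, [(.negSucc 104, 1), (.negSucc 44, 6), (.negSucc 178, 9), (.ofNat 45, 10),
  (.negSucc 108, 11), (.negSucc 56, 15), (.ofNat 130, 16), (.negSucc 130, 17), (.ofNat 51, 19), (.ofNat 107, 21),
  (.ofNat 92, 23), (.negSucc 57, 26), (.ofNat 3, 30), (.ofNat 30, 31), (.negSucc 128, 35), (.ofNat 126, 37),
  (.negSucc 27, 40), (.negSucc 34, 44), (.negSucc 20, 48), (.ofNat 48, 52), (.negSucc 90, 53), (.negSucc 0, 54),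
  (.ofNat 97, 55), (.ofNat 21, 60), (.negSucc 86, 66), (.negSucc 7, 70), (.negSucc 59, 71), (.negSucc 92, 74),
  (.negSucc 34, 75), (.negSucc 71, 79), (.ofNat 43, 81), (.ofNat 12, 82), (.ofNat 37, 84), (.negSucc 95, 86), (.ofNat
  82, 92), (.ofNat 26, 94), (.negSucc 157, 97), (.ofNat 39, 98)])])

/-- a candidate -/
def c100 : ℕ × ℕ × List Step :=
  (41278242816, 4, [(0, 0, .ofNat 729, 0, [(.negSucc 2, 5), (.negSucc 68, 6), (.negSucc 121, 9), (.ofNat 97, 10),
  (.ofNat 51, 13), (.negSucc 88, 17), (.ofNat 119, 19), (.negSucc 34, 20), (.ofNat 207, 23), (.ofNat 47, 30),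
  (.negSucc 82, 35), (.negSucc 37, 39), (.negSucc 54, 41), (.negSucc 47, 44), (.ofNat 34, 47), (.ofNat 49, 50),
  (.ofNat 45, 52), (.ofNat 33, 59), (.negSucc 14, 60), (.ofNat 66, 69), (.negSucc 43, 73), (.negSucc 5, 74),
  (.negSucc 8, 80), (.negSucc 7, 82), (.ofNat 25, 84), (.ofNat 2, 89), (.ofNat 21, 92), (.ofNat 32, 98)])])

/-- a candidate -/
def c101 : ℕ × ℕ × List Step :=
  (41278242816, 6, [(0, 0, .ofNat 2187, 0, [(.negSucc 177, 1), (.ofNat 170, 5), (.negSucc 543, 9), (.negSucc 783,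
  15), (.ofNat 484, 16), (.ofNat 803, 18), (.ofNat 316, 19), (.ofNat 59, 23), (.ofNat 362, 24), (.negSucc 950, 26),
  (.ofNat 474, 31), (.ofNat 151, 34), (.negSucc 35, 35), (.ofNat 504, 37), (.negSucc 187, 40), (.negSucc 131, 41),
  (.negSucc 342, 44), (.negSucc 34, 47), (.negSucc 228, 48), (.ofNat 245, 49), (.ofNat 283, 52), (.negSucc 145, 53),
  (.negSucc 118, 54), (.ofNat 351, 55), (.ofNat 37, 58), (.ofNat 106, 63), (.negSucc 106, 70), (.negSucc 82, 71),
  (.negSucc 169, 72), (.negSucc 271, 74), (.negSucc 62, 75), (.negSucc 80, 79), (.ofNat 336, 81), (.ofNat 374, 85),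
  (.negSucc 177, 86), (.ofNat 147, 89), (.ofNat 356, 92), (.ofNat 136, 98)])])

/-- a candidate -/
def c102 : ℕ × ℕ × List Step :=
  (41278242816, 8, [(0, 0, .ofNat 2187, 0, [(.negSucc 340, 1), (.ofNat 6, 5), (.negSucc 69, 6), (.negSucc 10, 7),
  (.ofNat 291, 8), (.negSucc 789, 9), (.negSucc 198, 11), (.ofNat 115, 16), (.negSucc 266, 17), (.ofNat 368, 18),
  (.ofNat 239, 22), (.ofNat 154, 23), (.negSucc 849, 26), (.ofNat 360, 31), (.ofNat 230, 34), (.negSucc 475, 41),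
  (.ofNat 327, 42), (.negSucc 342, 44), (.ofNat 111, 50), (.ofNat 318, 52), (.negSucc 267, 53), (.negSucc 10, 65),
  (.ofNat 362, 69), (.negSucc 339, 71), (.ofNat 32, 73), (.negSucc 313, 74), (.negSucc 68, 75), (.negSucc 274, 79),
  (.negSucc 91, 82), (.ofNat 93, 85), (.negSucc 238, 86), (.negSucc 31, 91), (.ofNat 218, 92), (.ofNat 136, 93),
  (.ofNat 249, 98)])])

/-- a candidate -/
def c103 : ℕ × ℕ × List Step :=
  (41278242816, 9, [(0, 0, .ofNat 729, 0, [(.negSucc 104, 1), (.negSucc 44, 6), (.negSucc 178, 9), (.ofNat 45, 10),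
  (.negSucc 108, 11), (.negSucc 56, 15), (.ofNat 130, 16), (.negSucc 130, 17), (.ofNat 51, 19), (.ofNat 107, 21),
  (.ofNat 92, 23), (.negSucc 57, 26), (.ofNat 3, 30), (.ofNat 30, 31), (.negSucc 128, 35), (.ofNat 126, 37),
  (.negSucc 27, 40), (.negSucc 34, 44), (.negSucc 20, 48), (.ofNat 48, 52), (.negSucc 90, 53), (.negSucc 0, 54),
  (.ofNat 97, 55), (.ofNat 21, 60), (.negSucc 86, 66), (.negSucc 7, 70), (.negSucc 59, 71), (.negSucc 92, 74),
  (.negSucc 34, 75), (.negSucc 71, 79), (.ofNat 43, 81), (.ofNat 12, 82), (.ofNat 37, 84), (.negSucc 95, 86), (.ofNat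
  82, 92), (.ofNat 26, 94), (.negSucc 157, 97), (.ofNat 39, 98)])])

/-- a candidate -/
def c104 : ℕ × ℕ × List Step :=
  (41278242816, 12, [(0, 0, .ofNat 2187, 0, [(.ofNat 225, 5), (.negSucc 502, 9), (.ofNat 623, 16), (.negSucc 269,
  17), (.ofNat 372, 18), (.ofNat 728, 19), (.negSucc 10, 21), (.ofNat 299, 23), (.negSucc 903, 26), (.ofNat 478, 28),
  (.negSucc 71, 32), (.ofNat 735, 34), (.ofNat 188, 37), (.negSucc 78, 41), (.negSucc 209, 43), (.negSucc 361, 44),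
  (.negSucc 411, 45), (.negSucc 165, 47), (.negSucc 416, 48), (.ofNat 185, 49), (.ofNat 517, 50), (.ofNat 289, 52),
  (.negSucc 105, 53), (.negSucc 141, 54), (.ofNat 247, 55), (.ofNat 135, 64), (.negSucc 43, 68), (.negSucc 701, 71),
  (.negSucc 434, 72), (.negSucc 386, 74), (.negSucc 61, 76), (.negSucc 34, 79), (.negSucc 14, 80), (.ofNat 320, 81),
  (.ofNat 250, 84), (.ofNat 74, 85), (.negSucc 321, 86), (.ofNat 94, 89), (.ofNat 97, 92), (.ofNat 125, 93), (.ofNat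
  4, 94)])])

/-- a candidate -/
def c105 : ℕ × ℕ × List Step :=
  (41278242816, 18, [(0, 0, .ofNat 2187, 0, [(.negSucc 177, 1), (.ofNat 170, 5), (.negSucc 543, 9), (.negSucc 783,
  15), (.ofNat 484, 16), (.ofNat 803, 18), (.ofNat 316, 19), (.ofNat 59, 23), (.ofNat 362, 24), (.negSucc 950, 26),
  (.ofNat 474, 31), (.ofNat 151, 34), (.negSucc 35, 35), (.ofNat 504, 37), (.negSucc 187, 40), (.negSucc 131, 41),
  (.negSucc 342, 44), (.negSucc 34, 47), (.negSucc 228, 48), (.ofNat 245, 49), (.ofNat 283, 52), (.negSucc 145, 53),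
  (.negSucc 118, 54), (.ofNat 351, 55), (.ofNat 37, 58), (.ofNat 106, 63), (.negSucc 106, 70), (.negSucc 82, 71),
  (.negSucc 169, 72), (.negSucc 271, 74), (.negSucc 62, 75), (.negSucc 80, 79), (.ofNat 336, 81), (.ofNat 374, 85),
  (.negSucc 177, 86), (.ofNat 147, 89), (.ofNat 356, 92), (.ofNat 136, 98)])])

/-- a candidate -/
def c106 : ℕ × ℕ × List Step :=
  (41278242816, 24, [(0, 0, .ofNat 2187, 0, [(.ofNat 225, 5), (.negSucc 502, 9), (.ofNat 623, 16), (.negSucc 269,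
  17), (.ofNat 372, 18), (.ofNat 728, 19), (.negSucc 10, 21), (.ofNat 299, 23), (.negSucc 903, 26), (.ofNat 478, 28),
  (.negSucc 71, 32), (.ofNat 735, 34), (.ofNat 188, 37), (.negSucc 78, 41), (.negSucc 209, 43), (.negSucc 361, 44),
  (.negSucc 411, 45), (.negSucc 165, 47), (.negSucc 416, 48), (.ofNat 185, 49), (.ofNat 517, 50), (.ofNat 289, 52),
  (.negSucc 105, 53), (.negSucc 141, 54), (.ofNat 247, 55), (.ofNat 135, 64), (.negSucc 43, 68), (.negSucc 701, 71),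
  (.negSucc 434, 72), (.negSucc 386, 74), (.negSucc 61, 76), (.negSucc 34, 79), (.negSucc 14, 80), (.ofNat 320, 81),
  (.ofNat 250, 84), (.ofNat 74, 85), (.negSucc 321, 86), (.ofNat 94, 89), (.ofNat 97, 92), (.ofNat 125, 93), (.ofNat
  4, 94)])])

/-- a candidate -/
def c107 : ℕ × ℕ × List Step :=
  (41278242816, 36, [(0, 0, .ofNat 2187, 0, [(.ofNat 225, 5), (.negSucc 502, 9), (.ofNat 623, 16), (.negSucc 269,
  17), (.ofNat 372, 18), (.ofNat 728, 19), (.negSucc 10, 21), (.ofNat 299, 23), (.negSucc 903, 26), (.ofNat 478, 28),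
  (.negSucc 71, 32), (.ofNat 735, 34), (.ofNat 188, 37), (.negSucc 78, 41), (.negSucc 209, 43), (.negSucc 361, 44),
  (.negSucc 411, 45), (.negSucc 165, 47), (.negSucc 416, 48), (.ofNat 185, 49), (.ofNat 517, 50), (.ofNat 289, 52),
  (.negSucc 105, 53), (.negSucc 141, 54), (.ofNat 247, 55), (.ofNat 135, 64), (.negSucc 43, 68), (.negSucc 701, 71),
  (.negSucc 434, 72), (.negSucc 386, 74), (.negSucc 61, 76), (.negSucc 34, 79), (.negSucc 14, 80), (.ofNat 320, 81),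
  (.ofNat 250, 84), (.ofNat 74, 85), (.negSucc 321, 86), (.ofNat 94, 89), (.ofNat 97, 92), (.ofNat 125, 93), (.ofNat
  4, 94)])])

/-- a candidate -/
def c108 : ℕ × ℕ × List Step :=
  (41278242816, 72, [(0, 0, .ofNat 2187, 0, [(.ofNat 225, 5), (.negSucc 502, 9), (.ofNat 623, 16), (.negSucc 269,
  17), (.ofNat 372, 18), (.ofNat 728, 19), (.negSucc 10, 21), (.ofNat 299, 23), (.negSucc 903, 26), (.ofNat 478, 28),
  (.negSucc 71, 32), (.ofNat 735, 34), (.ofNat 188, 37), (.negSucc 78, 41), (.negSucc 209, 43), (.negSucc 361, 44),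
  (.negSucc 411, 45), (.negSucc 165, 47), (.negSucc 416, 48), (.ofNat 185, 49), (.ofNat 517, 50), (.ofNat 289, 52),
  (.negSucc 105, 53), (.negSucc 141, 54), (.ofNat 247, 55), (.ofNat 135, 64), (.negSucc 43, 68), (.negSucc 701, 71),
  (.negSucc 434, 72), (.negSucc 386, 74), (.negSucc 61, 76), (.negSucc 34, 79), (.negSucc 14, 80), (.ofNat 320, 81),
  (.ofNat 250, 84), (.ofNat 74, 85), (.negSucc 321, 86), (.ofNat 94, 89), (.ofNat 97, 92), (.ofNat 125, 93), (.ofNat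
  4, 94)])])

/-- a candidate -/
def c109 : ℕ × ℕ × List Step :=
  (44789760000, 5, [(0, 0, .ofNat 2187, 0, [(.ofNat 287, 1), (.negSucc 276, 6), (.negSucc 138, 9), (.ofNat 426, 10),
  (.ofNat 513, 13), (.ofNat 73, 14), (.ofNat 28, 16), (.negSucc 47, 17), (.negSucc 579, 18), (.negSucc 316, 25),
  (.ofNat 264, 26), (.negSucc 60, 27), (.ofNat 231, 29), (.ofNat 286, 30), (.negSucc 205, 32), (.negSucc 587, 34),
  (.negSucc 310, 35), (.ofNat 568, 37), (.negSucc 135, 38), (.negSucc 387, 41), (.negSucc 62, 44), (.ofNat 463, 45),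
  (.ofNat 184, 47), (.ofNat 268, 48), (.negSucc 39, 49), (.negSucc 117, 53), (.negSucc 303, 56), (.ofNat 90, 59),
  (.negSucc 18, 60), (.negSucc 10, 67), (.ofNat 284, 69), (.ofNat 123, 70), (.ofNat 583, 71), (.negSucc 72, 73),
  (.negSucc 186, 74), (.ofNat 423, 80), (.negSucc 64, 82), (.ofNat 58, 84), (.negSucc 18, 86), (.negSucc 135, 91),
  (.ofNat 114, 92), (.negSucc 0, 95), (.negSucc 245, 96)])])

/-- a candidate -/
def c110 : ℕ × ℕ × List Step :=
  (53084160000, 5, [(0, 0, .ofNat 729, 0, [(.negSucc 151, 6), (.ofNat 118, 10), (.ofNat 124, 13), (.negSucc 254, 15),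
  (.negSucc 18, 17), (.negSucc 27, 25), (.ofNat 10, 26), (.negSucc 7, 27), (.negSucc 136, 28), (.ofNat 85, 29),
  (.ofNat 96, 31), (.negSucc 144, 34), (.negSucc 128, 35), (.ofNat 247, 37), (.negSucc 17, 38), (.negSucc 64, 41),
  (.negSucc 82, 43), (.negSucc 118, 44), (.ofNat 115, 47), (.ofNat 141, 48), (.ofNat 86, 52), (.negSucc 15, 53),
  (.negSucc 26, 56), (.negSucc 30, 63), (.ofNat 13, 65), (.negSucc 16, 68), (.ofNat 33, 70), (.ofNat 81, 71),
  (.negSucc 29, 72), (.negSucc 44, 73), (.negSucc 77, 74), (.negSucc 3, 75), (.ofNat 146, 80), (.ofNat 14, 84),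
  (.ofNat 14, 92), (.ofNat 21, 93), (.negSucc 122, 95), (.negSucc 92, 96)])])

/-- a candidate -/
def c111 : ℕ × ℕ × List Step :=
  (84276412416, 7, [(0, 0, .ofNat 729, 0, [(.ofNat 58, 8), (.ofNat 81, 10), (.negSucc 136, 15), (.ofNat 126, 16),
  (.ofNat 168, 18), (.ofNat 164, 19), (.negSucc 50, 21), (.ofNat 113, 22), (.ofNat 72, 23), (.ofNat 146, 24),
  (.negSucc 539, 26), (.ofNat 84, 28), (.ofNat 30, 30), (.ofNat 41, 31), (.negSucc 157, 33), (.ofNat 154, 34),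
  (.negSucc 18, 35), (.negSucc 208, 41), (.ofNat 12, 43), (.negSucc 36, 44), (.negSucc 23, 47), (.negSucc 288, 48),
  (.ofNat 5, 49), (.ofNat 222, 50), (.ofNat 114, 52), (.negSucc 40, 54), (.negSucc 14, 55), (.ofNat 229, 56), (.ofNat
  37, 60), (.negSucc 235, 61), (.negSucc 42, 63), (.negSucc 6, 67), (.negSucc 32, 73), (.negSucc 139, 74), (.ofNat
  10, 78), (.negSucc 9, 79), (.negSucc 107, 80), (.negSucc 10, 82), (.negSucc 32, 84), (.ofNat 137, 85), (.ofNat 34,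
  87), (.ofNat 123, 92), (.ofNat 21, 94), (.negSucc 3, 97)])])

/-- candidates -/
def CL3 : List (ℕ × ℕ × List Step) :=
  [c84, c85, c86, c87, c88, c89, c90, c91, c92, c93, c94, c95, c96, c97, c98, c99, c100, c101, c102, c103, c104,
  c105, c106, c107, c108, c109, c110, c111]

theorem okC3 : okL TAB.Co1.D (TAB.Sm2.mkRows TAB.Co1.RA TAB.Co1.RB) 2 P Z CL3 = true := by decide +kernel

end Cfsg.Agent.TH.Spor.NCo1
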