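import Cfsg.Agent.TH.Spor.NCo1D

/-!
# S3541, sporadic rows: Co1, certificates (helper26; generated by notes/TH/spor26/gen.py.txt)
-/

set_option autoImplicit false
set_option Elab.async false

namespace Cfsg.Agent.TH.Spor.NCo1

open Cfsg Cfsg.Agent.TAB.Eng Cfsg.Agent.H940.Eng

/-- a candidate -/
def c112 : ℕ × ℕ × List Step :=
  (91445760000, 35, [(0, 0, .ofNat 729, 0, [(.negSucc 242, 5), (.negSucc 242, 6), (.ofNat 243, 10), (.negSucc 242,
  11), (.ofNat 243, 13), (.negSucc 242, 18), (.ofNat 243, 21), (.ofNat 243, 26), (.ofNat 243, 29), (.ofNat 243, 30),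
  (.negSucc 242, 33), (.negSucc 242, 34), (.negSucc 242, 35), (.negSucc 242, 36), (.ofNat 243, 45), (.ofNat 243, 55),
  (.ofNat 243, 72), (.negSucc 242, 74), (.negSucc 242, 79), (.ofNat 243, 80), (.ofNat 243, 92), (.negSucc 242, 96),
  (.negSucc 363, 97)])])

/-- a candidate -/
def c113 : ℕ × ℕ × List Step :=
  (100776960000, 5, [(0, 0, .ofNat 9, 0, [(.negSucc 1, 6), (.ofNat 2, 10), (.negSucc 1, 11), (.ofNat 2, 13), (.ofNat
  2, 16), (.negSucc 1, 18), (.ofNat 2, 21), (.ofNat 2, 22), (.ofNat 2, 26), (.ofNat 2, 29), (.negSucc 1, 34),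
  (.negSucc 1, 35), (.ofNat 4, 37), (.negSucc 1, 40), (.negSucc 1, 43), (.ofNat 2, 45), (.negSucc 1, 53), (.ofNat 2,
  55), (.negSucc 3, 56), (.ofNat 2, 61), (.ofNat 2, 69), (.negSucc 1, 72), (.negSucc 1, 74), (.negSucc 1, 79),
  (.ofNat 2, 80), (.ofNat 2, 81), (.ofNat 2, 92), (.negSucc 1, 96), (.negSucc 2, 97)])])

/-- a candidate -/
def c114 : ℕ × ℕ × List Step :=
  (100776960000, 15, [(0, 0, .ofNat 9, 0, [(.negSucc 1, 6), (.ofNat 2, 10), (.negSucc 1, 11), (.ofNat 2, 13), (.ofNat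
  2, 16), (.negSucc 1, 18), (.ofNat 2, 21), (.ofNat 2, 22), (.ofNat 2, 26), (.ofNat 2, 29), (.negSucc 1, 34),
  (.negSucc 1, 35), (.ofNat 4, 37), (.negSucc 1, 40), (.negSucc 1, 43), (.ofNat 2, 45), (.negSucc 1, 53), (.ofNat 2,
  55), (.negSucc 3, 56), (.ofNat 2, 61), (.ofNat 2, 69), (.negSucc 1, 72), (.negSucc 1, 74), (.negSucc 1, 79),
  (.ofNat 2, 80), (.ofNat 2, 81), (.ofNat 2, 92), (.negSucc 1, 96), (.negSucc 2, 97)])])

/-- a candidate -/
def c115 : ℕ × ℕ × List Step :=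
  (100776960000, 27, [(0, 0, .ofNat 729, 0, [(.negSucc 170, 6), (.negSucc 10, 8), (.negSucc 22, 9), (.ofNat 24, 10),
  (.negSucc 93, 11), (.ofNat 7, 12), (.ofNat 119, 16), (.negSucc 159, 17), (.negSucc 12, 18), (.ofNat 41, 19),
  (.ofNat 36, 21), (.ofNat 87, 23), (.ofNat 19, 29), (.ofNat 24, 31), (.negSucc 114, 32), (.ofNat 34, 34), (.negSucc
  171, 35), (.ofNat 159, 37), (.negSucc 14, 39), (.negSucc 39, 40), (.negSucc 19, 41), (.negSucc 17, 43), (.negSucc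
  90, 44), (.ofNat 82, 50), (.negSucc 11, 51), (.ofNat 81, 52), (.negSucc 101, 53), (.ofNat 106, 55), (.ofNat 138,
  56), (.negSucc 64, 57), (.ofNat 4, 58), (.ofNat 35, 61), (.negSucc 99, 66), (.negSucc 67, 74), (.negSucc 10, 75),
  (.negSucc 111, 79), (.ofNat 52, 81), (.ofNat 3, 82), (.ofNat 41, 84), (.ofNat 138, 85), (.ofNat 70, 92), (.negSucc
  38, 93), (.ofNat 40, 95), (.negSucc 79, 96), (.negSucc 179, 97), (.ofNat 38, 98)])])

/-- a candidate -/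
def c116 : ℕ × ℕ × List Step :=
  (100776960000, 45, [(0, 0, .ofNat 9, 0, [(.negSucc 1, 6), (.ofNat 2, 10), (.negSucc 1, 11), (.ofNat 2, 13), (.ofNat
  2, 16), (.negSucc 1, 18), (.ofNat 2, 21), (.ofNat 2, 22), (.ofNat 2, 26), (.ofNat 2, 29), (.negSucc 1, 34),
  (.negSucc 1, 35), (.ofNat 4, 37), (.negSucc 1, 40), (.negSucc 1, 43), (.ofNat 2, 45), (.negSucc 1, 53), (.ofNat 2,
  55), (.negSucc 3, 56), (.ofNat 2, 61), (.ofNat 2, 69), (.negSucc 1, 72), (.negSucc 1, 74), (.negSucc 1, 79),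
  (.ofNat 2, 80), (.ofNat 2, 81), (.ofNat 2, 92), (.negSucc 1, 96), (.negSucc 2, 97)])])

/-- a candidate -/
def c117 : ℕ × ℕ × List Step :=
  (100776960000, 135, [(0, 0, .ofNat 9, 0, [(.negSucc 1, 6), (.ofNat 2, 10), (.negSucc 1, 11), (.ofNat 2, 13),
  (.ofNat 2, 16), (.negSucc 1, 18), (.ofNat 2, 21), (.ofNat 2, 22), (.ofNat 2, 26), (.ofNat 2, 29), (.negSucc 1, 34),
  (.negSucc 1, 35), (.ofNat 4, 37), (.negSucc 1, 40), (.negSucc 1, 43), (.ofNat 2, 45), (.negSucc 1, 53), (.ofNat 2,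
  55), (.negSucc 3, 56), (.ofNat 2, 61), (.ofNat 2, 69), (.negSucc 1, 72), (.negSucc 1, 74), (.negSucc 1, 79),
  (.ofNat 2, 80), (.ofNat 2, 81), (.ofNat 2, 92), (.negSucc 1, 96), (.negSucc 2, 97)])])

/-- a candidate -/
def c118 : ℕ × ℕ × List Step :=
  (119439360000, 5, [(0, 0, .ofNat 9, 0, [(.negSucc 1, 6), (.ofNat 2, 10), (.negSucc 1, 11), (.ofNat 2, 13), (.ofNat
  2, 16), (.negSucc 1, 18), (.ofNat 2, 21), (.ofNat 2, 22), (.ofNat 2, 26), (.ofNat 2, 29), (.negSucc 1, 34),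
  (.negSucc 1, 35), (.ofNat 4, 37), (.negSucc 1, 40), (.negSucc 1, 43), (.ofNat 2, 45), (.negSucc 1, 53), (.ofNat 2,
  55), (.negSucc 3, 56), (.ofNat 2, 61), (.ofNat 2, 69), (.negSucc 1, 72), (.negSucc 1, 74), (.negSucc 1, 79),
  (.ofNat 2, 80), (.ofNat 2, 81), (.ofNat 2, 92), (.negSucc 1, 96), (.negSucc 2, 97)])])

/-- a candidate -/
def c119 : ℕ × ℕ × List Step :=
  (119439360000, 25, [(0, 0, .ofNat 2187, 0, [(.ofNat 4, 3), (.ofNat 29, 4), (.ofNat 104, 8), (.ofNat 1208, 10),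
  (.ofNat 131, 13), (.ofNat 73, 14), (.ofNat 781, 16), (.ofNat 113, 17), (.negSucc 567, 18), (.negSucc 73, 20),
  (.ofNat 831, 22), (.negSucc 81, 24), (.negSucc 24, 25), (.negSucc 14, 27), (.ofNat 34, 31), (.ofNat 1127, 33),
  (.negSucc 634, 34), (.negSucc 113, 35), (.ofNat 134, 36), (.ofNat 1352, 37), (.ofNat 15, 39), (.negSucc 1194, 40),
  (.negSucc 35, 41), (.negSucc 255, 43), (.negSucc 30, 44), (.ofNat 284, 45), (.negSucc 34, 47), (.negSucc 16, 48),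
  (.ofNat 119, 49), (.negSucc 34, 51), (.negSucc 667, 53), (.negSucc 15, 54), (.negSucc 1511, 56), (.negSucc 90, 57),
  (.negSucc 10, 58), (.ofNat 5, 59), (.ofNat 769, 61), (.negSucc 58, 62), (.ofNat 570, 68), (.ofNat 747, 69),
  (.negSucc 1362, 72), (.ofNat 7, 73), (.negSucc 79, 74), (.negSucc 89, 79), (.ofNat 107, 80), (.ofNat 573, 81),
  (.negSucc 31, 82), (.ofNat 30, 83), (.negSucc 2, 84), (.ofNat 34, 85), (.ofNat 26, 87), (.negSucc 19, 88), (.ofNat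
  571, 92), (.negSucc 458, 94), (.ofNat 29, 95), (.negSucc 100, 96), (.negSucc 619, 97)])])

/-- a candidate -/
def c120 : ℕ × ℕ × List Step :=
  (123451776000, 21, [(0, 0, .ofNat 243, 0, [(.ofNat 66, 2), (.negSucc 43, 5), (.negSucc 43, 6), (.ofNat 22, 9),
  (.ofNat 44, 10), (.negSucc 43, 11), (.ofNat 22, 12), (.negSucc 21, 17), (.negSucc 21, 18), (.ofNat 44, 19), (.ofNat
  44, 21), (.ofNat 44, 23), (.negSucc 21, 24), (.ofNat 22, 29), (.ofNat 44, 30), (.ofNat 22, 31), (.negSucc 43, 32),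
  (.negSucc 43, 33), (.ofNat 44, 34), (.negSucc 43, 35), (.negSucc 43, 36), (.negSucc 21, 37), (.negSucc 43, 44),
  (.ofNat 66, 50), (.ofNat 44, 52), (.ofNat 44, 55), (.ofNat 88, 56), (.negSucc 21, 57), (.ofNat 22, 64), (.negSucc
  43, 71), (.ofNat 44, 72), (.negSucc 43, 74), (.negSucc 21, 75), (.negSucc 43, 79), (.ofNat 66, 85), (.negSucc 21,
  90), (.ofNat 44, 92), (.negSucc 21, 93), (.negSucc 21, 96), (.negSucc 65, 97)])])

/-- a candidate -/
def c121 : ℕ × ℕ × List Step :=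
  (123451776000, 63, [(0, 0, .ofNat 243, 0, [(.ofNat 66, 2), (.negSucc 43, 5), (.negSucc 43, 6), (.ofNat 22, 9),
  (.ofNat 44, 10), (.negSucc 43, 11), (.ofNat 22, 12), (.negSucc 21, 17), (.negSucc 21, 18), (.ofNat 44, 19), (.ofNat
  44, 21), (.ofNat 44, 23), (.negSucc 21, 24), (.ofNat 22, 29), (.ofNat 44, 30), (.ofNat 22, 31), (.negSucc 43, 32),
  (.negSucc 43, 33), (.ofNat 44, 34), (.negSucc 43, 35), (.negSucc 43, 36), (.negSucc 21, 37), (.negSucc 43, 44),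
  (.ofNat 66, 50), (.ofNat 44, 52), (.ofNat 44, 55), (.ofNat 88, 56), (.negSucc 21, 57), (.ofNat 22, 64), (.negSucc
  43, 71), (.ofNat 44, 72), (.negSucc 43, 74), (.negSucc 21, 75), (.negSucc 43, 79), (.ofNat 66, 85), (.negSucc 21,
  90), (.ofNat 44, 92), (.negSucc 21, 93), (.negSucc 21, 96), (.negSucc 65, 97)])])

/-- a candidate -/
def c122 : ℕ × ℕ × List Step :=
  (129392640000, 13, [(0, 0, .ofNat 729, 0, [(.ofNat 77, 5), (.negSucc 239, 6), (.ofNat 7, 8), (.negSucc 90, 11),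
  (.ofNat 9, 12), (.ofNat 85, 16), (.ofNat 46, 19), (.ofNat 61, 22), (.ofNat 115, 23), (.negSucc 224, 32), (.ofNat
  158, 34), (.negSucc 236, 35), (.ofNat 45, 37), (.negSucc 57, 40), (.negSucc 156, 41), (.negSucc 35, 43), (.negSucc
  67, 44), (.ofNat 11, 50), (.ofNat 35, 52), (.negSucc 173, 53), (.ofNat 77, 55), (.negSucc 17, 57), (.ofNat 3, 58),
  (.ofNat 21, 60), (.negSucc 37, 65), (.negSucc 50, 68), (.ofNat 184, 69), (.negSucc 39, 71), (.negSucc 86, 74),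
  (.negSucc 145, 79), (.ofNat 33, 84), (.ofNat 58, 85), (.ofNat 42, 92), (.negSucc 103, 97), (.ofNat 14, 98)])])

/-- a candidate -/
def c123 : ℕ × ℕ × List Step :=
  (208089907200, 7, [(0, 0, .ofNat 729, 0, [(.negSucc 142, 1), (.negSucc 125, 5), (.negSucc 148, 6), (.ofNat 7, 7),
  (.ofNat 114, 8), (.ofNat 33, 9), (.ofNat 129, 10), (.negSucc 120, 11), (.ofNat 19, 13), (.negSucc 46, 15), (.ofNat
  92, 16), (.negSucc 14, 17), (.negSucc 11, 18), (.ofNat 37, 19), (.ofNat 120, 22), (.ofNat 172, 23), (.negSucc 5,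
  25), (.negSucc 102, 26), (.ofNat 84, 29), (.ofNat 109, 30), (.negSucc 114, 32), (.negSucc 101, 33), (.negSucc 137,
  35), (.negSucc 75, 37), (.negSucc 59, 41), (.ofNat 20, 42), (.negSucc 22, 44), (.ofNat 58, 50), (.ofNat 20, 52),
  (.ofNat 212, 56), (.negSucc 142, 57), (.negSucc 137, 61), (.ofNat 24, 64), (.negSucc 5, 67), (.ofNat 138, 72),
  (.negSucc 106, 74), (.negSucc 27, 75), (.negSucc 121, 79), (.ofNat 27, 85), (.ofNat 40, 89), (.ofNat 132, 92),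
  (.negSucc 114, 93), (.ofNat 91, 95), (.negSucc 32, 96), (.negSucc 173, 97), (.ofNat 69, 98)])])

/-- a candidate -/
def c124 : ℕ × ℕ × List Step :=
  (208089907200, 14, [(0, 0, .ofNat 729, 0, [(.negSucc 126, 1), (.negSucc 172, 5), (.negSucc 241, 6), (.ofNat 110,
  8), (.ofNat 8, 9), (.ofNat 155, 10), (.negSucc 61, 15), (.ofNat 98, 16), (.ofNat 14, 19), (.ofNat 140, 22), (.ofNat
  86, 23), (.negSucc 96, 26), (.ofNat 158, 30), (.ofNat 49, 31), (.negSucc 80, 32), (.negSucc 97, 33), (.negSucc 144,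
  35), (.negSucc 4, 37), (.ofNat 19, 38), (.negSucc 55, 39), (.negSucc 130, 41), (.ofNat 5, 42), (.negSucc 6, 48),
  (.ofNat 91, 49), (.ofNat 49, 50), (.ofNat 47, 52), (.negSucc 2, 55), (.ofNat 278, 56), (.negSucc 132, 57), (.ofNat
  14, 60), (.negSucc 131, 61), (.ofNat 25, 64), (.negSucc 13, 67), (.ofNat 185, 72), (.negSucc 87, 74), (.negSucc
  135, 79), (.negSucc 15, 82), (.ofNat 26, 85), (.ofNat 72, 86), (.negSucc 8, 88), (.ofNat 46, 89), (.ofNat 142, 92),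
  (.negSucc 112, 93), (.ofNat 143, 95), (.negSucc 94, 96), (.negSucc 175, 97), (.ofNat 65, 98)])])

/-- a candidate -/
def c125 : ℕ × ℕ × List Step :=
  (219469824000, 7, [(0, 0, .ofNat 729, 0, [(.negSucc 137, 5), (.negSucc 122, 6), (.ofNat 127, 8), (.ofNat 57, 9),
  (.ofNat 126, 10), (.negSucc 126, 11), (.ofNat 9, 12), (.ofNat 146, 13), (.negSucc 5, 15), (.ofNat 103, 16),
  (.negSucc 66, 17), (.negSucc 46, 18), (.ofNat 32, 19), (.negSucc 13, 20), (.ofNat 122, 22), (.ofNat 50, 23),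
  (.negSucc 9, 24), (.negSucc 129, 26), (.ofNat 83, 29), (.ofNat 115, 30), (.ofNat 63, 31), (.negSucc 113, 32),
  (.negSucc 115, 33), (.negSucc 126, 35), (.negSucc 72, 41), (.ofNat 30, 42), (.negSucc 10, 43), (.negSucc 93, 44),
  (.ofNat 161, 50), (.ofNat 83, 52), (.ofNat 240, 56), (.negSucc 80, 57), (.negSucc 151, 61), (.ofNat 4, 64),
  (.negSucc 4, 67), (.ofNat 108, 72), (.negSucc 132, 74), (.negSucc 43, 75), (.negSucc 111, 79), (.negSucc 3, 84),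
  (.ofNat 124, 85), (.ofNat 8, 87), (.ofNat 109, 92), (.negSucc 67, 93), (.ofNat 22, 95), (.negSucc 93, 96),
  (.negSucc 174, 97), (.ofNat 28, 98)])])

/-- a candidate -/
def c126 : ℕ × ℕ × List Step :=
  (223590481920, 13, [(0, 0, .ofNat 2187, 0, [(.negSucc 37, 7), (.ofNat 141, 8), (.ofNat 50, 12), (.negSucc 336, 13),
  (.ofNat 301, 16), (.negSucc 313, 17), (.ofNat 156, 18), (.ofNat 214, 19), (.negSucc 133, 20), (.ofNat 236, 22),
  (.ofNat 339, 23), (.negSucc 448, 26), (.ofNat 63, 27), (.ofNat 289, 31), (.negSucc 563, 32), (.ofNat 564, 34),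
  (.negSucc 134, 35), (.ofNat 188, 36), (.ofNat 31, 39), (.negSucc 423, 41), (.ofNat 85, 42), (.negSucc 241, 43),
  (.negSucc 528, 44), (.ofNat 46, 49), (.ofNat 325, 50), (.ofNat 351, 52), (.negSucc 409, 53), (.ofNat 407, 56),
  (.negSucc 563, 57), (.ofNat 75, 61), (.negSucc 47, 65), (.negSucc 156, 67), (.ofNat 446, 69), (.negSucc 136, 71),
  (.negSucc 147, 72), (.negSucc 106, 74), (.negSucc 175, 75), (.negSucc 237, 79), (.negSucc 123, 82), (.ofNat 643,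
  85), (.ofNat 106, 87), (.negSucc 187, 90), (.negSucc 160, 93), (.negSucc 92, 97), (.ofNat 96, 98)])])

/-- a candidate -/
def c127 : ℕ × ℕ × List Step :=
  (268738560000, 5, [(0, 0, .ofNat 9, 0, [(.negSucc 1, 6), (.ofNat 2, 10), (.negSucc 1, 11), (.ofNat 2, 13), (.ofNat
  2, 16), (.negSucc 1, 18), (.ofNat 2, 21), (.ofNat 2, 22), (.ofNat 2, 26), (.ofNat 2, 29), (.negSucc 1, 34),
  (.negSucc 1, 35), (.ofNat 4, 37), (.negSucc 1, 40), (.negSucc 1, 43), (.ofNat 2, 45), (.negSucc 1, 53), (.ofNat 2,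
  55), (.negSucc 3, 56), (.ofNat 2, 61), (.ofNat 2, 69), (.negSucc 1, 72), (.negSucc 1, 74), (.negSucc 1, 79),
  (.ofNat 2, 80), (.ofNat 2, 81), (.ofNat 2, 92), (.negSucc 1, 96), (.negSucc 2, 97)])])

/-- a candidate -/
def c128 : ℕ × ℕ × List Step :=
  (280921374720, 7, [(0, 0, .ofNat 6561, 0, [(.ofNat 1697, 8), (.ofNat 991, 9), (.ofNat 1313, 10), (.negSucc 208,
  14), (.negSucc 114, 15), (.ofNat 677, 16), (.negSucc 1193, 17), (.ofNat 682, 19), (.ofNat 1320, 22), (.ofNat 236,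
  23), (.negSucc 3431, 26), (.ofNat 39, 29), (.ofNat 551, 30), (.ofNat 1149, 31), (.negSucc 1375, 32), (.negSucc 831,
  33), (.ofNat 1488, 34), (.negSucc 426, 37), (.ofNat 212, 40), (.negSucc 1626, 41), (.ofNat 394, 42), (.negSucc 268,
  43), (.negSucc 1549, 44), (.negSucc 651, 45), (.negSucc 34, 46), (.ofNat 334, 47), (.negSucc 746, 48), (.ofNat 298,
  49), (.ofNat 2477, 50), (.ofNat 831, 52), (.ofNat 945, 53), (.negSucc 56, 54), (.ofNat 3413, 56), (.negSucc 1196,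
  57), (.ofNat 784, 59), (.ofNat 109, 60), (.negSucc 1367, 61), (.negSucc 331, 63), (.ofNat 687, 64), (.negSucc 174,
  65), (.negSucc 534, 67), (.negSucc 549, 73), (.negSucc 826, 74), (.negSucc 229, 75), (.ofNat 195, 77), (.negSucc
  583, 79), (.negSucc 312, 80), (.negSucc 883, 84), (.ofNat 2492, 85), (.ofNat 155, 86), (.ofNat 715, 87), (.negSucc
  30, 90), (.ofNat 224, 91), (.ofNat 1967, 92), (.negSucc 573, 93), (.ofNat 349, 95), (.negSucc 399, 97), (.ofNat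
  474, 98)])])

/-- a candidate -/
def c129 : ℕ × ℕ × List Step :=
  (280921374720, 49, [(0, 0, .ofNat 729, 0, [(.ofNat 69, 3), (.ofNat 18, 10), (.ofNat 70, 12), (.ofNat 22, 14),
  (.ofNat 100, 16), (.negSucc 225, 17), (.ofNat 147, 19), (.negSucc 58, 20), (.ofNat 116, 21), (.negSucc 60, 22),
  (.ofNat 82, 23), (.negSucc 10, 26), (.ofNat 10, 29), (.ofNat 65, 30), (.ofNat 101, 31), (.negSucc 293, 32),
  (.negSucc 37, 33), (.ofNat 155, 34), (.negSucc 111, 35), (.negSucc 5, 40), (.negSucc 150, 44), (.ofNat 27, 49),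
  (.ofNat 105, 50), (.ofNat 15, 51), (.ofNat 98, 52), (.negSucc 88, 54), (.ofNat 50, 55), (.ofNat 268, 56), (.negSucc
  201, 57), (.negSucc 29, 60), (.ofNat 65, 61), (.ofNat 58, 63), (.ofNat 92, 64), (.negSucc 47, 66), (.ofNat 2, 68),
  (.negSucc 117, 71), (.negSucc 84, 74), (.ofNat 12, 76), (.negSucc 24, 78), (.negSucc 86, 79), (.ofNat 24, 80),
  (.negSucc 17, 82), (.ofNat 182, 85), (.negSucc 91, 86), (.ofNat 7, 87), (.negSucc 28, 90), (.ofNat 106, 92),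
  (.negSucc 49, 93), (.ofNat 11, 94), (.ofNat 103, 95), (.negSucc 168, 97)])])

/-- a candidate -/
def c130 : ℕ × ℕ × List Step :=
  (283787919360, 11, [(0, 0, .ofNat 729, 0, [(.negSucc 233, 6), (.negSucc 14, 7), (.ofNat 52, 8), (.negSucc 54, 9),
  (.ofNat 44, 10), (.negSucc 49, 11), (.ofNat 19, 12), (.ofNat 151, 16), (.ofNat 37, 19), (.ofNat 94, 22), (.ofNat
  130, 23), (.negSucc 39, 26), (.ofNat 5, 27), (.negSucc 236, 32), (.ofNat 69, 34), (.negSucc 208, 35), (.ofNat 49,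
  36), (.ofNat 4, 37), (.negSucc 11, 39), (.negSucc 18, 40), (.negSucc 143, 41), (.negSucc 53, 43), (.negSucc 91,
  44), (.ofNat 41, 52), (.negSucc 100, 53), (.ofNat 10, 55), (.negSucc 2, 57), (.ofNat 13, 60), (.ofNat 186, 69),
  (.negSucc 24, 74), (.negSucc 121, 79), (.ofNat 109, 85), (.ofNat 97, 92), (.negSucc 156, 97), (.ofNat 37, 98)])])

/-- a candidate -/
def c131 : ℕ × ℕ × List Step :=
  (289013760000, 7, [(0, 0, .ofNat 729, 0, [(.negSucc 142, 1), (.negSucc 125, 5), (.negSucc 148, 6), (.ofNat 7, 7),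
  (.ofNat 114, 8), (.ofNat 33, 9), (.ofNat 129, 10), (.negSucc 120, 11), (.ofNat 19, 13), (.negSucc 46, 15), (.ofNat
  92, 16), (.negSucc 14, 17), (.negSucc 11, 18), (.ofNat 37, 19), (.ofNat 120, 22), (.ofNat 172, 23), (.negSucc 5,
  25), (.negSucc 102, 26), (.ofNat 84, 29), (.ofNat 109, 30), (.negSucc 114, 32), (.negSucc 101, 33), (.negSucc 137,
  35), (.negSucc 75, 37), (.negSucc 59, 41), (.ofNat 20, 42), (.negSucc 22, 44), (.ofNat 58, 50), (.ofNat 20, 52),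
  (.ofNat 212, 56), (.negSucc 142, 57), (.negSucc 137, 61), (.ofNat 24, 64), (.negSucc 5, 67), (.ofNat 138, 72),
  (.negSucc 106, 74), (.negSucc 27, 75), (.negSucc 121, 79), (.ofNat 27, 85), (.ofNat 40, 89), (.ofNat 132, 92),
  (.negSucc 114, 93), (.ofNat 91, 95), (.negSucc 32, 96), (.negSucc 173, 97), (.ofNat 69, 98)])])

/-- a candidate -/
def c132 : ℕ × ℕ × List Step :=
  (289013760000, 35, [(0, 0, .ofNat 2187, 0, [(.negSucc 1093, 6), (.negSucc 1092, 11), (.ofNat 1093, 13), (.ofNat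
  1093, 26), (.ofNat 1094, 29), (.negSucc 1093, 33), (.negSucc 1093, 35), (.negSucc 1093, 36), (.ofNat 1094, 45),
  (.ofNat 1094, 55), (.ofNat 1094, 66), (.negSucc 1093, 68), (.ofNat 1094, 72), (.negSucc 1092, 74), (.negSucc 1093,
  79), (.ofNat 1093, 80), (.ofNat 1093, 94), (.negSucc 1093, 96), (.negSucc 546, 97)])])

/-- a candidate -/
def c133 : ℕ × ℕ × List Step :=
  (318504960000, 5, [(0, 0, .ofNat 9, 0, [(.negSucc 1, 6), (.ofNat 2, 10), (.negSucc 1, 11), (.ofNat 2, 13), (.ofNat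
  2, 16), (.negSucc 1, 18), (.ofNat 2, 21), (.ofNat 2, 22), (.ofNat 2, 26), (.ofNat 2, 29), (.negSucc 1, 34),
  (.negSucc 1, 35), (.ofNat 4, 37), (.negSucc 1, 40), (.negSucc 1, 43), (.ofNat 2, 45), (.negSucc 1, 53), (.ofNat 2,
  55), (.negSucc 3, 56), (.ofNat 2, 61), (.ofNat 2, 69), (.negSucc 1, 72), (.negSucc 1, 74), (.negSucc 1, 79),
  (.ofNat 2, 80), (.ofNat 2, 81), (.ofNat 2, 92), (.negSucc 1, 96), (.negSucc 2, 97)])])

/-- a candidate -/
def c134 : ℕ × ℕ × List Step :=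
  (318504960000, 8, [(0, 0, .ofNat 729, 0, [(.negSucc 234, 6), (.ofNat 17, 8), (.negSucc 48, 9), (.ofNat 67, 10),
  (.negSucc 72, 11), (.ofNat 5, 12), (.ofNat 121, 16), (.negSucc 20, 18), (.ofNat 21, 19), (.ofNat 75, 22), (.ofNat
  114, 23), (.ofNat 6, 27), (.negSucc 214, 32), (.ofNat 59, 34), (.negSucc 231, 35), (.ofNat 34, 37), (.negSucc 30,
  40), (.negSucc 153, 41), (.negSucc 45, 43), (.negSucc 57, 44), (.negSucc 5, 51), (.ofNat 39, 52), (.negSucc 100,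
  53), (.ofNat 63, 55), (.ofNat 9, 56), (.ofNat 8, 60), (.ofNat 179, 69), (.negSucc 19, 71), (.negSucc 54, 74),
  (.ofNat 10, 76), (.negSucc 137, 79), (.ofNat 89, 85), (.ofNat 117, 92), (.negSucc 20, 96), (.negSucc 159, 97),
  (.ofNat 20, 98)])])

/-- a candidate -/
def c135 : ℕ × ℕ × List Step :=
  (318504960000, 10, [(0, 0, .ofNat 729, 0, [(.negSucc 10, 1), (.ofNat 17, 3), (.ofNat 5, 4), (.ofNat 2, 5),
  (.negSucc 317, 6), (.ofNat 150, 10), (.negSucc 194, 11), (.ofNat 171, 13), (.negSucc 23, 15), (.ofNat 142, 16),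
  (.ofNat 161, 22), (.negSucc 39, 24), (.ofNat 182, 26), (.negSucc 18, 27), (.negSucc 8, 28), (.ofNat 74, 29),
  (.negSucc 33, 31), (.negSucc 67, 32), (.negSucc 149, 34), (.negSucc 266, 35), (.ofNat 361, 37), (.negSucc 25, 39),
  (.negSucc 147, 40), (.negSucc 46, 41), (.negSucc 10, 42), (.negSucc 127, 43), (.ofNat 156, 45), (.ofNat 49, 47),
  (.negSucc 17, 48), (.negSucc 14, 49), (.negSucc 22, 51), (.negSucc 148, 53), (.ofNat 163, 55), (.negSucc 307, 56),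
  (.ofNat 22, 57), (.ofNat 22, 69), (.ofNat 34, 71), (.negSucc 33, 72), (.negSucc 154, 74), (.ofNat 61, 78),
  (.negSucc 235, 79), (.ofNat 185, 80), (.ofNat 33, 81), (.negSucc 4, 83), (.negSucc 44, 85), (.ofNat 56, 92),
  (.negSucc 186, 96), (.negSucc 204, 97)])])

/-- a candidate -/
def c136 : ℕ × ℕ × List Step :=
  (318504960000, 20, [(0, 0, .ofNat 2187, 0, [(.ofNat 764, 5), (.negSucc 826, 6), (.negSucc 571, 11), (.ofNat 472,
  13), (.ofNat 391, 16), (.ofNat 250, 17), (.negSucc 16, 20), (.ofNat 472, 22), (.negSucc 323, 24), (.negSucc 25,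
  25), (.ofNat 503, 26), (.negSucc 107, 27), (.ofNat 221, 29), (.negSucc 571, 35), (.ofNat 1122, 37), (.negSucc 599,
  40), (.negSucc 133, 41), (.negSucc 84, 42), (.negSucc 249, 43), (.ofNat 593, 45), (.ofNat 42, 47), (.negSucc 22,
  49), (.negSucc 670, 53), (.ofNat 473, 55), (.negSucc 887, 56), (.ofNat 245, 60), (.ofNat 48, 61), (.negSucc 75,
  63), (.negSucc 34, 65), (.negSucc 95, 67), (.negSucc 602, 68), (.ofNat 442, 69), (.negSucc 18, 70), (.ofNat 324,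
  71), (.negSucc 314, 72), (.negSucc 44, 73), (.negSucc 544, 74), (.negSucc 545, 79), (.ofNat 401, 80), (.ofNat 309,
  81), (.negSucc 24, 82), (.ofNat 167, 84), (.negSucc 305, 85), (.ofNat 18, 86), (.ofNat 194, 89), (.negSucc 42, 91),
  (.ofNat 30, 92), (.ofNat 19, 93), (.ofNat 257, 94), (.ofNat 19, 95), (.negSucc 592, 96), (.negSucc 329, 97)])])

/-- a candidate -/
def c137 : ℕ × ℕ × List Step :=
  (318504960000, 40, [(0, 0, .ofNat 81, 0, [(.ofNat 20, 5), (.negSucc 19, 6), (.negSucc 19, 11), (.ofNat 20, 13),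
  (.ofNat 20, 16), (.ofNat 20, 22), (.ofNat 20, 26), (.ofNat 20, 29), (.negSucc 19, 30), (.negSucc 19, 35), (.ofNat
  40, 37), (.negSucc 19, 40), (.negSucc 19, 43), (.ofNat 20, 45), (.negSucc 19, 53), (.ofNat 20, 55), (.negSucc 39,
  56), (.ofNat 20, 61), (.ofNat 20, 66), (.negSucc 19, 68), (.ofNat 20, 69), (.negSucc 19, 72), (.negSucc 19, 74),
  (.negSucc 19, 79), (.ofNat 20, 80), (.ofNat 20, 81), (.ofNat 20, 94), (.negSucc 19, 96), (.negSucc 9, 97)])])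

/-- a candidate -/
def c138 : ℕ × ℕ × List Step :=
  (390168576000, 7, [(0, 0, .ofNat 2187, 0, [(.ofNat 176, 2), (.negSucc 381, 5), (.negSucc 339, 6), (.ofNat 370, 8),
  (.ofNat 89, 9), (.ofNat 364, 10), (.negSucc 344, 11), (.ofNat 126, 12), (.ofNat 149, 13), (.negSucc 252, 15),
  (.ofNat 277, 16), (.negSucc 321, 17), (.ofNat 352, 22), (.ofNat 224, 23), (.negSucc 158, 24), (.negSucc 617, 26),
  (.negSucc 4, 27), (.negSucc 225, 28), (.ofNat 142, 29), (.ofNat 322, 30), (.ofNat 260, 31), (.negSucc 324, 33),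
  (.negSucc 295, 35), (.negSucc 104, 37), (.negSucc 124, 41), (.ofNat 74, 42), (.negSucc 18, 43), (.negSucc 231, 44),
  (.ofNat 479, 50), (.ofNat 267, 52), (.negSucc 3, 54), (.ofNat 734, 56), (.negSucc 55, 57), (.ofNat 4, 60),
  (.negSucc 397, 61), (.ofNat 36, 62), (.ofNat 79, 64), (.negSucc 39, 67), (.ofNat 334, 72), (.negSucc 370, 74),
  (.negSucc 300, 75), (.negSucc 361, 79), (.ofNat 215, 80), (.ofNat 223, 83), (.ofNat 496, 85), (.ofNat 26, 87),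
  (.ofNat 317, 92), (.negSucc 363, 93), (.negSucc 395, 96), (.negSucc 468, 97), (.ofNat 122, 98)])])

/-- a candidate -/
def c139 : ℕ × ℕ × List Step :=
  (411505920000, 7, [(0, 0, .ofNat 729, 0, [(.negSucc 137, 5), (.negSucc 122, 6), (.ofNat 127, 8), (.ofNat 57, 9),
  (.ofNat 126, 10), (.negSucc 126, 11), (.ofNat 9, 12), (.ofNat 146, 13), (.negSucc 5, 15), (.ofNat 103, 16),
  (.negSucc 66, 17), (.negSucc 46, 18), (.ofNat 32, 19), (.negSucc 13, 20), (.ofNat 122, 22), (.ofNat 50, 23),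
  (.negSucc 9, 24), (.negSucc 129, 26), (.ofNat 83, 29), (.ofNat 115, 30), (.ofNat 63, 31), (.negSucc 113, 32),
  (.negSucc 115, 33), (.negSucc 126, 35), (.negSucc 72, 41), (.ofNat 30, 42), (.negSucc 10, 43), (.negSucc 93, 44),
  (.ofNat 161, 50), (.ofNat 83, 52), (.ofNat 240, 56), (.negSucc 80, 57), (.negSucc 151, 61), (.ofNat 4, 64),
  (.negSucc 4, 67), (.ofNat 108, 72), (.negSucc 132, 74), (.negSucc 43, 75), (.negSucc 111, 79), (.negSucc 3, 84),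
  (.ofNat 124, 85), (.ofNat 8, 87), (.ofNat 109, 92), (.negSucc 67, 93), (.ofNat 22, 95), (.negSucc 93, 96),
  (.negSucc 174, 97), (.ofNat 28, 98)])])

/-- candidates -/
def CL4 : List (ℕ × ℕ × List Step) :=
  [c112, c113, c114, c115, c116, c117, c118, c119, c120, c121, c122, c123, c124, c125, c126, c127, c128, c129, c130,
  c131, c132, c133, c134, c135, c136, c137, c138, c139]

theorem okC4 : okL TAB.Co1.D (TAB.Sm2.mkRows TAB.Co1.RA TAB.Co1.RB) 2 P Z CL4 = true := by decide +kernel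

/-- a candidate -/
def c140 : ℕ × ℕ × List Step :=
  (526727577600, 7, [(0, 0, .ofNat 729, 0, [(.negSucc 265, 5), (.ofNat 116, 8), (.ofNat 198, 10), (.negSucc 36, 14),
  (.negSucc 78, 15), (.ofNat 64, 16), (.negSucc 174, 17), (.ofNat 32, 19), (.ofNat 126, 22), (.negSucc 4, 25),
  (.negSucc 236, 26), (.negSucc 85, 28), (.ofNat 136, 30), (.ofNat 183, 31), (.negSucc 97, 32), (.negSucc 107, 33),
  (.ofNat 13, 34), (.negSucc 19, 35), (.negSucc 0, 37), (.ofNat 5, 38), (.negSucc 197, 41), (.ofNat 26, 42),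
  (.negSucc 28, 43), (.negSucc 208, 44), (.ofNat 15, 47), (.ofNat 36, 49), (.ofNat 201, 50), (.negSucc 35, 51),
  (.ofNat 162, 52), (.negSucc 0, 55), (.ofNat 373, 56), (.negSucc 73, 57), (.ofNat 37, 59), (.negSucc 0, 60),
  (.negSucc 87, 61), (.ofNat 35, 68), (.ofNat 87, 72), (.negSucc 109, 74), (.negSucc 15, 75), (.ofNat 11, 77),
  (.negSucc 49, 79), (.ofNat 14, 81), (.negSucc 49, 84), (.ofNat 355, 85), (.ofNat 26, 86), (.ofNat 66, 87), (.ofNat
  39, 91), (.ofNat 183, 92), (.negSucc 81, 93), (.negSucc 104, 97), (.ofNat 38, 98)])])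

/-- a candidate -/
def c141 : ℕ × ℕ × List Step :=
  (573308928000, 4, [(0, 0, .ofNat 729, 0, [(.negSucc 237, 6), (.ofNat 17, 8), (.negSucc 46, 9), (.ofNat 71, 10),
  (.negSucc 73, 11), (.ofNat 17, 12), (.ofNat 118, 16), (.negSucc 21, 18), (.ofNat 29, 19), (.ofNat 79, 22), (.ofNat
  111, 23), (.ofNat 4, 27), (.negSucc 237, 32), (.ofNat 72, 34), (.negSucc 232, 35), (.ofNat 12, 37), (.negSucc 35,
  40), (.negSucc 168, 41), (.negSucc 33, 43), (.negSucc 52, 44), (.ofNat 37, 52), (.negSucc 109, 53), (.ofNat 58,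
  55), (.ofNat 9, 56), (.ofNat 9, 60), (.ofNat 192, 69), (.negSucc 31, 71), (.negSucc 50, 74), (.ofNat 6, 76),
  (.negSucc 134, 79), (.ofNat 81, 85), (.ofNat 117, 92), (.negSucc 157, 97), (.ofNat 17, 98)])])

/-- a candidate -/
def c142 : ℕ × ℕ × List Step :=
  (644972544000, 3, [(0, 0, .ofNat 729, 0, [(.negSucc 171, 6), (.negSucc 11, 7), (.negSucc 6, 8), (.negSucc 25, 9),
  (.ofNat 24, 10), (.negSucc 82, 11), (.ofNat 3, 12), (.ofNat 120, 16), (.negSucc 171, 17), (.negSucc 29, 18),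
  (.ofNat 47, 19), (.ofNat 55, 21), (.ofNat 85, 23), (.ofNat 17, 31), (.negSucc 126, 32), (.ofNat 22, 34), (.negSucc
  178, 35), (.ofNat 154, 37), (.negSucc 26, 39), (.negSucc 27, 40), (.negSucc 14, 41), (.negSucc 39, 43), (.negSucc
  82, 44), (.ofNat 71, 50), (.negSucc 22, 51), (.ofNat 76, 52), (.negSucc 88, 53), (.ofNat 92, 55), (.ofNat 132, 56),
  (.negSucc 61, 57), (.ofNat 46, 61), (.negSucc 79, 66), (.negSucc 0, 68), (.negSucc 12, 71), (.negSucc 68, 74),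
  (.negSucc 12, 75), (.negSucc 120, 79), (.ofNat 67, 81), (.ofNat 45, 84), (.ofNat 128, 85), (.ofNat 89, 92),
  (.negSucc 21, 93), (.ofNat 45, 95), (.negSucc 60, 96), (.negSucc 184, 97), (.ofNat 20, 98)])])

/-- a candidate -/
def c143 : ℕ × ℕ × List Step :=
  (644972544000, 9, [(0, 0, .ofNat 729, 0, [(.negSucc 178, 6), (.negSucc 8, 8), (.negSucc 21, 9), (.ofNat 24, 10),
  (.negSucc 86, 11), (.ofNat 2, 12), (.ofNat 116, 16), (.negSucc 168, 17), (.negSucc 17, 18), (.ofNat 41, 19),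
  (.ofNat 45, 21), (.ofNat 87, 23), (.ofNat 11, 29), (.ofNat 24, 31), (.negSucc 116, 32), (.ofNat 26, 34), (.negSucc
  178, 35), (.ofNat 158, 37), (.negSucc 21, 39), (.negSucc 35, 40), (.negSucc 12, 41), (.negSucc 22, 43), (.negSucc
  91, 44), (.ofNat 3, 47), (.ofNat 79, 50), (.negSucc 15, 51), (.ofNat 80, 52), (.negSucc 91, 53), (.ofNat 97, 55),
  (.ofNat 139, 56), (.negSucc 62, 57), (.ofNat 39, 61), (.negSucc 89, 66), (.negSucc 69, 74), (.negSucc 6, 75),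
  (.negSucc 119, 79), (.ofNat 59, 81), (.ofNat 44, 84), (.ofNat 139, 85), (.ofNat 85, 92), (.negSucc 24, 93), (.ofNat
  41, 95), (.negSucc 79, 96), (.negSucc 184, 97), (.ofNat 27, 98)])])

/-- a candidate -/
def c144 : ℕ × ℕ × List Step :=
  (644972544000, 27, [(0, 0, .ofNat 2187, 0, [(.ofNat 48, 5), (.negSucc 387, 6), (.negSucc 34, 8), (.ofNat 192, 10),
  (.negSucc 449, 11), (.ofNat 355, 16), (.negSucc 554, 17), (.negSucc 44, 18), (.ofNat 131, 19), (.ofNat 56, 21),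
  (.ofNat 168, 22), (.ofNat 334, 23), (.negSucc 165, 24), (.negSucc 7, 27), (.ofNat 107, 29), (.ofNat 46, 31),
  (.negSucc 439, 35), (.ofNat 534, 37), (.negSucc 2, 38), (.negSucc 201, 40), (.negSucc 15, 41), (.negSucc 46, 43),
  (.negSucc 225, 44), (.ofNat 34, 47), (.ofNat 252, 50), (.ofNat 284, 52), (.negSucc 309, 53), (.ofNat 97, 54),
  (.ofNat 388, 55), (.ofNat 333, 56), (.negSucc 169, 57), (.ofNat 80, 61), (.negSucc 84, 63), (.negSucc 114, 66),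
  (.ofNat 14, 70), (.negSucc 302, 74), (.negSucc 112, 75), (.negSucc 308, 79), (.ofNat 328, 81), (.ofNat 15, 82),
  (.ofNat 56, 84), (.ofNat 334, 85), (.ofNat 101, 86), (.negSucc 41, 88), (.ofNat 99, 89), (.ofNat 298, 92),
  (.negSucc 209, 93), (.ofNat 190, 95), (.negSucc 264, 96), (.negSucc 463, 97), (.ofNat 96, 98)])])

/-- a candidate -/
def c145 : ℕ × ℕ × List Step :=
  (655050240000, 13, [(0, 0, .ofNat 729, 0, [(.ofNat 71, 5), (.negSucc 115, 6), (.negSucc 11, 7), (.negSucc 21, 8),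
  (.negSucc 100, 11), (.ofNat 38, 12), (.ofNat 109, 16), (.negSucc 184, 17), (.ofNat 97, 19), (.negSucc 2, 20),
  (.ofNat 3, 22), (.ofNat 82, 23), (.ofNat 10, 29), (.ofNat 30, 31), (.negSucc 148, 32), (.ofNat 129, 34), (.negSucc
  147, 35), (.ofNat 137, 37), (.negSucc 3, 39), (.negSucc 56, 40), (.negSucc 19, 41), (.negSucc 4, 42), (.negSucc 32,
  43), (.negSucc 65, 44), (.ofNat 73, 50), (.ofNat 92, 52), (.negSucc 124, 53), (.ofNat 121, 55), (.ofNat 152, 56),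
  (.negSucc 84, 57), (.ofNat 6, 58), (.ofNat 73, 61), (.negSucc 12, 66), (.negSucc 25, 68), (.negSucc 70, 71),
  (.negSucc 88, 74), (.negSucc 17, 75), (.negSucc 88, 79), (.ofNat 70, 81), (.ofNat 52, 84), (.ofNat 97, 85), (.ofNat
  27, 89), (.negSucc 14, 90), (.ofNat 58, 92), (.negSucc 39, 93), (.ofNat 19, 94), (.ofNat 64, 95), (.negSucc 118,
  97), (.ofNat 2, 98)])])

/-- a candidate -/
def c146 : ℕ × ℕ × List Step :=
  (674211299328, 7, [(0, 0, .ofNat 729, 0, [(.negSucc 153, 1), (.negSucc 128, 5), (.negSucc 153, 6), (.ofNat 46, 8),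
  (.negSucc 91, 9), (.ofNat 95, 10), (.negSucc 188, 11), (.ofNat 104, 13), (.negSucc 114, 15), (.ofNat 61, 16),
  (.ofNat 60, 19), (.ofNat 103, 22), (.ofNat 128, 23), (.ofNat 35, 24), (.negSucc 297, 26), (.ofNat 26, 27), (.ofNat
  94, 30), (.negSucc 95, 33), (.negSucc 186, 35), (.negSucc 54, 37), (.negSucc 12, 39), (.negSucc 0, 41), (.negSucc
  5, 44), (.negSucc 12, 48), (.ofNat 58, 52), (.ofNat 49, 56), (.negSucc 152, 61), (.negSucc 13, 70), (.ofNat 59,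
  72), (.negSucc 129, 74), (.negSucc 1, 75), (.ofNat 1, 76), (.negSucc 75, 79), (.ofNat 35, 85), (.ofNat 18, 89),
  (.ofNat 150, 92), (.negSucc 179, 97), (.ofNat 29, 98)])])

/-- a candidate -/
def c147 : ℕ × ℕ × List Step :=
  (674211299328, 14, [(0, 0, .ofNat 729, 0, [(.negSucc 116, 1), (.ofNat 204, 2), (.negSucc 174, 6), (.ofNat 87, 10),
  (.ofNat 58, 18), (.ofNat 262, 19), (.ofNat 87, 23), (.ofNat 87, 24), (.negSucc 57, 26), (.ofNat 146, 30), (.ofNat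
  58, 31), (.negSucc 174, 33), (.ofNat 204, 34), (.negSucc 116, 35), (.negSucc 86, 36), (.negSucc 28, 39), (.negSucc
  145, 44), (.negSucc 28, 45), (.negSucc 86, 47), (.ofNat 87, 49), (.ofNat 175, 50), (.ofNat 175, 52), (.ofNat 58,
  53), (.ofNat 87, 55), (.ofNat 175, 56), (.negSucc 28, 59), (.ofNat 29, 60), (.negSucc 116, 70), (.negSucc 291, 71),
  (.ofNat 117, 72), (.negSucc 57, 73), (.negSucc 86, 74), (.ofNat 29, 78), (.negSucc 116, 79), (.negSucc 174, 80),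
  (.negSucc 28, 84), (.ofNat 29, 86), (.ofNat 146, 92), (.ofNat 117, 93), (.negSucc 145, 97)])])

/-- a candidate -/
def c148 : ℕ × ℕ × List Step :=
  (690094080000, 13, [(0, 0, .ofNat 729, 0, [(.negSucc 16, 1), (.ofNat 69, 5), (.negSucc 133, 6), (.negSucc 36, 8),
  (.negSucc 131, 11), (.ofNat 20, 12), (.negSucc 11, 13), (.negSucc 101, 15), (.ofNat 77, 16), (.negSucc 200, 17),
  (.ofNat 54, 19), (.ofNat 1, 21), (.ofNat 9, 22), (.ofNat 141, 23), (.negSucc 30, 27), (.ofNat 22, 29), (.ofNat 15,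
  31), (.negSucc 155, 32), (.ofNat 149, 34), (.negSucc 189, 35), (.ofNat 131, 37), (.negSucc 59, 40), (.negSucc 30,
  41), (.negSucc 8, 43), (.negSucc 22, 44), (.ofNat 28, 50), (.ofNat 94, 52), (.negSucc 134, 53), (.ofNat 145, 55),
  (.ofNat 111, 56), (.negSucc 46, 57), (.ofNat 33, 61), (.negSucc 35, 68), (.negSucc 125, 74), (.negSucc 104, 79),
  (.ofNat 74, 81), (.ofNat 8, 84), (.ofNat 98, 85), (.negSucc 17, 90), (.ofNat 53, 92), (.negSucc 40, 93), (.ofNat 4,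
  94), (.negSucc 128, 97)])])

/-- a candidate -/
def c149 : ℕ × ℕ × List Step :=
  (716636160000, 5, [(0, 0, .ofNat 9, 0, [(.negSucc 1, 6), (.ofNat 2, 10), (.negSucc 1, 11), (.ofNat 2, 13), (.ofNat
  2, 16), (.negSucc 1, 18), (.ofNat 2, 21), (.ofNat 2, 22), (.ofNat 2, 26), (.ofNat 2, 29), (.negSucc 1, 34),
  (.negSucc 1, 35), (.ofNat 4, 37), (.negSucc 1, 40), (.negSucc 1, 43), (.ofNat 2, 45), (.negSucc 1, 53), (.ofNat 2,
  55), (.negSucc 3, 56), (.ofNat 2, 61), (.ofNat 2, 69), (.negSucc 1, 72), (.negSucc 1, 74), (.negSucc 1, 79),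
  (.ofNat 2, 80), (.ofNat 2, 81), (.ofNat 2, 92), (.negSucc 1, 96), (.negSucc 2, 97)])])

/-- a candidate -/
def c150 : ℕ × ℕ × List Step :=
  (731566080000, 7, [(0, 0, .ofNat 729, 0, [(.negSucc 137, 5), (.negSucc 122, 6), (.ofNat 127, 8), (.ofNat 57, 9),
  (.ofNat 126, 10), (.negSucc 126, 11), (.ofNat 9, 12), (.ofNat 146, 13), (.negSucc 5, 15), (.ofNat 103, 16),
  (.negSucc 66, 17), (.negSucc 46, 18), (.ofNat 32, 19), (.negSucc 13, 20), (.ofNat 122, 22), (.ofNat 50, 23),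
  (.negSucc 9, 24), (.negSucc 129, 26), (.ofNat 83, 29), (.ofNat 115, 30), (.ofNat 63, 31), (.negSucc 113, 32),
  (.negSucc 115, 33), (.negSucc 126, 35), (.negSucc 72, 41), (.ofNat 30, 42), (.negSucc 10, 43), (.negSucc 93, 44),
  (.ofNat 161, 50), (.ofNat 83, 52), (.ofNat 240, 56), (.negSucc 80, 57), (.negSucc 151, 61), (.ofNat 4, 64),
  (.negSucc 4, 67), (.ofNat 108, 72), (.negSucc 132, 74), (.negSucc 43, 75), (.negSucc 111, 79), (.negSucc 3, 84),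
  (.ofNat 124, 85), (.ofNat 8, 87), (.ofNat 109, 92), (.negSucc 67, 93), (.ofNat 22, 95), (.negSucc 93, 96),
  (.negSucc 174, 97), (.ofNat 28, 98)])])

/-- a candidate -/
def c151 : ℕ × ℕ × List Step :=
  (936404582400, 7, [(0, 0, .ofNat 243, 0, [(.negSucc 40, 1), (.negSucc 55, 5), (.negSucc 80, 6), (.ofNat 37, 8),
  (.ofNat 4, 9), (.ofNat 51, 10), (.negSucc 19, 15), (.ofNat 32, 16), (.ofNat 6, 19), (.ofNat 46, 22), (.ofNat 29,
  23), (.negSucc 31, 26), (.ofNat 52, 30), (.ofNat 17, 31), (.negSucc 27, 32), (.negSucc 32, 33), (.negSucc 47, 35),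
  (.negSucc 0, 37), (.ofNat 6, 38), (.negSucc 16, 39), (.negSucc 43, 41), (.ofNat 2, 42), (.negSucc 2, 44), (.negSucc
  0, 48), (.ofNat 30, 49), (.ofNat 18, 50), (.ofNat 16, 52), (.negSucc 1, 55), (.ofNat 93, 56), (.negSucc 42, 57),
  (.ofNat 6, 60), (.negSucc 43, 61), (.ofNat 10, 64), (.negSucc 4, 67), (.ofNat 62, 72), (.negSucc 28, 74), (.negSucc
  44, 79), (.negSucc 3, 82), (.ofNat 9, 85), (.ofNat 24, 86), (.negSucc 2, 88), (.ofNat 17, 89), (.ofNat 48, 92),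
  (.negSucc 34, 93), (.ofNat 46, 95), (.negSucc 30, 96), (.negSucc 57, 97), (.ofNat 21, 98)])])

/-- a candidate -/
def c152 : ℕ × ℕ × List Step :=
  (955514880000, 2, [(0, 0, .ofNat 729, 0, [(.negSucc 0, 1), (.negSucc 228, 6), (.ofNat 3, 8), (.negSucc 41, 9),
  (.ofNat 64, 10), (.negSucc 75, 11), (.ofNat 21, 12), (.negSucc 31, 15), (.ofNat 125, 16), (.negSucc 29, 18),
  (.ofNat 46, 19), (.ofNat 57, 22), (.ofNat 102, 23), (.negSucc 227, 32), (.ofNat 98, 34), (.negSucc 234, 35),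
  (.ofNat 16, 37), (.negSucc 29, 40), (.negSucc 150, 41), (.negSucc 44, 43), (.negSucc 45, 44), (.ofNat 40, 52),
  (.negSucc 91, 53), (.ofNat 69, 55), (.ofNat 22, 56), (.ofNat 169, 69), (.negSucc 54, 71), (.negSucc 63, 74),
  (.negSucc 5, 75), (.negSucc 137, 79), (.ofNat 67, 85), (.ofNat 100, 92), (.negSucc 161, 97), (.ofNat 10, 98)])])

/-- a candidate -/
def c153 : ℕ × ℕ × List Step :=
  (987614208000, 7, [(0, 0, .ofNat 729, 0, [(.negSucc 142, 1), (.negSucc 127, 5), (.negSucc 145, 6), (.ofNat 10, 7),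
  (.ofNat 110, 8), (.ofNat 36, 9), (.ofNat 131, 10), (.negSucc 120, 11), (.ofNat 26, 13), (.negSucc 51, 15), (.ofNat
  92, 16), (.negSucc 1, 17), (.negSucc 21, 18), (.ofNat 36, 19), (.ofNat 118, 22), (.ofNat 168, 23), (.negSucc 3,
  25), (.negSucc 102, 26), (.ofNat 78, 29), (.ofNat 128, 30), (.negSucc 117, 32), (.negSucc 104, 33), (.negSucc 139,
  35), (.negSucc 71, 37), (.negSucc 56, 41), (.ofNat 15, 42), (.negSucc 21, 44), (.ofNat 49, 50), (.ofNat 20, 52),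
  (.ofNat 208, 56), (.negSucc 142, 57), (.negSucc 135, 61), (.ofNat 22, 64), (.ofNat 137, 72), (.negSucc 110, 74),
  (.negSucc 22, 75), (.ofNat 5, 76), (.negSucc 120, 79), (.ofNat 22, 85), (.ofNat 45, 89), (.ofNat 142, 92),
  (.negSucc 106, 93), (.ofNat 89, 95), (.negSucc 27, 96), (.negSucc 179, 97), (.ofNat 67, 98)])])

/-- a candidate -/
def c154 : ℕ × ℕ × List Step :=
  (1031956070400, 2, [(0, 0, .ofNat 729, 0, [(.negSucc 0, 1), (.negSucc 228, 6), (.ofNat 3, 8), (.negSucc 41, 9),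
  (.ofNat 64, 10), (.negSucc 75, 11), (.ofNat 21, 12), (.negSucc 31, 15), (.ofNat 125, 16), (.negSucc 29, 18),
  (.ofNat 46, 19), (.ofNat 57, 22), (.ofNat 102, 23), (.negSucc 227, 32), (.ofNat 98, 34), (.negSucc 234, 35),
  (.ofNat 16, 37), (.negSucc 29, 40), (.negSucc 150, 41), (.negSucc 44, 43), (.negSucc 45, 44), (.ofNat 40, 52),
  (.negSucc 91, 53), (.ofNat 69, 55), (.ofNat 22, 56), (.ofNat 169, 69), (.negSucc 54, 71), (.negSucc 63, 74),
  (.negSucc 5, 75), (.negSucc 137, 79), (.ofNat 67, 85), (.ofNat 100, 92), (.negSucc 161, 97), (.ofNat 10, 98)])])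

/-- a candidate -/
def c155 : ℕ × ℕ × List Step :=
  (1031956070400, 3, [(0, 0, .ofNat 729, 0, [(.negSucc 50, 1), (.negSucc 140, 6), (.negSucc 48, 9), (.ofNat 55, 10),
  (.negSucc 114, 11), (.negSucc 110, 15), (.ofNat 109, 16), (.negSucc 164, 17), (.negSucc 15, 18), (.ofNat 22, 19),
  (.ofNat 50, 21), (.ofNat 149, 23), (.negSucc 26, 27), (.ofNat 73, 29), (.ofNat 8, 31), (.negSucc 150, 32), (.ofNat
  36, 34), (.negSucc 185, 35), (.ofNat 131, 37), (.negSucc 4, 39), (.negSucc 45, 40), (.negSucc 23, 43), (.negSucc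
  34, 44), (.ofNat 75, 52), (.negSucc 66, 53), (.ofNat 103, 55), (.ofNat 87, 56), (.negSucc 59, 57), (.ofNat 12, 58),
  (.ofNat 5, 60), (.ofNat 39, 61), (.negSucc 9, 66), (.negSucc 118, 74), (.negSucc 120, 79), (.ofNat 11, 80), (.ofNat
  80, 81), (.ofNat 70, 85), (.negSucc 6, 90), (.ofNat 102, 92), (.negSucc 39, 93), (.ofNat 21, 95), (.negSucc 182,
  97), (.ofNat 12, 98)])])

/-- a candidate -/
def c156 : ℕ × ℕ × List Step :=
  (1031956070400, 4, [(0, 0, .ofNat 729, 0, [(.negSucc 231, 6), (.negSucc 10, 7), (.ofNat 15, 8), (.negSucc 50, 9),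
  (.ofNat 71, 10), (.negSucc 74, 11), (.ofNat 25, 12), (.ofNat 120, 16), (.negSucc 26, 18), (.ofNat 40, 19), (.ofNat
  73, 22), (.ofNat 109, 23), (.ofNat 1, 27), (.negSucc 231, 32), (.ofNat 71, 34), (.negSucc 229, 35), (.ofNat 1, 37),
  (.negSucc 36, 40), (.negSucc 161, 41), (.negSucc 45, 43), (.negSucc 57, 44), (.ofNat 27, 52), (.negSucc 105, 53),
  (.ofNat 55, 55), (.ofNat 8, 60), (.ofNat 206, 69), (.negSucc 32, 71), (.negSucc 54, 74), (.ofNat 13, 76), (.negSucc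
  136, 79), (.ofNat 75, 85), (.ofNat 119, 92), (.negSucc 157, 97), (.ofNat 11, 98)])])

/-- a candidate -/
def c157 : ℕ × ℕ × List Step :=
  (1031956070400, 6, [(0, 0, .ofNat 729, 0, [(.negSucc 32, 1), (.negSucc 205, 6), (.negSucc 75, 9), (.ofNat 4, 12),
  (.negSucc 118, 13), (.negSucc 114, 15), (.ofNat 168, 16), (.negSucc 193, 17), (.ofNat 6, 19), (.ofNat 13, 21),
  (.ofNat 167, 23), (.negSucc 26, 27), (.ofNat 24, 31), (.negSucc 230, 32), (.ofNat 53, 34), (.negSucc 150, 35),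
  (.ofNat 111, 37), (.negSucc 38, 41), (.negSucc 46, 43), (.negSucc 82, 44), (.negSucc 2, 47), (.ofNat 9, 50),
  (.ofNat 51, 52), (.negSucc 60, 54), (.ofNat 125, 56), (.negSucc 56, 57), (.ofNat 67, 61), (.ofNat 7, 63), (.ofNat
  56, 64), (.negSucc 32, 66), (.negSucc 59, 74), (.negSucc 23, 75), (.negSucc 22, 77), (.negSucc 141, 79), (.ofNat
  21, 80), (.ofNat 123, 81), (.ofNat 131, 85), (.negSucc 8, 90), (.ofNat 139, 92), (.ofNat 49, 95), (.negSucc 199,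
  97)])])

/-- a candidate -/
def c158 : ℕ × ℕ × List Step :=
  (1031956070400, 8, [(0, 0, .ofNat 81, 0, [(.negSucc 0, 1), (.negSucc 19, 6), (.negSucc 1, 7), (.negSucc 3, 9),
  (.ofNat 3, 10), (.negSucc 8, 11), (.ofNat 13, 16), (.negSucc 18, 17), (.negSucc 1, 18), (.ofNat 5, 19), (.ofNat 7,
  21), (.ofNat 10, 23), (.ofNat 2, 29), (.ofNat 3, 31), (.negSucc 14, 32), (.negSucc 20, 35), (.ofNat 18, 37),
  (.negSucc 3, 39), (.negSucc 2, 40), (.negSucc 1, 41), (.negSucc 3, 43), (.negSucc 9, 44), (.ofNat 6, 50), (.negSucc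
  1, 51), (.ofNat 8, 52), (.negSucc 8, 53), (.ofNat 9, 55), (.ofNat 14, 56), (.negSucc 6, 57), (.ofNat 4, 61),
  (.negSucc 8, 66), (.negSucc 0, 68), (.negSucc 7, 74), (.negSucc 0, 75), (.negSucc 13, 79), (.ofNat 7, 81), (.ofNat
  4, 84), (.ofNat 14, 85), (.ofNat 10, 92), (.negSucc 1, 93), (.ofNat 6, 95), (.negSucc 6, 96), (.negSucc 20, 97),
  (.ofNat 2, 98)])])

/-- a candidate -/
def c159 : ℕ × ℕ × List Step :=
  (1031956070400, 12, [(0, 0, .ofNat 729, 0, [(.negSucc 54, 7), (.negSucc 6, 9), (.ofNat 94, 12), (.negSucc 74, 13),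
  (.ofNat 44, 14), (.ofNat 126, 16), (.negSucc 239, 17), (.ofNat 23, 18), (.ofNat 143, 19), (.negSucc 58, 20),
  (.ofNat 13, 21), (.ofNat 77, 23), (.negSucc 5, 25), (.negSucc 43, 26), (.ofNat 86, 31), (.negSucc 270, 32), (.ofNat
  34, 33), (.ofNat 148, 34), (.negSucc 103, 35), (.ofNat 65, 36), (.ofNat 97, 37), (.negSucc 18, 38), (.negSucc 52,
  40), (.negSucc 46, 43), (.negSucc 169, 44), (.ofNat 27, 49), (.ofNat 136, 50), (.ofNat 16, 51), (.ofNat 58, 52),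
  (.negSucc 124, 53), (.negSucc 42, 54), (.ofNat 19, 55), (.ofNat 144, 56), (.negSucc 173, 57), (.negSucc 12, 60),
  (.ofNat 77, 61), (.ofNat 48, 63), (.ofNat 65, 64), (.negSucc 69, 66), (.negSucc 43, 71), (.negSucc 21, 74),
  (.negSucc 15, 75), (.negSucc 69, 79), (.ofNat 63, 81), (.negSucc 3, 82), (.ofNat 201, 85), (.negSucc 96, 86),
  (.ofNat 5, 88), (.negSucc 29, 90), (.ofNat 34, 92), (.negSucc 21, 93), (.negSucc 137, 97)])])

/-- a candidate -/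
def c160 : ℕ × ℕ × List Step :=
  (1031956070400, 16, [(0, 0, .ofNat 81, 0, [(.negSucc 0, 1), (.negSucc 19, 6), (.negSucc 1, 7), (.negSucc 3, 9),
  (.ofNat 3, 10), (.negSucc 8, 11), (.ofNat 13, 16), (.negSucc 18, 17), (.negSucc 1, 18), (.ofNat 5, 19), (.ofNat 7,
  21), (.ofNat 10, 23), (.ofNat 2, 29), (.ofNat 3, 31), (.negSucc 14, 32), (.negSucc 20, 35), (.ofNat 18, 37),
  (.negSucc 3, 39), (.negSucc 2, 40), (.negSucc 1, 41), (.negSucc 3, 43), (.negSucc 9, 44), (.ofNat 6, 50), (.negSucc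
  1, 51), (.ofNat 8, 52), (.negSucc 8, 53), (.ofNat 9, 55), (.ofNat 14, 56), (.negSucc 6, 57), (.ofNat 4, 61),
  (.negSucc 8, 66), (.negSucc 0, 68), (.negSucc 7, 74), (.negSucc 0, 75), (.negSucc 13, 79), (.ofNat 7, 81), (.ofNat
  4, 84), (.ofNat 14, 85), (.ofNat 10, 92), (.negSucc 1, 93), (.ofNat 6, 95), (.negSucc 6, 96), (.negSucc 20, 97),
  (.ofNat 2, 98)])])

/-- a candidate -/
def c161 : ℕ × ℕ × List Step :=
  (1031956070400, 24, [(0, 0, .ofNat 729, 0, [(.negSucc 54, 7), (.negSucc 6, 9), (.ofNat 94, 12), (.negSucc 74, 13),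
  (.ofNat 44, 14), (.ofNat 126, 16), (.negSucc 239, 17), (.ofNat 23, 18), (.ofNat 143, 19), (.negSucc 58, 20),
  (.ofNat 13, 21), (.ofNat 77, 23), (.negSucc 5, 25), (.negSucc 43, 26), (.ofNat 86, 31), (.negSucc 270, 32), (.ofNat
  34, 33), (.ofNat 148, 34), (.negSucc 103, 35), (.ofNat 65, 36), (.ofNat 97, 37), (.negSucc 18, 38), (.negSucc 52,
  40), (.negSucc 46, 43), (.negSucc 169, 44), (.ofNat 27, 49), (.ofNat 136, 50), (.ofNat 16, 51), (.ofNat 58, 52),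
  (.negSucc 124, 53), (.negSucc 42, 54), (.ofNat 19, 55), (.ofNat 144, 56), (.negSucc 173, 57), (.negSucc 12, 60),
  (.ofNat 77, 61), (.ofNat 48, 63), (.ofNat 65, 64), (.negSucc 69, 66), (.negSucc 43, 71), (.negSucc 21, 74),
  (.negSucc 15, 75), (.negSucc 69, 79), (.ofNat 63, 81), (.negSucc 3, 82), (.ofNat 201, 85), (.negSucc 96, 86),
  (.ofNat 5, 88), (.negSucc 29, 90), (.ofNat 34, 92), (.negSucc 21, 93), (.negSucc 137, 97)])])

/-- a candidate -/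
def c162 : ℕ × ℕ × List Step :=
  (1031956070400, 32, [(0, 0, .ofNat 81, 0, [(.negSucc 0, 1), (.negSucc 19, 6), (.negSucc 1, 7), (.negSucc 3, 9),
  (.ofNat 3, 10), (.negSucc 8, 11), (.ofNat 13, 16), (.negSucc 18, 17), (.negSucc 1, 18), (.ofNat 5, 19), (.ofNat 7,
  21), (.ofNat 10, 23), (.ofNat 2, 29), (.ofNat 3, 31), (.negSucc 14, 32), (.negSucc 20, 35), (.ofNat 18, 37),
  (.negSucc 3, 39), (.negSucc 2, 40), (.negSucc 1, 41), (.negSucc 3, 43), (.negSucc 9, 44), (.ofNat 6, 50), (.negSucc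
  1, 51), (.ofNat 8, 52), (.negSucc 8, 53), (.ofNat 9, 55), (.ofNat 14, 56), (.negSucc 6, 57), (.ofNat 4, 61),
  (.negSucc 8, 66), (.negSucc 0, 68), (.negSucc 7, 74), (.negSucc 0, 75), (.negSucc 13, 79), (.ofNat 7, 81), (.ofNat
  4, 84), (.ofNat 14, 85), (.ofNat 10, 92), (.negSucc 1, 93), (.ofNat 6, 95), (.negSucc 6, 96), (.negSucc 20, 97),
  (.ofNat 2, 98)])])

/-- a candidate -/
def c163 : ℕ × ℕ × List Step :=
  (1031956070400, 48, [(0, 0, .ofNat 729, 0, [(.negSucc 54, 7), (.negSucc 6, 9), (.ofNat 94, 12), (.negSucc 74, 13),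
  (.ofNat 44, 14), (.ofNat 126, 16), (.negSucc 239, 17), (.ofNat 23, 18), (.ofNat 143, 19), (.negSucc 58, 20),
  (.ofNat 13, 21), (.ofNat 77, 23), (.negSucc 5, 25), (.negSucc 43, 26), (.ofNat 86, 31), (.negSucc 270, 32), (.ofNat
  34, 33), (.ofNat 148, 34), (.negSucc 103, 35), (.ofNat 65, 36), (.ofNat 97, 37), (.negSucc 18, 38), (.negSucc 52,
  40), (.negSucc 46, 43), (.negSucc 169, 44), (.ofNat 27, 49), (.ofNat 136, 50), (.ofNat 16, 51), (.ofNat 58, 52),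
  (.negSucc 124, 53), (.negSucc 42, 54), (.ofNat 19, 55), (.ofNat 144, 56), (.negSucc 173, 57), (.negSucc 12, 60),
  (.ofNat 77, 61), (.ofNat 48, 63), (.ofNat 65, 64), (.negSucc 69, 66), (.negSucc 43, 71), (.negSucc 21, 74),
  (.negSucc 15, 75), (.negSucc 69, 79), (.ofNat 63, 81), (.negSucc 3, 82), (.ofNat 201, 85), (.negSucc 96, 86),
  (.ofNat 5, 88), (.negSucc 29, 90), (.ofNat 34, 92), (.negSucc 21, 93), (.negSucc 137, 97)])])

/-- a candidate -/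
def c164 : ℕ × ℕ × List Step :=
  (1031956070400, 96, [(0, 0, .ofNat 729, 0, [(.negSucc 54, 7), (.negSucc 6, 9), (.ofNat 94, 12), (.negSucc 74, 13),
  (.ofNat 44, 14), (.ofNat 126, 16), (.negSucc 239, 17), (.ofNat 23, 18), (.ofNat 143, 19), (.negSucc 58, 20),
  (.ofNat 13, 21), (.ofNat 77, 23), (.negSucc 5, 25), (.negSucc 43, 26), (.ofNat 86, 31), (.negSucc 270, 32), (.ofNat
  34, 33), (.ofNat 148, 34), (.negSucc 103, 35), (.ofNat 65, 36), (.ofNat 97, 37), (.negSucc 18, 38), (.negSucc 52,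
  40), (.negSucc 46, 43), (.negSucc 169, 44), (.ofNat 27, 49), (.ofNat 136, 50), (.ofNat 16, 51), (.ofNat 58, 52),
  (.negSucc 124, 53), (.negSucc 42, 54), (.ofNat 19, 55), (.ofNat 144, 56), (.negSucc 173, 57), (.negSucc 12, 60),
  (.ofNat 77, 61), (.ofNat 48, 63), (.ofNat 65, 64), (.negSucc 69, 66), (.negSucc 43, 71), (.negSucc 21, 74),
  (.negSucc 15, 75), (.negSucc 69, 79), (.ofNat 63, 81), (.negSucc 3, 82), (.ofNat 201, 85), (.negSucc 96, 86),
  (.ofNat 5, 88), (.negSucc 29, 90), (.ofNat 34, 92), (.negSucc 21, 93), (.negSucc 137, 97)])])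

/-- a candidate -/
def c165 : ℕ × ℕ × List Step :=
  (1264146186240, 7, [(0, 0, .ofNat 243, 0, [(.negSucc 53, 1), (.ofNat 56, 2), (.negSucc 52, 5), (.negSucc 54, 6),
  (.ofNat 5, 9), (.ofNat 48, 10), (.negSucc 46, 11), (.ofNat 6, 12), (.negSucc 18, 13), (.negSucc 1, 14), (.negSucc
  21, 15), (.negSucc 16, 17), (.negSucc 11, 18), (.ofNat 23, 19), (.ofNat 48, 21), (.ofNat 64, 23), (.ofNat 30, 29),
  (.ofNat 46, 30), (.negSucc 43, 32), (.negSucc 52, 33), (.ofNat 6, 34), (.negSucc 51, 35), (.negSucc 48, 36),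
  (.negSucc 23, 37), (.negSucc 5, 40), (.negSucc 7, 41), (.negSucc 11, 44), (.ofNat 7, 50), (.negSucc 2, 51), (.ofNat
  16, 52), (.negSucc 1, 53), (.negSucc 3, 54), (.ofNat 46, 55), (.ofNat 81, 56), (.negSucc 52, 57), (.ofNat 1, 60),
  (.ofNat 23, 64), (.negSucc 0, 69), (.negSucc 25, 71), (.ofNat 50, 72), (.negSucc 44, 74), (.negSucc 4, 75),
  (.negSucc 45, 79), (.ofNat 1, 82), (.ofNat 24, 85), (.negSucc 0, 86), (.ofNat 57, 92), (.negSucc 33, 93), (.ofNat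
  46, 95), (.negSucc 11, 96), (.negSucc 74, 97), (.ofNat 21, 98)])])

/-- a candidate -/
def c166 : ℕ × ℕ × List Step :=
  (1264146186240, 21, [(0, 0, .ofNat 2187, 0, [(.ofNat 1312, 2), (.ofNat 437, 9), (.ofNat 437, 12), (.negSucc 874,
  13), (.negSucc 436, 17), (.ofNat 437, 18), (.ofNat 875, 19), (.ofNat 875, 23), (.negSucc 436, 24), (.negSucc 874,
  26), (.negSucc 436, 29), (.ofNat 437, 31), (.negSucc 874, 32), (.ofNat 1750, 34), (.negSucc 436, 37), (.negSucc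
  874, 44), (.negSucc 874, 45), (.ofNat 1312, 50), (.ofNat 875, 52), (.ofNat 1750, 56), (.negSucc 436, 57), (.ofNat
  437, 64), (.negSucc 874, 71), (.negSucc 436, 75), (.negSucc 874, 80), (.ofNat 1312, 85), (.negSucc 436, 90),
  (.negSucc 436, 93), (.ofNat 437, 96)])])

/-- a candidate -/
def c167 : ℕ × ℕ × List Step :=
  (1300561920000, 7, [(0, 0, .ofNat 243, 0, [(.ofNat 66, 2), (.negSucc 43, 5), (.negSucc 43, 6), (.ofNat 22, 9),
  (.ofNat 44, 10), (.negSucc 43, 11), (.ofNat 22, 12), (.negSucc 21, 17), (.negSucc 21, 18), (.ofNat 44, 19), (.ofNat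
  44, 21), (.ofNat 44, 23), (.negSucc 21, 24), (.ofNat 22, 29), (.ofNat 44, 30), (.ofNat 22, 31), (.negSucc 43, 32),
  (.negSucc 43, 33), (.ofNat 44, 34), (.negSucc 43, 35), (.negSucc 43, 36), (.negSucc 21, 37), (.negSucc 43, 44),
  (.ofNat 66, 50), (.ofNat 44, 52), (.ofNat 44, 55), (.ofNat 88, 56), (.negSucc 21, 57), (.ofNat 22, 64), (.negSucc
  43, 71), (.ofNat 44, 72), (.negSucc 43, 74), (.negSucc 21, 75), (.negSucc 43, 79), (.ofNat 66, 85), (.negSucc 21,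
  90), (.ofNat 44, 92), (.negSucc 21, 93), (.negSucc 21, 96), (.negSucc 65, 97)])])

/-- candidates -/
def CL5 : List (ℕ × ℕ × List Step) :=
  [c140, c141, c142, c143, c144, c145, c146, c147, c148, c149, c150, c151, c152, c153, c154, c155, c156, c157, c158,
  c159, c160, c161, c162, c163, c164, c165, c166, c167]

theorem okC5 : okL TAB.Co1.D (TAB.Sm2.mkRows TAB.Co1.RA TAB.Co1.RB) 2 P Z CL5 = true := by decide +kernel

/-- a candidate -/
def c168 : ℕ × ℕ × List Step :=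
  (1300561920000, 49, [(0, 0, .ofNat 2187, 0, [(.negSucc 784, 6), (.negSucc 53, 8), (.ofNat 116, 10), (.negSucc 442,
  11), (.ofNat 93, 12), (.ofNat 75, 16), (.negSucc 332, 17), (.negSucc 10, 18), (.ofNat 353, 19), (.ofNat 338, 21),
  (.ofNat 282, 23), (.ofNat 194, 29), (.ofNat 4, 31), (.negSucc 756, 32), (.negSucc 200, 33), (.ofNat 220, 34),
  (.negSucc 819, 35), (.ofNat 55, 37), (.negSucc 42, 41), (.negSucc 52, 42), (.negSucc 260, 43), (.negSucc 341, 44),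
  (.ofNat 116, 47), (.negSucc 31, 48), (.ofNat 339, 50), (.ofNat 232, 52), (.ofNat 290, 55), (.ofNat 411, 56),
  (.ofNat 3, 60), (.ofNat 56, 61), (.ofNat 202, 64), (.negSucc 116, 66), (.negSucc 255, 71), (.ofNat 216, 72),
  (.negSucc 27, 73), (.negSucc 215, 74), (.negSucc 26, 76), (.negSucc 315, 79), (.ofNat 4, 81), (.ofNat 211, 85),
  (.ofNat 56, 89), (.ofNat 14, 91), (.ofNat 560, 92), (.ofNat 52, 95), (.negSucc 639, 97)])])

/-- a candidate -/
def c169 : ℕ × ℕ × List Step :=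
  (1612431360000, 3, [(0, 0, .ofNat 729, 0, [(.negSucc 1, 4), (.negSucc 181, 6), (.negSucc 16, 7), (.negSucc 7, 8),
  (.negSucc 32, 9), (.ofNat 28, 10), (.negSucc 83, 11), (.ofNat 2, 12), (.ofNat 114, 16), (.negSucc 165, 17),
  (.negSucc 38, 18), (.ofNat 41, 19), (.ofNat 69, 21), (.ofNat 88, 23), (.ofNat 10, 31), (.negSucc 136, 32), (.ofNat
  9, 34), (.negSucc 188, 35), (.ofNat 157, 37), (.negSucc 30, 39), (.negSucc 21, 40), (.negSucc 21, 41), (.negSucc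
  37, 43), (.negSucc 75, 44), (.ofNat 57, 50), (.negSucc 29, 51), (.ofNat 74, 52), (.negSucc 85, 53), (.ofNat 93,
  55), (.ofNat 124, 56), (.negSucc 49, 57), (.ofNat 35, 61), (.negSucc 90, 66), (.negSucc 70, 74), (.negSucc 15, 75),
  (.negSucc 122, 79), (.ofNat 63, 81), (.ofNat 40, 84), (.ofNat 122, 85), (.ofNat 101, 92), (.negSucc 19, 93),
  (.ofNat 43, 95), (.negSucc 54, 96), (.negSucc 192, 97), (.ofNat 19, 98)])])

/-- a candidate -/
def c170 : ℕ × ℕ × List Step :=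
  (1612431360000, 5, [(0, 0, .ofNat 9, 0, [(.negSucc 1, 6), (.ofNat 2, 10), (.negSucc 1, 11), (.ofNat 2, 13), (.ofNat
  2, 16), (.negSucc 1, 18), (.ofNat 2, 21), (.ofNat 2, 22), (.ofNat 2, 26), (.ofNat 2, 29), (.negSucc 1, 34),
  (.negSucc 1, 35), (.ofNat 4, 37), (.negSucc 1, 40), (.negSucc 1, 43), (.ofNat 2, 45), (.negSucc 1, 53), (.ofNat 2,
  55), (.negSucc 3, 56), (.ofNat 2, 61), (.ofNat 2, 69), (.negSucc 1, 72), (.negSucc 1, 74), (.negSucc 1, 79),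
  (.ofNat 2, 80), (.ofNat 2, 81), (.ofNat 2, 92), (.negSucc 1, 96), (.negSucc 2, 97)])])

/-- a candidate -/
def c171 : ℕ × ℕ × List Step :=
  (1612431360000, 15, [(0, 0, .ofNat 9, 0, [(.negSucc 1, 6), (.ofNat 2, 10), (.negSucc 1, 11), (.ofNat 2, 13),
  (.ofNat 2, 16), (.negSucc 1, 18), (.ofNat 2, 21), (.ofNat 2, 22), (.ofNat 2, 26), (.ofNat 2, 29), (.negSucc 1, 34),
  (.negSucc 1, 35), (.ofNat 4, 37), (.negSucc 1, 40), (.negSucc 1, 43), (.ofNat 2, 45), (.negSucc 1, 53), (.ofNat 2,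
  55), (.negSucc 3, 56), (.ofNat 2, 61), (.ofNat 2, 69), (.negSucc 1, 72), (.negSucc 1, 74), (.negSucc 1, 79),
  (.ofNat 2, 80), (.ofNat 2, 81), (.ofNat 2, 92), (.negSucc 1, 96), (.negSucc 2, 97)])])

/-- a candidate -/
def c172 : ℕ × ℕ × List Step :=
  (1612431360000, 25, [(0, 0, .ofNat 9, 0, [(.negSucc 1, 6), (.ofNat 2, 10), (.negSucc 1, 11), (.ofNat 2, 13),
  (.ofNat 2, 16), (.negSucc 1, 18), (.ofNat 2, 21), (.ofNat 2, 22), (.ofNat 2, 26), (.ofNat 2, 29), (.negSucc 1, 34),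
  (.negSucc 1, 35), (.ofNat 4, 37), (.negSucc 1, 40), (.negSucc 1, 43), (.ofNat 2, 45), (.negSucc 1, 53), (.ofNat 2,
  55), (.negSucc 3, 56), (.ofNat 2, 61), (.ofNat 2, 69), (.negSucc 1, 72), (.negSucc 1, 74), (.negSucc 1, 79),
  (.ofNat 2, 80), (.ofNat 2, 81), (.ofNat 2, 92), (.negSucc 1, 96), (.negSucc 2, 97)])])

/-- a candidate -/
def c173 : ℕ × ℕ × List Step :=
  (1612431360000, 75, [(0, 0, .ofNat 3, 0, [(.ofNat 2, 10), (.ofNat 1, 16), (.negSucc 0, 18), (.ofNat 1, 22), (.ofNat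
  2, 33), (.negSucc 0, 34), (.ofNat 2, 37), (.negSucc 1, 40), (.negSucc 0, 53), (.negSucc 1, 56), (.ofNat 1, 61),
  (.negSucc 0, 66), (.ofNat 1, 68), (.ofNat 1, 69), (.negSucc 1, 72), (.ofNat 1, 81), (.ofNat 1, 92), (.negSucc 0,
  94), (.negSucc 0, 97)])])

/-- a candidate -/
def c174 : ℕ × ℕ × List Step :=
  (1676928614400, 13, [(0, 0, .ofNat 729, 0, [(.negSucc 29, 1), (.ofNat 25, 5), (.negSucc 112, 6), (.negSucc 86, 11),
  (.ofNat 20, 12), (.ofNat 138, 16), (.negSucc 191, 17), (.ofNat 97, 19), (.ofNat 85, 23), (.ofNat 13, 29), (.ofNat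
  29, 31), (.negSucc 152, 32), (.ofNat 112, 34), (.negSucc 114, 35), (.ofNat 143, 37), (.negSucc 3, 39), (.negSucc
  45, 40), (.negSucc 12, 41), (.negSucc 3, 42), (.negSucc 44, 43), (.negSucc 101, 44), (.negSucc 0, 47), (.ofNat 90,
  50), (.ofNat 93, 52), (.negSucc 122, 53), (.ofNat 88, 55), (.ofNat 127, 56), (.negSucc 114, 57), (.ofNat 7, 58),
  (.ofNat 102, 61), (.negSucc 29, 68), (.negSucc 95, 71), (.negSucc 77, 74), (.negSucc 34, 75), (.negSucc 110, 79),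
  (.ofNat 87, 81), (.ofNat 46, 84), (.ofNat 105, 85), (.ofNat 24, 89), (.negSucc 0, 90), (.ofNat 44, 92), (.negSucc
  39, 93), (.ofNat 32, 94), (.ofNat 72, 95), (.negSucc 126, 97)])])

/-- a candidate -/
def c175 : ℕ × ℕ × List Step :=
  (1719926784000, 2, [(0, 0, .ofNat 729, 0, [(.negSucc 0, 1), (.negSucc 228, 6), (.ofNat 3, 8), (.negSucc 41, 9),
  (.ofNat 64, 10), (.negSucc 75, 11), (.ofNat 21, 12), (.negSucc 31, 15), (.ofNat 125, 16), (.negSucc 29, 18),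
  (.ofNat 46, 19), (.ofNat 57, 22), (.ofNat 102, 23), (.negSucc 227, 32), (.ofNat 98, 34), (.negSucc 234, 35),
  (.ofNat 16, 37), (.negSucc 29, 40), (.negSucc 150, 41), (.negSucc 44, 43), (.negSucc 45, 44), (.ofNat 40, 52),
  (.negSucc 91, 53), (.ofNat 69, 55), (.ofNat 22, 56), (.ofNat 169, 69), (.negSucc 54, 71), (.negSucc 63, 74),
  (.negSucc 5, 75), (.negSucc 137, 79), (.ofNat 67, 85), (.ofNat 100, 92), (.negSucc 161, 97), (.ofNat 10, 98)])])

/-- a candidate -/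
def c176 : ℕ × ℕ × List Step :=
  (1755758592000, 7, [(0, 0, .ofNat 243, 0, [(.ofNat 66, 2), (.negSucc 43, 5), (.negSucc 43, 6), (.ofNat 22, 9),
  (.ofNat 44, 10), (.negSucc 43, 11), (.ofNat 22, 12), (.negSucc 21, 17), (.negSucc 21, 18), (.ofNat 44, 19), (.ofNat
  44, 21), (.ofNat 44, 23), (.negSucc 21, 24), (.ofNat 22, 29), (.ofNat 44, 30), (.ofNat 22, 31), (.negSucc 43, 32),
  (.negSucc 43, 33), (.ofNat 44, 34), (.negSucc 43, 35), (.negSucc 43, 36), (.negSucc 21, 37), (.negSucc 43, 44),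
  (.ofNat 66, 50), (.ofNat 44, 52), (.ofNat 44, 55), (.ofNat 88, 56), (.negSucc 21, 57), (.ofNat 22, 64), (.negSucc
  43, 71), (.ofNat 44, 72), (.negSucc 43, 74), (.negSucc 21, 75), (.negSucc 43, 79), (.ofNat 66, 85), (.negSucc 21,
  90), (.ofNat 44, 92), (.negSucc 21, 93), (.negSucc 21, 96), (.negSucc 65, 97)])])

/-- a candidate -/
def c177 : ℕ × ℕ × List Step :=
  (2579890176000, 3, [(0, 0, .ofNat 243, 0, [(.negSucc 18, 1), (.negSucc 46, 6), (.negSucc 17, 9), (.ofNat 18, 10),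
  (.negSucc 37, 11), (.negSucc 34, 15), (.ofNat 36, 16), (.negSucc 54, 17), (.negSucc 4, 18), (.ofNat 8, 19), (.ofNat
  17, 21), (.ofNat 50, 23), (.negSucc 6, 27), (.ofNat 24, 29), (.ofNat 3, 31), (.negSucc 50, 32), (.ofNat 10, 34),
  (.negSucc 60, 35), (.ofNat 44, 37), (.negSucc 2, 39), (.negSucc 13, 40), (.negSucc 8, 43), (.negSucc 11, 44),
  (.ofNat 25, 52), (.negSucc 21, 53), (.ofNat 35, 55), (.ofNat 28, 56), (.negSucc 21, 57), (.ofNat 5, 58), (.ofNat 2,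
  60), (.ofNat 12, 61), (.negSucc 4, 66), (.negSucc 38, 74), (.negSucc 39, 79), (.ofNat 4, 80), (.ofNat 27, 81),
  (.ofNat 23, 85), (.negSucc 1, 90), (.ofNat 36, 92), (.negSucc 13, 93), (.ofNat 7, 95), (.negSucc 60, 97), (.ofNat
  4, 98)])])

/-- a candidate -/
def c178 : ℕ × ℕ × List Step :=
  (2866544640000, 2, [(0, 0, .ofNat 729, 0, [(.negSucc 0, 1), (.negSucc 228, 6), (.ofNat 3, 8), (.negSucc 41, 9),
  (.ofNat 64, 10), (.negSucc 75, 11), (.ofNat 21, 12), (.negSucc 31, 15), (.ofNat 125, 16), (.negSucc 29, 18),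
  (.ofNat 46, 19), (.ofNat 57, 22), (.ofNat 102, 23), (.negSucc 227, 32), (.ofNat 98, 34), (.negSucc 234, 35),
  (.ofNat 16, 37), (.negSucc 29, 40), (.negSucc 150, 41), (.negSucc 44, 43), (.negSucc 45, 44), (.ofNat 40, 52),
  (.negSucc 91, 53), (.ofNat 69, 55), (.ofNat 22, 56), (.ofNat 169, 69), (.negSucc 54, 71), (.negSucc 63, 74),
  (.negSucc 5, 75), (.negSucc 137, 79), (.ofNat 67, 85), (.ofNat 100, 92), (.negSucc 161, 97), (.ofNat 10, 98)])])

/-- a candidate -/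
def c179 : ℕ × ℕ × List Step :=
  (2866544640000, 4, [(0, 0, .ofNat 243, 0, [(.negSucc 59, 6), (.negSucc 2, 8), (.negSucc 7, 9), (.ofNat 8, 10),
  (.negSucc 28, 11), (.ofNat 39, 16), (.negSucc 55, 17), (.negSucc 5, 18), (.ofNat 13, 19), (.ofNat 15, 21), (.ofNat
  29, 23), (.ofNat 4, 29), (.ofNat 8, 31), (.negSucc 38, 32), (.ofNat 8, 34), (.negSucc 59, 35), (.ofNat 53, 37),
  (.negSucc 6, 39), (.negSucc 11, 40), (.negSucc 3, 41), (.negSucc 7, 43), (.negSucc 29, 44), (.ofNat 1, 47), (.ofNat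
  26, 50), (.negSucc 4, 51), (.ofNat 27, 52), (.negSucc 30, 53), (.ofNat 33, 55), (.ofNat 46, 56), (.negSucc 20, 57),
  (.ofNat 13, 61), (.negSucc 29, 66), (.negSucc 22, 74), (.negSucc 1, 75), (.negSucc 39, 79), (.ofNat 20, 81),
  (.ofNat 15, 84), (.ofNat 46, 85), (.ofNat 29, 92), (.negSucc 8, 93), (.ofNat 14, 95), (.negSucc 26, 96), (.negSucc
  61, 97), (.ofNat 9, 98)])])

/-- a candidate -/
def c180 : ℕ × ℕ × List Step :=
  (2866544640000, 8, [(0, 0, .ofNat 243, 0, [(.negSucc 59, 6), (.negSucc 2, 8), (.negSucc 7, 9), (.ofNat 8, 10),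
  (.negSucc 28, 11), (.ofNat 39, 16), (.negSucc 55, 17), (.negSucc 5, 18), (.ofNat 13, 19), (.ofNat 15, 21), (.ofNat
  29, 23), (.ofNat 4, 29), (.ofNat 8, 31), (.negSucc 38, 32), (.ofNat 8, 34), (.negSucc 59, 35), (.ofNat 53, 37),
  (.negSucc 6, 39), (.negSucc 11, 40), (.negSucc 3, 41), (.negSucc 7, 43), (.negSucc 29, 44), (.ofNat 1, 47), (.ofNat
  26, 50), (.negSucc 4, 51), (.ofNat 27, 52), (.negSucc 30, 53), (.ofNat 33, 55), (.ofNat 46, 56), (.negSucc 20, 57),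
  (.ofNat 13, 61), (.negSucc 29, 66), (.negSucc 22, 74), (.negSucc 1, 75), (.negSucc 39, 79), (.ofNat 20, 81),
  (.ofNat 15, 84), (.ofNat 46, 85), (.ofNat 29, 92), (.negSucc 8, 93), (.ofNat 14, 95), (.negSucc 26, 96), (.negSucc
  61, 97), (.ofNat 9, 98)])])

/-- a candidate -/
def c181 : ℕ × ℕ × List Step :=
  (2866544640000, 16, [(0, 0, .ofNat 243, 0, [(.negSucc 59, 6), (.negSucc 2, 8), (.negSucc 7, 9), (.ofNat 8, 10),
  (.negSucc 28, 11), (.ofNat 39, 16), (.negSucc 55, 17), (.negSucc 5, 18), (.ofNat 13, 19), (.ofNat 15, 21), (.ofNat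
  29, 23), (.ofNat 4, 29), (.ofNat 8, 31), (.negSucc 38, 32), (.ofNat 8, 34), (.negSucc 59, 35), (.ofNat 53, 37),
  (.negSucc 6, 39), (.negSucc 11, 40), (.negSucc 3, 41), (.negSucc 7, 43), (.negSucc 29, 44), (.ofNat 1, 47), (.ofNat
  26, 50), (.negSucc 4, 51), (.ofNat 27, 52), (.negSucc 30, 53), (.ofNat 33, 55), (.ofNat 46, 56), (.negSucc 20, 57),
  (.ofNat 13, 61), (.negSucc 29, 66), (.negSucc 22, 74), (.negSucc 1, 75), (.negSucc 39, 79), (.ofNat 20, 81),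
  (.ofNat 15, 84), (.ofNat 46, 85), (.ofNat 29, 92), (.negSucc 8, 93), (.ofNat 14, 95), (.negSucc 26, 96), (.negSucc
  61, 97), (.ofNat 9, 98)])])

/-- a candidate -/
def c182 : ℕ × ℕ × List Step :=
  (3121348608000, 7, [(0, 0, .ofNat 243, 0, [(.negSucc 53, 1), (.ofNat 56, 2), (.negSucc 52, 5), (.negSucc 54, 6),
  (.ofNat 5, 9), (.ofNat 48, 10), (.negSucc 46, 11), (.ofNat 6, 12), (.negSucc 18, 13), (.negSucc 1, 14), (.negSucc
  21, 15), (.negSucc 16, 17), (.negSucc 11, 18), (.ofNat 23, 19), (.ofNat 48, 21), (.ofNat 64, 23), (.ofNat 30, 29),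
  (.ofNat 46, 30), (.negSucc 43, 32), (.negSucc 52, 33), (.ofNat 6, 34), (.negSucc 51, 35), (.negSucc 48, 36),
  (.negSucc 23, 37), (.negSucc 5, 40), (.negSucc 7, 41), (.negSucc 11, 44), (.ofNat 7, 50), (.negSucc 2, 51), (.ofNat
  16, 52), (.negSucc 1, 53), (.negSucc 3, 54), (.ofNat 46, 55), (.ofNat 81, 56), (.negSucc 52, 57), (.ofNat 1, 60),
  (.ofNat 23, 64), (.negSucc 0, 69), (.negSucc 25, 71), (.ofNat 50, 72), (.negSucc 44, 74), (.negSucc 4, 75),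
  (.negSucc 45, 79), (.ofNat 1, 82), (.ofNat 24, 85), (.negSucc 0, 86), (.ofNat 57, 92), (.negSucc 33, 93), (.ofNat
  46, 95), (.negSucc 11, 96), (.negSucc 74, 97), (.ofNat 21, 98)])])

/-- a candidate -/
def c183 : ℕ × ℕ × List Step :=
  (3121348608000, 14, [(0, 0, .ofNat 2187, 0, [(.negSucc 522, 1), (.ofNat 567, 2), (.negSucc 494, 5), (.negSucc 544,
  6), (.ofNat 38, 9), (.ofNat 423, 10), (.negSucc 427, 11), (.ofNat 79, 12), (.negSucc 162, 13), (.negSucc 10, 14),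
  (.negSucc 153, 15), (.negSucc 205, 17), (.ofNat 138, 19), (.ofNat 379, 21), (.ofNat 541, 23), (.ofNat 235, 29),
  (.ofNat 396, 30), (.ofNat 11, 31), (.negSucc 387, 32), (.negSucc 406, 33), (.negSucc 481, 35), (.negSucc 437, 36),
  (.negSucc 140, 37), (.negSucc 12, 40), (.negSucc 75, 41), (.negSucc 100, 44), (.ofNat 2, 49), (.ofNat 109, 50),
  (.negSucc 11, 51), (.ofNat 185, 52), (.negSucc 54, 54), (.ofNat 413, 55), (.ofNat 794, 56), (.negSucc 523, 57),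
  (.ofNat 2, 58), (.ofNat 10, 60), (.ofNat 100, 64), (.negSucc 84, 69), (.negSucc 317, 71), (.ofNat 499, 72),
  (.negSucc 431, 74), (.negSucc 62, 75), (.negSucc 424, 79), (.ofNat 125, 85), (.ofNat 410, 92), (.negSucc 435, 93),
  (.ofNat 501, 95), (.negSucc 156, 96), (.negSucc 686, 97), (.ofNat 212, 98)])])

/-- a candidate -/
def c184 : ℕ × ℕ × List Step :=
  (3121348608000, 28, [(0, 0, .ofNat 2187, 0, [(.ofNat 639, 2), (.ofNat 139, 3), (.negSucc 460, 5), (.negSucc 539,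
  6), (.ofNat 445, 10), (.negSucc 502, 11), (.ofNat 7, 12), (.negSucc 185, 15), (.negSucc 9, 16), (.negSucc 241, 17),
  (.ofNat 34, 19), (.ofNat 419, 21), (.ofNat 630, 23), (.negSucc 259, 24), (.negSucc 56, 27), (.negSucc 38, 28),
  (.ofNat 226, 29), (.ofNat 455, 30), (.ofNat 160, 31), (.negSucc 475, 33), (.negSucc 18, 34), (.negSucc 446, 35),
  (.negSucc 508, 36), (.negSucc 174, 37), (.negSucc 5, 40), (.negSucc 17, 41), (.negSucc 216, 44), (.ofNat 293, 50),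
  (.ofNat 375, 52), (.ofNat 470, 55), (.ofNat 682, 56), (.negSucc 149, 57), (.negSucc 14, 61), (.ofNat 28, 62),
  (.negSucc 24, 63), (.ofNat 171, 64), (.negSucc 0, 65), (.ofNat 11, 66), (.ofNat 135, 70), (.negSucc 153, 71),
  (.ofNat 499, 72), (.negSucc 443, 74), (.negSucc 21, 75), (.ofNat 8, 76), (.negSucc 459, 79), (.ofNat 311, 80),
  (.ofNat 753, 85), (.negSucc 24, 90), (.ofNat 414, 92), (.negSucc 438, 93), (.ofNat 30, 94), (.negSucc 648, 96),
  (.negSucc 691, 97), (.ofNat 311, 98)])])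

/-- a candidate -/
def c185 : ℕ × ℕ × List Step :=
  (3292047360000, 7, [(0, 0, .ofNat 243, 0, [(.ofNat 66, 2), (.negSucc 43, 5), (.negSucc 43, 6), (.ofNat 22, 9),
  (.ofNat 44, 10), (.negSucc 43, 11), (.ofNat 22, 12), (.negSucc 21, 17), (.negSucc 21, 18), (.ofNat 44, 19), (.ofNat
  44, 21), (.ofNat 44, 23), (.negSucc 21, 24), (.ofNat 22, 29), (.ofNat 44, 30), (.ofNat 22, 31), (.negSucc 43, 32),
  (.negSucc 43, 33), (.ofNat 44, 34), (.negSucc 43, 35), (.negSucc 43, 36), (.negSucc 21, 37), (.negSucc 43, 44),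
  (.ofNat 66, 50), (.ofNat 44, 52), (.ofNat 44, 55), (.ofNat 88, 56), (.negSucc 21, 57), (.ofNat 22, 64), (.negSucc
  43, 71), (.ofNat 44, 72), (.negSucc 43, 74), (.negSucc 21, 75), (.negSucc 43, 79), (.ofNat 66, 85), (.negSucc 21,
  90), (.ofNat 44, 92), (.negSucc 21, 93), (.negSucc 21, 96), (.negSucc 65, 97)])])

/-- a candidate -/
def c186 : ℕ × ℕ × List Step :=
  (3292047360000, 35, [(0, 0, .ofNat 243, 0, [(.negSucc 80, 5), (.negSucc 80, 6), (.ofNat 81, 10), (.negSucc 80, 11),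
  (.ofNat 81, 13), (.negSucc 80, 18), (.ofNat 81, 21), (.ofNat 81, 26), (.ofNat 81, 29), (.ofNat 81, 30), (.negSucc
  80, 33), (.negSucc 80, 34), (.negSucc 80, 35), (.negSucc 80, 36), (.ofNat 81, 45), (.ofNat 81, 55), (.ofNat 81,
  72), (.negSucc 80, 74), (.negSucc 80, 79), (.ofNat 81, 80), (.ofNat 81, 92), (.negSucc 80, 96), (.negSucc 121,
  97)])])

/-- a candidate -/
def c187 : ℕ × ℕ × List Step :=
  (3292047360000, 49, [(0, 0, .ofNat 243, 0, [(.negSucc 80, 5), (.negSucc 80, 6), (.ofNat 81, 10), (.negSucc 80, 11),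
  (.ofNat 81, 13), (.negSucc 80, 18), (.ofNat 81, 21), (.ofNat 81, 26), (.ofNat 81, 29), (.ofNat 81, 30), (.negSucc
  80, 33), (.negSucc 80, 34), (.negSucc 80, 35), (.negSucc 80, 36), (.ofNat 81, 45), (.ofNat 81, 55), (.ofNat 81,
  72), (.negSucc 80, 74), (.negSucc 80, 79), (.ofNat 81, 80), (.ofNat 81, 92), (.negSucc 80, 96), (.negSucc 121,
  97)])])

/-- a candidate -/
def c188 : ℕ × ℕ × List Step :=
  (3292047360000, 175, [(0, 0, .ofNat 1, 0, [(.negSucc 0, 5), (.ofNat 1, 10), (.negSucc 0, 18), (.ofNat 1, 21),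
  (.ofNat 1, 30), (.negSucc 0, 34), (.negSucc 0, 66), (.ofNat 1, 68), (.ofNat 1, 92), (.negSucc 0, 94), (.negSucc 0,
  97)])])

/-- a candidate -/
def c189 : ℕ × ℕ × List Step :=
  (3292047360000, 245, [(0, 0, .ofNat 243, 0, [(.negSucc 80, 5), (.negSucc 80, 6), (.ofNat 81, 10), (.negSucc 80,
  11), (.ofNat 81, 13), (.negSucc 80, 18), (.ofNat 81, 21), (.ofNat 81, 26), (.ofNat 81, 29), (.ofNat 81, 30),
  (.negSucc 80, 33), (.negSucc 80, 34), (.negSucc 80, 35), (.negSucc 80, 36), (.ofNat 81, 45), (.ofNat 81, 55),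
  (.ofNat 81, 72), (.negSucc 80, 74), (.negSucc 80, 79), (.ofNat 81, 80), (.ofNat 81, 92), (.negSucc 80, 96),
  (.negSucc 120, 97)])])

/-- a candidate -/
def c190 : ℕ × ℕ × List Step :=
  (3292047360000, 1225, [(0, 0, .ofNat 243, 0, [(.ofNat 81, 3), (.negSucc 80, 5), (.ofNat 81, 10), (.ofNat 81, 13),
  (.ofNat 81, 14), (.negSucc 80, 18), (.negSucc 80, 20), (.ofNat 81, 21), (.negSucc 80, 24), (.ofNat 81, 26), (.ofNat
  81, 29), (.ofNat 81, 30), (.negSucc 80, 32), (.negSucc 80, 33), (.negSucc 80, 34), (.negSucc 80, 35), (.negSucc 80,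
  36), (.ofNat 162, 45), (.ofNat 81, 49), (.negSucc 80, 54), (.ofNat 81, 55), (.negSucc 80, 57), (.ofNat 81, 63),
  (.ofNat 81, 72), (.negSucc 80, 74), (.negSucc 80, 79), (.ofNat 162, 80), (.negSucc 80, 86), (.ofNat 81, 92),
  (.negSucc 80, 96), (.negSucc 121, 97)])])

/-- a candidate -/
def c191 : ℕ × ℕ × List Step :=
  (3493601280000, 13, [(0, 0, .ofNat 729, 0, [(.ofNat 73, 5), (.negSucc 117, 6), (.negSucc 11, 7), (.negSucc 22, 8),
  (.negSucc 100, 11), (.ofNat 39, 12), (.ofNat 107, 16), (.negSucc 184, 17), (.ofNat 97, 19), (.negSucc 0, 20),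
  (.ofNat 3, 22), (.ofNat 82, 23), (.ofNat 10, 29), (.ofNat 30, 31), (.negSucc 148, 32), (.ofNat 130, 34), (.negSucc
  147, 35), (.ofNat 137, 37), (.negSucc 3, 39), (.negSucc 56, 40), (.negSucc 19, 41), (.negSucc 3, 42), (.negSucc 30,
  43), (.negSucc 64, 44), (.ofNat 73, 50), (.ofNat 92, 52), (.negSucc 124, 53), (.ofNat 122, 55), (.ofNat 152, 56),
  (.negSucc 83, 57), (.ofNat 6, 58), (.ofNat 72, 61), (.negSucc 11, 66), (.negSucc 25, 68), (.negSucc 70, 71),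
  (.negSucc 89, 74), (.negSucc 17, 75), (.negSucc 88, 79), (.ofNat 69, 81), (.ofNat 52, 84), (.ofNat 96, 85), (.ofNat
  27, 89), (.negSucc 15, 90), (.ofNat 58, 92), (.negSucc 39, 93), (.ofNat 20, 94), (.ofNat 65, 95), (.negSucc 118,
  97), (.ofNat 2, 98)])])

/-- a candidate -/
def c192 : ℕ × ℕ × List Step :=
  (4213820620800, 7, [(0, 0, .ofNat 729, 0, [(.ofNat 166, 2), (.negSucc 356, 5), (.ofNat 12, 9), (.ofNat 223, 10),
  (.ofNat 39, 12), (.negSucc 302, 13), (.negSucc 9, 14), (.negSucc 195, 15), (.negSucc 14, 16), (.negSucc 197, 17),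
  (.negSucc 91, 18), (.ofNat 243, 21), (.ofNat 278, 23), (.negSucc 105, 26), (.negSucc 43, 27), (.ofNat 196, 30),
  (.ofNat 65, 31), (.negSucc 125, 32), (.negSucc 18, 33), (.negSucc 38, 35), (.negSucc 65, 36), (.negSucc 86, 37),
  (.negSucc 28, 38), (.negSucc 12, 41), (.ofNat 24, 42), (.negSucc 168, 44), (.negSucc 1, 45), (.ofNat 7, 47),
  (.ofNat 194, 50), (.ofNat 125, 52), (.ofNat 329, 56), (.negSucc 85, 57), (.negSucc 20, 59), (.negSucc 109, 60),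
  (.ofNat 54, 61), (.ofNat 6, 62), (.ofNat 114, 64), (.ofNat 170, 68), (.negSucc 37, 71), (.ofNat 119, 72), (.negSucc
  40, 74), (.negSucc 39, 75), (.ofNat 2, 77), (.negSucc 43, 78), (.negSucc 134, 79), (.negSucc 50, 80), (.negSucc 38,
  84), (.ofNat 444, 85), (.ofNat 62, 89), (.negSucc 77, 90), (.ofNat 11, 91), (.ofNat 228, 92), (.negSucc 57, 93),
  (.negSucc 53, 94), (.negSucc 277, 97), (.ofNat 103, 98)])])

/-- a candidate -/
def c193 : ℕ × ℕ × List Step :=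
  (4299816960000, 5, [(0, 0, .ofNat 9, 0, [(.negSucc 1, 6), (.ofNat 2, 10), (.negSucc 1, 11), (.ofNat 2, 13), (.ofNat
  2, 16), (.negSucc 1, 18), (.ofNat 2, 21), (.ofNat 2, 22), (.ofNat 2, 26), (.ofNat 2, 29), (.negSucc 1, 34),
  (.negSucc 1, 35), (.ofNat 4, 37), (.negSucc 1, 40), (.negSucc 1, 43), (.ofNat 2, 45), (.negSucc 1, 53), (.ofNat 2,
  55), (.negSucc 3, 56), (.ofNat 2, 61), (.ofNat 2, 69), (.negSucc 1, 72), (.negSucc 1, 74), (.negSucc 1, 79),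
  (.ofNat 2, 80), (.ofNat 2, 81), (.ofNat 2, 92), (.negSucc 1, 96), (.negSucc 2, 97)])])

/-- a candidate -/
def c194 : ℕ × ℕ × List Step :=
  (5159780352000, 2, [(0, 0, .ofNat 243, 0, [(.negSucc 18, 1), (.negSucc 46, 6), (.negSucc 17, 9), (.ofNat 18, 10),
  (.negSucc 37, 11), (.negSucc 34, 15), (.ofNat 36, 16), (.negSucc 54, 17), (.negSucc 4, 18), (.ofNat 8, 19), (.ofNat
  17, 21), (.ofNat 50, 23), (.negSucc 6, 27), (.ofNat 24, 29), (.ofNat 3, 31), (.negSucc 50, 32), (.ofNat 10, 34),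
  (.negSucc 60, 35), (.ofNat 44, 37), (.negSucc 2, 39), (.negSucc 13, 40), (.negSucc 8, 43), (.negSucc 11, 44),
  (.ofNat 25, 52), (.negSucc 21, 53), (.ofNat 35, 55), (.ofNat 28, 56), (.negSucc 21, 57), (.ofNat 5, 58), (.ofNat 2,
  60), (.ofNat 12, 61), (.negSucc 4, 66), (.negSucc 38, 74), (.negSucc 39, 79), (.ofNat 4, 80), (.ofNat 27, 81),
  (.ofNat 23, 85), (.negSucc 1, 90), (.ofNat 36, 92), (.negSucc 13, 93), (.ofNat 7, 95), (.negSucc 60, 97), (.ofNat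
  4, 98)])])

/-- a candidate -/
def c195 : ℕ × ℕ × List Step :=
  (5159780352000, 4, [(0, 0, .ofNat 729, 0, [(.negSucc 4, 1), (.negSucc 174, 6), (.negSucc 10, 7), (.negSucc 7, 8),
  (.negSucc 25, 9), (.ofNat 23, 10), (.negSucc 84, 11), (.ofNat 2, 12), (.ofNat 115, 16), (.negSucc 168, 17),
  (.negSucc 34, 18), (.ofNat 44, 19), (.ofNat 57, 21), (.ofNat 89, 23), (.ofNat 11, 31), (.negSucc 128, 32), (.ofNat
  22, 34), (.negSucc 180, 35), (.ofNat 159, 37), (.negSucc 28, 39), (.negSucc 28, 40), (.negSucc 20, 41), (.negSucc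
  34, 43), (.negSucc 75, 44), (.ofNat 70, 50), (.negSucc 27, 51), (.ofNat 75, 52), (.negSucc 96, 53), (.ofNat 97,
  55), (.ofNat 125, 56), (.negSucc 58, 57), (.ofNat 38, 61), (.negSucc 90, 66), (.negSucc 0, 68), (.negSucc 70, 74),
  (.negSucc 15, 75), (.negSucc 121, 79), (.ofNat 62, 81), (.ofNat 43, 84), (.ofNat 128, 85), (.ofNat 90, 92),
  (.negSucc 23, 93), (.ofNat 43, 95), (.negSucc 55, 96), (.negSucc 185, 97), (.ofNat 21, 98)])])

/-- candidates -/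
def CL6 : List (ℕ × ℕ × List Step) :=
  [c168, c169, c170, c171, c172, c173, c174, c175, c176, c177, c178, c179, c180, c181, c182, c183, c184, c185, c186,
  c187, c188, c189, c190, c191, c192, c193, c194, c195]

theorem okC6 : okL TAB.Co1.D (TAB.Sm2.mkRows TAB.Co1.RA TAB.Co1.RB) 2 P Z CL6 = true := by decide +kernel

/-- a candidate -/
def c196 : ℕ × ℕ × List Step :=
  (5852528640000, 7, [(0, 0, .ofNat 243, 0, [(.ofNat 66, 2), (.negSucc 43, 5), (.negSucc 43, 6), (.ofNat 22, 9),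
  (.ofNat 44, 10), (.negSucc 43, 11), (.ofNat 22, 12), (.negSucc 21, 17), (.negSucc 21, 18), (.ofNat 44, 19), (.ofNat
  44, 21), (.ofNat 44, 23), (.negSucc 21, 24), (.ofNat 22, 29), (.ofNat 44, 30), (.ofNat 22, 31), (.negSucc 43, 32),
  (.negSucc 43, 33), (.ofNat 44, 34), (.negSucc 43, 35), (.negSucc 43, 36), (.negSucc 21, 37), (.negSucc 43, 44),
  (.ofNat 66, 50), (.ofNat 44, 52), (.ofNat 44, 55), (.ofNat 88, 56), (.negSucc 21, 57), (.ofNat 22, 64), (.negSucc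
  43, 71), (.ofNat 44, 72), (.negSucc 43, 74), (.negSucc 21, 75), (.negSucc 43, 79), (.ofNat 66, 85), (.negSucc 21,
  90), (.ofNat 44, 92), (.negSucc 21, 93), (.negSucc 21, 96), (.negSucc 65, 97)])])

/-- a candidate -/
def c197 : ℕ × ℕ × List Step :=
  (6449725440000, 3, [(0, 0, .ofNat 729, 0, [(.negSucc 1, 4), (.negSucc 181, 6), (.negSucc 16, 7), (.negSucc 7, 8),
  (.negSucc 32, 9), (.ofNat 28, 10), (.negSucc 83, 11), (.ofNat 2, 12), (.ofNat 114, 16), (.negSucc 165, 17),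
  (.negSucc 38, 18), (.ofNat 41, 19), (.ofNat 69, 21), (.ofNat 88, 23), (.ofNat 10, 31), (.negSucc 136, 32), (.ofNat
  9, 34), (.negSucc 188, 35), (.ofNat 157, 37), (.negSucc 30, 39), (.negSucc 21, 40), (.negSucc 21, 41), (.negSucc
  37, 43), (.negSucc 75, 44), (.ofNat 57, 50), (.negSucc 29, 51), (.ofNat 74, 52), (.negSucc 85, 53), (.ofNat 93,
  55), (.ofNat 124, 56), (.negSucc 49, 57), (.ofNat 35, 61), (.negSucc 90, 66), (.negSucc 70, 74), (.negSucc 15, 75),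
  (.negSucc 122, 79), (.ofNat 63, 81), (.ofNat 40, 84), (.ofNat 122, 85), (.ofNat 101, 92), (.negSucc 19, 93),
  (.ofNat 43, 95), (.negSucc 54, 96), (.negSucc 192, 97), (.ofNat 19, 98)])])

/-- a candidate -/
def c198 : ℕ × ℕ × List Step :=
  (6449725440000, 9, [(0, 0, .ofNat 243, 0, [(.negSucc 59, 6), (.negSucc 2, 8), (.negSucc 7, 9), (.ofNat 8, 10),
  (.negSucc 28, 11), (.ofNat 39, 16), (.negSucc 55, 17), (.negSucc 5, 18), (.ofNat 13, 19), (.ofNat 15, 21), (.ofNat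
  29, 23), (.ofNat 4, 29), (.ofNat 8, 31), (.negSucc 38, 32), (.ofNat 8, 34), (.negSucc 59, 35), (.ofNat 53, 37),
  (.negSucc 6, 39), (.negSucc 11, 40), (.negSucc 3, 41), (.negSucc 7, 43), (.negSucc 29, 44), (.ofNat 1, 47), (.ofNat
  26, 50), (.negSucc 4, 51), (.ofNat 27, 52), (.negSucc 30, 53), (.ofNat 33, 55), (.ofNat 46, 56), (.negSucc 20, 57),
  (.ofNat 13, 61), (.negSucc 29, 66), (.negSucc 22, 74), (.negSucc 1, 75), (.negSucc 39, 79), (.ofNat 20, 81),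
  (.ofNat 15, 84), (.ofNat 46, 85), (.ofNat 29, 92), (.negSucc 8, 93), (.ofNat 14, 95), (.negSucc 26, 96), (.negSucc
  61, 97), (.ofNat 9, 98)])])

/-- a candidate -/
def c199 : ℕ × ℕ × List Step :=
  (7900913664000, 7, [(0, 0, .ofNat 243, 0, [(.negSucc 53, 1), (.ofNat 56, 2), (.negSucc 52, 5), (.negSucc 54, 6),
  (.ofNat 5, 9), (.ofNat 48, 10), (.negSucc 46, 11), (.ofNat 6, 12), (.negSucc 18, 13), (.negSucc 1, 14), (.negSucc
  21, 15), (.negSucc 16, 17), (.negSucc 11, 18), (.ofNat 23, 19), (.ofNat 48, 21), (.ofNat 64, 23), (.ofNat 30, 29),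
  (.ofNat 46, 30), (.negSucc 43, 32), (.negSucc 52, 33), (.ofNat 6, 34), (.negSucc 51, 35), (.negSucc 48, 36),
  (.negSucc 23, 37), (.negSucc 5, 40), (.negSucc 7, 41), (.negSucc 11, 44), (.ofNat 7, 50), (.negSucc 2, 51), (.ofNat
  16, 52), (.negSucc 1, 53), (.negSucc 3, 54), (.ofNat 46, 55), (.ofNat 81, 56), (.negSucc 52, 57), (.ofNat 1, 60),
  (.ofNat 23, 64), (.negSucc 0, 69), (.negSucc 25, 71), (.ofNat 50, 72), (.negSucc 44, 74), (.negSucc 4, 75),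
  (.negSucc 45, 79), (.ofNat 1, 82), (.ofNat 24, 85), (.negSucc 0, 86), (.ofNat 57, 92), (.negSucc 33, 93), (.ofNat
  46, 95), (.negSucc 11, 96), (.negSucc 74, 97), (.ofNat 21, 98)])])

/-- a candidate -/
def c200 : ℕ × ℕ × List Step :=
  (7900913664000, 21, [(0, 0, .ofNat 729, 0, [(.ofNat 280, 2), (.negSucc 167, 5), (.negSucc 167, 6), (.negSucc 55,
  7), (.negSucc 111, 9), (.ofNat 168, 10), (.negSucc 167, 11), (.ofNat 112, 12), (.ofNat 56, 13), (.negSucc 111, 15),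
  (.negSucc 111, 17), (.negSucc 55, 18), (.ofNat 168, 21), (.ofNat 112, 23), (.negSucc 55, 24), (.negSucc 167, 28),
  (.ofNat 56, 29), (.ofNat 168, 30), (.ofNat 112, 31), (.negSucc 167, 33), (.negSucc 55, 34), (.negSucc 167, 35),
  (.negSucc 167, 36), (.negSucc 55, 37), (.ofNat 168, 45), (.ofNat 56, 50), (.ofNat 168, 52), (.ofNat 168, 55),
  (.ofNat 168, 56), (.ofNat 56, 57), (.ofNat 56, 64), (.ofNat 168, 72), (.negSucc 167, 74), (.negSucc 55, 75),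
  (.negSucc 167, 79), (.ofNat 168, 80), (.ofNat 224, 85), (.negSucc 55, 90), (.ofNat 168, 92), (.negSucc 111, 93),
  (.negSucc 111, 95), (.negSucc 111, 96), (.negSucc 251, 97)])])

/-- a candidate -/
def c201 : ℕ × ℕ × List Step :=
  (7900913664000, 63, [(0, 0, .ofNat 243, 0, [(.negSucc 80, 5), (.negSucc 80, 6), (.ofNat 81, 10), (.negSucc 80, 11),
  (.ofNat 81, 13), (.negSucc 80, 18), (.ofNat 81, 21), (.ofNat 81, 26), (.ofNat 81, 29), (.ofNat 81, 30), (.negSucc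
  80, 33), (.negSucc 80, 34), (.negSucc 80, 35), (.negSucc 80, 36), (.ofNat 81, 45), (.ofNat 81, 55), (.ofNat 81,
  72), (.negSucc 80, 74), (.negSucc 80, 79), (.ofNat 81, 80), (.ofNat 81, 92), (.negSucc 80, 96), (.negSucc 121,
  97)])])

/-- a candidate -/
def c202 : ℕ × ℕ × List Step :=
  (8599633920000, 2, [(0, 0, .ofNat 243, 0, [(.negSucc 18, 1), (.negSucc 46, 6), (.negSucc 17, 9), (.ofNat 18, 10),
  (.negSucc 37, 11), (.negSucc 34, 15), (.ofNat 36, 16), (.negSucc 54, 17), (.negSucc 4, 18), (.ofNat 8, 19), (.ofNat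
  17, 21), (.ofNat 50, 23), (.negSucc 6, 27), (.ofNat 24, 29), (.ofNat 3, 31), (.negSucc 50, 32), (.ofNat 10, 34),
  (.negSucc 60, 35), (.ofNat 44, 37), (.negSucc 2, 39), (.negSucc 13, 40), (.negSucc 8, 43), (.negSucc 11, 44),
  (.ofNat 25, 52), (.negSucc 21, 53), (.ofNat 35, 55), (.ofNat 28, 56), (.negSucc 21, 57), (.ofNat 5, 58), (.ofNat 2,
  60), (.ofNat 12, 61), (.negSucc 4, 66), (.negSucc 38, 74), (.negSucc 39, 79), (.ofNat 4, 80), (.ofNat 27, 81),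
  (.ofNat 23, 85), (.negSucc 1, 90), (.ofNat 36, 92), (.negSucc 13, 93), (.ofNat 7, 95), (.negSucc 60, 97), (.ofNat
  4, 98)])])

/-- a candidate -/
def c203 : ℕ × ℕ × List Step :=
  (9170703360000, 39, [(0, 0, .ofNat 243, 0, [(.ofNat 81, 5), (.negSucc 80, 6), (.ofNat 81, 9), (.negSucc 80, 11),
  (.ofNat 81, 13), (.negSucc 80, 17), (.ofNat 81, 22), (.ofNat 81, 26), (.ofNat 81, 29), (.negSucc 80, 33), (.negSucc
  80, 35), (.ofNat 81, 37), (.negSucc 80, 40), (.ofNat 81, 45), (.negSucc 80, 53), (.ofNat 81, 55), (.negSucc 80,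
  56), (.negSucc 80, 62), (.ofNat 81, 66), (.negSucc 80, 68), (.ofNat 81, 71), (.negSucc 80, 74), (.negSucc 80, 79),
  (.ofNat 81, 80), (.ofNat 81, 81), (.ofNat 81, 94), (.negSucc 80, 96), (.negSucc 39, 97)])])

/-- a candidate -/
def c204 : ℕ × ℕ × List Step :=
  (9170703360000, 65, [(0, 0, .ofNat 243, 0, [(.ofNat 81, 5), (.negSucc 80, 6), (.ofNat 81, 9), (.negSucc 80, 11),
  (.ofNat 81, 13), (.negSucc 80, 17), (.ofNat 81, 22), (.ofNat 81, 26), (.ofNat 81, 29), (.negSucc 80, 33), (.negSucc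
  80, 35), (.ofNat 81, 37), (.negSucc 80, 40), (.ofNat 81, 45), (.negSucc 80, 53), (.ofNat 81, 55), (.negSucc 80,
  56), (.negSucc 80, 62), (.ofNat 81, 66), (.negSucc 80, 68), (.ofNat 81, 71), (.negSucc 80, 74), (.negSucc 80, 79),
  (.ofNat 81, 80), (.ofNat 81, 81), (.ofNat 81, 94), (.negSucc 80, 96), (.negSucc 39, 97)])])

/-- a candidate -/
def c205 : ℕ × ℕ × List Step :=
  (9170703360000, 117, [(0, 0, .ofNat 243, 0, [(.ofNat 81, 5), (.negSucc 80, 6), (.ofNat 81, 9), (.negSucc 80, 11),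
  (.ofNat 81, 13), (.negSucc 80, 17), (.ofNat 81, 22), (.ofNat 81, 26), (.ofNat 81, 29), (.negSucc 80, 33), (.negSucc
  80, 35), (.ofNat 81, 37), (.negSucc 80, 40), (.ofNat 81, 45), (.negSucc 80, 53), (.ofNat 81, 55), (.negSucc 80,
  56), (.negSucc 80, 62), (.ofNat 81, 66), (.negSucc 80, 68), (.ofNat 81, 71), (.negSucc 80, 74), (.negSucc 80, 79),
  (.ofNat 81, 80), (.ofNat 81, 81), (.ofNat 81, 94), (.negSucc 80, 96), (.negSucc 39, 97)])])

/-- a candidate -/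
def c206 : ℕ × ℕ × List Step :=
  (9170703360000, 195, [(0, 0, .ofNat 243, 0, [(.ofNat 81, 5), (.negSucc 80, 6), (.ofNat 81, 9), (.negSucc 80, 11),
  (.ofNat 81, 13), (.negSucc 80, 17), (.ofNat 81, 22), (.ofNat 81, 26), (.ofNat 81, 29), (.negSucc 80, 33), (.negSucc
  80, 35), (.ofNat 81, 37), (.negSucc 80, 40), (.ofNat 81, 45), (.negSucc 80, 53), (.ofNat 81, 55), (.negSucc 80,
  56), (.negSucc 80, 62), (.ofNat 81, 66), (.negSucc 80, 68), (.ofNat 81, 71), (.negSucc 80, 74), (.negSucc 80, 79),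
  (.ofNat 81, 80), (.ofNat 81, 81), (.ofNat 81, 94), (.negSucc 80, 96), (.negSucc 39, 97)])])

/-- a candidate -/
def c207 : ℕ × ℕ × List Step :=
  (9170703360000, 325, [(0, 0, .ofNat 243, 0, [(.ofNat 81, 5), (.negSucc 80, 6), (.ofNat 81, 9), (.negSucc 80, 11),
  (.ofNat 81, 13), (.negSucc 80, 17), (.ofNat 81, 22), (.ofNat 81, 26), (.ofNat 81, 29), (.negSucc 80, 33), (.negSucc
  80, 35), (.ofNat 81, 37), (.negSucc 80, 40), (.ofNat 81, 45), (.negSucc 80, 53), (.ofNat 81, 55), (.negSucc 80,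
  56), (.negSucc 80, 62), (.ofNat 81, 66), (.negSucc 80, 68), (.ofNat 81, 71), (.negSucc 80, 74), (.negSucc 80, 79),
  (.ofNat 81, 80), (.ofNat 81, 81), (.ofNat 81, 94), (.negSucc 80, 96), (.negSucc 39, 97)])])

/-- a candidate -/
def c208 : ℕ × ℕ × List Step :=
  (9170703360000, 585, [(0, 0, .ofNat 729, 0, [(.negSucc 364, 6), (.negSucc 363, 11), (.ofNat 364, 13), (.ofNat 364,
  26), (.ofNat 365, 29), (.negSucc 364, 33), (.negSucc 364, 35), (.negSucc 364, 36), (.ofNat 365, 45), (.ofNat 365,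
  55), (.ofNat 365, 66), (.negSucc 364, 68), (.ofNat 365, 72), (.negSucc 363, 74), (.negSucc 364, 79), (.ofNat 364,
  80), (.ofNat 364, 94), (.negSucc 364, 96), (.negSucc 181, 97)])])

/-- a candidate -/
def c209 : ℕ × ℕ × List Step :=
  (9170703360000, 975, [(0, 0, .ofNat 564, 0, [(.ofNat 597, 3), (.negSucc 180, 5), (.negSucc 127, 7), (.ofNat 808,
  9), (.ofNat 895, 13), (.negSucc 258, 15), (.negSucc 773, 16), (.negSucc 1006, 17), (.negSucc 480, 18), (.negSucc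
  464, 20), (.negSucc 80, 21), (.negSucc 317, 22), (.negSucc 19, 23), (.negSucc 229, 24), (.negSucc 162, 25), (.ofNat
  786, 26), (.negSucc 313, 27), (.ofNat 1038, 29), (.ofNat 132, 30), (.ofNat 148, 31), (.negSucc 976, 32), (.negSucc
  1616, 33), (.ofNat 103, 34), (.ofNat 523, 35), (.negSucc 880, 36), (.negSucc 0, 37), (.negSucc 752, 38), (.ofNat
  82, 39), (.ofNat 86, 40), (.negSucc 97, 41), (.ofNat 674, 42), (.ofNat 469, 43), (.negSucc 552, 44), (.ofNat 2187,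
  45), (.negSucc 52, 46), (.negSucc 668, 47), (.negSucc 110, 48), (.ofNat 605, 49), (.negSucc 6, 51), (.ofNat 156,
  52), (.negSucc 475, 54), (.ofNat 728, 55), (.ofNat 709, 56), (.negSucc 73, 58), (.ofNat 388, 59), (.negSucc 229,
  61), (.negSucc 346, 62), (.ofNat 581, 63), (.negSucc 30, 64), (.ofNat 1269, 66), (.ofNat 26, 67), (.negSucc 1004,
  68), (.negSucc 507, 69), (.negSucc 406, 70), (.ofNat 489, 71), (.ofNat 1533, 72), (.negSucc 24, 73), (.negSucc 902,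
  74), (.ofNat 106, 76), (.ofNat 87, 77), (.ofNat 143, 78), (.negSucc 697, 79), (.ofNat 1501, 80), (.ofNat 494, 81),
  (.negSucc 93, 82), (.negSucc 144, 83), (.ofNat 177, 84), (.ofNat 271, 85), (.negSucc 168, 86), (.ofNat 19, 87),
  (.negSucc 96, 88), (.ofNat 576, 89), (.negSucc 59, 90), (.ofNat 329, 91), (.negSucc 128, 93), (.ofNat 1824, 94),
  (.ofNat 388, 95), (.negSucc 188, 97), (.ofNat 225, 98)])])

/-- a candidate -/
def c210 : ℕ × ℕ × List Step :=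
  (9170703360000, 1625, [(0, 0, .ofNat 729, 0, [(.negSucc 364, 6), (.negSucc 363, 11), (.ofNat 364, 13), (.ofNat 364,
  26), (.ofNat 365, 29), (.negSucc 364, 33), (.negSucc 364, 35), (.negSucc 364, 36), (.ofNat 365, 45), (.ofNat 365,
  55), (.ofNat 365, 66), (.negSucc 364, 68), (.ofNat 365, 72), (.negSucc 363, 74), (.negSucc 364, 79), (.ofNat 364,
  80), (.ofNat 364, 94), (.negSucc 364, 96), (.negSucc 181, 97)])])

/-- a candidate -/
def c211 : ℕ × ℕ × List Step :=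
  (9170703360000, 2925, [(0, 0, .ofNat 729, 0, [(.ofNat 729, 3), (.ofNat 729, 9), (.ofNat 729, 13), (.negSucc 728,
  16), (.negSucc 728, 17), (.negSucc 728, 18), (.negSucc 728, 20), (.negSucc 728, 24), (.ofNat 729, 26), (.ofNat 729,
  29), (.ofNat 729, 30), (.negSucc 728, 32), (.negSucc 1457, 33), (.ofNat 729, 35), (.negSucc 728, 36), (.negSucc
  728, 37), (.negSucc 728, 38), (.ofNat 729, 42), (.ofNat 729, 43), (.negSucc 728, 44), (.ofNat 2187, 45), (.negSucc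
  728, 47), (.ofNat 729, 49), (.negSucc 728, 54), (.ofNat 729, 55), (.ofNat 729, 56), (.negSucc 728, 57), (.negSucc
  728, 61), (.negSucc 728, 62), (.ofNat 729, 63), (.ofNat 729, 66), (.negSucc 728, 68), (.negSucc 728, 69), (.ofNat
  729, 71), (.ofNat 1458, 72), (.negSucc 728, 74), (.negSucc 728, 79), (.ofNat 1458, 80), (.negSucc 728, 86),
  (.negSucc 728, 93), (.ofNat 1458, 94), (.negSucc 728, 96), (.negSucc 363, 97), (.ofNat 365, 98)])])

/-- a candidate -/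
def c212 : ℕ × ℕ × List Step :=
  (9170703360000, 4875, [(0, 0, .ofNat 157, 0, [(.negSucc 1431, 7), (.ofNat 294, 8), (.ofNat 2213, 9), (.ofNat 4313,
  13), (.ofNat 700, 14), (.negSucc 3535, 15), (.negSucc 3581, 17), (.negSucc 725, 18), (.negSucc 196, 19), (.ofNat
  388, 21), (.negSucc 999, 22), (.negSucc 713, 23), (.negSucc 2185, 24), (.ofNat 3164, 26), (.negSucc 344, 27),
  (.ofNat 1869, 29), (.negSucc 769, 30), (.negSucc 4934, 32), (.negSucc 5406, 33), (.negSucc 1233, 34), (.negSucc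
  1111, 36), (.negSucc 915, 37), (.negSucc 1823, 38), (.negSucc 258, 39), (.negSucc 1456, 40), (.ofNat 1707, 41),
  (.ofNat 636, 42), (.ofNat 1723, 43), (.negSucc 2348, 44), (.ofNat 5447, 45), (.negSucc 2682, 46), (.negSucc 1791,
  47), (.ofNat 1382, 48), (.ofNat 932, 49), (.ofNat 1082, 50), (.ofNat 1419, 51), (.ofNat 542, 52), (.ofNat 187, 53),
  (.ofNat 3856, 55), (.ofNat 2332, 56), (.ofNat 2911, 57), (.negSucc 1042, 58), (.negSucc 544, 59), (.ofNat 972, 60),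
  (.ofNat 1813, 62), (.ofNat 2249, 63), (.ofNat 4676, 66), (.ofNat 913, 67), (.negSucc 2774, 68), (.negSucc 385, 69),
  (.negSucc 3105, 70), (.ofNat 1650, 71), (.ofNat 3246, 72), (.negSucc 2158, 74), (.negSucc 1253, 75), (.ofNat 393,
  77), (.ofNat 1199, 78), (.negSucc 1875, 79), (.ofNat 3677, 80), (.ofNat 1547, 81), (.negSucc 1135, 82), (.ofNat 79,
  84), (.negSucc 165, 87), (.negSucc 1110, 88), (.ofNat 1466, 89), (.negSucc 641, 90), (.ofNat 1022, 91), (.ofNat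
  723, 92), (.negSucc 1145, 93), (.ofNat 6561, 94), (.ofNat 2095, 95), (.negSucc 380, 96), (.ofNat 3106, 98)])])

/-- a candidate -/
def c213 : ℕ × ℕ × List Step :=
  (9170703360000, 14625, [(0, 0, .ofNat 878, 0, [(.ofNat 1931, 9), (.ofNat 3819, 13), (.negSucc 3306, 15), (.negSucc
  4185, 17), (.negSucc 3024, 18), (.negSucc 1034, 19), (.ofNat 1007, 21), (.negSucc 979, 22), (.negSucc 1898, 23),
  (.negSucc 3698, 24), (.ofNat 3147, 26), (.negSucc 226, 27), (.negSucc 657, 28), (.ofNat 2578, 29), (.ofNat 794,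
  30), (.negSucc 42, 31), (.negSucc 5285, 32), (.negSucc 4111, 33), (.negSucc 2881, 34), (.ofNat 1084, 35), (.negSucc
  3361, 37), (.negSucc 1309, 38), (.negSucc 401, 39), (.negSucc 3104, 40), (.ofNat 883, 41), (.ofNat 982, 42),
  (.ofNat 1846, 43), (.negSucc 2324, 44), (.ofNat 6561, 45), (.negSucc 2480, 46), (.negSucc 3027, 47), (.ofNat 551,
  48), (.ofNat 2611, 49), (.ofNat 1520, 50), (.negSucc 850, 51), (.ofNat 994, 52), (.negSucc 824, 53), (.ofNat 542,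
  54), (.ofNat 2433, 55), (.ofNat 2794, 56), (.negSucc 172, 58), (.ofNat 283, 59), (.ofNat 1745, 60), (.negSucc 291,
  61), (.ofNat 481, 62), (.ofNat 2371, 63), (.negSucc 533, 64), (.ofNat 3529, 66), (.ofNat 429, 67), (.negSucc 1904,
  68), (.negSucc 2547, 69), (.negSucc 4651, 70), (.ofNat 835, 71), (.ofNat 5076, 72), (.ofNat 573, 73), (.negSucc
  4081, 74), (.negSucc 1333, 75), (.negSucc 1691, 77), (.ofNat 1639, 78), (.ofNat 3184, 80), (.ofNat 935, 81),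
  (.negSucc 95, 82), (.negSucc 1080, 83), (.negSucc 1636, 84), (.ofNat 1215, 85), (.negSucc 3076, 86), (.negSucc 713,
  88), (.ofNat 1660, 89), (.negSucc 1094, 90), (.ofNat 281, 92), (.ofNat 5257, 94), (.ofNat 2687, 95), (.negSucc 820,
  97), (.ofNat 1939, 98)])])

/-- a candidate -/
def c214 : ℕ × ℕ × List Step :=
  (9661317120000, 26, [(0, 0, .ofNat 243, 0, [(.negSucc 1, 1), (.negSucc 54, 6), (.negSucc 51, 11), (.ofNat 3, 12),
  (.ofNat 14, 13), (.negSucc 49, 15), (.ofNat 54, 16), (.negSucc 137, 17), (.ofNat 1, 18), (.ofNat 1, 19), (.negSucc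
  4, 20), (.ofNat 55, 22), (.ofNat 36, 23), (.negSucc 10, 24), (.negSucc 44, 28), (.ofNat 14, 31), (.negSucc 62, 33),
  (.negSucc 36, 35), (.ofNat 35, 36), (.ofNat 44, 37), (.negSucc 3, 39), (.negSucc 6, 40), (.negSucc 27, 43), (.ofNat
  39, 45), (.ofNat 3, 46), (.negSucc 2, 48), (.ofNat 28, 52), (.negSucc 28, 53), (.ofNat 3, 54), (.ofNat 34, 55),
  (.ofNat 6, 56), (.negSucc 17, 61), (.negSucc 51, 62), (.ofNat 17, 64), (.negSucc 14, 68), (.negSucc 41, 69),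
  (.ofNat 51, 71), (.negSucc 41, 74), (.negSucc 52, 79), (.ofNat 55, 80), (.ofNat 87, 81), (.ofNat 11, 84), (.ofNat
  55, 85), (.ofNat 12, 92), (.negSucc 17, 93), (.ofNat 20, 94), (.negSucc 38, 95), (.negSucc 41, 96), (.negSucc 51,
  97)])])

/-- a candidate -/
def c215 : ℕ × ℕ × List Step :=
  (9661317120000, 52, [(0, 0, .ofNat 243, 0, [(.ofNat 81, 5), (.negSucc 80, 6), (.ofNat 81, 9), (.negSucc 80, 11),
  (.ofNat 81, 13), (.negSucc 80, 17), (.ofNat 81, 22), (.ofNat 81, 26), (.ofNat 81, 29), (.negSucc 80, 33), (.negSucc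
  80, 35), (.ofNat 81, 37), (.negSucc 80, 40), (.ofNat 81, 45), (.negSucc 80, 53), (.ofNat 81, 55), (.negSucc 80,
  56), (.negSucc 80, 62), (.ofNat 81, 66), (.negSucc 80, 68), (.ofNat 81, 71), (.negSucc 80, 74), (.negSucc 80, 79),
  (.ofNat 81, 80), (.ofNat 81, 81), (.ofNat 81, 94), (.negSucc 80, 96), (.negSucc 39, 97)])])

/-- a candidate -/
def c216 : ℕ × ℕ × List Step :=
  (9661317120000, 104, [(0, 0, .ofNat 243, 0, [(.ofNat 81, 5), (.negSucc 80, 6), (.ofNat 81, 9), (.negSucc 80, 11),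
  (.ofNat 81, 13), (.negSucc 80, 17), (.ofNat 81, 22), (.ofNat 81, 26), (.ofNat 81, 29), (.negSucc 80, 33), (.negSucc
  80, 35), (.ofNat 81, 37), (.negSucc 80, 40), (.ofNat 81, 45), (.negSucc 80, 53), (.ofNat 81, 55), (.negSucc 80,
  56), (.negSucc 80, 62), (.ofNat 81, 66), (.negSucc 80, 68), (.ofNat 81, 71), (.negSucc 80, 74), (.negSucc 80, 79),
  (.ofNat 81, 80), (.ofNat 81, 81), (.ofNat 81, 94), (.negSucc 80, 96), (.negSucc 39, 97)])])

/-- a candidate -/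
def c217 : ℕ × ℕ × List Step :=
  (9661317120000, 208, [(0, 0, .ofNat 243, 0, [(.ofNat 81, 5), (.negSucc 80, 6), (.ofNat 81, 9), (.negSucc 80, 11),
  (.ofNat 81, 13), (.negSucc 80, 17), (.ofNat 81, 22), (.ofNat 81, 26), (.ofNat 81, 29), (.negSucc 80, 33), (.negSucc
  80, 35), (.ofNat 81, 37), (.negSucc 80, 40), (.ofNat 81, 45), (.negSucc 80, 53), (.ofNat 81, 55), (.negSucc 80,
  56), (.negSucc 80, 62), (.ofNat 81, 66), (.negSucc 80, 68), (.ofNat 81, 71), (.negSucc 80, 74), (.negSucc 80, 79),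
  (.ofNat 81, 80), (.ofNat 81, 81), (.ofNat 81, 94), (.negSucc 80, 96), (.negSucc 39, 97)])])

/-- a candidate -/
def c218 : ℕ × ℕ × List Step :=
  (10113169489920, 7, [(0, 0, .ofNat 243, 0, [(.negSucc 53, 1), (.ofNat 56, 2), (.negSucc 52, 5), (.negSucc 54, 6),
  (.ofNat 5, 9), (.ofNat 48, 10), (.negSucc 46, 11), (.ofNat 6, 12), (.negSucc 18, 13), (.negSucc 1, 14), (.negSucc
  21, 15), (.negSucc 16, 17), (.negSucc 11, 18), (.ofNat 23, 19), (.ofNat 48, 21), (.ofNat 64, 23), (.ofNat 30, 29),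
  (.ofNat 46, 30), (.negSucc 43, 32), (.negSucc 52, 33), (.ofNat 6, 34), (.negSucc 51, 35), (.negSucc 48, 36),
  (.negSucc 23, 37), (.negSucc 5, 40), (.negSucc 7, 41), (.negSucc 11, 44), (.ofNat 7, 50), (.negSucc 2, 51), (.ofNat
  16, 52), (.negSucc 1, 53), (.negSucc 3, 54), (.ofNat 46, 55), (.ofNat 81, 56), (.negSucc 52, 57), (.ofNat 1, 60),
  (.ofNat 23, 64), (.negSucc 0, 69), (.negSucc 25, 71), (.ofNat 50, 72), (.negSucc 44, 74), (.negSucc 4, 75),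
  (.negSucc 45, 79), (.ofNat 1, 82), (.ofNat 24, 85), (.negSucc 0, 86), (.ofNat 57, 92), (.negSucc 33, 93), (.ofNat
  46, 95), (.negSucc 11, 96), (.negSucc 74, 97), (.ofNat 21, 98)])])

/-- a candidate -/
def c219 : ℕ × ℕ × List Step :=
  (10113169489920, 14, [(0, 0, .ofNat 9, 0, [(.negSucc 1, 1), (.ofNat 4, 2), (.negSucc 1, 5), (.negSucc 1, 6),
  (.negSucc 1, 7), (.negSucc 1, 9), (.ofNat 2, 10), (.negSucc 1, 11), (.ofNat 2, 12), (.negSucc 1, 15), (.negSucc 1,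
  17), (.ofNat 2, 19), (.ofNat 2, 21), (.ofNat 2, 23), (.negSucc 3, 28), (.ofNat 2, 30), (.ofNat 2, 31), (.negSucc 1,
  33), (.negSucc 1, 35), (.negSucc 1, 36), (.negSucc 1, 37), (.ofNat 2, 45), (.ofNat 2, 52), (.ofNat 2, 55), (.ofNat
  2, 56), (.ofNat 2, 64), (.negSucc 1, 70), (.ofNat 2, 72), (.negSucc 1, 74), (.negSucc 1, 79), (.ofNat 2, 80),
  (.ofNat 2, 85), (.ofNat 2, 92), (.negSucc 1, 93), (.negSucc 1, 95), (.negSucc 2, 97)])])

/-- a candidate -/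
def c220 : ℕ × ℕ × List Step :=
  (10113169489920, 28, [(0, 0, .ofNat 243, 0, [(.negSucc 80, 5), (.negSucc 80, 6), (.ofNat 81, 10), (.negSucc 80,
  11), (.ofNat 81, 13), (.negSucc 80, 18), (.ofNat 81, 21), (.ofNat 81, 26), (.ofNat 81, 29), (.ofNat 81, 30),
  (.negSucc 80, 33), (.negSucc 80, 34), (.negSucc 80, 35), (.negSucc 80, 36), (.ofNat 81, 45), (.ofNat 81, 55),
  (.ofNat 81, 72), (.negSucc 80, 74), (.negSucc 80, 79), (.ofNat 81, 80), (.ofNat 81, 92), (.negSucc 80, 96),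
  (.negSucc 121, 97)])])

/-- a candidate -/
def c221 : ℕ × ℕ × List Step :=
  (12039487488000, 32, [(0, 0, .ofNat 81, 0, [(.negSucc 19, 6), (.ofNat 20, 9), (.ofNat 20, 10), (.negSucc 19, 11),
  (.ofNat 20, 13), (.negSucc 19, 17), (.negSucc 19, 18), (.ofNat 20, 21), (.ofNat 20, 22), (.ofNat 20, 26), (.ofNat
  20, 29), (.ofNat 20, 30), (.negSucc 19, 33), (.negSucc 19, 34), (.negSucc 19, 35), (.ofNat 20, 37), (.negSucc 19,
  40), (.ofNat 20, 45), (.negSucc 19, 53), (.ofNat 20, 55), (.negSucc 19, 56), (.negSucc 19, 62), (.ofNat 20, 71),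
  (.negSucc 19, 74), (.negSucc 19, 79), (.ofNat 20, 80), (.ofNat 20, 81), (.ofNat 20, 92), (.negSucc 19, 96),
  (.negSucc 29, 97)])])

/-- a candidate -/
def c222 : ℕ × ℕ × List Step :=
  (12039487488000, 64, [(0, 0, .ofNat 81, 0, [(.negSucc 19, 6), (.ofNat 20, 9), (.ofNat 20, 10), (.negSucc 19, 11),
  (.ofNat 20, 13), (.negSucc 19, 17), (.negSucc 19, 18), (.ofNat 20, 21), (.ofNat 20, 22), (.ofNat 20, 26), (.ofNat
  20, 29), (.ofNat 20, 30), (.negSucc 19, 33), (.negSucc 19, 34), (.negSucc 19, 35), (.ofNat 20, 37), (.negSucc 19,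
  40), (.ofNat 20, 45), (.negSucc 19, 53), (.ofNat 20, 55), (.negSucc 19, 56), (.negSucc 19, 62), (.ofNat 20, 71),
  (.negSucc 19, 74), (.negSucc 19, 79), (.ofNat 20, 80), (.ofNat 20, 81), (.ofNat 20, 92), (.negSucc 19, 96),
  (.negSucc 29, 97)])])

/-- a candidate -/
def c223 : ℕ × ℕ × List Step :=
  (12039487488000, 128, [(0, 0, .ofNat 81, 0, [(.negSucc 19, 6), (.ofNat 20, 9), (.ofNat 20, 10), (.negSucc 19, 11),
  (.ofNat 20, 13), (.negSucc 19, 17), (.negSucc 19, 18), (.ofNat 20, 21), (.ofNat 20, 22), (.ofNat 20, 26), (.ofNat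
  20, 29), (.ofNat 20, 30), (.negSucc 19, 33), (.negSucc 19, 34), (.negSucc 19, 35), (.ofNat 20, 37), (.negSucc 19,
  40), (.ofNat 20, 45), (.negSucc 19, 53), (.ofNat 20, 55), (.negSucc 19, 56), (.negSucc 19, 62), (.ofNat 20, 71),
  (.negSucc 19, 74), (.negSucc 19, 79), (.ofNat 20, 80), (.ofNat 20, 81), (.ofNat 20, 92), (.negSucc 19, 96),
  (.negSucc 29, 97)])])

/-- candidates -/
def CL7 : List (ℕ × ℕ × List Step) :=
  [c196, c197, c198, c199, c200, c201, c202, c203, c204, c205, c206, c207, c208, c209, c210, c211, c212, c213, c214,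
  c215, c216, c217, c218, c219, c220, c221, c222, c223]

theorem okC7 : okL TAB.Co1.D (TAB.Sm2.mkRows TAB.Co1.RA TAB.Co1.RB) 2 P Z CL7 = true := by decide +kernel

end Cfsg.Agent.TH.Spor.NCo1
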