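import Cfsg.Agent.TH.Spor.NCo1D

/-!
# S3541, sporadic rows: Co1, certificates (helper26; generated by notes/TH/spor26/gen.py.txt)
-/

set_option autoImplicit false
set_option Elab.async false

namespace Cfsg.Agent.TH.Spor.NCo1

open Cfsg Cfsg.Agent.TAB.Eng Cfsg.Agent.H940.Eng

/-- a candidate -/
def c224 : ℕ × ℕ × List Step :=
  (12039487488000, 256, [(0, 0, .ofNat 81, 0, [(.negSucc 19, 6), (.ofNat 20, 9), (.ofNat 20, 10), (.negSucc 19, 11),
  (.ofNat 20, 13), (.negSucc 19, 17), (.negSucc 19, 18), (.ofNat 20, 21), (.ofNat 20, 22), (.ofNat 20, 26), (.ofNat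
  20, 29), (.ofNat 20, 30), (.negSucc 19, 33), (.negSucc 19, 34), (.negSucc 19, 35), (.ofNat 20, 37), (.negSucc 19,
  40), (.ofNat 20, 45), (.negSucc 19, 53), (.ofNat 20, 55), (.negSucc 19, 56), (.negSucc 19, 62), (.ofNat 20, 71),
  (.negSucc 19, 74), (.negSucc 19, 79), (.ofNat 20, 80), (.ofNat 20, 81), (.ofNat 20, 92), (.negSucc 19, 96),
  (.negSucc 29, 97)])])

/-- a candidate -/
def c225 : ℕ × ℕ × List Step :=
  (14046068736000, 7, [(0, 0, .ofNat 243, 0, [(.negSucc 53, 1), (.ofNat 56, 2), (.negSucc 52, 5), (.negSucc 54, 6),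
  (.ofNat 5, 9), (.ofNat 48, 10), (.negSucc 46, 11), (.ofNat 6, 12), (.negSucc 18, 13), (.negSucc 1, 14), (.negSucc
  21, 15), (.negSucc 16, 17), (.negSucc 11, 18), (.ofNat 23, 19), (.ofNat 48, 21), (.ofNat 64, 23), (.ofNat 30, 29),
  (.ofNat 46, 30), (.negSucc 43, 32), (.negSucc 52, 33), (.ofNat 6, 34), (.negSucc 51, 35), (.negSucc 48, 36),
  (.negSucc 23, 37), (.negSucc 5, 40), (.negSucc 7, 41), (.negSucc 11, 44), (.ofNat 7, 50), (.negSucc 2, 51), (.ofNat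
  16, 52), (.negSucc 1, 53), (.negSucc 3, 54), (.ofNat 46, 55), (.ofNat 81, 56), (.negSucc 52, 57), (.ofNat 1, 60),
  (.ofNat 23, 64), (.negSucc 0, 69), (.negSucc 25, 71), (.ofNat 50, 72), (.negSucc 44, 74), (.negSucc 4, 75),
  (.negSucc 45, 79), (.ofNat 1, 82), (.ofNat 24, 85), (.negSucc 0, 86), (.ofNat 57, 92), (.negSucc 33, 93), (.ofNat
  46, 95), (.negSucc 11, 96), (.negSucc 74, 97), (.ofNat 21, 98)])])

/-- a candidate -/
def c226 : ℕ × ℕ × List Step :=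
  (14046068736000, 49, [(0, 0, .ofNat 243, 0, [(.negSucc 80, 5), (.negSucc 80, 6), (.ofNat 81, 10), (.negSucc 80,
  11), (.ofNat 81, 13), (.negSucc 80, 18), (.ofNat 81, 21), (.ofNat 81, 26), (.ofNat 81, 29), (.ofNat 81, 30),
  (.negSucc 80, 33), (.negSucc 80, 34), (.negSucc 80, 35), (.negSucc 80, 36), (.ofNat 81, 45), (.ofNat 81, 55),
  (.ofNat 81, 72), (.negSucc 80, 74), (.negSucc 80, 79), (.ofNat 81, 80), (.ofNat 81, 92), (.negSucc 80, 96),
  (.negSucc 120, 97)])])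

/-- a candidate -/
def c227 : ℕ × ℕ × List Step :=
  (15049359360000, 25, [(0, 0, .ofNat 729, 0, [(.ofNat 364, 9), (.ofNat 364, 10), (.negSucc 364, 17), (.negSucc 363,
  18), (.ofNat 364, 21), (.ofNat 364, 22), (.ofNat 364, 30), (.negSucc 363, 34), (.ofNat 364, 36), (.ofNat 364, 37),
  (.negSucc 364, 40), (.negSucc 364, 53), (.negSucc 364, 56), (.negSucc 363, 62), (.negSucc 364, 66), (.ofNat 364,
  68), (.ofNat 365, 71), (.negSucc 363, 72), (.ofNat 364, 81), (.ofNat 364, 92), (.negSucc 364, 94), (.negSucc 364,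
  97)])])

/-- a candidate -/
def c228 : ℕ × ℕ × List Step :=
  (15892123484160, 22, [(0, 0, .ofNat 243, 0, [(.negSucc 80, 6), (.ofNat 81, 9), (.ofNat 81, 10), (.negSucc 80, 17),
  (.negSucc 80, 18), (.ofNat 81, 21), (.ofNat 81, 22), (.ofNat 81, 26), (.ofNat 81, 30), (.negSucc 80, 34), (.negSucc
  80, 35), (.ofNat 81, 36), (.ofNat 81, 37), (.negSucc 80, 40), (.ofNat 81, 45), (.negSucc 80, 53), (.negSucc 80,
  56), (.negSucc 80, 59), (.negSucc 80, 62), (.ofNat 81, 68), (.ofNat 81, 71), (.negSucc 80, 79), (.ofNat 81, 81),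
  (.ofNat 81, 92), (.negSucc 80, 96), (.negSucc 121, 97)])])

/-- a candidate -/
def c229 : ℕ × ℕ × List Step :=
  (15892123484160, 33, [(0, 0, .ofNat 243, 0, [(.negSucc 80, 6), (.ofNat 81, 9), (.ofNat 81, 10), (.negSucc 80, 17),
  (.negSucc 80, 18), (.ofNat 81, 21), (.ofNat 81, 22), (.ofNat 81, 26), (.ofNat 81, 30), (.negSucc 80, 34), (.negSucc
  80, 35), (.ofNat 81, 36), (.ofNat 81, 37), (.negSucc 80, 40), (.ofNat 81, 45), (.negSucc 80, 53), (.negSucc 80,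
  56), (.negSucc 80, 59), (.negSucc 80, 62), (.ofNat 81, 68), (.ofNat 81, 71), (.negSucc 80, 79), (.ofNat 81, 81),
  (.ofNat 81, 92), (.negSucc 80, 96), (.negSucc 121, 97)])])

/-- a candidate -/
def c230 : ℕ × ℕ × List Step :=
  (15892123484160, 44, [(0, 0, .ofNat 243, 0, [(.negSucc 80, 6), (.ofNat 81, 9), (.ofNat 81, 10), (.negSucc 80, 17),
  (.negSucc 80, 18), (.ofNat 81, 21), (.ofNat 81, 22), (.ofNat 81, 26), (.ofNat 81, 30), (.negSucc 80, 34), (.negSucc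
  80, 35), (.ofNat 81, 36), (.ofNat 81, 37), (.negSucc 80, 40), (.ofNat 81, 45), (.negSucc 80, 53), (.negSucc 80,
  56), (.negSucc 80, 59), (.negSucc 80, 62), (.ofNat 81, 68), (.ofNat 81, 71), (.negSucc 80, 79), (.ofNat 81, 81),
  (.ofNat 81, 92), (.negSucc 80, 96), (.negSucc 121, 97)])])

/-- a candidate -/
def c231 : ℕ × ℕ × List Step :=
  (15892123484160, 66, [(0, 0, .ofNat 243, 0, [(.negSucc 80, 6), (.ofNat 81, 9), (.ofNat 81, 10), (.negSucc 80, 17),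
  (.negSucc 80, 18), (.ofNat 81, 21), (.ofNat 81, 22), (.ofNat 81, 26), (.ofNat 81, 30), (.negSucc 80, 34), (.negSucc
  80, 35), (.ofNat 81, 36), (.ofNat 81, 37), (.negSucc 80, 40), (.ofNat 81, 45), (.negSucc 80, 53), (.negSucc 80,
  56), (.negSucc 80, 59), (.negSucc 80, 62), (.ofNat 81, 68), (.ofNat 81, 71), (.negSucc 80, 79), (.ofNat 81, 81),
  (.ofNat 81, 92), (.negSucc 80, 96), (.negSucc 121, 97)])])

/-- a candidate -/
def c232 : ℕ × ℕ × List Step :=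
  (15892123484160, 88, [(0, 0, .ofNat 243, 0, [(.negSucc 80, 6), (.ofNat 81, 9), (.ofNat 81, 10), (.negSucc 80, 17),
  (.negSucc 80, 18), (.ofNat 81, 21), (.ofNat 81, 22), (.ofNat 81, 26), (.ofNat 81, 30), (.negSucc 80, 34), (.negSucc
  80, 35), (.ofNat 81, 36), (.ofNat 81, 37), (.negSucc 80, 40), (.ofNat 81, 45), (.negSucc 80, 53), (.negSucc 80,
  56), (.negSucc 80, 59), (.negSucc 80, 62), (.ofNat 81, 68), (.ofNat 81, 71), (.negSucc 80, 79), (.ofNat 81, 81),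
  (.ofNat 81, 92), (.negSucc 80, 96), (.negSucc 121, 97)])])

/-- a candidate -/
def c233 : ℕ × ℕ × List Step :=
  (15892123484160, 132, [(0, 0, .ofNat 729, 0, [(.ofNat 364, 9), (.ofNat 364, 10), (.negSucc 364, 17), (.negSucc 363,
  18), (.ofNat 364, 21), (.ofNat 364, 22), (.ofNat 364, 30), (.negSucc 363, 34), (.ofNat 364, 36), (.ofNat 364, 37),
  (.negSucc 364, 40), (.negSucc 364, 53), (.negSucc 364, 56), (.negSucc 363, 62), (.negSucc 364, 66), (.ofNat 364,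
  68), (.ofNat 365, 71), (.negSucc 363, 72), (.ofNat 364, 81), (.ofNat 364, 92), (.negSucc 364, 94), (.negSucc 364,
  97)])])

/-- a candidate -/
def c234 : ℕ × ℕ × List Step :=
  (15892123484160, 264, [(0, 0, .ofNat 602, 0, [(.negSucc 391, 7), (.ofNat 585, 9), (.ofNat 1922, 10), (.ofNat 158,
  11), (.ofNat 75, 12), (.ofNat 285, 13), (.ofNat 234, 14), (.ofNat 213, 15), (.ofNat 271, 16), (.ofNat 204, 17),
  (.negSucc 1704, 18), (.negSucc 22, 19), (.ofNat 1612, 21), (.ofNat 158, 22), (.ofNat 234, 23), (.negSucc 842, 24),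
  (.negSucc 39, 26), (.negSucc 1825, 27), (.negSucc 458, 28), (.negSucc 250, 29), (.ofNat 1643, 30), (.negSucc 235,
  32), (.negSucc 100, 33), (.negSucc 2020, 34), (.ofNat 41, 35), (.ofNat 7, 38), (.negSucc 441, 39), (.negSucc 151,
  41), (.ofNat 179, 42), (.negSucc 209, 43), (.negSucc 266, 44), (.ofNat 656, 45), (.negSucc 286, 46), (.negSucc 64,
  47), (.ofNat 43, 48), (.ofNat 170, 49), (.negSucc 9, 50), (.ofNat 97, 51), (.ofNat 288, 52), (.ofNat 241, 53),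
  (.negSucc 42, 54), (.ofNat 508, 55), (.ofNat 1168, 57), (.ofNat 95, 58), (.negSucc 342, 59), (.ofNat 707, 60),
  (.negSucc 479, 61), (.ofNat 711, 62), (.ofNat 316, 63), (.ofNat 92, 64), (.negSucc 591, 65), (.negSucc 1618, 66),
  (.negSucc 357, 67), (.ofNat 1615, 68), (.negSucc 1209, 70), (.ofNat 145, 71), (.ofNat 516, 72), (.ofNat 485, 73),
  (.ofNat 180, 75), (.negSucc 148, 77), (.ofNat 645, 78), (.negSucc 850, 79), (.ofNat 182, 81), (.negSucc 40, 82),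
  (.negSucc 562, 83), (.ofNat 366, 84), (.ofNat 502, 85), (.ofNat 17, 86), (.ofNat 219, 87), (.ofNat 71, 89),
  (.negSucc 106, 90), (.negSucc 23, 91), (.ofNat 1901, 92), (.ofNat 115, 93), (.negSucc 1138, 94), (.negSucc 55, 96),
  (.negSucc 2186, 97), (.ofNat 971, 98)])])

/-- a candidate -/
def c235 : ℕ × ℕ × List Step :=
  (18059231232000, 27, [(0, 0, .ofNat 81, 0, [(.negSucc 19, 6), (.ofNat 20, 9), (.ofNat 20, 10), (.negSucc 19, 11),
  (.ofNat 20, 13), (.negSucc 19, 17), (.negSucc 19, 18), (.ofNat 20, 21), (.ofNat 20, 22), (.ofNat 20, 26), (.ofNat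
  20, 29), (.ofNat 20, 30), (.negSucc 19, 33), (.negSucc 19, 34), (.negSucc 19, 35), (.ofNat 20, 37), (.negSucc 19,
  40), (.ofNat 20, 45), (.negSucc 19, 53), (.ofNat 20, 55), (.negSucc 19, 56), (.negSucc 19, 62), (.ofNat 20, 71),
  (.negSucc 19, 74), (.negSucc 19, 79), (.ofNat 20, 80), (.ofNat 20, 81), (.ofNat 20, 92), (.negSucc 19, 96),
  (.negSucc 29, 97)])])

/-- a candidate -/
def c236 : ℕ × ℕ × List Step :=
  (18632540160000, 13, [(0, 0, .ofNat 243, 0, [(.negSucc 1, 4), (.ofNat 16, 5), (.negSucc 42, 6), (.negSucc 3, 8),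
  (.negSucc 57, 9), (.negSucc 40, 11), (.ofNat 18, 12), (.ofNat 2, 13), (.negSucc 49, 15), (.ofNat 60, 16), (.negSucc
  87, 17), (.ofNat 2, 19), (.ofNat 30, 23), (.negSucc 10, 24), (.negSucc 1, 25), (.negSucc 48, 28), (.ofNat 21, 31),
  (.negSucc 38, 35), (.ofNat 47, 37), (.negSucc 23, 40), (.negSucc 22, 43), (.ofNat 24, 45), (.ofNat 4, 46), (.ofNat
  38, 52), (.negSucc 39, 53), (.ofNat 38, 55), (.ofNat 33, 61), (.ofNat 4, 64), (.negSucc 1, 68), (.negSucc 33, 74),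
  (.negSucc 24, 79), (.ofNat 68, 80), (.ofNat 34, 81), (.ofNat 3, 82), (.ofNat 1, 83), (.ofNat 15, 84), (.ofNat 59,
  85), (.ofNat 7, 86), (.ofNat 27, 92), (.negSucc 15, 93), (.ofNat 11, 94), (.negSucc 20, 95), (.negSucc 19, 96),
  (.negSucc 46, 97)])])

/-- a candidate -/
def c237 : ℕ × ℕ × List Step :=
  (18632540160000, 65, [(0, 0, .ofNat 81, 0, [(.ofNat 20, 5), (.negSucc 19, 6), (.negSucc 19, 11), (.ofNat 20, 13),
  (.ofNat 20, 16), (.ofNat 20, 22), (.ofNat 20, 26), (.ofNat 20, 29), (.negSucc 19, 30), (.negSucc 19, 35), (.ofNat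
  40, 37), (.negSucc 19, 40), (.negSucc 19, 43), (.ofNat 20, 45), (.negSucc 19, 53), (.ofNat 20, 55), (.negSucc 39,
  56), (.ofNat 20, 61), (.ofNat 20, 66), (.negSucc 19, 68), (.ofNat 20, 69), (.negSucc 19, 72), (.negSucc 19, 74),
  (.negSucc 19, 79), (.ofNat 20, 80), (.ofNat 20, 81), (.ofNat 20, 94), (.negSucc 19, 96), (.negSucc 9, 97)])])

/-- a candidate -/
def c238 : ℕ × ℕ × List Step :=
  (19752284160000, 15, [(0, 0, .ofNat 81, 0, [(.negSucc 19, 6), (.ofNat 20, 9), (.ofNat 20, 10), (.negSucc 19, 11),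
  (.ofNat 20, 13), (.negSucc 19, 17), (.negSucc 19, 18), (.ofNat 20, 21), (.ofNat 20, 22), (.ofNat 20, 26), (.ofNat
  20, 29), (.ofNat 20, 30), (.negSucc 19, 33), (.negSucc 19, 34), (.negSucc 19, 35), (.ofNat 20, 37), (.negSucc 19,
  40), (.ofNat 20, 45), (.negSucc 19, 53), (.ofNat 20, 55), (.negSucc 19, 56), (.negSucc 19, 62), (.ofNat 20, 71),
  (.negSucc 19, 74), (.negSucc 19, 79), (.ofNat 20, 80), (.ofNat 20, 81), (.ofNat 20, 92), (.negSucc 19, 96),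
  (.negSucc 29, 97)])])

/-- a candidate -/
def c239 : ℕ × ℕ × List Step :=
  (23477000601600, 13, [(0, 0, .ofNat 243, 0, [(.ofNat 81, 5), (.negSucc 80, 6), (.ofNat 81, 9), (.negSucc 80, 11),
  (.ofNat 81, 13), (.negSucc 80, 17), (.ofNat 81, 22), (.ofNat 81, 26), (.ofNat 81, 29), (.negSucc 80, 33), (.negSucc
  80, 35), (.ofNat 81, 37), (.negSucc 80, 40), (.ofNat 81, 45), (.negSucc 80, 53), (.ofNat 81, 55), (.negSucc 80,
  56), (.negSucc 80, 62), (.ofNat 81, 66), (.negSucc 80, 68), (.ofNat 81, 71), (.negSucc 80, 74), (.negSucc 80, 79),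
  (.ofNat 81, 80), (.ofNat 81, 81), (.ofNat 81, 94), (.negSucc 80, 96), (.negSucc 39, 97)])])

/-- a candidate -/
def c240 : ℕ × ℕ × List Step :=
  (23477000601600, 39, [(0, 0, .ofNat 1, 0, [(.ofNat 1, 5), (.ofNat 1, 9), (.negSucc 0, 17), (.ofNat 1, 22), (.ofNat
  1, 36), (.ofNat 1, 37), (.negSucc 0, 40), (.negSucc 0, 53), (.negSucc 0, 56), (.negSucc 0, 62), (.ofNat 1, 71),
  (.negSucc 0, 72), (.ofNat 1, 81)])])

/-- a candidate -/
def c241 : ℕ × ℕ × List Step :=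
  (25360957440000, 13, [(0, 0, .ofNat 243, 0, [(.ofNat 81, 5), (.negSucc 80, 6), (.ofNat 81, 9), (.negSucc 80, 11),
  (.ofNat 81, 13), (.negSucc 80, 17), (.ofNat 81, 22), (.ofNat 81, 26), (.ofNat 81, 29), (.negSucc 80, 33), (.negSucc
  80, 35), (.ofNat 81, 37), (.negSucc 80, 40), (.ofNat 81, 45), (.negSucc 80, 53), (.ofNat 81, 55), (.negSucc 80,
  56), (.negSucc 80, 62), (.ofNat 81, 66), (.negSucc 80, 68), (.ofNat 81, 71), (.negSucc 80, 74), (.negSucc 80, 79),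
  (.ofNat 81, 80), (.ofNat 81, 81), (.ofNat 81, 94), (.negSucc 80, 96), (.negSucc 39, 97)])])

/-- a candidate -/
def c242 : ℕ × ℕ × List Step :=
  (25798901760000, 2, [(0, 0, .ofNat 243, 0, [(.negSucc 18, 1), (.negSucc 46, 6), (.negSucc 17, 9), (.ofNat 18, 10),
  (.negSucc 37, 11), (.negSucc 34, 15), (.ofNat 36, 16), (.negSucc 54, 17), (.negSucc 4, 18), (.ofNat 8, 19), (.ofNat
  17, 21), (.ofNat 50, 23), (.negSucc 6, 27), (.ofNat 24, 29), (.ofNat 3, 31), (.negSucc 50, 32), (.ofNat 10, 34),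
  (.negSucc 60, 35), (.ofNat 44, 37), (.negSucc 2, 39), (.negSucc 13, 40), (.negSucc 8, 43), (.negSucc 11, 44),
  (.ofNat 25, 52), (.negSucc 21, 53), (.ofNat 35, 55), (.ofNat 28, 56), (.negSucc 21, 57), (.ofNat 5, 58), (.ofNat 2,
  60), (.ofNat 12, 61), (.negSucc 4, 66), (.negSucc 38, 74), (.negSucc 39, 79), (.ofNat 4, 80), (.ofNat 27, 81),
  (.ofNat 23, 85), (.negSucc 1, 90), (.ofNat 36, 92), (.negSucc 13, 93), (.ofNat 7, 95), (.negSucc 60, 97), (.ofNat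
  4, 98)])])

/-- a candidate -/
def c243 : ℕ × ℕ × List Step :=
  (25798901760000, 3, [(0, 0, .ofNat 243, 0, [(.negSucc 18, 1), (.negSucc 46, 6), (.negSucc 17, 9), (.ofNat 18, 10),
  (.negSucc 37, 11), (.negSucc 34, 15), (.ofNat 36, 16), (.negSucc 54, 17), (.negSucc 4, 18), (.ofNat 8, 19), (.ofNat
  17, 21), (.ofNat 50, 23), (.negSucc 6, 27), (.ofNat 24, 29), (.ofNat 3, 31), (.negSucc 50, 32), (.ofNat 10, 34),
  (.negSucc 60, 35), (.ofNat 44, 37), (.negSucc 2, 39), (.negSucc 13, 40), (.negSucc 8, 43), (.negSucc 11, 44),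
  (.ofNat 25, 52), (.negSucc 21, 53), (.ofNat 35, 55), (.ofNat 28, 56), (.negSucc 21, 57), (.ofNat 5, 58), (.ofNat 2,
  60), (.ofNat 12, 61), (.negSucc 4, 66), (.negSucc 38, 74), (.negSucc 39, 79), (.ofNat 4, 80), (.ofNat 27, 81),
  (.ofNat 23, 85), (.negSucc 1, 90), (.ofNat 36, 92), (.negSucc 13, 93), (.ofNat 7, 95), (.negSucc 60, 97), (.ofNat
  4, 98)])])

/-- a candidate -/
def c244 : ℕ × ℕ × List Step :=
  (25798901760000, 4, [(0, 0, .ofNat 729, 0, [(.negSucc 3, 1), (.negSucc 174, 6), (.negSucc 10, 7), (.negSucc 7, 8),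
  (.negSucc 25, 9), (.ofNat 24, 10), (.negSucc 85, 11), (.ofNat 2, 12), (.ofNat 116, 16), (.negSucc 166, 17),
  (.negSucc 35, 18), (.ofNat 42, 19), (.ofNat 57, 21), (.ofNat 89, 23), (.ofNat 9, 31), (.negSucc 124, 32), (.ofNat
  21, 34), (.negSucc 180, 35), (.ofNat 158, 37), (.negSucc 27, 39), (.negSucc 27, 40), (.negSucc 20, 41), (.negSucc
  35, 43), (.negSucc 73, 44), (.ofNat 69, 50), (.negSucc 28, 51), (.ofNat 75, 52), (.negSucc 96, 53), (.ofNat 99,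
  55), (.ofNat 125, 56), (.negSucc 57, 57), (.ofNat 37, 61), (.negSucc 92, 66), (.negSucc 70, 74), (.negSucc 16, 75),
  (.negSucc 121, 79), (.ofNat 62, 81), (.ofNat 45, 84), (.ofNat 127, 85), (.ofNat 91, 92), (.negSucc 26, 93), (.ofNat
  43, 95), (.negSucc 57, 96), (.negSucc 185, 97), (.ofNat 23, 98)])])

/-- a candidate -/
def c245 : ℕ × ℕ × List Step :=
  (25798901760000, 5, [(0, 0, .ofNat 9, 0, [(.negSucc 1, 6), (.ofNat 2, 10), (.negSucc 1, 11), (.ofNat 2, 13),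
  (.ofNat 2, 16), (.negSucc 1, 18), (.ofNat 2, 21), (.ofNat 2, 22), (.ofNat 2, 26), (.ofNat 2, 29), (.negSucc 1, 34),
  (.negSucc 1, 35), (.ofNat 4, 37), (.negSucc 1, 40), (.negSucc 1, 43), (.ofNat 2, 45), (.negSucc 1, 53), (.ofNat 2,
  55), (.negSucc 3, 56), (.ofNat 2, 61), (.ofNat 2, 69), (.negSucc 1, 72), (.negSucc 1, 74), (.negSucc 1, 79),
  (.ofNat 2, 80), (.ofNat 2, 81), (.ofNat 2, 92), (.negSucc 1, 96), (.negSucc 2, 97)])])

/-- a candidate -/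
def c246 : ℕ × ℕ × List Step :=
  (25798901760000, 6, [(0, 0, .ofNat 243, 0, [(.negSucc 0, 4), (.negSucc 42, 6), (.negSucc 6, 7), (.negSucc 6, 8),
  (.negSucc 63, 9), (.ofNat 4, 10), (.negSucc 40, 11), (.ofNat 19, 12), (.negSucc 48, 15), (.ofNat 66, 16), (.negSucc
  86, 17), (.ofNat 1, 19), (.ofNat 32, 23), (.negSucc 0, 24), (.negSucc 0, 25), (.negSucc 3, 27), (.negSucc 48, 28),
  (.ofNat 21, 31), (.negSucc 5, 34), (.negSucc 45, 35), (.ofNat 43, 37), (.negSucc 9, 40), (.negSucc 0, 42),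
  (.negSucc 26, 43), (.ofNat 18, 45), (.ofNat 4, 46), (.ofNat 34, 52), (.negSucc 31, 53), (.ofNat 41, 55), (.ofNat 1,
  57), (.ofNat 30, 61), (.ofNat 9, 64), (.negSucc 30, 74), (.negSucc 28, 79), (.ofNat 65, 80), (.ofNat 37, 81),
  (.ofNat 12, 84), (.ofNat 55, 85), (.ofNat 9, 86), (.ofNat 31, 92), (.negSucc 17, 93), (.negSucc 24, 95), (.negSucc
  19, 96), (.negSucc 51, 97)])])

/-- a candidate -/
def c247 : ℕ × ℕ × List Step :=
  (25798901760000, 8, [(0, 0, .ofNat 729, 0, [(.negSucc 137, 6), (.negSucc 93, 7), (.negSucc 282, 9), (.ofNat 4, 10),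
  (.negSucc 116, 11), (.ofNat 115, 12), (.ofNat 40, 13), (.ofNat 179, 16), (.negSucc 297, 17), (.negSucc 38, 18),
  (.ofNat 10, 21), (.ofNat 91, 23), (.negSucc 11, 24), (.negSucc 126, 28), (.ofNat 40, 31), (.negSucc 68, 32),
  (.negSucc 145, 35), (.ofNat 113, 37), (.negSucc 4, 38), (.negSucc 18, 40), (.negSucc 32, 42), (.negSucc 81, 43),
  (.ofNat 34, 44), (.ofNat 100, 45), (.ofNat 26, 46), (.negSucc 33, 48), (.negSucc 31, 50), (.negSucc 3, 51), (.ofNat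
  89, 52), (.negSucc 127, 53), (.ofNat 107, 55), (.ofNat 104, 61), (.ofNat 75, 64), (.negSucc 2, 65), (.negSucc 82,
  66), (.negSucc 18, 70), (.ofNat 63, 71), (.negSucc 87, 74), (.ofNat 6, 76), (.negSucc 100, 79), (.ofNat 159, 80),
  (.ofNat 90, 81), (.ofNat 69, 84), (.ofNat 148, 85), (.ofNat 34, 89), (.negSucc 8, 90), (.ofNat 112, 92), (.negSucc
  108, 93), (.negSucc 84, 95), (.negSucc 161, 97)])])

/-- a candidate -/
def c248 : ℕ × ℕ × List Step :=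
  (25798901760000, 10, [(0, 0, .ofNat 9, 0, [(.negSucc 1, 6), (.ofNat 2, 10), (.negSucc 1, 11), (.ofNat 2, 13),
  (.ofNat 2, 16), (.negSucc 1, 18), (.ofNat 2, 21), (.ofNat 2, 22), (.ofNat 2, 26), (.ofNat 2, 29), (.negSucc 1, 34),
  (.negSucc 1, 35), (.ofNat 4, 37), (.negSucc 1, 40), (.negSucc 1, 43), (.ofNat 2, 45), (.negSucc 1, 53), (.ofNat 2,
  55), (.negSucc 3, 56), (.ofNat 2, 61), (.ofNat 2, 69), (.negSucc 1, 72), (.negSucc 1, 74), (.negSucc 1, 79),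
  (.ofNat 2, 80), (.ofNat 2, 81), (.ofNat 2, 92), (.negSucc 1, 96), (.negSucc 2, 97)])])

/-- a candidate -/
def c249 : ℕ × ℕ × List Step :=
  (25798901760000, 12, [(0, 0, .ofNat 9, 0, [(.negSucc 1, 6), (.ofNat 2, 10), (.negSucc 1, 11), (.ofNat 2, 13),
  (.ofNat 2, 16), (.negSucc 1, 18), (.ofNat 2, 21), (.ofNat 2, 22), (.ofNat 2, 26), (.ofNat 2, 29), (.negSucc 1, 34),
  (.negSucc 1, 35), (.ofNat 4, 37), (.negSucc 1, 40), (.negSucc 1, 43), (.ofNat 2, 45), (.negSucc 1, 53), (.ofNat 2,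
  55), (.negSucc 3, 56), (.ofNat 2, 61), (.ofNat 2, 69), (.negSucc 1, 72), (.negSucc 1, 74), (.negSucc 1, 79),
  (.ofNat 2, 80), (.ofNat 2, 81), (.ofNat 2, 92), (.negSucc 1, 96), (.negSucc 2, 97)])])

/-- a candidate -/
def c250 : ℕ × ℕ × List Step :=
  (25798901760000, 15, [(0, 0, .ofNat 9, 0, [(.negSucc 1, 6), (.ofNat 2, 10), (.negSucc 1, 11), (.ofNat 2, 13),
  (.ofNat 2, 16), (.negSucc 1, 18), (.ofNat 2, 21), (.ofNat 2, 22), (.ofNat 2, 26), (.ofNat 2, 29), (.negSucc 1, 34),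
  (.negSucc 1, 35), (.ofNat 4, 37), (.negSucc 1, 40), (.negSucc 1, 43), (.ofNat 2, 45), (.negSucc 1, 53), (.ofNat 2,
  55), (.negSucc 3, 56), (.ofNat 2, 61), (.ofNat 2, 69), (.negSucc 1, 72), (.negSucc 1, 74), (.negSucc 1, 79),
  (.ofNat 2, 80), (.ofNat 2, 81), (.ofNat 2, 92), (.negSucc 1, 96), (.negSucc 2, 97)])])

/-- a candidate -/
def c251 : ℕ × ℕ × List Step :=
  (25798901760000, 20, [(0, 0, .ofNat 9, 0, [(.negSucc 1, 6), (.ofNat 2, 10), (.negSucc 1, 11), (.ofNat 2, 13),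
  (.ofNat 2, 16), (.negSucc 1, 18), (.ofNat 2, 21), (.ofNat 2, 22), (.ofNat 2, 26), (.ofNat 2, 29), (.negSucc 1, 34),
  (.negSucc 1, 35), (.ofNat 4, 37), (.negSucc 1, 40), (.negSucc 1, 43), (.ofNat 2, 45), (.negSucc 1, 53), (.ofNat 2,
  55), (.negSucc 3, 56), (.ofNat 2, 61), (.ofNat 2, 69), (.negSucc 1, 72), (.negSucc 1, 74), (.negSucc 1, 79),
  (.ofNat 2, 80), (.ofNat 2, 81), (.ofNat 2, 92), (.negSucc 1, 96), (.negSucc 2, 97)])])

/-- candidates -/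
def CL8 : List (ℕ × ℕ × List Step) :=
  [c224, c225, c226, c227, c228, c229, c230, c231, c232, c233, c234, c235, c236, c237, c238, c239, c240, c241, c242,
  c243, c244, c245, c246, c247, c248, c249, c250, c251]

theorem okC8 : okL TAB.Co1.D (TAB.Sm2.mkRows TAB.Co1.RA TAB.Co1.RB) 2 P Z CL8 = true := by decide +kernel

/-- a candidate -/
def c252 : ℕ × ℕ × List Step :=
  (25798901760000, 24, [(0, 0, .ofNat 9, 0, [(.negSucc 1, 6), (.ofNat 2, 10), (.negSucc 1, 11), (.ofNat 2, 13),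
  (.ofNat 2, 16), (.negSucc 1, 18), (.ofNat 2, 21), (.ofNat 2, 22), (.ofNat 2, 26), (.ofNat 2, 29), (.negSucc 1, 34),
  (.negSucc 1, 35), (.ofNat 4, 37), (.negSucc 1, 40), (.negSucc 1, 43), (.ofNat 2, 45), (.negSucc 1, 53), (.ofNat 2,
  55), (.negSucc 3, 56), (.ofNat 2, 61), (.ofNat 2, 69), (.negSucc 1, 72), (.negSucc 1, 74), (.negSucc 1, 79),
  (.ofNat 2, 80), (.ofNat 2, 81), (.ofNat 2, 92), (.negSucc 1, 96), (.negSucc 2, 97)])])

/-- a candidate -/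
def c253 : ℕ × ℕ × List Step :=
  (25798901760000, 30, [(0, 0, .ofNat 9, 0, [(.negSucc 1, 6), (.ofNat 2, 10), (.negSucc 1, 11), (.ofNat 2, 13),
  (.ofNat 2, 16), (.negSucc 1, 18), (.ofNat 2, 21), (.ofNat 2, 22), (.ofNat 2, 26), (.ofNat 2, 29), (.negSucc 1, 34),
  (.negSucc 1, 35), (.ofNat 4, 37), (.negSucc 1, 40), (.negSucc 1, 43), (.ofNat 2, 45), (.negSucc 1, 53), (.ofNat 2,
  55), (.negSucc 3, 56), (.ofNat 2, 61), (.ofNat 2, 69), (.negSucc 1, 72), (.negSucc 1, 74), (.negSucc 1, 79),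
  (.ofNat 2, 80), (.ofNat 2, 81), (.ofNat 2, 92), (.negSucc 1, 96), (.negSucc 2, 97)])])

/-- a candidate -/
def c254 : ℕ × ℕ × List Step :=
  (25798901760000, 40, [(0, 0, .ofNat 9, 0, [(.negSucc 1, 6), (.ofNat 2, 10), (.negSucc 1, 11), (.ofNat 2, 13),
  (.ofNat 2, 16), (.negSucc 1, 18), (.ofNat 2, 21), (.ofNat 2, 22), (.ofNat 2, 26), (.ofNat 2, 29), (.negSucc 1, 34),
  (.negSucc 1, 35), (.ofNat 4, 37), (.negSucc 1, 40), (.negSucc 1, 43), (.ofNat 2, 45), (.negSucc 1, 53), (.ofNat 2,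
  55), (.negSucc 3, 56), (.ofNat 2, 61), (.ofNat 2, 69), (.negSucc 1, 72), (.negSucc 1, 74), (.negSucc 1, 79),
  (.ofNat 2, 80), (.ofNat 2, 81), (.ofNat 2, 92), (.negSucc 1, 96), (.negSucc 2, 97)])])

/-- a candidate -/
def c255 : ℕ × ℕ × List Step :=
  (25798901760000, 60, [(0, 0, .ofNat 9, 0, [(.negSucc 1, 6), (.ofNat 2, 10), (.negSucc 1, 11), (.ofNat 2, 13),
  (.ofNat 2, 16), (.negSucc 1, 18), (.ofNat 2, 21), (.ofNat 2, 22), (.ofNat 2, 26), (.ofNat 2, 29), (.negSucc 1, 34),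
  (.negSucc 1, 35), (.ofNat 4, 37), (.negSucc 1, 40), (.negSucc 1, 43), (.ofNat 2, 45), (.negSucc 1, 53), (.ofNat 2,
  55), (.negSucc 3, 56), (.ofNat 2, 61), (.ofNat 2, 69), (.negSucc 1, 72), (.negSucc 1, 74), (.negSucc 1, 79),
  (.ofNat 2, 80), (.ofNat 2, 81), (.ofNat 2, 92), (.negSucc 1, 96), (.negSucc 2, 97)])])

/-- a candidate -/
def c256 : ℕ × ℕ × List Step :=
  (25798901760000, 120, [(0, 0, .ofNat 9, 0, [(.negSucc 1, 6), (.ofNat 2, 10), (.negSucc 1, 11), (.ofNat 2, 13),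
  (.ofNat 2, 16), (.negSucc 1, 18), (.ofNat 2, 21), (.ofNat 2, 22), (.ofNat 2, 26), (.ofNat 2, 29), (.negSucc 1, 34),
  (.negSucc 1, 35), (.ofNat 4, 37), (.negSucc 1, 40), (.negSucc 1, 43), (.ofNat 2, 45), (.negSucc 1, 53), (.ofNat 2,
  55), (.negSucc 3, 56), (.ofNat 2, 61), (.ofNat 2, 69), (.negSucc 1, 72), (.negSucc 1, 74), (.negSucc 1, 79),
  (.ofNat 2, 80), (.ofNat 2, 81), (.ofNat 2, 92), (.negSucc 1, 96), (.negSucc 2, 97)])])

/-- a candidate -/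
def c257 : ℕ × ℕ × List Step :=
  (26336378880000, 7, [(0, 0, .ofNat 729, 0, [(.ofNat 280, 2), (.negSucc 167, 5), (.negSucc 167, 6), (.negSucc 55,
  7), (.negSucc 111, 9), (.ofNat 168, 10), (.negSucc 167, 11), (.ofNat 112, 12), (.ofNat 56, 13), (.negSucc 111, 15),
  (.negSucc 111, 17), (.negSucc 55, 18), (.ofNat 168, 21), (.ofNat 112, 23), (.negSucc 55, 24), (.negSucc 167, 28),
  (.ofNat 56, 29), (.ofNat 168, 30), (.ofNat 112, 31), (.negSucc 167, 33), (.negSucc 55, 34), (.negSucc 167, 35),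
  (.negSucc 167, 36), (.negSucc 55, 37), (.ofNat 168, 45), (.ofNat 56, 50), (.ofNat 168, 52), (.ofNat 168, 55),
  (.ofNat 168, 56), (.ofNat 56, 57), (.ofNat 56, 64), (.ofNat 168, 72), (.negSucc 167, 74), (.negSucc 55, 75),
  (.negSucc 167, 79), (.ofNat 168, 80), (.ofNat 224, 85), (.negSucc 55, 90), (.ofNat 168, 92), (.negSucc 111, 93),
  (.negSucc 111, 95), (.negSucc 111, 96), (.negSucc 251, 97)])])

/-- a candidate -/
def c258 : ℕ × ℕ × List Step :=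
  (46820229120000, 7, [(0, 0, .ofNat 81, 0, [(.negSucc 26, 5), (.negSucc 26, 6), (.ofNat 27, 10), (.negSucc 26, 11),
  (.ofNat 27, 13), (.negSucc 26, 18), (.ofNat 27, 21), (.ofNat 27, 26), (.ofNat 27, 29), (.ofNat 27, 30), (.negSucc
  26, 33), (.negSucc 26, 34), (.negSucc 26, 35), (.negSucc 26, 36), (.ofNat 27, 45), (.ofNat 27, 55), (.ofNat 27,
  72), (.negSucc 26, 74), (.negSucc 26, 79), (.ofNat 27, 80), (.ofNat 27, 92), (.negSucc 26, 96), (.negSucc 40,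
  97)])])

/-- a candidate -/
def c259 : ℕ × ℕ × List Step :=
  (46820229120000, 14, [(0, 0, .ofNat 81, 0, [(.negSucc 26, 5), (.negSucc 26, 6), (.ofNat 27, 10), (.negSucc 26, 11),
  (.ofNat 27, 13), (.negSucc 26, 18), (.ofNat 27, 21), (.ofNat 27, 26), (.ofNat 27, 29), (.ofNat 27, 30), (.negSucc
  26, 33), (.negSucc 26, 34), (.negSucc 26, 35), (.negSucc 26, 36), (.ofNat 27, 45), (.ofNat 27, 55), (.ofNat 27,
  72), (.negSucc 26, 74), (.negSucc 26, 79), (.ofNat 27, 80), (.ofNat 27, 92), (.negSucc 26, 96), (.negSucc 40,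
  97)])])

/-- a candidate -/
def c260 : ℕ × ℕ × List Step :=
  (48910417920000, 13, [(0, 0, .ofNat 81, 0, [(.ofNat 27, 5), (.negSucc 26, 6), (.ofNat 27, 9), (.negSucc 26, 11),
  (.ofNat 27, 13), (.negSucc 26, 17), (.ofNat 27, 22), (.ofNat 27, 26), (.ofNat 27, 29), (.negSucc 26, 33), (.negSucc
  26, 35), (.ofNat 27, 37), (.negSucc 26, 40), (.ofNat 27, 45), (.negSucc 26, 53), (.ofNat 27, 55), (.negSucc 26,
  56), (.negSucc 26, 62), (.ofNat 27, 66), (.negSucc 26, 68), (.ofNat 27, 71), (.negSucc 26, 74), (.negSucc 26, 79),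
  (.ofNat 27, 80), (.ofNat 27, 81), (.ofNat 27, 94), (.negSucc 26, 96), (.negSucc 12, 97)])])

/-- a candidate -/
def c261 : ℕ × ℕ × List Step :=
  (50565847449600, 6, [(0, 0, .ofNat 81, 0, [(.negSucc 19, 6), (.ofNat 20, 9), (.ofNat 20, 10), (.negSucc 19, 11),
  (.ofNat 20, 13), (.negSucc 19, 17), (.negSucc 19, 18), (.ofNat 20, 21), (.ofNat 20, 22), (.ofNat 20, 26), (.ofNat
  20, 29), (.ofNat 20, 30), (.negSucc 19, 33), (.negSucc 19, 34), (.negSucc 19, 35), (.ofNat 20, 37), (.negSucc 19,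
  40), (.ofNat 20, 45), (.negSucc 19, 53), (.ofNat 20, 55), (.negSucc 19, 56), (.negSucc 19, 62), (.ofNat 20, 71),
  (.negSucc 19, 74), (.negSucc 19, 79), (.ofNat 20, 80), (.ofNat 20, 81), (.ofNat 20, 92), (.negSucc 19, 96),
  (.negSucc 29, 97)])])

/-- a candidate -/
def c262 : ℕ × ℕ × List Step :=
  (50565847449600, 8, [(0, 0, .ofNat 81, 0, [(.negSucc 19, 6), (.ofNat 20, 9), (.ofNat 20, 10), (.negSucc 19, 11),
  (.ofNat 20, 13), (.negSucc 19, 17), (.negSucc 19, 18), (.ofNat 20, 21), (.ofNat 20, 22), (.ofNat 20, 26), (.ofNat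
  20, 29), (.ofNat 20, 30), (.negSucc 19, 33), (.negSucc 19, 34), (.negSucc 19, 35), (.ofNat 20, 37), (.negSucc 19,
  40), (.ofNat 20, 45), (.negSucc 19, 53), (.ofNat 20, 55), (.negSucc 19, 56), (.negSucc 19, 62), (.ofNat 20, 71),
  (.negSucc 19, 74), (.negSucc 19, 79), (.ofNat 20, 80), (.ofNat 20, 81), (.ofNat 20, 92), (.negSucc 19, 96),
  (.negSucc 29, 97)])])

/-- a candidate -/
def c263 : ℕ × ℕ × List Step :=
  (50565847449600, 9, [(0, 0, .ofNat 81, 0, [(.negSucc 19, 6), (.ofNat 20, 9), (.ofNat 20, 10), (.negSucc 19, 11),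
  (.ofNat 20, 13), (.negSucc 19, 17), (.negSucc 19, 18), (.ofNat 20, 21), (.ofNat 20, 22), (.ofNat 20, 26), (.ofNat
  20, 29), (.ofNat 20, 30), (.negSucc 19, 33), (.negSucc 19, 34), (.negSucc 19, 35), (.ofNat 20, 37), (.negSucc 19,
  40), (.ofNat 20, 45), (.negSucc 19, 53), (.ofNat 20, 55), (.negSucc 19, 56), (.negSucc 19, 62), (.ofNat 20, 71),
  (.negSucc 19, 74), (.negSucc 19, 79), (.ofNat 20, 80), (.ofNat 20, 81), (.ofNat 20, 92), (.negSucc 19, 96),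
  (.negSucc 29, 97)])])

/-- a candidate -/
def c264 : ℕ × ℕ × List Step :=
  (50565847449600, 12, [(0, 0, .ofNat 81, 0, [(.negSucc 19, 6), (.ofNat 20, 9), (.ofNat 20, 10), (.negSucc 19, 11),
  (.ofNat 20, 13), (.negSucc 19, 17), (.negSucc 19, 18), (.ofNat 20, 21), (.ofNat 20, 22), (.ofNat 20, 26), (.ofNat
  20, 29), (.ofNat 20, 30), (.negSucc 19, 33), (.negSucc 19, 34), (.negSucc 19, 35), (.ofNat 20, 37), (.negSucc 19,
  40), (.ofNat 20, 45), (.negSucc 19, 53), (.ofNat 20, 55), (.negSucc 19, 56), (.negSucc 19, 62), (.ofNat 20, 71),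
  (.negSucc 19, 74), (.negSucc 19, 79), (.ofNat 20, 80), (.ofNat 20, 81), (.ofNat 20, 92), (.negSucc 19, 96),
  (.negSucc 29, 97)])])

/-- a candidate -/
def c265 : ℕ × ℕ × List Step :=
  (50565847449600, 16, [(0, 0, .ofNat 81, 0, [(.negSucc 19, 6), (.ofNat 20, 9), (.ofNat 20, 10), (.negSucc 19, 11),
  (.ofNat 20, 13), (.negSucc 19, 17), (.negSucc 19, 18), (.ofNat 20, 21), (.ofNat 20, 22), (.ofNat 20, 26), (.ofNat
  20, 29), (.ofNat 20, 30), (.negSucc 19, 33), (.negSucc 19, 34), (.negSucc 19, 35), (.ofNat 20, 37), (.negSucc 19,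
  40), (.ofNat 20, 45), (.negSucc 19, 53), (.ofNat 20, 55), (.negSucc 19, 56), (.negSucc 19, 62), (.ofNat 20, 71),
  (.negSucc 19, 74), (.negSucc 19, 79), (.ofNat 20, 80), (.ofNat 20, 81), (.ofNat 20, 92), (.negSucc 19, 96),
  (.negSucc 29, 97)])])

/-- a candidate -/
def c266 : ℕ × ℕ × List Step :=
  (50565847449600, 18, [(0, 0, .ofNat 81, 0, [(.negSucc 19, 6), (.ofNat 20, 9), (.ofNat 20, 10), (.negSucc 19, 11),
  (.ofNat 20, 13), (.negSucc 19, 17), (.negSucc 19, 18), (.ofNat 20, 21), (.ofNat 20, 22), (.ofNat 20, 26), (.ofNat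
  20, 29), (.ofNat 20, 30), (.negSucc 19, 33), (.negSucc 19, 34), (.negSucc 19, 35), (.ofNat 20, 37), (.negSucc 19,
  40), (.ofNat 20, 45), (.negSucc 19, 53), (.ofNat 20, 55), (.negSucc 19, 56), (.negSucc 19, 62), (.ofNat 20, 71),
  (.negSucc 19, 74), (.negSucc 19, 79), (.ofNat 20, 80), (.ofNat 20, 81), (.ofNat 20, 92), (.negSucc 19, 96),
  (.negSucc 29, 97)])])

/-- a candidate -/
def c267 : ℕ × ℕ × List Step :=
  (50565847449600, 24, [(0, 0, .ofNat 81, 0, [(.negSucc 19, 6), (.ofNat 20, 9), (.ofNat 20, 10), (.negSucc 19, 11),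
  (.ofNat 20, 13), (.negSucc 19, 17), (.negSucc 19, 18), (.ofNat 20, 21), (.ofNat 20, 22), (.ofNat 20, 26), (.ofNat
  20, 29), (.ofNat 20, 30), (.negSucc 19, 33), (.negSucc 19, 34), (.negSucc 19, 35), (.ofNat 20, 37), (.negSucc 19,
  40), (.ofNat 20, 45), (.negSucc 19, 53), (.ofNat 20, 55), (.negSucc 19, 56), (.negSucc 19, 62), (.ofNat 20, 71),
  (.negSucc 19, 74), (.negSucc 19, 79), (.ofNat 20, 80), (.ofNat 20, 81), (.ofNat 20, 92), (.negSucc 19, 96),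
  (.negSucc 29, 97)])])

/-- a candidate -/
def c268 : ℕ × ℕ × List Step :=
  (50565847449600, 36, [(0, 0, .ofNat 81, 0, [(.negSucc 19, 6), (.ofNat 20, 9), (.ofNat 20, 10), (.negSucc 19, 11),
  (.ofNat 20, 13), (.negSucc 19, 17), (.negSucc 19, 18), (.ofNat 20, 21), (.ofNat 20, 22), (.ofNat 20, 26), (.ofNat
  20, 29), (.ofNat 20, 30), (.negSucc 19, 33), (.negSucc 19, 34), (.negSucc 19, 35), (.ofNat 20, 37), (.negSucc 19,
  40), (.ofNat 20, 45), (.negSucc 19, 53), (.ofNat 20, 55), (.negSucc 19, 56), (.negSucc 19, 62), (.ofNat 20, 71),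
  (.negSucc 19, 74), (.negSucc 19, 79), (.ofNat 20, 80), (.ofNat 20, 81), (.ofNat 20, 92), (.negSucc 19, 96),
  (.negSucc 29, 97)])])

/-- a candidate -/
def c269 : ℕ × ℕ × List Step :=
  (50565847449600, 48, [(0, 0, .ofNat 81, 0, [(.negSucc 19, 6), (.ofNat 20, 9), (.ofNat 20, 10), (.negSucc 19, 11),
  (.ofNat 20, 13), (.negSucc 19, 17), (.negSucc 19, 18), (.ofNat 20, 21), (.ofNat 20, 22), (.ofNat 20, 26), (.ofNat
  20, 29), (.ofNat 20, 30), (.negSucc 19, 33), (.negSucc 19, 34), (.negSucc 19, 35), (.ofNat 20, 37), (.negSucc 19,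
  40), (.ofNat 20, 45), (.negSucc 19, 53), (.ofNat 20, 55), (.negSucc 19, 56), (.negSucc 19, 62), (.ofNat 20, 71),
  (.negSucc 19, 74), (.negSucc 19, 79), (.ofNat 20, 80), (.ofNat 20, 81), (.ofNat 20, 92), (.negSucc 19, 96),
  (.negSucc 29, 97)])])

/-- a candidate -/
def c270 : ℕ × ℕ × List Step :=
  (50565847449600, 72, [(0, 0, .ofNat 81, 0, [(.negSucc 26, 5), (.negSucc 26, 6), (.ofNat 27, 10), (.negSucc 26, 11),
  (.ofNat 27, 13), (.negSucc 26, 18), (.ofNat 27, 21), (.ofNat 27, 26), (.ofNat 27, 29), (.ofNat 27, 30), (.negSucc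
  26, 33), (.negSucc 26, 34), (.negSucc 26, 35), (.negSucc 26, 36), (.ofNat 27, 45), (.ofNat 27, 55), (.ofNat 27,
  72), (.negSucc 26, 74), (.negSucc 26, 79), (.ofNat 27, 80), (.ofNat 27, 92), (.negSucc 26, 96), (.negSucc 40,
  97)])])

/-- a candidate -/
def c271 : ℕ × ℕ × List Step :=
  (50565847449600, 144, [(0, 0, .ofNat 81, 0, [(.negSucc 26, 5), (.negSucc 26, 6), (.ofNat 27, 10), (.negSucc 26,
  11), (.ofNat 27, 13), (.negSucc 26, 18), (.ofNat 27, 21), (.ofNat 27, 26), (.ofNat 27, 29), (.ofNat 27, 30),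
  (.negSucc 26, 33), (.negSucc 26, 34), (.negSucc 26, 35), (.negSucc 26, 36), (.ofNat 27, 45), (.ofNat 27, 55),
  (.ofNat 27, 72), (.negSucc 26, 74), (.negSucc 26, 79), (.ofNat 27, 80), (.ofNat 27, 92), (.negSucc 26, 96),
  (.negSucc 40, 97)])])

/-- a candidate -/
def c272 : ℕ × ℕ × List Step :=
  (52672757760000, 5, [(0, 0, .ofNat 81, 0, [(.negSucc 19, 6), (.ofNat 20, 9), (.ofNat 20, 10), (.negSucc 19, 11),
  (.ofNat 20, 13), (.negSucc 19, 17), (.negSucc 19, 18), (.ofNat 20, 21), (.ofNat 20, 22), (.ofNat 20, 26), (.ofNat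
  20, 29), (.ofNat 20, 30), (.negSucc 19, 33), (.negSucc 19, 34), (.negSucc 19, 35), (.ofNat 20, 37), (.negSucc 19,
  40), (.ofNat 20, 45), (.negSucc 19, 53), (.ofNat 20, 55), (.negSucc 19, 56), (.negSucc 19, 62), (.ofNat 20, 71),
  (.negSucc 19, 74), (.negSucc 19, 79), (.ofNat 20, 80), (.ofNat 20, 81), (.ofNat 20, 92), (.negSucc 19, 96),
  (.negSucc 29, 97)])])

/-- a candidate -/
def c273 : ℕ × ℕ × List Step :=
  (60197437440000, 4, [(0, 0, .ofNat 243, 0, [(.negSucc 1, 4), (.negSucc 43, 6), (.negSucc 0, 7), (.ofNat 2, 10),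
  (.negSucc 47, 11), (.ofNat 10, 12), (.ofNat 12, 13), (.negSucc 49, 15), (.ofNat 54, 16), (.negSucc 144, 17),
  (.ofNat 4, 19), (.negSucc 2, 20), (.ofNat 9, 21), (.ofNat 56, 22), (.ofNat 32, 23), (.negSucc 2, 24), (.negSucc 1,
  27), (.negSucc 44, 28), (.ofNat 6, 30), (.ofNat 17, 31), (.negSucc 54, 33), (.negSucc 34, 35), (.ofNat 45, 36),
  (.ofNat 40, 37), (.negSucc 8, 40), (.negSucc 1, 42), (.negSucc 25, 43), (.ofNat 32, 45), (.ofNat 4, 46), (.ofNat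
  36, 52), (.negSucc 31, 53), (.ofNat 39, 55), (.ofNat 5, 56), (.negSucc 5, 60), (.negSucc 18, 61), (.negSucc 51,
  62), (.ofNat 20, 64), (.negSucc 39, 69), (.ofNat 54, 71), (.negSucc 37, 74), (.negSucc 2, 75), (.negSucc 2, 76),
  (.negSucc 3, 78), (.negSucc 40, 79), (.ofNat 51, 80), (.ofNat 86, 81), (.ofNat 53, 85), (.ofNat 19, 92), (.negSucc
  20, 93), (.ofNat 4, 94), (.negSucc 33, 95), (.negSucc 43, 96), (.negSucc 54, 97)])])

/-- a candidate -/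
def c274 : ℕ × ℕ × List Step :=
  (63207309312000, 7, [(0, 0, .ofNat 81, 0, [(.negSucc 26, 5), (.negSucc 26, 6), (.ofNat 27, 10), (.negSucc 26, 11),
  (.ofNat 27, 13), (.negSucc 26, 18), (.ofNat 27, 21), (.ofNat 27, 26), (.ofNat 27, 29), (.ofNat 27, 30), (.negSucc
  26, 33), (.negSucc 26, 34), (.negSucc 26, 35), (.negSucc 26, 36), (.ofNat 27, 45), (.ofNat 27, 55), (.ofNat 27,
  72), (.negSucc 26, 74), (.negSucc 26, 79), (.ofNat 27, 80), (.ofNat 27, 92), (.negSucc 26, 96), (.negSucc 40,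
  97)])])

/-- a candidate -/
def c275 : ℕ × ℕ × List Step :=
  (79009136640000, 3, [(0, 0, .ofNat 243, 0, [(.negSucc 5, 3), (.negSucc 45, 6), (.negSucc 5, 7), (.ofNat 2, 10),
  (.negSucc 48, 11), (.ofNat 12, 12), (.ofNat 10, 13), (.negSucc 51, 15), (.ofNat 50, 16), (.negSucc 148, 17),
  (.negSucc 3, 20), (.ofNat 6, 21), (.ofNat 55, 22), (.ofNat 33, 23), (.negSucc 6, 24), (.negSucc 7, 27), (.negSucc
  37, 28), (.ofNat 4, 30), (.ofNat 18, 31), (.negSucc 61, 33), (.negSucc 37, 35), (.ofNat 40, 36), (.ofNat 46, 37),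
  (.negSucc 12, 40), (.ofNat 5, 41), (.negSucc 25, 43), (.ofNat 24, 45), (.ofNat 2, 47), (.ofNat 32, 52), (.negSucc
  30, 53), (.ofNat 36, 55), (.ofNat 3, 56), (.negSucc 4, 60), (.negSucc 18, 61), (.negSucc 44, 62), (.ofNat 9, 64),
  (.negSucc 45, 69), (.ofNat 58, 71), (.negSucc 37, 74), (.negSucc 1, 76), (.negSucc 38, 79), (.ofNat 60, 80),
  (.ofNat 81, 81), (.ofNat 3, 84), (.ofNat 53, 85), (.ofNat 23, 92), (.negSucc 22, 93), (.ofNat 1, 94), (.negSucc 31,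
  95), (.negSucc 42, 96), (.negSucc 57, 97)])])

/-- a candidate -/
def c276 : ℕ × ℕ × List Step :=
  (79009136640000, 9, [(0, 0, .ofNat 81, 0, [(.negSucc 19, 6), (.ofNat 20, 9), (.ofNat 20, 10), (.negSucc 19, 11),
  (.ofNat 20, 13), (.negSucc 19, 17), (.negSucc 19, 18), (.ofNat 20, 21), (.ofNat 20, 22), (.ofNat 20, 26), (.ofNat
  20, 29), (.ofNat 20, 30), (.negSucc 19, 33), (.negSucc 19, 34), (.negSucc 19, 35), (.ofNat 20, 37), (.negSucc 19,
  40), (.ofNat 20, 45), (.negSucc 19, 53), (.ofNat 20, 55), (.negSucc 19, 56), (.negSucc 19, 62), (.ofNat 20, 71),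
  (.negSucc 19, 74), (.negSucc 19, 79), (.ofNat 20, 80), (.ofNat 20, 81), (.ofNat 20, 92), (.negSucc 19, 96),
  (.negSucc 29, 97)])])

/-- a candidate -/
def c277 : ℕ × ℕ × List Step :=
  (79009136640000, 27, [(0, 0, .ofNat 81, 0, [(.negSucc 19, 6), (.ofNat 20, 9), (.ofNat 20, 10), (.negSucc 19, 11),
  (.ofNat 20, 13), (.negSucc 19, 17), (.negSucc 19, 18), (.ofNat 20, 21), (.ofNat 20, 22), (.ofNat 20, 26), (.ofNat
  20, 29), (.ofNat 20, 30), (.negSucc 19, 33), (.negSucc 19, 34), (.negSucc 19, 35), (.ofNat 20, 37), (.negSucc 19,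
  40), (.ofNat 20, 45), (.negSucc 19, 53), (.ofNat 20, 55), (.negSucc 19, 56), (.negSucc 19, 62), (.ofNat 20, 71),
  (.negSucc 19, 74), (.negSucc 19, 79), (.ofNat 20, 80), (.ofNat 20, 81), (.ofNat 20, 92), (.negSucc 19, 96),
  (.negSucc 29, 97)])])

/-- a candidate -/
def c278 : ℕ × ℕ × List Step :=
  (90296156160000, 5, [(0, 0, .ofNat 81, 0, [(.negSucc 19, 6), (.ofNat 20, 9), (.ofNat 20, 10), (.negSucc 19, 11),
  (.ofNat 20, 13), (.negSucc 19, 17), (.negSucc 19, 18), (.ofNat 20, 21), (.ofNat 20, 22), (.ofNat 20, 26), (.ofNat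
  20, 29), (.ofNat 20, 30), (.negSucc 19, 33), (.negSucc 19, 34), (.negSucc 19, 35), (.ofNat 20, 37), (.negSucc 19,
  40), (.ofNat 20, 45), (.negSucc 19, 53), (.ofNat 20, 55), (.negSucc 19, 56), (.negSucc 19, 62), (.ofNat 20, 71),
  (.negSucc 19, 74), (.negSucc 19, 79), (.ofNat 20, 80), (.ofNat 20, 81), (.ofNat 20, 92), (.negSucc 19, 96),
  (.negSucc 29, 97)])])

/-- a candidate -/
def c279 : ℕ × ℕ × List Step :=
  (126414618624000, 3, [(0, 0, .ofNat 81, 0, [(.negSucc 19, 6), (.ofNat 20, 9), (.ofNat 20, 10), (.negSucc 19, 11),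
  (.ofNat 20, 13), (.negSucc 19, 17), (.negSucc 19, 18), (.ofNat 20, 21), (.ofNat 20, 22), (.ofNat 20, 26), (.ofNat
  20, 29), (.ofNat 20, 30), (.negSucc 19, 33), (.negSucc 19, 34), (.negSucc 19, 35), (.ofNat 20, 37), (.negSucc 19,
  40), (.ofNat 20, 45), (.negSucc 19, 53), (.ofNat 20, 55), (.negSucc 19, 56), (.negSucc 19, 62), (.ofNat 20, 71),
  (.negSucc 19, 74), (.negSucc 19, 79), (.ofNat 20, 80), (.ofNat 20, 81), (.ofNat 20, 92), (.negSucc 19, 96),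
  (.negSucc 29, 97)])])

/-- candidates -/
def CL9 : List (ℕ × ℕ × List Step) :=
  [c252, c253, c254, c255, c256, c257, c258, c259, c260, c261, c262, c263, c264, c265, c266, c267, c268, c269, c270,
  c271, c272, c273, c274, c275, c276, c277, c278, c279]

theorem okC9 : okL TAB.Co1.D (TAB.Sm2.mkRows TAB.Co1.RA TAB.Co1.RB) 2 P Z CL9 = true := by decide +kernel

/-- a candidate -/
def c280 : ℕ × ℕ × List Step :=
  (128389847040000, 13, [(0, 0, .ofNat 81, 0, [(.ofNat 27, 5), (.negSucc 26, 6), (.ofNat 27, 9), (.negSucc 26, 11),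
  (.ofNat 27, 13), (.negSucc 26, 17), (.ofNat 27, 22), (.ofNat 27, 26), (.ofNat 27, 29), (.negSucc 26, 33), (.negSucc
  26, 35), (.ofNat 27, 37), (.negSucc 26, 40), (.ofNat 27, 45), (.negSucc 26, 53), (.ofNat 27, 55), (.negSucc 26,
  56), (.negSucc 26, 62), (.ofNat 27, 66), (.negSucc 26, 68), (.ofNat 27, 71), (.negSucc 26, 74), (.negSucc 26, 79),
  (.ofNat 27, 80), (.ofNat 27, 81), (.ofNat 27, 94), (.negSucc 26, 96), (.negSucc 12, 97)])])

/-- a candidate -/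
def c281 : ℕ × ℕ × List Step :=
  (132434362368000, 11, [(0, 0, .ofNat 81, 0, [(.negSucc 26, 6), (.ofNat 27, 9), (.ofNat 27, 10), (.negSucc 26, 17),
  (.negSucc 26, 18), (.ofNat 27, 21), (.ofNat 27, 22), (.ofNat 27, 26), (.ofNat 27, 30), (.negSucc 26, 34), (.negSucc
  26, 35), (.ofNat 27, 36), (.ofNat 27, 37), (.negSucc 26, 40), (.ofNat 27, 45), (.negSucc 26, 53), (.negSucc 26,
  56), (.negSucc 26, 59), (.negSucc 26, 62), (.ofNat 27, 68), (.ofNat 27, 71), (.negSucc 26, 79), (.ofNat 27, 81),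
  (.ofNat 27, 92), (.negSucc 26, 96), (.negSucc 40, 97)])])

/-- a candidate -/
def c282 : ℕ × ℕ × List Step :=
  (132434362368000, 22, [(0, 0, .ofNat 81, 0, [(.negSucc 26, 6), (.ofNat 27, 9), (.ofNat 27, 10), (.negSucc 26, 17),
  (.negSucc 26, 18), (.ofNat 27, 21), (.ofNat 27, 22), (.ofNat 27, 26), (.ofNat 27, 30), (.negSucc 26, 34), (.negSucc
  26, 35), (.ofNat 27, 36), (.ofNat 27, 37), (.negSucc 26, 40), (.ofNat 27, 45), (.negSucc 26, 53), (.negSucc 26,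
  56), (.negSucc 26, 59), (.negSucc 26, 62), (.ofNat 27, 68), (.ofNat 27, 71), (.negSucc 26, 79), (.ofNat 27, 81),
  (.ofNat 27, 92), (.negSucc 26, 96), (.negSucc 40, 97)])])

/-- a candidate -/
def c283 : ℕ × ℕ × List Step :=
  (140460687360000, 2, [(0, 0, .ofNat 81, 0, [(.negSucc 19, 6), (.ofNat 20, 9), (.ofNat 20, 10), (.negSucc 19, 11),
  (.ofNat 20, 13), (.negSucc 19, 17), (.negSucc 19, 18), (.ofNat 20, 21), (.ofNat 20, 22), (.ofNat 20, 26), (.ofNat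
  20, 29), (.ofNat 20, 30), (.negSucc 19, 33), (.negSucc 19, 34), (.negSucc 19, 35), (.ofNat 20, 37), (.negSucc 19,
  40), (.ofNat 20, 45), (.negSucc 19, 53), (.ofNat 20, 55), (.negSucc 19, 56), (.negSucc 19, 62), (.ofNat 20, 71),
  (.negSucc 19, 74), (.negSucc 19, 79), (.ofNat 20, 80), (.ofNat 20, 81), (.ofNat 20, 92), (.negSucc 19, 96),
  (.negSucc 29, 97)])])

/-- a candidate -/
def c284 : ℕ × ℕ × List Step :=
  (140460687360000, 4, [(0, 0, .ofNat 81, 0, [(.negSucc 19, 6), (.ofNat 20, 9), (.ofNat 20, 10), (.negSucc 19, 11),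
  (.ofNat 20, 13), (.negSucc 19, 17), (.negSucc 19, 18), (.ofNat 20, 21), (.ofNat 20, 22), (.ofNat 20, 26), (.ofNat
  20, 29), (.ofNat 20, 30), (.negSucc 19, 33), (.negSucc 19, 34), (.negSucc 19, 35), (.ofNat 20, 37), (.negSucc 19,
  40), (.ofNat 20, 45), (.negSucc 19, 53), (.ofNat 20, 55), (.negSucc 19, 56), (.negSucc 19, 62), (.ofNat 20, 71),
  (.negSucc 19, 74), (.negSucc 19, 79), (.ofNat 20, 80), (.ofNat 20, 81), (.ofNat 20, 92), (.negSucc 19, 96),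
  (.negSucc 29, 97)])])

/-- a candidate -/
def c285 : ℕ × ℕ × List Step :=
  (140460687360000, 5, [(0, 0, .ofNat 81, 0, [(.negSucc 19, 6), (.ofNat 20, 9), (.ofNat 20, 10), (.negSucc 19, 11),
  (.ofNat 20, 13), (.negSucc 19, 17), (.negSucc 19, 18), (.ofNat 20, 21), (.ofNat 20, 22), (.ofNat 20, 26), (.ofNat
  20, 29), (.ofNat 20, 30), (.negSucc 19, 33), (.negSucc 19, 34), (.negSucc 19, 35), (.ofNat 20, 37), (.negSucc 19,
  40), (.ofNat 20, 45), (.negSucc 19, 53), (.ofNat 20, 55), (.negSucc 19, 56), (.negSucc 19, 62), (.ofNat 20, 71),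
  (.negSucc 19, 74), (.negSucc 19, 79), (.ofNat 20, 80), (.ofNat 20, 81), (.ofNat 20, 92), (.negSucc 19, 96),
  (.negSucc 29, 97)])])

/-- a candidate -/
def c286 : ℕ × ℕ × List Step :=
  (140460687360000, 8, [(0, 0, .ofNat 81, 0, [(.negSucc 19, 6), (.ofNat 20, 9), (.ofNat 20, 10), (.negSucc 19, 11),
  (.ofNat 20, 13), (.negSucc 19, 17), (.negSucc 19, 18), (.ofNat 20, 21), (.ofNat 20, 22), (.ofNat 20, 26), (.ofNat
  20, 29), (.ofNat 20, 30), (.negSucc 19, 33), (.negSucc 19, 34), (.negSucc 19, 35), (.ofNat 20, 37), (.negSucc 19,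
  40), (.ofNat 20, 45), (.negSucc 19, 53), (.ofNat 20, 55), (.negSucc 19, 56), (.negSucc 19, 62), (.ofNat 20, 71),
  (.negSucc 19, 74), (.negSucc 19, 79), (.ofNat 20, 80), (.ofNat 20, 81), (.ofNat 20, 92), (.negSucc 19, 96),
  (.negSucc 29, 97)])])

/-- a candidate -/
def c287 : ℕ × ℕ × List Step :=
  (140460687360000, 10, [(0, 0, .ofNat 81, 0, [(.negSucc 19, 6), (.ofNat 20, 9), (.ofNat 20, 10), (.negSucc 19, 11),
  (.ofNat 20, 13), (.negSucc 19, 17), (.negSucc 19, 18), (.ofNat 20, 21), (.ofNat 20, 22), (.ofNat 20, 26), (.ofNat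
  20, 29), (.ofNat 20, 30), (.negSucc 19, 33), (.negSucc 19, 34), (.negSucc 19, 35), (.ofNat 20, 37), (.negSucc 19,
  40), (.ofNat 20, 45), (.negSucc 19, 53), (.ofNat 20, 55), (.negSucc 19, 56), (.negSucc 19, 62), (.ofNat 20, 71),
  (.negSucc 19, 74), (.negSucc 19, 79), (.ofNat 20, 80), (.ofNat 20, 81), (.ofNat 20, 92), (.negSucc 19, 96),
  (.negSucc 29, 97)])])

/-- a candidate -/
def c288 : ℕ × ℕ × List Step :=
  (140460687360000, 16, [(0, 0, .ofNat 81, 0, [(.negSucc 19, 6), (.ofNat 20, 9), (.ofNat 20, 10), (.negSucc 19, 11),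
  (.ofNat 20, 13), (.negSucc 19, 17), (.negSucc 19, 18), (.ofNat 20, 21), (.ofNat 20, 22), (.ofNat 20, 26), (.ofNat
  20, 29), (.ofNat 20, 30), (.negSucc 19, 33), (.negSucc 19, 34), (.negSucc 19, 35), (.ofNat 20, 37), (.negSucc 19,
  40), (.ofNat 20, 45), (.negSucc 19, 53), (.ofNat 20, 55), (.negSucc 19, 56), (.negSucc 19, 62), (.ofNat 20, 71),
  (.negSucc 19, 74), (.negSucc 19, 79), (.ofNat 20, 80), (.ofNat 20, 81), (.ofNat 20, 92), (.negSucc 19, 96),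
  (.negSucc 29, 97)])])

/-- a candidate -/
def c289 : ℕ × ℕ × List Step :=
  (140460687360000, 20, [(0, 0, .ofNat 81, 0, [(.negSucc 19, 6), (.ofNat 20, 9), (.ofNat 20, 10), (.negSucc 19, 11),
  (.ofNat 20, 13), (.negSucc 19, 17), (.negSucc 19, 18), (.ofNat 20, 21), (.ofNat 20, 22), (.ofNat 20, 26), (.ofNat
  20, 29), (.ofNat 20, 30), (.negSucc 19, 33), (.negSucc 19, 34), (.negSucc 19, 35), (.ofNat 20, 37), (.negSucc 19,
  40), (.ofNat 20, 45), (.negSucc 19, 53), (.ofNat 20, 55), (.negSucc 19, 56), (.negSucc 19, 62), (.ofNat 20, 71),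
  (.negSucc 19, 74), (.negSucc 19, 79), (.ofNat 20, 80), (.ofNat 20, 81), (.ofNat 20, 92), (.negSucc 19, 96),
  (.negSucc 29, 97)])])

/-- a candidate -/
def c290 : ℕ × ℕ × List Step :=
  (140460687360000, 25, [(0, 0, .ofNat 81, 0, [(.negSucc 19, 6), (.ofNat 20, 9), (.ofNat 20, 10), (.negSucc 19, 11),
  (.ofNat 20, 13), (.negSucc 19, 17), (.negSucc 19, 18), (.ofNat 20, 21), (.ofNat 20, 22), (.ofNat 20, 26), (.ofNat
  20, 29), (.ofNat 20, 30), (.negSucc 19, 33), (.negSucc 19, 34), (.negSucc 19, 35), (.ofNat 20, 37), (.negSucc 19,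
  40), (.ofNat 20, 45), (.negSucc 19, 53), (.ofNat 20, 55), (.negSucc 19, 56), (.negSucc 19, 62), (.ofNat 20, 71),
  (.negSucc 19, 74), (.negSucc 19, 79), (.ofNat 20, 80), (.ofNat 20, 81), (.ofNat 20, 92), (.negSucc 19, 96),
  (.negSucc 29, 97)])])

/-- a candidate -/
def c291 : ℕ × ℕ × List Step :=
  (140460687360000, 32, [(0, 0, .ofNat 81, 0, [(.negSucc 26, 5), (.negSucc 26, 6), (.ofNat 27, 10), (.negSucc 26,
  11), (.ofNat 27, 13), (.negSucc 26, 18), (.ofNat 27, 21), (.ofNat 27, 26), (.ofNat 27, 29), (.ofNat 27, 30),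
  (.negSucc 26, 33), (.negSucc 26, 34), (.negSucc 26, 35), (.negSucc 26, 36), (.ofNat 27, 45), (.ofNat 27, 55),
  (.ofNat 27, 72), (.negSucc 26, 74), (.negSucc 26, 79), (.ofNat 27, 80), (.ofNat 27, 92), (.negSucc 26, 96),
  (.negSucc 40, 97)])])

/-- a candidate -/
def c292 : ℕ × ℕ × List Step :=
  (140460687360000, 40, [(0, 0, .ofNat 81, 0, [(.negSucc 26, 5), (.negSucc 26, 6), (.ofNat 27, 10), (.negSucc 26,
  11), (.ofNat 27, 13), (.negSucc 26, 18), (.ofNat 27, 21), (.ofNat 27, 26), (.ofNat 27, 29), (.ofNat 27, 30),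
  (.negSucc 26, 33), (.negSucc 26, 34), (.negSucc 26, 35), (.negSucc 26, 36), (.ofNat 27, 45), (.ofNat 27, 55),
  (.ofNat 27, 72), (.negSucc 26, 74), (.negSucc 26, 79), (.ofNat 27, 80), (.ofNat 27, 92), (.negSucc 26, 96),
  (.negSucc 40, 97)])])

/-- a candidate -/
def c293 : ℕ × ℕ × List Step :=
  (140460687360000, 50, [(0, 0, .ofNat 81, 0, [(.negSucc 26, 5), (.negSucc 26, 6), (.ofNat 27, 10), (.negSucc 26,
  11), (.ofNat 27, 13), (.negSucc 26, 18), (.ofNat 27, 21), (.ofNat 27, 26), (.ofNat 27, 29), (.ofNat 27, 30),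
  (.negSucc 26, 33), (.negSucc 26, 34), (.negSucc 26, 35), (.negSucc 26, 36), (.ofNat 27, 45), (.ofNat 27, 55),
  (.ofNat 27, 72), (.negSucc 26, 74), (.negSucc 26, 79), (.ofNat 27, 80), (.ofNat 27, 92), (.negSucc 26, 96),
  (.negSucc 40, 97)])])

/-- a candidate -/
def c294 : ℕ × ℕ × List Step :=
  (140460687360000, 80, [(0, 0, .ofNat 81, 0, [(.negSucc 26, 5), (.negSucc 26, 6), (.ofNat 27, 10), (.negSucc 26,
  11), (.ofNat 27, 13), (.negSucc 26, 18), (.ofNat 27, 21), (.ofNat 27, 26), (.ofNat 27, 29), (.ofNat 27, 30),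
  (.negSucc 26, 33), (.negSucc 26, 34), (.negSucc 26, 35), (.negSucc 26, 36), (.ofNat 27, 45), (.ofNat 27, 55),
  (.ofNat 27, 72), (.negSucc 26, 74), (.negSucc 26, 79), (.ofNat 27, 80), (.ofNat 27, 92), (.negSucc 26, 96),
  (.negSucc 40, 97)])])

/-- a candidate -/
def c295 : ℕ × ℕ × List Step :=
  (140460687360000, 100, [(0, 0, .ofNat 81, 0, [(.negSucc 26, 5), (.negSucc 26, 6), (.ofNat 27, 10), (.negSucc 26,
  11), (.ofNat 27, 13), (.negSucc 26, 18), (.ofNat 27, 21), (.ofNat 27, 26), (.ofNat 27, 29), (.ofNat 27, 30),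
  (.negSucc 26, 33), (.negSucc 26, 34), (.negSucc 26, 35), (.negSucc 26, 36), (.ofNat 27, 45), (.ofNat 27, 55),
  (.ofNat 27, 72), (.negSucc 26, 74), (.negSucc 26, 79), (.ofNat 27, 80), (.ofNat 27, 92), (.negSucc 26, 96),
  (.negSucc 40, 97)])])

/-- a candidate -/
def c296 : ℕ × ℕ × List Step :=
  (140460687360000, 160, [(0, 0, .ofNat 81, 0, [(.negSucc 26, 5), (.negSucc 26, 6), (.ofNat 27, 10), (.negSucc 26,
  11), (.ofNat 27, 13), (.negSucc 26, 18), (.ofNat 27, 21), (.ofNat 27, 26), (.ofNat 27, 29), (.ofNat 27, 30),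
  (.negSucc 26, 33), (.negSucc 26, 34), (.negSucc 26, 35), (.negSucc 26, 36), (.ofNat 27, 45), (.ofNat 27, 55),
  (.ofNat 27, 72), (.negSucc 26, 74), (.negSucc 26, 79), (.ofNat 27, 80), (.ofNat 27, 92), (.negSucc 26, 96),
  (.negSucc 40, 97)])])

/-- a candidate -/
def c297 : ℕ × ℕ × List Step :=
  (140460687360000, 200, [(0, 0, .ofNat 81, 0, [(.negSucc 26, 5), (.negSucc 26, 6), (.ofNat 27, 10), (.negSucc 26,
  11), (.ofNat 27, 13), (.negSucc 26, 18), (.ofNat 27, 21), (.ofNat 27, 26), (.ofNat 27, 29), (.ofNat 27, 30),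
  (.negSucc 26, 33), (.negSucc 26, 34), (.negSucc 26, 35), (.negSucc 26, 36), (.ofNat 27, 45), (.ofNat 27, 55),
  (.ofNat 27, 72), (.negSucc 26, 74), (.negSucc 26, 79), (.ofNat 27, 80), (.ofNat 27, 92), (.negSucc 26, 96),
  (.negSucc 40, 97)])])

/-- a candidate -/
def c298 : ℕ × ℕ × List Step :=
  (140460687360000, 400, [(0, 0, .ofNat 81, 0, [(.negSucc 26, 5), (.negSucc 26, 6), (.ofNat 27, 10), (.negSucc 26,
  11), (.ofNat 27, 13), (.negSucc 26, 18), (.ofNat 27, 21), (.ofNat 27, 26), (.ofNat 27, 29), (.ofNat 27, 30),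
  (.negSucc 26, 33), (.negSucc 26, 34), (.negSucc 26, 35), (.negSucc 26, 36), (.ofNat 27, 45), (.ofNat 27, 55),
  (.ofNat 27, 72), (.negSucc 26, 74), (.negSucc 26, 79), (.ofNat 27, 80), (.ofNat 27, 92), (.negSucc 26, 96),
  (.negSucc 40, 97)])])

/-- a candidate -/
def c299 : ℕ × ℕ × List Step :=
  (140460687360000, 800, [(0, 0, .ofNat 81, 0, [(.negSucc 26, 5), (.negSucc 26, 6), (.ofNat 27, 10), (.negSucc 26,
  11), (.ofNat 27, 13), (.negSucc 26, 18), (.ofNat 27, 21), (.ofNat 27, 26), (.ofNat 27, 29), (.ofNat 27, 30),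
  (.negSucc 26, 33), (.negSucc 26, 34), (.negSucc 26, 35), (.negSucc 26, 36), (.ofNat 27, 45), (.ofNat 27, 55),
  (.ofNat 27, 72), (.negSucc 26, 74), (.negSucc 26, 79), (.ofNat 27, 80), (.ofNat 27, 92), (.negSucc 26, 96),
  (.negSucc 40, 97)])])

/-- a candidate -/
def c300 : ℕ × ℕ × List Step :=
  (180592312320000, 2, [(0, 0, .ofNat 81, 0, [(.negSucc 19, 6), (.ofNat 20, 9), (.ofNat 20, 10), (.negSucc 19, 11),
  (.ofNat 20, 13), (.negSucc 19, 17), (.negSucc 19, 18), (.ofNat 20, 21), (.ofNat 20, 22), (.ofNat 20, 26), (.ofNat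
  20, 29), (.ofNat 20, 30), (.negSucc 19, 33), (.negSucc 19, 34), (.negSucc 19, 35), (.ofNat 20, 37), (.negSucc 19,
  40), (.ofNat 20, 45), (.negSucc 19, 53), (.ofNat 20, 55), (.negSucc 19, 56), (.negSucc 19, 62), (.ofNat 20, 71),
  (.negSucc 19, 74), (.negSucc 19, 79), (.ofNat 20, 80), (.ofNat 20, 81), (.ofNat 20, 92), (.negSucc 19, 96),
  (.negSucc 29, 97)])])

/-- a candidate -/
def c301 : ℕ × ℕ × List Step :=
  (180592312320000, 3, [(0, 0, .ofNat 81, 0, [(.negSucc 19, 6), (.ofNat 20, 9), (.ofNat 20, 10), (.negSucc 19, 11),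
  (.ofNat 20, 13), (.negSucc 19, 17), (.negSucc 19, 18), (.ofNat 20, 21), (.ofNat 20, 22), (.ofNat 20, 26), (.ofNat
  20, 29), (.ofNat 20, 30), (.negSucc 19, 33), (.negSucc 19, 34), (.negSucc 19, 35), (.ofNat 20, 37), (.negSucc 19,
  40), (.ofNat 20, 45), (.negSucc 19, 53), (.ofNat 20, 55), (.negSucc 19, 56), (.negSucc 19, 62), (.ofNat 20, 71),
  (.negSucc 19, 74), (.negSucc 19, 79), (.ofNat 20, 80), (.ofNat 20, 81), (.ofNat 20, 92), (.negSucc 19, 96),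
  (.negSucc 29, 97)])])

/-- a candidate -/
def c302 : ℕ × ℕ × List Step :=
  (180592312320000, 6, [(0, 0, .ofNat 81, 0, [(.negSucc 19, 6), (.ofNat 20, 9), (.ofNat 20, 10), (.negSucc 19, 11),
  (.ofNat 20, 13), (.negSucc 19, 17), (.negSucc 19, 18), (.ofNat 20, 21), (.ofNat 20, 22), (.ofNat 20, 26), (.ofNat
  20, 29), (.ofNat 20, 30), (.negSucc 19, 33), (.negSucc 19, 34), (.negSucc 19, 35), (.ofNat 20, 37), (.negSucc 19,
  40), (.ofNat 20, 45), (.negSucc 19, 53), (.ofNat 20, 55), (.negSucc 19, 56), (.negSucc 19, 62), (.ofNat 20, 71),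
  (.negSucc 19, 74), (.negSucc 19, 79), (.ofNat 20, 80), (.ofNat 20, 81), (.ofNat 20, 92), (.negSucc 19, 96),
  (.negSucc 29, 97)])])

/-- a candidate -/
def c303 : ℕ × ℕ × List Step :=
  (180592312320000, 9, [(0, 0, .ofNat 81, 0, [(.negSucc 19, 6), (.ofNat 20, 9), (.ofNat 20, 10), (.negSucc 19, 11),
  (.ofNat 20, 13), (.negSucc 19, 17), (.negSucc 19, 18), (.ofNat 20, 21), (.ofNat 20, 22), (.ofNat 20, 26), (.ofNat
  20, 29), (.ofNat 20, 30), (.negSucc 19, 33), (.negSucc 19, 34), (.negSucc 19, 35), (.ofNat 20, 37), (.negSucc 19,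
  40), (.ofNat 20, 45), (.negSucc 19, 53), (.ofNat 20, 55), (.negSucc 19, 56), (.negSucc 19, 62), (.ofNat 20, 71),
  (.negSucc 19, 74), (.negSucc 19, 79), (.ofNat 20, 80), (.ofNat 20, 81), (.ofNat 20, 92), (.negSucc 19, 96),
  (.negSucc 29, 97)])])

/-- a candidate -/
def c304 : ℕ × ℕ × List Step :=
  (180592312320000, 18, [(0, 0, .ofNat 81, 0, [(.negSucc 19, 6), (.ofNat 20, 9), (.ofNat 20, 10), (.negSucc 19, 11),
  (.ofNat 20, 13), (.negSucc 19, 17), (.negSucc 19, 18), (.ofNat 20, 21), (.ofNat 20, 22), (.ofNat 20, 26), (.ofNat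
  20, 29), (.ofNat 20, 30), (.negSucc 19, 33), (.negSucc 19, 34), (.negSucc 19, 35), (.ofNat 20, 37), (.negSucc 19,
  40), (.ofNat 20, 45), (.negSucc 19, 53), (.ofNat 20, 55), (.negSucc 19, 56), (.negSucc 19, 62), (.ofNat 20, 71),
  (.negSucc 19, 74), (.negSucc 19, 79), (.ofNat 20, 80), (.ofNat 20, 81), (.ofNat 20, 92), (.negSucc 19, 96),
  (.negSucc 29, 97)])])

/-- a candidate -/
def c305 : ℕ × ℕ × List Step :=
  (210691031040000, 7, [(0, 0, .ofNat 81, 0, [(.negSucc 26, 5), (.negSucc 26, 6), (.ofNat 27, 10), (.negSucc 26, 11),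
  (.ofNat 27, 13), (.negSucc 26, 18), (.ofNat 27, 21), (.ofNat 27, 26), (.ofNat 27, 29), (.ofNat 27, 30), (.negSucc
  26, 33), (.negSucc 26, 34), (.negSucc 26, 35), (.negSucc 26, 36), (.ofNat 27, 45), (.ofNat 27, 55), (.ofNat 27,
  72), (.negSucc 26, 74), (.negSucc 26, 79), (.ofNat 27, 80), (.ofNat 27, 92), (.negSucc 26, 96), (.negSucc 40,
  97)])])

/-- a candidate -/
def c306 : ℕ × ℕ × List Step :=
  (252829237248000, 2, [(0, 0, .ofNat 81, 0, [(.negSucc 19, 6), (.ofNat 20, 9), (.ofNat 20, 10), (.negSucc 19, 11),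
  (.ofNat 20, 13), (.negSucc 19, 17), (.negSucc 19, 18), (.ofNat 20, 21), (.ofNat 20, 22), (.ofNat 20, 26), (.ofNat
  20, 29), (.ofNat 20, 30), (.negSucc 19, 33), (.negSucc 19, 34), (.negSucc 19, 35), (.ofNat 20, 37), (.negSucc 19,
  40), (.ofNat 20, 45), (.negSucc 19, 53), (.ofNat 20, 55), (.negSucc 19, 56), (.negSucc 19, 62), (.ofNat 20, 71),
  (.negSucc 19, 74), (.negSucc 19, 79), (.ofNat 20, 80), (.ofNat 20, 81), (.ofNat 20, 92), (.negSucc 19, 96),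
  (.negSucc 29, 97)])])

/-- a candidate -/
def c307 : ℕ × ℕ × List Step :=
  (252829237248000, 4, [(0, 0, .ofNat 81, 0, [(.negSucc 19, 6), (.ofNat 20, 9), (.ofNat 20, 10), (.negSucc 19, 11),
  (.ofNat 20, 13), (.negSucc 19, 17), (.negSucc 19, 18), (.ofNat 20, 21), (.ofNat 20, 22), (.ofNat 20, 26), (.ofNat
  20, 29), (.ofNat 20, 30), (.negSucc 19, 33), (.negSucc 19, 34), (.negSucc 19, 35), (.ofNat 20, 37), (.negSucc 19,
  40), (.ofNat 20, 45), (.negSucc 19, 53), (.ofNat 20, 55), (.negSucc 19, 56), (.negSucc 19, 62), (.ofNat 20, 71),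
  (.negSucc 19, 74), (.negSucc 19, 79), (.ofNat 20, 80), (.ofNat 20, 81), (.ofNat 20, 92), (.negSucc 19, 96),
  (.negSucc 29, 97)])])

/-- candidates -/
def CL10 : List (ℕ × ℕ × List Step) :=
  [c280, c281, c282, c283, c284, c285, c286, c287, c288, c289, c290, c291, c292, c293, c294, c295, c296, c297, c298,
  c299, c300, c301, c302, c303, c304, c305, c306, c307]

theorem okC10 : okL TAB.Co1.D (TAB.Sm2.mkRows TAB.Co1.RA TAB.Co1.RB) 2 P Z CL10 = true := by decide +kernel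

/-- a candidate -/
def c308 : ℕ × ℕ × List Step :=
  (260855562240000, 13, [(0, 0, .ofNat 81, 0, [(.ofNat 27, 5), (.negSucc 26, 6), (.ofNat 27, 9), (.negSucc 26, 11),
  (.ofNat 27, 13), (.negSucc 26, 17), (.ofNat 27, 22), (.ofNat 27, 26), (.ofNat 27, 29), (.negSucc 26, 33), (.negSucc
  26, 35), (.ofNat 27, 37), (.negSucc 26, 40), (.ofNat 27, 45), (.negSucc 26, 53), (.ofNat 27, 55), (.negSucc 26,
  56), (.negSucc 26, 62), (.ofNat 27, 66), (.negSucc 26, 68), (.ofNat 27, 71), (.negSucc 26, 74), (.negSucc 26, 79),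
  (.ofNat 27, 80), (.ofNat 27, 81), (.ofNat 27, 94), (.negSucc 26, 96), (.negSucc 12, 97)])])

/-- a candidate -/
def c309 : ℕ × ℕ × List Step :=
  (260855562240000, 26, [(0, 0, .ofNat 243, 0, [(.negSucc 121, 6), (.negSucc 120, 11), (.ofNat 121, 13), (.ofNat 121,
  26), (.ofNat 122, 29), (.negSucc 121, 33), (.negSucc 121, 35), (.negSucc 121, 36), (.ofNat 122, 45), (.ofNat 122,
  55), (.ofNat 122, 66), (.negSucc 121, 68), (.ofNat 122, 72), (.negSucc 120, 74), (.negSucc 121, 79), (.ofNat 121,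
  80), (.ofNat 121, 94), (.negSucc 121, 96), (.negSucc 60, 97)])])

/-- a candidate -/
def c310 : ℕ × ℕ × List Step :=
  (316036546560000, 3, [(0, 0, .ofNat 81, 0, [(.negSucc 19, 6), (.ofNat 20, 9), (.ofNat 20, 10), (.negSucc 19, 11),
  (.ofNat 20, 13), (.negSucc 19, 17), (.negSucc 19, 18), (.ofNat 20, 21), (.ofNat 20, 22), (.ofNat 20, 26), (.ofNat
  20, 29), (.ofNat 20, 30), (.negSucc 19, 33), (.negSucc 19, 34), (.negSucc 19, 35), (.ofNat 20, 37), (.negSucc 19,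
  40), (.ofNat 20, 45), (.negSucc 19, 53), (.ofNat 20, 55), (.negSucc 19, 56), (.negSucc 19, 62), (.ofNat 20, 71),
  (.negSucc 19, 74), (.negSucc 19, 79), (.ofNat 20, 80), (.ofNat 20, 81), (.ofNat 20, 92), (.negSucc 19, 96),
  (.negSucc 29, 97)])])

/-- a candidate -/
def c311 : ℕ × ℕ × List Step :=
  (316036546560000, 5, [(0, 0, .ofNat 81, 0, [(.negSucc 19, 6), (.ofNat 20, 9), (.ofNat 20, 10), (.negSucc 19, 11),
  (.ofNat 20, 13), (.negSucc 19, 17), (.negSucc 19, 18), (.ofNat 20, 21), (.ofNat 20, 22), (.ofNat 20, 26), (.ofNat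
  20, 29), (.ofNat 20, 30), (.negSucc 19, 33), (.negSucc 19, 34), (.negSucc 19, 35), (.ofNat 20, 37), (.negSucc 19,
  40), (.ofNat 20, 45), (.negSucc 19, 53), (.ofNat 20, 55), (.negSucc 19, 56), (.negSucc 19, 62), (.ofNat 20, 71),
  (.negSucc 19, 74), (.negSucc 19, 79), (.ofNat 20, 80), (.ofNat 20, 81), (.ofNat 20, 92), (.negSucc 19, 96),
  (.negSucc 29, 97)])])

/-- a candidate -/
def c312 : ℕ × ℕ × List Step :=
  (316036546560000, 15, [(0, 0, .ofNat 81, 0, [(.negSucc 26, 5), (.negSucc 26, 6), (.ofNat 27, 10), (.negSucc 26,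
  11), (.ofNat 27, 13), (.negSucc 26, 18), (.ofNat 27, 21), (.ofNat 27, 26), (.ofNat 27, 29), (.ofNat 27, 30),
  (.negSucc 26, 33), (.negSucc 26, 34), (.negSucc 26, 35), (.negSucc 26, 36), (.ofNat 27, 45), (.ofNat 27, 55),
  (.ofNat 27, 72), (.negSucc 26, 74), (.negSucc 26, 79), (.ofNat 27, 80), (.ofNat 27, 92), (.negSucc 26, 96),
  (.negSucc 40, 97)])])

/-- a candidate -/
def c313 : ℕ × ℕ × List Step :=
  (391283343360000, 125, [(0, 0, .ofNat 243, 0, [(.negSucc 121, 6), (.negSucc 120, 11), (.ofNat 122, 13), (.ofNat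
  122, 26), (.ofNat 122, 29), (.negSucc 120, 33), (.negSucc 120, 35), (.negSucc 121, 36), (.ofNat 121, 45), (.ofNat
  122, 55), (.ofNat 121, 66), (.negSucc 121, 68), (.ofNat 122, 72), (.negSucc 120, 74), (.negSucc 121, 79), (.ofNat
  121, 80), (.ofNat 121, 94), (.negSucc 120, 96), (.negSucc 60, 97)])])

/-- a candidate -/
def c314 : ℕ × ℕ × List Step :=
  (391283343360000, 625, [(0, 0, .ofNat 81, 0, [(.negSucc 40, 6), (.negSucc 39, 11), (.ofNat 40, 13), (.ofNat 41,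
  26), (.ofNat 40, 29), (.negSucc 39, 33), (.negSucc 40, 35), (.negSucc 39, 36), (.ofNat 41, 45), (.ofNat 40, 55),
  (.ofNat 40, 66), (.negSucc 39, 68), (.ofNat 41, 72), (.negSucc 39, 74), (.negSucc 39, 79), (.ofNat 40, 80), (.ofNat
  41, 94), (.negSucc 40, 96), (.negSucc 19, 97)])])

/-- a candidate -/
def c315 : ℕ × ℕ × List Step :=
  (421382062080000, 2, [(0, 0, .ofNat 81, 0, [(.negSucc 19, 6), (.ofNat 20, 9), (.ofNat 20, 10), (.negSucc 19, 11),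
  (.ofNat 20, 13), (.negSucc 19, 17), (.negSucc 19, 18), (.ofNat 20, 21), (.ofNat 20, 22), (.ofNat 20, 26), (.ofNat
  20, 29), (.ofNat 20, 30), (.negSucc 19, 33), (.negSucc 19, 34), (.negSucc 19, 35), (.ofNat 20, 37), (.negSucc 19,
  40), (.ofNat 20, 45), (.negSucc 19, 53), (.ofNat 20, 55), (.negSucc 19, 56), (.negSucc 19, 62), (.ofNat 20, 71),
  (.negSucc 19, 74), (.negSucc 19, 79), (.ofNat 20, 80), (.ofNat 20, 81), (.ofNat 20, 92), (.negSucc 19, 96),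
  (.negSucc 29, 97)])])

/-- a candidate -/
def c316 : ℕ × ℕ × List Step :=
  (684745850880000, 13, [(0, 0, .ofNat 243, 0, [(.negSucc 121, 6), (.negSucc 120, 11), (.ofNat 121, 13), (.ofNat 121,
  26), (.ofNat 122, 29), (.negSucc 121, 33), (.negSucc 121, 35), (.negSucc 121, 36), (.ofNat 122, 45), (.ofNat 122,
  55), (.ofNat 122, 66), (.negSucc 121, 68), (.ofNat 122, 72), (.negSucc 120, 74), (.negSucc 121, 79), (.ofNat 121,
  80), (.ofNat 121, 94), (.negSucc 121, 96), (.negSucc 60, 97)])])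

/-- a candidate -/
def c317 : ℕ × ℕ × List Step :=
  (782566686720000, 64, [(0, 0, .ofNat 243, 0, [(.negSucc 121, 6), (.negSucc 120, 11), (.ofNat 122, 13), (.ofNat 122,
  26), (.ofNat 122, 29), (.negSucc 120, 33), (.negSucc 120, 35), (.negSucc 121, 36), (.ofNat 121, 45), (.ofNat 122,
  55), (.ofNat 121, 66), (.negSucc 121, 68), (.ofNat 122, 72), (.negSucc 120, 74), (.negSucc 121, 79), (.ofNat 121,
  80), (.ofNat 121, 94), (.negSucc 120, 96), (.negSucc 60, 97)])])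

/-- a candidate -/
def c318 : ℕ × ℕ × List Step :=
  (1264146186240000, 2, [(0, 0, .ofNat 27, 0, [(.negSucc 6, 6), (.ofNat 7, 9), (.ofNat 7, 10), (.negSucc 6, 11),
  (.ofNat 7, 13), (.negSucc 6, 17), (.negSucc 6, 18), (.ofNat 7, 21), (.ofNat 7, 22), (.ofNat 7, 26), (.ofNat 7, 29),
  (.ofNat 7, 30), (.negSucc 6, 33), (.negSucc 6, 34), (.negSucc 6, 35), (.ofNat 7, 37), (.negSucc 6, 40), (.ofNat 7,
  45), (.negSucc 6, 53), (.ofNat 7, 55), (.negSucc 6, 56), (.negSucc 6, 62), (.ofNat 7, 71), (.negSucc 6, 74),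
  (.negSucc 6, 79), (.ofNat 7, 80), (.ofNat 7, 81), (.ofNat 7, 92), (.negSucc 6, 96), (.negSucc 9, 97)])])

/-- a candidate -/
def c319 : ℕ × ℕ × List Step :=
  (1264146186240000, 3, [(0, 0, .ofNat 81, 0, [(.negSucc 26, 5), (.negSucc 26, 6), (.ofNat 27, 10), (.negSucc 26,
  11), (.ofNat 27, 13), (.negSucc 26, 18), (.ofNat 27, 21), (.ofNat 27, 26), (.ofNat 27, 29), (.ofNat 27, 30),
  (.negSucc 26, 33), (.negSucc 26, 34), (.negSucc 26, 35), (.negSucc 26, 36), (.ofNat 27, 45), (.ofNat 27, 55),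
  (.ofNat 27, 72), (.negSucc 26, 74), (.negSucc 26, 79), (.ofNat 27, 80), (.ofNat 27, 92), (.negSucc 26, 96),
  (.negSucc 40, 97)])])

/-- a candidate -/
def c320 : ℕ × ℕ × List Step :=
  (1264146186240000, 4, [(0, 0, .ofNat 81, 0, [(.negSucc 26, 5), (.negSucc 26, 6), (.ofNat 27, 10), (.negSucc 26,
  11), (.ofNat 27, 13), (.negSucc 26, 18), (.ofNat 27, 21), (.ofNat 27, 26), (.ofNat 27, 29), (.ofNat 27, 30),
  (.negSucc 26, 33), (.negSucc 26, 34), (.negSucc 26, 35), (.negSucc 26, 36), (.ofNat 27, 45), (.ofNat 27, 55),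
  (.ofNat 27, 72), (.negSucc 26, 74), (.negSucc 26, 79), (.ofNat 27, 80), (.ofNat 27, 92), (.negSucc 26, 96),
  (.negSucc 40, 97)])])

/-- a candidate -/
def c321 : ℕ × ℕ × List Step :=
  (1264146186240000, 6, [(0, 0, .ofNat 81, 0, [(.negSucc 26, 5), (.negSucc 26, 6), (.ofNat 27, 10), (.negSucc 26,
  11), (.ofNat 27, 13), (.negSucc 26, 18), (.ofNat 27, 21), (.ofNat 27, 26), (.ofNat 27, 29), (.ofNat 27, 30),
  (.negSucc 26, 33), (.negSucc 26, 34), (.negSucc 26, 35), (.negSucc 26, 36), (.ofNat 27, 45), (.ofNat 27, 55),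
  (.ofNat 27, 72), (.negSucc 26, 74), (.negSucc 26, 79), (.ofNat 27, 80), (.ofNat 27, 92), (.negSucc 26, 96),
  (.negSucc 40, 97)])])

/-- a candidate -/
def c322 : ℕ × ℕ × List Step :=
  (1264146186240000, 8, [(0, 0, .ofNat 81, 0, [(.negSucc 26, 5), (.negSucc 26, 6), (.ofNat 27, 10), (.negSucc 26,
  11), (.ofNat 27, 13), (.negSucc 26, 18), (.ofNat 27, 21), (.ofNat 27, 26), (.ofNat 27, 29), (.ofNat 27, 30),
  (.negSucc 26, 33), (.negSucc 26, 34), (.negSucc 26, 35), (.negSucc 26, 36), (.ofNat 27, 45), (.ofNat 27, 55),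
  (.ofNat 27, 72), (.negSucc 26, 74), (.negSucc 26, 79), (.ofNat 27, 80), (.ofNat 27, 92), (.negSucc 26, 96),
  (.negSucc 40, 97)])])

/-- a candidate -/
def c323 : ℕ × ℕ × List Step :=
  (1264146186240000, 12, [(0, 0, .ofNat 81, 0, [(.negSucc 26, 5), (.negSucc 26, 6), (.ofNat 27, 10), (.negSucc 26,
  11), (.ofNat 27, 13), (.negSucc 26, 18), (.ofNat 27, 21), (.ofNat 27, 26), (.ofNat 27, 29), (.ofNat 27, 30),
  (.negSucc 26, 33), (.negSucc 26, 34), (.negSucc 26, 35), (.negSucc 26, 36), (.ofNat 27, 45), (.ofNat 27, 55),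
  (.ofNat 27, 72), (.negSucc 26, 74), (.negSucc 26, 79), (.ofNat 27, 80), (.ofNat 27, 92), (.negSucc 26, 96),
  (.negSucc 40, 97)])])

/-- a candidate -/
def c324 : ℕ × ℕ × List Step :=
  (1264146186240000, 24, [(0, 0, .ofNat 81, 0, [(.negSucc 26, 5), (.negSucc 26, 6), (.ofNat 27, 10), (.negSucc 26,
  11), (.ofNat 27, 13), (.negSucc 26, 18), (.ofNat 27, 21), (.ofNat 27, 26), (.ofNat 27, 29), (.ofNat 27, 30),
  (.negSucc 26, 33), (.negSucc 26, 34), (.negSucc 26, 35), (.negSucc 26, 36), (.ofNat 27, 45), (.ofNat 27, 55),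
  (.ofNat 27, 72), (.negSucc 26, 74), (.negSucc 26, 79), (.ofNat 27, 80), (.ofNat 27, 92), (.negSucc 26, 96),
  (.negSucc 40, 97)])])

/-- a candidate -/
def c325 : ℕ × ℕ × List Step :=
  (2347700060160000, 15, [(0, 0, .ofNat 243, 0, [(.negSucc 121, 6), (.negSucc 120, 11), (.ofNat 122, 13), (.ofNat
  122, 26), (.ofNat 122, 29), (.negSucc 120, 33), (.negSucc 120, 35), (.negSucc 121, 36), (.ofNat 121, 45), (.ofNat
  122, 55), (.ofNat 121, 66), (.negSucc 121, 68), (.ofNat 122, 72), (.negSucc 120, 74), (.negSucc 121, 79), (.ofNat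
  121, 80), (.ofNat 121, 94), (.negSucc 120, 96), (.negSucc 60, 97)])])

/-- a candidate -/
def c326 : ℕ × ℕ × List Step :=
  (2347700060160000, 30, [(0, 0, .ofNat 243, 0, [(.negSucc 121, 6), (.negSucc 120, 11), (.ofNat 122, 13), (.ofNat
  122, 26), (.ofNat 122, 29), (.negSucc 120, 33), (.negSucc 120, 35), (.negSucc 121, 36), (.ofNat 121, 45), (.ofNat
  122, 55), (.ofNat 121, 66), (.negSucc 121, 68), (.ofNat 122, 72), (.negSucc 120, 74), (.negSucc 121, 79), (.ofNat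
  121, 80), (.ofNat 121, 94), (.negSucc 120, 96), (.negSucc 60, 97)])])

/-- a candidate -/
def c327 : ℕ × ℕ × List Step :=
  (6025763487744000, 13, [(0, 0, .ofNat 27, 0, [(.negSucc 26, 6), (.ofNat 27, 26), (.negSucc 26, 35), (.ofNat 27,
  45), (.negSucc 26, 59), (.ofNat 27, 66), (.ofNat 27, 72), (.negSucc 26, 79), (.ofNat 27, 94), (.negSucc 26, 96),
  (.negSucc 12, 97)])])

/-- candidates -/
def CL11 : List (ℕ × ℕ × List Step) :=
  [c308, c309, c310, c311, c312, c313, c314, c315, c316, c317, c318, c319, c320, c321, c322, c323, c324, c325, c326,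
  c327]

theorem okC11 : okL TAB.Co1.D (TAB.Sm2.mkRows TAB.Co1.RA TAB.Co1.RB) 2 P Z CL11 = true := by decide +kernel

end Cfsg.Agent.TH.Spor.NCo1
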