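import Cfsg.Agent.TH.Spor.NFi24D

/-!
# S3541, sporadic rows: Fi24, certificates (helper26; generated by notes/TH/spor26/gen.py.txt)
-/

set_option autoImplicit false
set_option Elab.async false

namespace Cfsg.Agent.TH.Spor.NFi24

open Cfsg Cfsg.Agent.TAB.Eng Cfsg.Agent.H940.Eng

/-- a candidate -/
def c0 : ℕ × ℕ × List Step :=
  (2097152, 2, [(0, 0, .ofNat 0, 0, [(.negSucc 0, 91)])])

/-- a candidate -/
def c1 : ℕ × ℕ × List Step :=
  (86093442, 81, [(0, 0, .ofNat 0, 0, [(.negSucc 26, 50), (.negSucc 6, 61), (.negSucc 16, 90)])])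

/-- a candidate -/
def c2 : ℕ × ℕ × List Step :=
  (4246732800, 10, [(0, 0, .ofNat 0, 0, [(.negSucc 0, 91)])])

/-- a candidate -/
def c3 : ℕ × ℕ × List Step :=
  (4586471424, 8, [(0, 0, .ofNat 0, 0, [(.negSucc 0, 91)])])

/-- a candidate -/
def c4 : ℕ × ℕ × List Step :=
  (4586471424, 16, [(0, 0, .ofNat 0, 0, [(.negSucc 0, 91)])])

/-- a candidate -/
def c5 : ℕ × ℕ × List Step :=
  (5509980288, 3, [(0, 0, .ofNat 0, 0, [(.negSucc 6560, 50), (.negSucc 1880, 71), (.negSucc 3279, 90)])])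

/-- a candidate -/
def c6 : ℕ × ℕ × List Step :=
  (5509980288, 9, [(0, 0, .ofNat 0, 0, [(.negSucc 6560, 50), (.negSucc 1880, 71), (.negSucc 3279, 90)])])

/-- a candidate -/
def c7 : ℕ × ℕ × List Step :=
  (5739562800, 5, [(0, 0, .ofNat 0, 0, [(.negSucc 0, 91)])])

/-- a candidate -/
def c8 : ℕ × ℕ × List Step :=
  (6802444800, 5, [(0, 0, .ofNat 0, 0, [(.negSucc 0, 91)])])

/-- a candidate -/
def c9 : ℕ × ℕ × List Step :=
  (8062156800, 5, [(0, 0, .ofNat 0, 0, [(.negSucc 0, 91)])])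

/-- a candidate -/
def c10 : ℕ × ℕ × List Step :=
  (9555148800, 5, [(0, 0, .ofNat 0, 0, [(.negSucc 0, 91)])])

/-- a candidate -/
def c11 : ℕ × ℕ × List Step :=
  (11708708112, 17, [(0, 0, .ofNat 0, 0, [(.negSucc 136, 78), (.negSucc 242, 91), (.negSucc 240, 93)])])

/-- a candidate -/
def c12 : ℕ × ℕ × List Step :=
  (11708708112, 51, [(0, 0, .ofNat 0, 0, [(.negSucc 59048, 50), (.negSucc 16929, 71), (.negSucc 29524, 90)])])

/-- a candidate -/
def c13 : ℕ × ℕ × List Step :=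
  (11708708112, 153, [(0, 0, .ofNat 0, 0, [(.negSucc 59048, 50), (.negSucc 16929, 71), (.negSucc 29524, 90)])])

/-- a candidate -/
def c14 : ℕ × ℕ × List Step :=
  (11708708112, 459, [(0, 0, .ofNat 0, 0, [(.negSucc 59048, 50), (.negSucc 16929, 71), (.negSucc 29524, 90)])])

/-- a candidate -/
def c15 : ℕ × ℕ × List Step :=
  (15305500800, 5, [(0, 0, .ofNat 0, 0, [(.negSucc 0, 91)])])

/-- a candidate -/
def c16 : ℕ × ℕ × List Step :=
  (18139852800, 5, [(0, 0, .ofNat 0, 0, [(.negSucc 0, 91)])])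

/-- a candidate -/
def c17 : ℕ × ℕ × List Step :=
  (20739898368, 7, [(0, 0, .ofNat 0, 0, [(.negSucc 136, 78), (.negSucc 242, 91), (.negSucc 240, 93)])])

/-- a candidate -/
def c18 : ℕ × ℕ × List Step :=
  (20739898368, 49, [(0, 0, .ofNat 0, 0, [(.negSucc 17, 48), (.negSucc 72, 68), (.negSucc 1, 69), (.negSucc 11, 70),
  (.negSucc 1, 72), (.negSucc 14, 77), (.negSucc 6, 78), (.negSucc 80, 79), (.negSucc 8, 89), (.negSucc 0, 91),
  (.negSucc 1, 92), (.negSucc 43, 93)])])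

/-- a candidate -/
def c19 : ℕ × ℕ × List Step :=
  (21499084800, 5, [(0, 0, .ofNat 0, 0, [(.negSucc 0, 91)])])

/-- candidates -/
def CL0 : List (ℕ × ℕ × List Step) :=
  [c0, c1, c2, c3, c4, c5, c6, c7, c8, c9, c10, c11, c12, c13, c14, c15, c16, c17, c18, c19]

theorem okC0 : okL TAB.F24.DT R 2 P Z CL0 = true := by decide +kernel

/-- a candidate -/
def c20 : ℕ × ℕ × List Step :=
  (22039921152, 3, [(0, 0, .ofNat 0, 0, [(.negSucc 0, 50)])])

/-- a candidate -/
def c21 : ℕ × ℕ × List Step :=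
  (29530050606, 7, [(0, 0, .ofNat 0, 0, [(.negSucc 23, 24), (.negSucc 66, 76), (.negSucc 242, 78)])])

/-- a candidate -/
def c22 : ℕ × ℕ × List Step :=
  (29530050606, 21, [(0, 0, .ofNat 0, 0, [(.negSucc 11, 20), (.negSucc 21, 33), (.negSucc 45, 37), (.negSucc 56, 44),
  (.negSucc 58, 57), (.negSucc 89, 66), (.negSucc 19, 67), (.negSucc 27, 68), (.negSucc 32, 73), (.negSucc 42, 75),
  (.negSucc 80, 76), (.negSucc 60, 77), (.negSucc 242, 78), (.negSucc 211, 79), (.negSucc 9, 87), (.negSucc 9, 88),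
  (.negSucc 149, 89), (.negSucc 2, 91), (.negSucc 89, 93)])])

/-- a candidate -/
def c23 : ℕ × ℕ × List Step :=
  (29530050606, 63, [(0, 0, .ofNat 0, 0, [(.negSucc 11, 20), (.negSucc 21, 33), (.negSucc 45, 37), (.negSucc 56, 44),
  (.negSucc 58, 57), (.negSucc 89, 66), (.negSucc 19, 67), (.negSucc 27, 68), (.negSucc 32, 73), (.negSucc 42, 75),
  (.negSucc 80, 76), (.negSucc 60, 77), (.negSucc 242, 78), (.negSucc 211, 79), (.negSucc 9, 87), (.negSucc 9, 88),
  (.negSucc 149, 89), (.negSucc 2, 91), (.negSucc 89, 93)])])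

/-- a candidate -/
def c24 : ℕ × ℕ × List Step :=
  (34437376800, 5, [(0, 0, .ofNat 0, 0, [(.negSucc 0, 91)])])

/-- a candidate -/
def c25 : ℕ × ℕ × List Step :=
  (34437376800, 15, [(0, 0, .ofNat 0, 0, [(.negSucc 871, 29), (.negSucc 749, 31), (.negSucc 107, 35), (.negSucc 775,
  43), (.negSucc 405, 44), (.negSucc 794, 48), (.negSucc 246, 49), (.negSucc 2685, 57), (.negSucc 1844, 61),
  (.negSucc 2730, 65), (.negSucc 1039, 68), (.negSucc 1773, 70), (.negSucc 5895, 71), (.negSucc 2344, 72), (.negSucc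
  909, 73), (.negSucc 63, 75), (.negSucc 557, 76), (.negSucc 2954, 77), (.negSucc 3139, 78), (.negSucc 6560, 79),
  (.negSucc 1742, 89), (.negSucc 137, 92), (.negSucc 2311, 93)])])

/-- a candidate -/
def c26 : ℕ × ℕ × List Step :=
  (36870930432, 7, [(0, 0, .ofNat 0, 0, [(.negSucc 136, 78), (.negSucc 242, 91), (.negSucc 240, 93)])])

/-- a candidate -/
def c27 : ℕ × ℕ × List Step :=
  (40814668800, 5, [(0, 0, .ofNat 0, 0, [(.negSucc 0, 91)])])

/-- a candidate -/
def c28 : ℕ × ℕ × List Step :=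
  (41013959175, 35, [(0, 0, .ofNat 0, 0, [(.negSucc 3, 58), (.negSucc 8, 79)])])

/-- a candidate -/
def c29 : ℕ × ℕ × List Step :=
  (41278242816, 2, [(0, 0, .ofNat 0, 0, [(.negSucc 0, 91)])])

/-- a candidate -/
def c30 : ℕ × ℕ × List Step :=
  (41278242816, 4, [(0, 0, .ofNat 0, 0, [(.negSucc 0, 91)])])

/-- a candidate -/
def c31 : ℕ × ℕ × List Step :=
  (41278242816, 8, [(0, 0, .ofNat 0, 0, [(.negSucc 0, 91)])])

/-- a candidate -/
def c32 : ℕ × ℕ × List Step :=
  (48372940800, 5, [(0, 0, .ofNat 0, 0, [(.negSucc 0, 91)])])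

/-- a candidate -/
def c33 : ℕ × ℕ × List Step :=
  (52497867744, 7, [(0, 0, .ofNat 0, 0, [(.negSucc 136, 78), (.negSucc 242, 91), (.negSucc 240, 93)])])

/-- a candidate -/
def c34 : ℕ × ℕ × List Step :=
  (52497867744, 49, [(0, 0, .ofNat 0, 0, [(.negSucc 0, 20), (.negSucc 4, 48), (.negSucc 0, 58), (.negSucc 22, 68),
  (.negSucc 3, 70), (.negSucc 0, 72), (.negSucc 1, 76), (.negSucc 3, 77), (.negSucc 2, 78), (.negSucc 26, 79),
  (.negSucc 2, 89), (.negSucc 13, 93)])])

/-- a candidate -/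
def c35 : ℕ × ℕ × List Step :=
  (57330892800, 5, [(0, 0, .ofNat 0, 0, [(.negSucc 0, 91)])])

/-- a candidate -/
def c36 : ℕ × ℕ × List Step :=
  (65548320768, 7, [(0, 0, .ofNat 0, 0, [(.negSucc 136, 78), (.negSucc 242, 91), (.negSucc 240, 93)])])

/-- a candidate -/
def c37 : ℕ × ℕ × List Step :=
  (88159684608, 3, [(0, 0, .ofNat 0, 0, [(.negSucc 0, 50)])])

/-- a candidate -/
def c38 : ℕ × ℕ × List Step :=
  (91833004800, 5, [(0, 0, .ofNat 0, 0, [(.negSucc 0, 91)])])

/-- a candidate -/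
def c39 : ℕ × ℕ × List Step :=
  (93329542656, 7, [(0, 0, .ofNat 0, 0, [(.negSucc 17, 48), (.negSucc 72, 68), (.negSucc 1, 69), (.negSucc 11, 70),
  (.negSucc 1, 72), (.negSucc 14, 77), (.negSucc 6, 78), (.negSucc 80, 79), (.negSucc 8, 89), (.negSucc 0, 91),
  (.negSucc 1, 92), (.negSucc 43, 93)])])

/-- candidates -/
def CL1 : List (ℕ × ℕ × List Step) :=
  [c20, c21, c22, c23, c24, c25, c26, c27, c28, c29, c30, c31, c32, c33, c34, c35, c36, c37, c38, c39]

theorem okC1 : okL TAB.F24.DT R 2 P Z CL1 = true := by decide +kernel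

/-- a candidate -/
def c40 : ℕ × ℕ × List Step :=
  (108839116800, 5, [(0, 0, .ofNat 0, 0, [(.negSucc 44, 9), (.negSucc 12, 44), (.negSucc 90, 53), (.ofNat 66, 55),
  (.negSucc 29, 56), (.negSucc 131, 58), (.negSucc 35, 65), (.negSucc 44, 77), (.negSucc 164, 78), (.negSucc 242,
  79), (.negSucc 91, 89), (.negSucc 15, 90), (.negSucc 132, 93)])])

/-- a candidate -/
def c41 : ℕ × ℕ × List Step :=
  (123834728448, 2, [(0, 0, .ofNat 0, 0, [(.ofNat 216, 6), (.negSucc 102, 12), (.ofNat 114, 29), (.ofNat 649, 35),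
  (.negSucc 23, 36), (.ofNat 479, 42), (.negSucc 1513, 70), (.negSucc 2186, 74), (.ofNat 273, 80), (.ofNat 39, 81),
  (.negSucc 283, 93)])])

/-- a candidate -/
def c42 : ℕ × ℕ × List Step :=
  (128994508800, 5, [(0, 0, .ofNat 0, 0, [(.negSucc 62, 53), (.ofNat 123, 55), (.negSucc 74, 58), (.negSucc 33, 64),
  (.negSucc 306, 68), (.negSucc 355, 70), (.negSucc 169, 72), (.negSucc 62, 77), (.negSucc 203, 78), (.negSucc 728,
  79), (.negSucc 167, 89), (.negSucc 49, 90), (.negSucc 376, 93)])])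

/-- a candidate -/
def c43 : ℕ × ℕ × List Step :=
  (129624364800, 35, [(0, 0, .ofNat 0, 0, [(.negSucc 643, 11), (.negSucc 867, 31), (.negSucc 9839, 48), (.negSucc
  6283, 53), (.ofNat 3302, 55), (.negSucc 39422, 58), (.negSucc 2798, 62), (.negSucc 8438, 68), (.negSucc 4463, 70),
  (.negSucc 3301, 74), (.negSucc 15353, 76), (.negSucc 11491, 78), (.negSucc 59048, 79), (.negSucc 14588, 89),
  (.negSucc 12756, 91), (.negSucc 16109, 92), (.negSucc 21970, 93)])])

/-- a candidate -/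
def c44 : ℕ × ℕ × List Step :=
  (165919186944, 7, [(0, 0, .ofNat 0, 0, [(.negSucc 13090, 48), (.negSucc 53115, 68), (.negSucc 1592, 69), (.negSucc
  8625, 70), (.negSucc 1393, 72), (.negSucc 212, 76), (.negSucc 10659, 77), (.negSucc 5225, 78), (.negSucc 59048,
  79), (.negSucc 6302, 89), (.negSucc 795, 91), (.negSucc 1606, 92), (.negSucc 32297, 93)])])

/-- a candidate -/
def c45 : ℕ × ℕ × List Step :=
  (236240404848, 7, [(0, 0, .ofNat 0, 0, [(.negSucc 2406, 20), (.negSucc 10909, 48), (.negSucc 2999, 58), (.negSucc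
  50251, 68), (.negSucc 7845, 70), (.negSucc 2106, 72), (.negSucc 5104, 76), (.negSucc 8436, 77), (.negSucc 6740,
  78), (.negSucc 59048, 79), (.negSucc 6080, 89), (.negSucc 30372, 93)])])

/-- a candidate -/
def c46 : ℕ × ℕ × List Step :=
  (244888012800, 5, [(0, 0, .ofNat 0, 0, [(.negSucc 116, 48), (.negSucc 29, 53), (.ofNat 29, 55), (.negSucc 10, 56),
  (.negSucc 47, 58), (.negSucc 83, 68), (.negSucc 49, 70), (.negSucc 122, 71), (.negSucc 8, 76), (.negSucc 40, 77),
  (.negSucc 138, 78), (.negSucc 242, 79), (.negSucc 83, 89), (.negSucc 180, 93)])])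

/-- a candidate -/
def c47 : ℕ × ℕ × List Step :=
  (290237644800, 5, [(0, 0, .ofNat 0, 0, [(.negSucc 62, 53), (.ofNat 123, 55), (.negSucc 74, 58), (.negSucc 33, 64),
  (.negSucc 306, 68), (.negSucc 355, 70), (.negSucc 169, 72), (.negSucc 62, 77), (.negSucc 203, 78), (.negSucc 728,
  79), (.negSucc 167, 89), (.negSucc 49, 90), (.negSucc 376, 93)])])

/-- a candidate -/
def c48 : ℕ × ℕ × List Step :=
  (294967443456, 7, [(0, 0, .ofNat 0, 0, [(.negSucc 13090, 48), (.negSucc 53115, 68), (.negSucc 1592, 69), (.negSucc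
  8625, 70), (.negSucc 1393, 72), (.negSucc 212, 76), (.negSucc 10659, 77), (.negSucc 5225, 78), (.negSucc 59048,
  79), (.negSucc 6302, 89), (.negSucc 795, 91), (.negSucc 1606, 92), (.negSucc 32297, 93)])])

/-- a candidate -/
def c49 : ℕ × ℕ × List Step :=
  (343985356800, 5, [(0, 0, .ofNat 93548, 0, [(.negSucc 45827, 29), (.negSucc 10575, 44), (.negSucc 53326, 53),
  (.ofNat 7855, 55), (.negSucc 37162, 57), (.negSucc 95745, 58), (.negSucc 7854, 68), (.negSucc 7854, 70), (.negSucc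
  32720, 77), (.negSucc 58010, 78), (.negSucc 177146, 79), (.negSucc 39312, 89), (.negSucc 35074, 90), (.negSucc
  28191, 91), (.negSucc 40219, 92), (.negSucc 73514, 93)])])

/-- a candidate -/
def c50 : ℕ × ℕ × List Step :=
  (343985356800, 10, [(0, 0, .ofNat 421, 0, [(.negSucc 338, 19), (.negSucc 1451, 27), (.ofNat 1507, 35), (.negSucc
  616, 40), (.negSucc 316, 42), (.negSucc 143, 44), (.negSucc 1335, 52), (.negSucc 4248, 53), (.negSucc 393, 58),
  (.negSucc 1620, 60), (.negSucc 1156, 62), (.negSucc 2408, 63), (.negSucc 2762, 68), (.negSucc 1453, 69), (.negSucc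
  6560, 70), (.negSucc 4816, 72), (.negSucc 904, 73), (.negSucc 4324, 74), (.negSucc 4046, 77), (.negSucc 5092, 78),
  (.negSucc 3248, 79), (.negSucc 424, 83), (.negSucc 460, 86), (.negSucc 4326, 88), (.negSucc 4145, 90), (.negSucc
  4702, 91), (.negSucc 3784, 92), (.negSucc 4541, 93)])])

/-- a candidate -/
def c51 : ℕ × ℕ × List Step :=
  (352638738432, 3, [(0, 0, .ofNat 0, 0, [(.negSucc 0, 50)])])

/-- a candidate -/
def c52 : ℕ × ℕ × List Step :=
  (352638738432, 9, [(0, 0, .ofNat 0, 0, [(.negSucc 0, 50)])])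

/-- a candidate -/
def c53 : ℕ × ℕ × List Step :=
  (371504185344, 2, [(0, 0, .ofNat 0, 0, [(.ofNat 4391, 10), (.negSucc 16993, 12), (.negSucc 17731, 13), (.negSucc
  56755, 27), (.ofNat 4263, 35), (.negSucc 4451, 42), (.ofNat 32199, 45), (.negSucc 36259, 53), (.negSucc 18743, 56),
  (.negSucc 23359, 63), (.negSucc 4451, 69), (.negSucc 56548, 70), (.negSucc 12602, 71), (.negSucc 1034, 74),
  (.negSucc 20669, 78), (.negSucc 16709, 79), (.negSucc 36301, 88), (.negSucc 12666, 89), (.negSucc 38652, 90),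
  (.negSucc 59048, 91), (.negSucc 50392, 92), (.negSucc 38134, 93)])])

/-- a candidate -/
def c54 : ℕ × ℕ × List Step :=
  (371504185344, 4, [(0, 0, .ofNat 18466, 0, [(.negSucc 4312, 12), (.ofNat 4244, 25), (.negSucc 15216, 27), (.negSucc
  1540, 32), (.ofNat 6630, 35), (.negSucc 4355, 47), (.negSucc 16219, 53), (.negSucc 694, 56), (.negSucc 5276, 63),
  (.negSucc 15321, 69), (.negSucc 19682, 70), (.negSucc 4312, 71), (.negSucc 3701, 72), (.negSucc 13373, 74),
  (.negSucc 6755, 78), (.negSucc 12626, 79), (.negSucc 9376, 88), (.negSucc 997, 89), (.negSucc 6952, 90), (.negSucc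
  15547, 91), (.negSucc 14029, 92), (.negSucc 11686, 93)])])

/-- a candidate -/
def c55 : ℕ × ℕ × List Step :=
  (371504185344, 8, [(0, 0, .ofNat 29877, 0, [(.ofNat 12065, 10), (.negSucc 9351, 13), (.negSucc 33533, 27),
  (.negSucc 5790, 32), (.ofNat 2245, 33), (.ofNat 3360, 35), (.negSucc 36826, 36), (.ofNat 7733, 41), (.negSucc
  12693, 43), (.negSucc 18922, 47), (.ofNat 2579, 52), (.negSucc 8189, 55), (.negSucc 38230, 63), (.negSucc 59048,
  68), (.negSucc 9995, 69), (.negSucc 37555, 70), (.negSucc 35040, 74), (.negSucc 13847, 75), (.negSucc 21632, 78),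
  (.negSucc 28937, 79), (.negSucc 37705, 88), (.negSucc 1092, 89), (.negSucc 12297, 91), (.negSucc 37727, 93)])])

/-- a candidate -/
def c56 : ℕ × ℕ × List Step :=
  (371504185344, 16, [(0, 0, .ofNat 155, 0, [(.ofNat 56, 10), (.negSucc 36, 13), (.negSucc 127, 27), (.negSucc 72,
  32), (.ofNat 15, 33), (.ofNat 33, 35), (.negSucc 174, 36), (.negSucc 28, 43), (.negSucc 11, 44), (.ofNat 19, 52),
  (.negSucc 13, 53), (.negSucc 32, 55), (.negSucc 81, 56), (.negSucc 11, 62), (.negSucc 160, 63), (.negSucc 2, 65),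
  (.negSucc 242, 68), (.negSucc 1, 69), (.negSucc 75, 70), (.negSucc 116, 74), (.negSucc 133, 75), (.negSucc 27, 78),
  (.negSucc 113, 79), (.negSucc 102, 88), (.negSucc 74, 91), (.negSucc 132, 93)])])

/-- a candidate -/
def c57 : ℕ × ℕ × List Step :=
  (371504185344, 32, [(0, 0, .ofNat 59049, 0, [(.ofNat 28763, 10), (.negSucc 1100, 14), (.negSucc 26093, 27),
  (.negSucc 1100, 28), (.negSucc 11675, 32), (.ofNat 2756, 33), (.ofNat 9326, 35), (.negSucc 55584, 36), (.negSucc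
  4467, 44), (.negSucc 1472, 53), (.negSucc 9220, 55), (.negSucc 1451, 56), (.negSucc 45913, 62), (.negSucc 43950,
  63), (.negSucc 8912, 65), (.negSucc 1154, 67), (.negSucc 50966, 68), (.negSucc 22231, 69), (.negSucc 13455, 70),
  (.negSucc 2308, 71), (.negSucc 17575, 75), (.negSucc 7214, 78), (.negSucc 11217, 79), (.negSucc 29802, 88),
  (.negSucc 30630, 91), (.negSucc 22524, 93)])])

/-- a candidate -/
def c58 : ℕ × ℕ × List Step :=
  (409677004800, 35, [(0, 0, .ofNat 0, 0, [(.negSucc 29, 2), (.negSucc 51, 7), (.negSucc 126, 23), (.negSucc 99, 24),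
  (.negSucc 2, 32), (.negSucc 119, 40), (.negSucc 45, 42), (.negSucc 90, 49), (.negSucc 18, 51), (.negSucc 73, 53),
  (.negSucc 5, 56), (.negSucc 244, 58), (.negSucc 56, 60), (.negSucc 147, 62), (.negSucc 155, 63), (.negSucc 151,
  68), (.negSucc 189, 69), (.negSucc 367, 70), (.negSucc 157, 71), (.negSucc 123, 72), (.negSucc 199, 73), (.negSucc
  300, 74), (.negSucc 382, 76), (.negSucc 269, 77), (.negSucc 27, 78), (.negSucc 728, 79), (.negSucc 52, 85),
  (.negSucc 57, 88), (.negSucc 89, 89), (.negSucc 142, 90), (.negSucc 638, 91), (.negSucc 394, 92), (.negSucc 350,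
  93)])])

/-- a candidate -/
def c59 : ℕ × ℕ × List Step :=
  (409677004800, 245, [(0, 0, .negSucc 1630, 0, [(.negSucc 3093, 7), (.ofNat 1053, 10), (.ofNat 1825, 15), (.ofNat
  750, 16), (.negSucc 9170, 19), (.ofNat 286, 20), (.negSucc 3885, 21), (.negSucc 4818, 22), (.negSucc 4152, 24),
  (.negSucc 974, 26), (.negSucc 1033, 27), (.negSucc 1772, 31), (.negSucc 845, 34), (.negSucc 976, 37), (.negSucc
  426, 39), (.negSucc 5048, 40), (.negSucc 399, 42), (.negSucc 3679, 43), (.negSucc 3093, 45), (.negSucc 4256, 50),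
  (.negSucc 3974, 51), (.negSucc 1621, 53), (.negSucc 1785, 54), (.negSucc 755, 55), (.negSucc 3103, 58), (.negSucc
  2903, 62), (.negSucc 2609, 65), (.negSucc 2022, 66), (.negSucc 1817, 67), (.negSucc 4647, 68), (.negSucc 3616, 69),
  (.negSucc 1364, 70), (.negSucc 6069, 71), (.negSucc 1931, 72), (.negSucc 3634, 73), (.negSucc 8114, 76), (.negSucc
  4229, 77), (.negSucc 5901, 78), (.negSucc 19682, 79), (.negSucc 223, 84), (.negSucc 541, 85), (.negSucc 2483, 88),
  (.negSucc 5, 89), (.negSucc 2189, 90), (.negSucc 8555, 91), (.negSucc 5077, 92), (.negSucc 4669, 93)])])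

/-- candidates -/
def CL2 : List (ℕ × ℕ × List Step) :=
  [c40, c41, c42, c43, c44, c45, c46, c47, c48, c49, c50, c51, c52, c53, c54, c55, c56, c57, c58, c59]

theorem okC2 : okL TAB.F24.DT R 2 P Z CL2 = true := by decide +kernel

/-- a candidate -/
def c60 : ℕ × ℕ × List Step :=
  (419982941952, 7, [(0, 0, .ofNat 48, 0, [(.negSucc 24, 29), (.negSucc 14, 45), (.negSucc 22, 48), (.negSucc 18,
  58), (.negSucc 171, 68), (.negSucc 8, 70), (.negSucc 8, 72), (.negSucc 62, 76), (.negSucc 24, 77), (.negSucc 18,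
  78), (.negSucc 242, 79), (.negSucc 16, 89), (.negSucc 30, 91), (.negSucc 88, 93)])])

/-- a candidate -/
def c61 : ℕ × ℕ × List Step :=
  (524386566144, 7, [(0, 0, .ofNat 3771, 0, [(.ofNat 1375, 4), (.negSucc 58, 13), (.negSucc 1598, 29), (.negSucc 346,
  45), (.negSucc 287, 48), (.negSucc 1136, 58), (.negSucc 3354, 68), (.negSucc 96, 72), (.negSucc 2556, 76),
  (.negSucc 748, 78), (.negSucc 6560, 79), (.ofNat 147, 81), (.negSucc 381, 89), (.negSucc 1341, 91), (.negSucc 1871,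
  93)])])

/-- a candidate -/
def c62 : ℕ × ℕ × List Step :=
  (524386566144, 14, [(0, 0, .ofNat 968, 0, [(.negSucc 469, 2), (.ofNat 54, 9), (.ofNat 124, 10), (.ofNat 126, 15),
  (.negSucc 379, 23), (.negSucc 51, 24), (.ofNat 102, 25), (.negSucc 267, 34), (.ofNat 480, 35), (.negSucc 337, 56),
  (.negSucc 764, 58), (.negSucc 130, 62), (.negSucc 408, 63), (.negSucc 484, 68), (.negSucc 511, 69), (.negSucc 2026,
  70), (.negSucc 191, 71), (.negSucc 418, 72), (.negSucc 823, 73), (.negSucc 1381, 74), (.negSucc 757, 76), (.negSucc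
  547, 77), (.negSucc 61, 78), (.negSucc 2186, 79), (.negSucc 57, 88), (.negSucc 231, 89), (.negSucc 322, 90),
  (.negSucc 1589, 91), (.negSucc 1306, 92), (.negSucc 996, 93)])])

/-- a candidate -/
def c63 : ℕ × ℕ × List Step :=
  (524386566144, 28, [(0, 0, .ofNat 968, 0, [(.negSucc 469, 2), (.ofNat 54, 9), (.ofNat 124, 10), (.ofNat 126, 15),
  (.negSucc 379, 23), (.negSucc 51, 24), (.ofNat 102, 25), (.negSucc 267, 34), (.ofNat 480, 35), (.negSucc 337, 56),
  (.negSucc 764, 58), (.negSucc 130, 62), (.negSucc 408, 63), (.negSucc 484, 68), (.negSucc 511, 69), (.negSucc 2026,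
  70), (.negSucc 191, 71), (.negSucc 418, 72), (.negSucc 823, 73), (.negSucc 1381, 74), (.negSucc 757, 76), (.negSucc
  547, 77), (.negSucc 61, 78), (.negSucc 2186, 79), (.negSucc 57, 88), (.negSucc 231, 89), (.negSucc 322, 90),
  (.negSucc 1589, 91), (.negSucc 1306, 92), (.negSucc 996, 93)])])

/-- a candidate -/
def c64 : ℕ × ℕ × List Step :=
  (550998028800, 5, [(0, 0, .ofNat 45, 0, [(.negSucc 7, 29), (.negSucc 3, 43), (.negSucc 11, 48), (.negSucc 23, 53),
  (.ofNat 12, 55), (.negSucc 47, 58), (.negSucc 11, 76), (.negSucc 3, 77), (.negSucc 24, 78), (.negSucc 80, 79),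
  (.negSucc 25, 89), (.negSucc 5, 90), (.negSucc 21, 91), (.negSucc 19, 92), (.negSucc 37, 93)])])

/-- a candidate -/
def c65 : ℕ × ℕ × List Step :=
  (550998028800, 15, [(0, 0, .ofNat 117034, 0, [(.negSucc 116984, 8), (.negSucc 36996, 24), (.ofNat 8208, 26),
  (.negSucc 177146, 27), (.negSucc 9157, 29), (.negSucc 25123, 32), (.negSucc 34016, 36), (.negSucc 40356, 38),
  (.negSucc 14044, 39), (.negSucc 33968, 49), (.negSucc 177038, 50), (.negSucc 7061, 51), (.negSucc 59913, 53),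
  (.negSucc 56128, 57), (.negSucc 96105, 58), (.negSucc 26799, 59), (.negSucc 11282, 60), (.negSucc 51414, 61),
  (.negSucc 42922, 62), (.negSucc 72558, 63), (.negSucc 126647, 65), (.negSucc 39912, 66), (.negSucc 7827, 68),
  (.negSucc 6977, 69), (.negSucc 82367, 70), (.negSucc 72713, 72), (.negSucc 59597, 73), (.negSucc 85219, 74),
  (.negSucc 130204, 75), (.negSucc 75565, 76), (.negSucc 98186, 77), (.negSucc 148216, 78), (.negSucc 141165, 79),
  (.negSucc 4458, 80), (.negSucc 9086, 86), (.negSucc 85274, 87), (.negSucc 48968, 88), (.negSucc 107559, 89),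
  (.negSucc 174776, 90), (.negSucc 75946, 91), (.negSucc 85996, 92), (.negSucc 38203, 93)])])

/-- a candidate -/
def c66 : ℕ × ℕ × List Step :=
  (550998028800, 45, [(0, 0, .ofNat 29186, 0, [(.ofNat 6776, 1), (.ofNat 8645, 6), (.negSucc 41824, 8), (.ofNat
  10138, 15), (.negSucc 28681, 24), (.negSucc 59048, 27), (.negSucc 10796, 32), (.negSucc 613, 35), (.negSucc 2886,
  38), (.negSucc 3869, 40), (.negSucc 9229, 41), (.ofNat 3045, 42), (.negSucc 500, 44), (.ofNat 5139, 45), (.negSucc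
  4196, 48), (.negSucc 7535, 49), (.negSucc 12018, 50), (.negSucc 13131, 53), (.negSucc 1938, 56), (.negSucc 29393,
  57), (.negSucc 18681, 58), (.negSucc 8663, 63), (.negSucc 23995, 65), (.negSucc 18605, 70), (.negSucc 32643, 72),
  (.negSucc 6507, 73), (.negSucc 12276, 74), (.negSucc 26968, 75), (.negSucc 27088, 76), (.negSucc 32235, 77),
  (.negSucc 50064, 78), (.negSucc 37664, 79), (.negSucc 11275, 80), (.negSucc 2466, 86), (.negSucc 12292, 87),
  (.negSucc 2679, 88), (.negSucc 4748, 89), (.negSucc 57720, 90), (.negSucc 6274, 91), (.negSucc 11638, 93)])])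

/-- a candidate -/
def c67 : ℕ × ℕ × List Step :=
  (550998028800, 135, [(0, 0, .ofNat 0, 0, [(.negSucc 7214, 9), (.ofNat 8073, 15), (.negSucc 12421, 17), (.negSucc
  23674, 19), (.negSucc 10159, 24), (.ofNat 2927, 26), (.negSucc 20856, 27), (.negSucc 1677, 32), (.negSucc 959, 35),
  (.negSucc 15856, 36), (.negSucc 1248, 40), (.negSucc 7639, 41), (.negSucc 28837, 43), (.negSucc 11966, 44), (.ofNat
  13959, 45), (.negSucc 1770, 48), (.negSucc 15484, 49), (.negSucc 18048, 50), (.negSucc 10591, 51), (.negSucc 10406,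
  56), (.negSucc 16512, 57), (.negSucc 9685, 58), (.negSucc 8857, 59), (.negSucc 7276, 60), (.negSucc 8079, 61),
  (.negSucc 12757, 62), (.negSucc 18788, 65), (.negSucc 6212, 66), (.negSucc 4150, 67), (.negSucc 9034, 68),
  (.negSucc 8216, 70), (.negSucc 15022, 72), (.negSucc 7759, 73), (.negSucc 21119, 74), (.negSucc 29127, 76),
  (.negSucc 27190, 77), (.negSucc 34172, 78), (.negSucc 59048, 79), (.negSucc 305, 84), (.negSucc 2808, 85),
  (.negSucc 6055, 86), (.negSucc 13065, 87), (.negSucc 6210, 88), (.negSucc 6705, 89), (.negSucc 51357, 90),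
  (.negSucc 7317, 91), (.negSucc 9027, 93)])])

/-- a candidate -/
def c68 : ℕ × ℕ × List Step :=
  (550998028800, 405, [(0, 0, .ofNat 0, 0, [(.ofNat 587, 6), (.negSucc 209, 9), (.ofNat 1999, 15), (.negSucc 9, 17),
  (.negSucc 3670, 19), (.negSucc 1068, 24), (.negSucc 3824, 27), (.negSucc 2526, 30), (.negSucc 575, 32), (.ofNat
  651, 34), (.negSucc 4981, 36), (.negSucc 713, 40), (.negSucc 3437, 43), (.negSucc 882, 44), (.ofNat 2685, 45),
  (.ofNat 826, 48), (.negSucc 1266, 49), (.negSucc 2852, 50), (.negSucc 1682, 51), (.negSucc 157, 53), (.negSucc 785,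
  58), (.negSucc 1241, 59), (.negSucc 527, 60), (.negSucc 1410, 62), (.negSucc 2683, 63), (.negSucc 3203, 65),
  (.negSucc 1089, 66), (.negSucc 575, 67), (.negSucc 2460, 68), (.ofNat 2485, 71), (.negSucc 507, 72), (.negSucc
  1828, 73), (.negSucc 3642, 77), (.negSucc 3353, 78), (.negSucc 6560, 79), (.negSucc 898, 80), (.negSucc 1611, 81),
  (.ofNat 203, 83), (.negSucc 1219, 86), (.negSucc 1297, 87), (.negSucc 1434, 88), (.negSucc 6474, 90), (.negSucc
  3045, 91), (.negSucc 40, 93)])])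

/-- a candidate -/
def c69 : ℕ × ℕ × List Step :=
  (550998028800, 1215, [(0, 0, .negSucc 272, 0, [(.ofNat 3563, 6), (.negSucc 948, 9), (.ofNat 8247, 15), (.negSucc
  1927, 17), (.negSucc 10459, 19), (.negSucc 5813, 24), (.ofNat 1535, 26), (.negSucc 8911, 27), (.negSucc 7839, 30),
  (.negSucc 2278, 32), (.ofNat 2401, 34), (.ofNat 1996, 35), (.negSucc 18692, 36), (.negSucc 2562, 40), (.negSucc
  8647, 43), (.negSucc 2632, 44), (.ofNat 7052, 45), (.ofNat 119, 46), (.ofNat 1204, 48), (.negSucc 4940, 50),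
  (.negSucc 3749, 51), (.negSucc 849, 53), (.negSucc 3774, 59), (.negSucc 3523, 60), (.negSucc 3897, 62), (.negSucc
  10001, 63), (.negSucc 6123, 65), (.negSucc 6427, 66), (.negSucc 1612, 67), (.negSucc 9785, 68), (.ofNat 4723, 71),
  (.negSucc 5551, 73), (.ofNat 1714, 75), (.negSucc 12146, 77), (.negSucc 10851, 78), (.negSucc 19682, 79), (.negSucc
  3850, 80), (.negSucc 4262, 81), (.ofNat 18, 83), (.ofNat 311, 85), (.negSucc 4348, 86), (.negSucc 2446, 87),
  (.negSucc 3916, 88), (.negSucc 19322, 90), (.negSucc 8782, 91)])])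

/-- a candidate -/
def c70 : ℕ × ℕ × List Step :=
  (550998028800, 3645, [(0, 0, .ofNat 0, 0, [(.ofNat 586, 6), (.negSucc 522, 9), (.ofNat 1019, 15), (.negSucc 832,
  19), (.negSucc 632, 24), (.ofNat 248, 26), (.negSucc 277, 27), (.ofNat 8, 29), (.negSucc 1291, 30), (.negSucc 85,
  32), (.ofNat 3, 33), (.ofNat 121, 34), (.negSucc 1909, 36), (.negSucc 606, 40), (.negSucc 464, 44), (.ofNat 1463,
  45), (.ofNat 115, 48), (.negSucc 336, 50), (.negSucc 320, 51), (.ofNat 164, 55), (.ofNat 394, 56), (.ofNat 151,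
  57), (.negSucc 180, 58), (.negSucc 390, 59), (.negSucc 34, 60), (.negSucc 252, 61), (.negSucc 996, 62), (.negSucc
  1209, 63), (.negSucc 407, 65), (.negSucc 214, 66), (.negSucc 377, 68), (.ofNat 437, 71), (.negSucc 75, 72),
  (.negSucc 609, 73), (.negSucc 930, 77), (.negSucc 997, 79), (.negSucc 31, 80), (.negSucc 438, 81), (.ofNat 23, 82),
  (.ofNat 318, 85), (.negSucc 186, 86), (.negSucc 253, 89), (.negSucc 2186, 90), (.negSucc 1353, 91), (.negSucc 62,
  93)])])

/-- a candidate -/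
def c71 : ℕ × ℕ × List Step :=
  (653034700800, 5, [(0, 0, .ofNat 729, 0, [(.ofNat 194, 6), (.negSucc 434, 9), (.ofNat 4, 10), (.ofNat 125, 45),
  (.ofNat 5, 46), (.negSucc 272, 53), (.ofNat 136, 55), (.negSucc 124, 56), (.negSucc 190, 58), (.negSucc 5, 64),
  (.negSucc 108, 65), (.negSucc 132, 77), (.negSucc 315, 78), (.negSucc 282, 79), (.negSucc 175, 89), (.negSucc 298,
  90), (.negSucc 133, 91), (.negSucc 243, 93)])])

/-- a candidate -/
def c72 : ℕ × ℕ × List Step :=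
  (746636341248, 7, [(0, 0, .ofNat 14505, 0, [(.ofNat 4570, 4), (.negSucc 1295, 13), (.negSucc 5350, 29), (.negSucc
  364, 35), (.negSucc 1265, 48), (.ofNat 463, 65), (.negSucc 11679, 68), (.negSucc 1314, 70), (.negSucc 174, 72),
  (.negSucc 7179, 76), (.negSucc 19682, 79), (.ofNat 1325, 81), (.negSucc 162, 89), (.negSucc 3904, 91), (.negSucc
  5740, 93)])])

/-- a candidate -/
def c73 : ℕ × ℕ × List Step :=
  (773967052800, 5, [(0, 0, .ofNat 19683, 0, [(.ofNat 2441, 6), (.negSucc 366, 9), (.ofNat 4770, 10), (.negSucc 1107,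
  28), (.ofNat 3434, 45), (.negSucc 6003, 53), (.ofNat 1892, 55), (.negSucc 2837, 56), (.negSucc 7363, 58), (.negSucc
  937, 70), (.negSucc 1565, 74), (.negSucc 4684, 78), (.negSucc 3809, 79), (.negSucc 4453, 89), (.negSucc 10728, 90),
  (.negSucc 5001, 91), (.negSucc 4175, 92), (.negSucc 4237, 93)])])

/-- a candidate -/
def c74 : ℕ × ℕ × List Step :=
  (1114512556032, 2, [(0, 0, .ofNat 6561, 0, [(.ofNat 418, 4), (.ofNat 1239, 10), (.negSucc 136, 12), (.ofNat 229,
  22), (.ofNat 629, 25), (.negSucc 1652, 27), (.negSucc 275, 28), (.negSucc 614, 32), (.ofNat 542, 35), (.negSucc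
  3858, 36), (.ofNat 366, 41), (.negSucc 308, 43), (.ofNat 1182, 45), (.ofNat 99, 46), (.negSucc 159, 53), (.negSucc
  555, 56), (.negSucc 275, 57), (.ofNat 615, 59), (.negSucc 1243, 63), (.negSucc 439, 67), (.negSucc 1415, 70),
  (.negSucc 106, 79), (.negSucc 417, 82), (.ofNat 144, 83), (.ofNat 50, 86), (.negSucc 1184, 88), (.negSucc 1028,
  91), (.negSucc 561, 92), (.negSucc 686, 93)])])

/-- a candidate -/
def c75 : ℕ × ℕ × List Step :=
  (1327353495552, 7, [(0, 0, .ofNat 19683, 0, [(.negSucc 3699, 2), (.ofNat 7883, 4), (.negSucc 3789, 5), (.negSucc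
  4959, 8), (.ofNat 2126, 10), (.negSucc 4784, 13), (.negSucc 966, 17), (.negSucc 1757, 23), (.negSucc 2918, 24),
  (.ofNat 2269, 25), (.ofNat 389, 26), (.negSucc 1533, 29), (.negSucc 1088, 34), (.negSucc 660, 36), (.negSucc 510,
  38), (.negSucc 534, 40), (.negSucc 398, 45), (.ofNat 3947, 52), (.negSucc 579, 55), (.negSucc 7197, 68), (.negSucc
  1532, 69), (.negSucc 3671, 70), (.negSucc 4331, 71), (.negSucc 2251, 72), (.negSucc 2472, 76), (.negSucc 2577, 79),
  (.ofNat 97, 81), (.ofNat 2212, 84), (.negSucc 978, 85), (.negSucc 1280, 91), (.negSucc 2425, 92), (.negSucc 3486,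
  93)])])

/-- a candidate -/
def c76 : ℕ × ℕ × List Step :=
  (1410554953728, 3, [(0, 0, .ofNat 81, 0, [(.ofNat 13, 6), (.ofNat 5, 10), (.negSucc 26, 13), (.negSucc 4, 22),
  (.negSucc 3, 27), (.negSucc 22, 28), (.negSucc 28, 29), (.ofNat 5, 45), (.negSucc 7, 57), (.negSucc 4, 91),
  (.negSucc 2, 92)])])

/-- a candidate -/
def c77 : ℕ × ℕ × List Step :=
  (1469328076800, 5, [(0, 0, .ofNat 6561, 0, [(.ofNat 986, 5), (.ofNat 64, 6), (.negSucc 488, 8), (.negSucc 2627, 9),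
  (.ofNat 281, 10), (.negSucc 1533, 21), (.negSucc 1307, 29), (.negSucc 318, 31), (.negSucc 450, 39), (.ofNat 1770,
  45), (.negSucc 1367, 53), (.negSucc 116, 56), (.negSucc 6, 65), (.negSucc 827, 67), (.negSucc 14, 72), (.negSucc
  296, 74), (.negSucc 24, 83), (.negSucc 1612, 90), (.negSucc 943, 91), (.negSucc 74, 92), (.negSucc 392, 93)])])

/-- a candidate -/
def c78 : ℕ × ℕ × List Step :=
  (1476502530300, 35, [(0, 0, .ofNat 19683, 0, [(.negSucc 2688, 2), (.negSucc 10212, 7), (.negSucc 5561, 8),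
  (.negSucc 6590, 9), (.negSucc 3370, 12), (.negSucc 1320, 13), (.negSucc 2049, 23), (.negSucc 2307, 28), (.negSucc
  687, 29), (.ofNat 2872, 30), (.negSucc 2470, 35), (.ofNat 94, 36), (.negSucc 1826, 38), (.negSucc 6970, 52),
  (.negSucc 679, 53), (.negSucc 2123, 57), (.negSucc 2701, 58), (.negSucc 6294, 71), (.negSucc 2917, 72), (.negSucc
  2049, 74), (.negSucc 2850, 76), (.negSucc 1137, 78), (.negSucc 4505, 79), (.ofNat 167, 81), (.negSucc 58, 82),
  (.ofNat 218, 83), (.ofNat 969, 84), (.negSucc 285, 87), (.ofNat 721, 90), (.negSucc 6515, 91), (.negSucc 1493, 92),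
  (.negSucc 1450, 93)])])

/-- a candidate -/
def c79 : ℕ × ℕ × List Step :=
  (1741425868800, 5, [(0, 0, .ofNat 177147, 0, [(.ofNat 39484, 4), (.ofNat 5495, 5), (.ofNat 27750, 6), (.ofNat
  10815, 9), (.ofNat 60848, 10), (.negSucc 5865, 13), (.negSucc 413, 14), (.ofNat 14813, 15), (.negSucc 26627, 17),
  (.ofNat 27878, 20), (.negSucc 7784, 24), (.negSucc 19285, 27), (.negSucc 18931, 28), (.negSucc 26004, 32),
  (.negSucc 15412, 33), (.ofNat 4329, 35), (.negSucc 59708, 36), (.negSucc 16164, 37), (.negSucc 22245, 40), (.ofNat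
  25552, 41), (.negSucc 57783, 43), (.ofNat 50809, 45), (.negSucc 6900, 50), (.negSucc 32358, 52), (.negSucc 13034,
  53), (.negSucc 55395, 56), (.negSucc 16450, 57), (.ofNat 31663, 59), (.ofNat 5027, 64), (.negSucc 18397, 65),
  (.ofNat 6701, 68), (.negSucc 79769, 72), (.negSucc 8819, 74), (.negSucc 81494, 78), (.ofNat 9951, 83), (.ofNat
  3245, 84), (.negSucc 5986, 86), (.negSucc 32009, 87), (.negSucc 16476, 88), (.ofNat 1792, 89), (.negSucc 49256,
  90), (.negSucc 12320, 91)])])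

/-- candidates -/
def CL3 : List (ℕ × ℕ × List Step) :=
  [c60, c61, c62, c63, c64, c65, c66, c67, c68, c69, c70, c71, c72, c73, c74, c75, c76, c77, c78, c79]

theorem okC3 : okL TAB.F24.DT R 2 P Z CL3 = true := by decide +kernel

end Cfsg.Agent.TH.Spor.NFi24
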