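import Cfsg.Agent.TH.Spor.NFi24D

/-!
# S3541, sporadic rows: Fi24, certificates (helper26; generated by notes/TH/spor26/gen.py.txt)
-/

set_option autoImplicit false
set_option Elab.async false

namespace Cfsg.Agent.TH.Spor.NFi24

open Cfsg Cfsg.Agent.TAB.Eng Cfsg.Agent.H940.Eng

/-- a candidate -/
def c80 : ℕ × ℕ × List Step :=
  (1889923238784, 7, [(0, 0, .ofNat 177147, 0, [(.negSucc 17246, 2), (.ofNat 61258, 4), (.negSucc 56184, 5),
  (.negSucc 72758, 8), (.ofNat 20829, 10), (.negSucc 52433, 13), (.negSucc 21965, 23), (.negSucc 37253, 24), (.ofNat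
  20255, 25), (.ofNat 1395, 26), (.negSucc 6153, 29), (.negSucc 1799, 32), (.negSucc 7962, 36), (.ofNat 6791, 37),
  (.negSucc 4928, 45), (.ofNat 21068, 52), (.negSucc 19650, 55), (.negSucc 68917, 68), (.negSucc 9754, 70), (.negSucc
  42003, 71), (.negSucc 12446, 72), (.ofNat 3746, 75), (.negSucc 7044, 76), (.negSucc 8036, 79), (.ofNat 4387, 81),
  (.ofNat 27325, 84), (.negSucc 1799, 85), (.negSucc 10921, 91), (.negSucc 11932, 92), (.negSucc 31979, 93)])])

/-- a candidate -/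
def c81 : ℕ × ℕ × List Step :=
  (1889923238784, 21, [(0, 0, .ofNat 59049, 0, [(.negSucc 12842, 2), (.ofNat 17818, 3), (.ofNat 18382, 4), (.negSucc
  37731, 5), (.negSucc 30386, 8), (.ofNat 9737, 10), (.negSucc 96, 11), (.negSucc 16075, 12), (.negSucc 1830, 13),
  (.negSucc 2720, 19), (.ofNat 2693, 22), (.negSucc 3111, 23), (.negSucc 16882, 24), (.negSucc 469, 25), (.negSucc
  5483, 28), (.negSucc 3812, 29), (.ofNat 11461, 30), (.ofNat 6107, 31), (.negSucc 15833, 32), (.ofNat 11461, 36),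
  (.negSucc 2645, 37), (.ofNat 10728, 38), (.ofNat 2188, 41), (.negSucc 939, 45), (.negSucc 855, 46), (.negSucc 2312,
  48), (.ofNat 5548, 49), (.ofNat 28360, 52), (.negSucc 11976, 55), (.negSucc 7488, 57), (.negSucc 2081, 59),
  (.negSucc 5879, 64), (.ofNat 1941, 65), (.negSucc 1120, 66), (.negSucc 22928, 68), (.negSucc 12159, 71), (.negSucc
  1399, 73), (.negSucc 5058, 74), (.negSucc 1219, 76), (.negSucc 1525, 83), (.negSucc 698, 87), (.negSucc 114, 88),
  (.negSucc 810, 89), (.ofNat 355, 90), (.negSucc 4426, 91), (.negSucc 1210, 92)])])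

/-- a candidate -/
def c82 : ℕ × ℕ × List Step :=
  (1889923238784, 63, [(0, 0, .ofNat 59049, 0, [(.negSucc 12842, 2), (.ofNat 17818, 3), (.ofNat 18382, 4), (.negSucc
  37731, 5), (.negSucc 30386, 8), (.ofNat 9737, 10), (.negSucc 96, 11), (.negSucc 16075, 12), (.negSucc 1830, 13),
  (.negSucc 2720, 19), (.ofNat 2693, 22), (.negSucc 3111, 23), (.negSucc 16882, 24), (.negSucc 469, 25), (.negSucc
  5483, 28), (.negSucc 3812, 29), (.ofNat 11461, 30), (.ofNat 6107, 31), (.negSucc 15833, 32), (.ofNat 11461, 36),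
  (.negSucc 2645, 37), (.ofNat 10728, 38), (.ofNat 2188, 41), (.negSucc 939, 45), (.negSucc 855, 46), (.negSucc 2312,
  48), (.ofNat 5548, 49), (.ofNat 28360, 52), (.negSucc 11976, 55), (.negSucc 7488, 57), (.negSucc 2081, 59),
  (.negSucc 5879, 64), (.ofNat 1941, 65), (.negSucc 1120, 66), (.negSucc 22928, 68), (.negSucc 12159, 71), (.negSucc
  1399, 73), (.negSucc 5058, 74), (.negSucc 1219, 76), (.negSucc 1525, 83), (.negSucc 698, 87), (.negSucc 114, 88),
  (.negSucc 810, 89), (.ofNat 355, 90), (.negSucc 4426, 91), (.negSucc 1210, 92)])])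

/-- a candidate -/
def c83 : ℕ × ℕ × List Step :=
  (1889923238784, 189, [(0, 0, .ofNat 6561, 0, [(.negSucc 1449, 2), (.ofNat 1984, 3), (.ofNat 2097, 4), (.negSucc
  4192, 5), (.negSucc 3381, 8), (.ofNat 1086, 10), (.negSucc 6, 11), (.negSucc 1795, 12), (.negSucc 196, 13),
  (.negSucc 24, 18), (.negSucc 292, 19), (.ofNat 289, 22), (.negSucc 328, 23), (.negSucc 1894, 24), (.negSucc 48,
  25), (.negSucc 596, 28), (.negSucc 413, 29), (.ofNat 1283, 30), (.ofNat 669, 31), (.negSucc 1743, 32), (.ofNat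
  1276, 36), (.negSucc 291, 37), (.ofNat 1180, 38), (.ofNat 248, 41), (.negSucc 110, 45), (.negSucc 88, 46),
  (.negSucc 274, 48), (.ofNat 601, 49), (.ofNat 3141, 52), (.negSucc 1318, 55), (.negSucc 889, 57), (.negSucc 221,
  59), (.negSucc 659, 64), (.ofNat 156, 65), (.negSucc 69, 66), (.negSucc 2564, 68), (.negSucc 1338, 71), (.negSucc
  186, 73), (.negSucc 548, 74), (.negSucc 111, 76), (.negSucc 194, 83), (.negSucc 61, 87), (.negSucc 107, 89),
  (.ofNat 45, 90), (.negSucc 475, 91), (.negSucc 135, 92)])])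

/-- a candidate -/
def c84 : ℕ × ℕ × List Step :=
  (1889923238784, 567, [(0, 0, .ofNat 177147, 0, [(.negSucc 39929, 2), (.ofNat 53100, 3), (.ofNat 61960, 4),
  (.negSucc 113470, 5), (.negSucc 90661, 8), (.ofNat 28569, 10), (.negSucc 1827, 11), (.negSucc 48236, 12), (.negSucc
  8182, 13), (.negSucc 11700, 19), (.ofNat 3124, 22), (.negSucc 8071, 23), (.negSucc 51828, 24), (.negSucc 14648,
  28), (.negSucc 10832, 29), (.ofNat 34737, 30), (.ofNat 16412, 31), (.negSucc 48749, 32), (.ofNat 34737, 36),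
  (.negSucc 8445, 37), (.ofNat 34796, 38), (.ofNat 4684, 41), (.negSucc 2323, 46), (.negSucc 7904, 48), (.ofNat
  17075, 49), (.ofNat 89309, 52), (.negSucc 38355, 55), (.negSucc 21966, 57), (.negSucc 6180, 59), (.negSucc 19434,
  64), (.ofNat 986, 65), (.negSucc 1451, 66), (.negSucc 74731, 68), (.negSucc 34736, 71), (.negSucc 6428, 73),
  (.negSucc 14438, 74), (.negSucc 975, 76), (.negSucc 3060, 77), (.negSucc 7097, 83), (.negSucc 1, 85), (.negSucc
  660, 89), (.ofNat 2, 90), (.negSucc 12513, 91), (.negSucc 4441, 92)])])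

/-- a candidate -/
def c85 : ℕ × ℕ × List Step :=
  (1889923238784, 1701, [(0, 0, .ofNat 177147, 0, [(.negSucc 39929, 2), (.ofNat 53100, 3), (.ofNat 61960, 4),
  (.negSucc 113470, 5), (.negSucc 90661, 8), (.ofNat 28569, 10), (.negSucc 1827, 11), (.negSucc 48236, 12), (.negSucc
  8182, 13), (.negSucc 11700, 19), (.ofNat 3124, 22), (.negSucc 8071, 23), (.negSucc 51828, 24), (.negSucc 14648,
  28), (.negSucc 10832, 29), (.ofNat 34737, 30), (.ofNat 16412, 31), (.negSucc 48749, 32), (.ofNat 34737, 36),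
  (.negSucc 8445, 37), (.ofNat 34796, 38), (.ofNat 4684, 41), (.negSucc 2323, 46), (.negSucc 7904, 48), (.ofNat
  17075, 49), (.ofNat 89309, 52), (.negSucc 38355, 55), (.negSucc 21966, 57), (.negSucc 6180, 59), (.negSucc 19434,
  64), (.ofNat 986, 65), (.negSucc 1451, 66), (.negSucc 74731, 68), (.negSucc 34736, 71), (.negSucc 6428, 73),
  (.negSucc 14438, 74), (.negSucc 975, 76), (.negSucc 3060, 77), (.negSucc 7097, 83), (.negSucc 1, 85), (.negSucc
  660, 89), (.ofNat 2, 90), (.negSucc 12513, 91), (.negSucc 4441, 92)])])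

/-- a candidate -/
def c86 : ℕ × ℕ × List Step :=
  (2359739547648, 7, [(0, 0, .ofNat 6561, 0, [(.negSucc 752, 2), (.ofNat 2238, 4), (.negSucc 2032, 5), (.negSucc
  2965, 8), (.ofNat 812, 10), (.negSucc 1978, 13), (.negSucc 995, 23), (.negSucc 1488, 24), (.ofNat 721, 25), (.ofNat
  13, 26), (.negSucc 240, 29), (.negSucc 36, 32), (.negSucc 164, 36), (.negSucc 246, 45), (.ofNat 665, 52), (.negSucc
  722, 55), (.negSucc 121, 57), (.ofNat 41, 61), (.negSucc 2503, 68), (.negSucc 444, 70), (.negSucc 1690, 71),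
  (.negSucc 243, 72), (.ofNat 159, 75), (.ofNat 204, 81), (.ofNat 968, 84), (.negSucc 36, 85), (.negSucc 250, 91),
  (.negSucc 415, 92), (.negSucc 1043, 93)])])

/-- a candidate -/
def c87 : ℕ × ℕ × List Step :=
  (2997429276672, 17, [(0, 0, .ofNat 729, 0, [(.ofNat 188, 4), (.negSucc 141, 5), (.negSucc 203, 8), (.ofNat 154,
  10), (.ofNat 23, 22), (.negSucc 99, 24), (.ofNat 113, 25), (.negSucc 226, 27), (.negSucc 164, 36), (.ofNat 160,
  45), (.ofNat 88, 46), (.negSucc 21, 55), (.negSucc 7, 56), (.ofNat 7, 59), (.negSucc 77, 70), (.ofNat 11, 77),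
  (.ofNat 4, 80), (.negSucc 134, 82), (.ofNat 4, 89), (.negSucc 20, 92)])])

/-- a candidate -/
def c88 : ℕ × ℕ × List Step :=
  (2997429276672, 51, [(0, 0, .ofNat 148532, 0, [(.ofNat 37250, 1), (.ofNat 22328, 4), (.negSucc 91865, 8), (.ofNat
  6579, 10), (.ofNat 35935, 11), (.ofNat 6230, 15), (.ofNat 28895, 21), (.ofNat 5462, 22), (.ofNat 34615, 25),
  (.ofNat 14874, 26), (.negSucc 177146, 27), (.ofNat 31856, 31), (.negSucc 19893, 36), (.negSucc 23033, 37),
  (.negSucc 13778, 38), (.ofNat 12593, 45), (.ofNat 23118, 46), (.negSucc 27497, 48), (.ofNat 10034, 49), (.ofNat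
  812, 51), (.ofNat 29867, 52), (.negSucc 30537, 55), (.negSucc 12259, 56), (.ofNat 1692, 60), (.negSucc 29258, 63),
  (.negSucc 42104, 68), (.ofNat 48811, 69), (.negSucc 12888, 70), (.negSucc 28325, 75), (.negSucc 3685, 76),
  (.negSucc 6142, 77), (.negSucc 21313, 82), (.ofNat 2988, 84), (.ofNat 12064, 85), (.negSucc 14332, 87), (.negSucc
  12474, 89), (.negSucc 28615, 90), (.negSucc 9912, 92)])])

/-- a candidate -/
def c89 : ℕ × ℕ × List Step :=
  (3343537668096, 2, [(0, 0, .ofNat 59049, 0, [(.ofNat 1736, 4), (.ofNat 9379, 10), (.negSucc 3811, 12), (.ofNat 709,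
  18), (.ofNat 1067, 19), (.negSucc 4607, 21), (.ofNat 6601, 22), (.ofNat 6297, 25), (.negSucc 19896, 27), (.negSucc
  7652, 28), (.negSucc 3369, 32), (.ofNat 3053, 35), (.negSucc 32174, 36), (.ofNat 14716, 45), (.ofNat 1188, 46),
  (.negSucc 2745, 48), (.ofNat 3416, 52), (.negSucc 7652, 57), (.ofNat 2661, 59), (.negSucc 11974, 63), (.negSucc
  8246, 70), (.ofNat 948, 73), (.ofNat 1885, 83), (.ofNat 1043, 86), (.negSucc 6978, 88), (.negSucc 4306, 92),
  (.negSucc 2755, 93)])])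

/-- a candidate -/
def c90 : ℕ × ℕ × List Step :=
  (3343537668096, 4, [(0, 0, .ofNat 59049, 0, [(.ofNat 3436, 4), (.ofNat 10182, 10), (.ofNat 3263, 11), (.negSucc
  1858, 12), (.ofNat 1410, 18), (.ofNat 577, 19), (.ofNat 4263, 22), (.ofNat 9716, 25), (.negSucc 21392, 27),
  (.negSucc 7152, 28), (.ofNat 4221, 35), (.negSucc 27949, 36), (.ofNat 13375, 45), (.ofNat 508, 46), (.negSucc 4724,
  48), (.ofNat 5, 52), (.negSucc 788, 55), (.negSucc 7152, 57), (.ofNat 1854, 59), (.negSucc 11686, 63), (.negSucc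
  10987, 70), (.ofNat 5229, 73), (.ofNat 2126, 83), (.negSucc 7569, 88), (.negSucc 4298, 92), (.negSucc 3707, 93)])])

/-- a candidate -/
def c91 : ℕ × ℕ × List Step :=
  (3343537668096, 8, [(0, 0, .ofNat 2187, 0, [(.ofNat 325, 4), (.ofNat 26, 9), (.ofNat 384, 10), (.ofNat 134, 11),
  (.ofNat 95, 18), (.ofNat 377, 22), (.ofNat 284, 25), (.negSucc 793, 27), (.negSucc 256, 28), (.ofNat 190, 31),
  (.negSucc 74, 32), (.ofNat 183, 35), (.negSucc 848, 36), (.ofNat 138, 41), (.ofNat 380, 45), (.ofNat 38, 46),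
  (.ofNat 15, 52), (.negSucc 94, 55), (.negSucc 256, 57), (.ofNat 113, 59), (.negSucc 342, 63), (.negSucc 413, 70),
  (.negSucc 278, 76), (.ofNat 142, 83), (.negSucc 206, 88), (.ofNat 16, 89), (.negSucc 112, 93)])])

/-- a candidate -/
def c92 : ℕ × ℕ × List Step :=
  (3359863535616, 7, [(0, 0, .ofNat 243, 0, [(.negSucc 26, 2), (.ofNat 86, 4), (.negSucc 68, 5), (.negSucc 111, 8),
  (.ofNat 38, 10), (.negSucc 0, 12), (.negSucc 56, 13), (.negSucc 2, 17), (.ofNat 5, 20), (.ofNat 12, 22), (.negSucc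
  24, 23), (.negSucc 52, 24), (.ofNat 19, 25), (.negSucc 7, 28), (.negSucc 25, 29), (.negSucc 19, 32), (.negSucc 9,
  36), (.negSucc 0, 45), (.ofNat 4, 46), (.ofNat 23, 52), (.negSucc 10, 55), (.negSucc 9, 57), (.ofNat 13, 59),
  (.negSucc 84, 68), (.negSucc 61, 71), (.ofNat 16, 75), (.ofNat 22, 81), (.ofNat 23, 84), (.negSucc 6, 85),
  (.negSucc 3, 92), (.negSucc 9, 93)])])

/-- a candidate -/
def c93 : ℕ × ℕ × List Step :=
  (3918208204800, 5, [(0, 0, .ofNat 59049, 0, [(.ofNat 6490, 4), (.ofNat 6504, 6), (.negSucc 23968, 8), (.ofNat 259,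
  9), (.ofNat 21290, 10), (.negSucc 4081, 17), (.ofNat 3460, 18), (.ofNat 14428, 20), (.negSucc 6847, 24), (.ofNat
  3193, 25), (.negSucc 3855, 27), (.negSucc 6401, 28), (.negSucc 15864, 32), (.negSucc 897, 34), (.ofNat 1343, 35),
  (.negSucc 5598, 36), (.negSucc 568, 40), (.ofNat 1422, 42), (.ofNat 25628, 45), (.negSucc 9827, 48), (.ofNat 15087,
  55), (.negSucc 20995, 56), (.negSucc 6401, 57), (.ofNat 1687, 61), (.ofNat 6325, 68), (.negSucc 18639, 72),
  (.negSucc 1905, 74), (.negSucc 5570, 76), (.negSucc 8473, 78), (.negSucc 2700, 82), (.ofNat 5075, 84), (.negSucc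
  4515, 87), (.negSucc 12682, 90)])])

/-- a candidate -/
def c94 : ℕ × ℕ × List Step :=
  (4643802316800, 5, [(0, 0, .ofNat 59049, 0, [(.ofNat 14079, 4), (.ofNat 7674, 6), (.ofNat 1598, 9), (.ofNat 11448,
  10), (.negSucc 12995, 12), (.ofNat 838, 15), (.ofNat 3698, 18), (.ofNat 7863, 20), (.negSucc 16462, 21), (.negSucc
  1319, 23), (.negSucc 2090, 24), (.ofNat 1469, 25), (.negSucc 11460, 27), (.negSucc 15350, 28), (.negSucc 11129,
  32), (.negSucc 9152, 33), (.negSucc 3465, 34), (.negSucc 13569, 36), (.negSucc 4320, 37), (.ofNat 206, 39),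
  (.negSucc 5173, 40), (.ofNat 5213, 41), (.negSucc 13473, 43), (.ofNat 10109, 45), (.ofNat 1380, 46), (.negSucc 247,
  52), (.negSucc 3704, 53), (.ofNat 2748, 55), (.negSucc 5921, 57), (.ofNat 5528, 59), (.ofNat 4449, 61), (.ofNat
  6016, 68), (.negSucc 5832, 74), (.ofNat 4559, 75), (.negSucc 5636, 78), (.ofNat 6643, 83), (.ofNat 4611, 84),
  (.negSucc 17556, 90), (.negSucc 1536, 92)])])

/-- a candidate -/
def c95 : ℕ × ℕ × List Step :=
  (4666477132800, 35, [(0, 0, .ofNat 2187, 0, [(.ofNat 46, 1), (.negSucc 545, 2), (.ofNat 1029, 4), (.negSucc 419,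
  7), (.negSucc 997, 8), (.ofNat 41, 9), (.ofNat 437, 10), (.negSucc 204, 11), (.negSucc 536, 13), (.negSucc 350,
  16), (.negSucc 704, 17), (.negSucc 6, 19), (.ofNat 325, 20), (.negSucc 433, 21), (.negSucc 114, 23), (.negSucc 209,
  24), (.negSucc 31, 25), (.negSucc 810, 27), (.negSucc 365, 28), (.negSucc 296, 29), (.ofNat 455, 30), (.ofNat 242,
  31), (.negSucc 83, 38), (.ofNat 90, 39), (.ofNat 108, 41), (.negSucc 469, 45), (.negSucc 109, 46), (.ofNat 124,
  49), (.ofNat 42, 50), (.negSucc 217, 51), (.negSucc 56, 52), (.negSucc 458, 53), (.ofNat 219, 54), (.ofNat 392,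
  55), (.negSucc 147, 57), (.ofNat 43, 61), (.negSucc 9, 64), (.negSucc 521, 65), (.negSucc 890, 69), (.negSucc 924,
  71), (.negSucc 969, 78), (.negSucc 135, 85), (.negSucc 26, 87), (.negSucc 48, 89), (.ofNat 169, 90), (.negSucc 193,
  92)])])

/-- a candidate -/
def c96 : ℕ × ℕ × List Step :=
  (4666477132800, 175, [(0, 0, .ofNat 729, 0, [(.negSucc 256, 2), (.ofNat 113, 3), (.ofNat 344, 4), (.negSucc 64, 5),
  (.negSucc 183, 7), (.negSucc 317, 8), (.ofNat 137, 10), (.negSucc 26, 11), (.negSucc 64, 13), (.negSucc 27, 16),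
  (.negSucc 208, 17), (.negSucc 28, 19), (.ofNat 38, 20), (.negSucc 117, 21), (.ofNat 8, 22), (.negSucc 78, 23),
  (.negSucc 155, 24), (.negSucc 228, 27), (.negSucc 153, 29), (.ofNat 118, 31), (.negSucc 94, 34), (.negSucc 37, 45),
  (.negSucc 10, 51), (.ofNat 16, 52), (.negSucc 7, 53), (.ofNat 139, 61), (.negSucc 32, 65), (.negSucc 183, 66),
  (.negSucc 331, 69), (.negSucc 228, 71), (.negSucc 312, 78), (.negSucc 63, 85), (.negSucc 13, 89), (.negSucc 43,
  92)])])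

/-- a candidate -/
def c97 : ℕ × ℕ × List Step :=
  (5642219814912, 3, [(0, 0, .ofNat 59049, 0, [(.ofNat 17267, 1), (.ofNat 257, 6), (.negSucc 31100, 8), (.ofNat
  10492, 10), (.ofNat 11711, 11), (.negSucc 2008, 13), (.ofNat 1218, 16), (.ofNat 5940, 20), (.ofNat 11875, 25),
  (.ofNat 794, 26), (.negSucc 43373, 27), (.negSucc 12754, 28), (.ofNat 14031, 31), (.negSucc 7936, 32), (.ofNat
  1140, 35), (.negSucc 8839, 36), (.negSucc 1731, 43), (.ofNat 5499, 45), (.ofNat 3431, 46), (.ofNat 1957, 47),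
  (.negSucc 5459, 48), (.ofNat 7284, 52), (.negSucc 2095, 55), (.negSucc 1856, 56), (.negSucc 12754, 57), (.negSucc
  3979, 64), (.ofNat 6104, 67), (.ofNat 3064, 69), (.negSucc 715, 77), (.negSucc 11099, 78), (.ofNat 514, 79),
  (.negSucc 1401, 87), (.negSucc 2428, 89), (.negSucc 13268, 90), (.ofNat 4697, 93)])])

/-- a candidate -/
def c98 : ℕ × ℕ × List Step :=
  (5973090729984, 7, [(0, 0, .ofNat 6561, 0, [(.negSucc 714, 2), (.ofNat 2311, 4), (.negSucc 1819, 5), (.negSucc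
  2941, 8), (.ofNat 1032, 10), (.negSucc 1503, 13), (.negSucc 107, 17), (.ofNat 203, 20), (.ofNat 340, 22), (.negSucc
  615, 23), (.negSucc 1370, 24), (.ofNat 538, 25), (.ofNat 11, 26), (.negSucc 247, 28), (.negSucc 725, 29), (.negSucc
  611, 32), (.negSucc 342, 36), (.ofNat 8, 37), (.ofNat 66, 46), (.ofNat 621, 52), (.negSucc 255, 55), (.negSucc 242,
  57), (.ofNat 393, 59), (.negSucc 2265, 68), (.negSucc 1647, 71), (.ofNat 498, 75), (.ofNat 615, 81), (.ofNat 591,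
  84), (.negSucc 218, 85), (.ofNat 44, 86), (.negSucc 72, 92), (.negSucc 194, 93)])])

/-- a candidate -/
def c99 : ℕ × ℕ × List Step :=
  (8815968460800, 5, [(0, 0, .ofNat 6561, 0, [(.ofNat 862, 4), (.ofNat 1259, 6), (.negSucc 2515, 8), (.ofNat 773, 9),
  (.ofNat 1275, 10), (.negSucc 53, 12), (.ofNat 419, 15), (.negSucc 193, 17), (.ofNat 450, 18), (.ofNat 415, 20),
  (.negSucc 1793, 21), (.negSucc 1041, 24), (.negSucc 2422, 27), (.ofNat 554, 30), (.negSucc 113, 31), (.negSucc 759,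
  32), (.negSucc 164, 34), (.negSucc 646, 38), (.ofNat 2279, 45), (.negSucc 874, 48), (.negSucc 396, 53), (.ofNat 20,
  54), (.ofNat 476, 55), (.negSucc 450, 56), (.negSucc 699, 57), (.ofNat 145, 59), (.ofNat 747, 61), (.ofNat 150,
  66), (.ofNat 688, 68), (.negSucc 237, 72), (.negSucc 150, 74), (.negSucc 657, 76), (.ofNat 15, 77), (.negSucc 552,
  78), (.negSucc 386, 82), (.ofNat 991, 83), (.ofNat 31, 84), (.negSucc 1577, 90), (.negSucc 35, 92)])])

/-- candidates -/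
def CL4 : List (ℕ × ℕ × List Step) :=
  [c80, c81, c82, c83, c84, c85, c86, c87, c88, c89, c90, c91, c92, c93, c94, c95, c96, c97, c98, c99]

theorem okC4 : okL TAB.F24.DT R 2 P Z CL4 = true := by decide +kernel

/-- a candidate -/
def c100 : ℕ × ℕ × List Step :=
  (8815968460800, 15, [(0, 0, .ofNat 19683, 0, [(.ofNat 1390, 4), (.ofNat 5865, 6), (.negSucc 9620, 8), (.ofNat 1649,
  10), (.ofNat 869, 11), (.ofNat 1356, 14), (.ofNat 4389, 15), (.ofNat 342, 17), (.negSucc 1720, 19), (.ofNat 338,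
  20), (.negSucc 3119, 21), (.negSucc 3580, 24), (.ofNat 1768, 25), (.negSucc 10823, 27), (.ofNat 43, 29), (.ofNat
  66, 31), (.negSucc 2637, 32), (.negSucc 7163, 36), (.negSucc 698, 37), (.negSucc 1479, 38), (.negSucc 312, 39),
  (.ofNat 7876, 45), (.negSucc 1088, 48), (.ofNat 316, 49), (.negSucc 397, 52), (.negSucc 1492, 53), (.ofNat 1169,
  55), (.negSucc 4654, 57), (.ofNat 2348, 61), (.negSucc 806, 63), (.ofNat 1518, 69), (.ofNat 171, 70), (.negSucc
  1584, 74), (.negSucc 214, 76), (.negSucc 5172, 78), (.negSucc 1358, 80), (.negSucc 1681, 81), (.ofNat 370, 84),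
  (.ofNat 2345, 85), (.negSucc 1519, 87), (.negSucc 6307, 90)])])

/-- a candidate -/
def c101 : ℕ × ℕ × List Step :=
  (10030613004288, 2, [(0, 0, .ofNat 6561, 0, [(.ofNat 1863, 4), (.negSucc 3122, 8), (.ofNat 2704, 10), (.ofNat 49,
  11), (.ofNat 259, 18), (.ofNat 674, 20), (.negSucc 371, 21), (.ofNat 589, 22), (.negSucc 43, 23), (.ofNat 464, 25),
  (.ofNat 545, 26), (.negSucc 565, 27), (.negSucc 584, 28), (.negSucc 497, 32), (.ofNat 263, 35), (.negSucc 1441,
  36), (.negSucc 373, 38), (.ofNat 476, 45), (.ofNat 518, 46), (.negSucc 584, 57), (.ofNat 288, 59), (.negSucc 641,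
  82), (.ofNat 396, 86), (.negSucc 321, 92)])])

/-- a candidate -/
def c102 : ℕ × ℕ × List Step :=
  (10448555212800, 5, [(0, 0, .ofNat 19683, 0, [(.ofNat 3115, 4), (.ofNat 1094, 6), (.ofNat 1406, 9), (.ofNat 4690,
  10), (.negSucc 3256, 17), (.ofNat 4782, 20), (.negSucc 2094, 24), (.ofNat 1276, 25), (.negSucc 1853, 27), (.negSucc
  765, 28), (.negSucc 822, 32), (.negSucc 2909, 33), (.negSucc 17, 34), (.negSucc 4634, 36), (.negSucc 3772, 37),
  (.negSucc 1570, 40), (.ofNat 253, 41), (.ofNat 1173, 42), (.negSucc 5414, 43), (.ofNat 9735, 45), (.negSucc 1304,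
  48), (.negSucc 1068, 51), (.negSucc 1893, 53), (.ofNat 1044, 55), (.negSucc 2384, 56), (.negSucc 765, 57),
  (.negSucc 296, 58), (.ofNat 2337, 59), (.ofNat 1671, 61), (.ofNat 791, 64), (.ofNat 1131, 66), (.ofNat 2873, 68),
  (.ofNat 1582, 69), (.negSucc 8714, 72), (.negSucc 1097, 74), (.ofNat 606, 75), (.negSucc 1054, 76), (.ofNat 1802,
  77), (.negSucc 6103, 78), (.negSucc 1397, 82), (.ofNat 880, 83), (.ofNat 1875, 84), (.ofNat 1439, 85), (.negSucc
  115, 87), (.ofNat 1570, 89), (.negSucc 2683, 90)])])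

/-- a candidate -/
def c103 : ℕ × ℕ × List Step :=
  (10618827964416, 7, [(0, 0, .ofNat 2187, 0, [(.negSucc 180, 2), (.ofNat 775, 4), (.negSucc 565, 5), (.negSucc 954,
  8), (.ofNat 375, 10), (.negSucc 424, 13), (.negSucc 74, 17), (.ofNat 148, 20), (.ofNat 175, 22), (.negSucc 132,
  23), (.negSucc 381, 24), (.ofNat 173, 25), (.ofNat 9, 26), (.negSucc 94, 28), (.negSucc 289, 29), (.negSucc 274,
  32), (.negSucc 118, 36), (.ofNat 81, 37), (.ofNat 12, 46), (.ofNat 255, 52), (.ofNat 30, 53), (.negSucc 84, 57),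
  (.ofNat 155, 59), (.negSucc 640, 68), (.negSucc 523, 71), (.ofNat 223, 75), (.ofNat 10, 77), (.ofNat 226, 81),
  (.ofNat 161, 84), (.negSucc 119, 85), (.ofNat 20, 86)])])

/-- a candidate -/
def c104 : ℕ × ℕ × List Step :=
  (14748372172800, 35, [(0, 0, .ofNat 2187, 0, [(.ofNat 45, 1), (.negSucc 567, 2), (.ofNat 93, 3), (.ofNat 1016, 4),
  (.negSucc 94, 5), (.negSucc 405, 7), (.negSucc 825, 8), (.ofNat 69, 9), (.ofNat 549, 10), (.negSucc 211, 11),
  (.negSucc 471, 13), (.negSucc 263, 16), (.negSucc 691, 17), (.ofNat 339, 20), (.negSucc 430, 21), (.negSucc 285,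
  24), (.negSucc 725, 27), (.negSucc 411, 28), (.negSucc 303, 29), (.ofNat 546, 30), (.ofNat 227, 31), (.negSucc 112,
  38), (.ofNat 106, 39), (.ofNat 200, 41), (.negSucc 475, 45), (.negSucc 133, 46), (.ofNat 78, 49), (.ofNat 69, 50),
  (.negSucc 214, 51), (.negSucc 18, 52), (.negSucc 438, 53), (.ofNat 187, 54), (.ofNat 467, 55), (.negSucc 149, 57),
  (.ofNat 90, 61), (.negSucc 548, 65), (.ofNat 76, 68), (.negSucc 841, 69), (.negSucc 838, 71), (.negSucc 780, 78),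
  (.negSucc 114, 85), (.ofNat 35, 86), (.ofNat 12, 88), (.ofNat 255, 90), (.negSucc 142, 92)])])

/-- a candidate -/
def c105 : ℕ × ℕ × List Step :=
  (14748372172800, 175, [(0, 0, .ofNat 6561, 0, [(.negSucc 2259, 2), (.ofNat 1113, 3), (.ofNat 2847, 4), (.negSucc
  1279, 5), (.negSucc 1251, 7), (.negSucc 2398, 8), (.ofNat 1800, 10), (.negSucc 61, 11), (.negSucc 585, 13),
  (.negSucc 149, 16), (.negSucc 1441, 17), (.ofNat 426, 20), (.negSucc 322, 21), (.ofNat 31, 22), (.negSucc 290, 23),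
  (.negSucc 2121, 24), (.negSucc 2060, 27), (.negSucc 353, 28), (.negSucc 1170, 29), (.ofNat 518, 30), (.ofNat 833,
  31), (.negSucc 413, 34), (.ofNat 141, 41), (.negSucc 425, 45), (.negSucc 52, 48), (.ofNat 323, 52), (.ofNat 1555,
  61), (.negSucc 419, 65), (.negSucc 1161, 66), (.negSucc 2637, 69), (.negSucc 2060, 71), (.ofNat 106, 74), (.negSucc
  1831, 78), (.negSucc 474, 85), (.ofNat 251, 90), (.negSucc 33, 92)])])

/-- a candidate -/
def c106 : ℕ × ℕ × List Step :=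
  (15119385910272, 7, [(0, 0, .ofNat 243, 0, [(.negSucc 62, 2), (.ofNat 37, 3), (.ofNat 101, 4), (.negSucc 114, 5),
  (.negSucc 93, 8), (.ofNat 1, 9), (.ofNat 35, 10), (.negSucc 17, 11), (.negSucc 31, 13), (.negSucc 6, 16), (.negSucc
  33, 17), (.ofNat 18, 20), (.ofNat 35, 22), (.negSucc 58, 24), (.negSucc 45, 27), (.negSucc 20, 28), (.negSucc 14,
  29), (.ofNat 20, 31), (.negSucc 3, 32), (.negSucc 0, 40), (.ofNat 7, 41), (.negSucc 18, 45), (.ofNat 13, 49),
  (.ofNat 77, 52), (.ofNat 3, 53), (.negSucc 30, 55), (.negSucc 3, 66), (.negSucc 100, 68), (.negSucc 63, 69),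
  (.negSucc 45, 71), (.ofNat 1, 84), (.negSucc 13, 85)])])

/-- a candidate -/
def c107 : ℕ × ℕ × List Step :=
  (22568879259648, 3, [(0, 0, .ofNat 59049, 0, [(.ofNat 1832, 1), (.ofNat 2656, 6), (.negSucc 24770, 8), (.ofNat
  8470, 10), (.ofNat 8557, 11), (.negSucc 2548, 12), (.negSucc 2929, 13), (.ofNat 6514, 15), (.ofNat 8631, 20),
  (.ofNat 1135, 25), (.negSucc 20437, 27), (.negSucc 9566, 28), (.ofNat 10114, 31), (.negSucc 5084, 32), (.ofNat
  1025, 35), (.negSucc 27518, 36), (.ofNat 328, 41), (.ofNat 110, 42), (.ofNat 21551, 45), (.ofNat 3115, 46), (.ofNat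
  3706, 47), (.negSucc 5664, 48), (.ofNat 3086, 49), (.ofNat 5592, 52), (.negSucc 1195, 55), (.negSucc 9566, 57),
  (.negSucc 4642, 63), (.negSucc 2124, 64), (.ofNat 6946, 67), (.ofNat 7576, 69), (.negSucc 3943, 78), (.ofNat 5447,
  79), (.negSucc 10357, 81), (.ofNat 3183, 84), (.ofNat 3756, 85), (.negSucc 10689, 90), (.ofNat 1635, 93)])])

/-- a candidate -/
def c108 : ℕ × ℕ × List Step :=
  (22568879259648, 9, [(0, 0, .ofNat 59049, 0, [(.ofNat 1832, 1), (.ofNat 2656, 6), (.negSucc 24770, 8), (.ofNat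
  8470, 10), (.ofNat 8557, 11), (.negSucc 2548, 12), (.negSucc 2929, 13), (.ofNat 6514, 15), (.ofNat 8631, 20),
  (.ofNat 1135, 25), (.negSucc 20437, 27), (.negSucc 9566, 28), (.ofNat 10114, 31), (.negSucc 5084, 32), (.ofNat
  1025, 35), (.negSucc 27518, 36), (.ofNat 328, 41), (.ofNat 110, 42), (.ofNat 21551, 45), (.ofNat 3115, 46), (.ofNat
  3706, 47), (.negSucc 5664, 48), (.ofNat 3086, 49), (.ofNat 5592, 52), (.negSucc 1195, 55), (.negSucc 9566, 57),
  (.negSucc 4642, 63), (.negSucc 2124, 64), (.ofNat 6946, 67), (.ofNat 7576, 69), (.negSucc 3943, 78), (.ofNat 5447,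
  79), (.negSucc 10357, 81), (.ofNat 3183, 84), (.ofNat 3756, 85), (.negSucc 10689, 90), (.ofNat 1635, 93)])])

/-- a candidate -/
def c109 : ℕ × ℕ × List Step :=
  (22568879259648, 27, [(0, 0, .ofNat 6561, 0, [(.ofNat 407, 4), (.ofNat 919, 6), (.ofNat 401, 10), (.negSucc 780,
  12), (.negSucc 174, 14), (.ofNat 728, 15), (.ofNat 116, 20), (.ofNat 236, 21), (.ofNat 87, 22), (.ofNat 1035, 23),
  (.ofNat 167, 25), (.negSucc 3131, 27), (.negSucc 1089, 28), (.ofNat 785, 31), (.negSucc 634, 32), (.ofNat 114, 35),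
  (.negSucc 5539, 36), (.ofNat 17, 38), (.ofNat 651, 41), (.ofNat 278, 42), (.ofNat 3203, 45), (.negSucc 521, 48),
  (.ofNat 301, 49), (.negSucc 914, 57), (.ofNat 1106, 58), (.negSucc 108, 60), (.negSucc 1585, 63), (.negSucc 258,
  64), (.ofNat 331, 67), (.ofNat 689, 69), (.negSucc 125, 70), (.ofNat 1105, 72), (.ofNat 74, 74), (.negSucc 498,
  78), (.negSucc 1502, 81), (.ofNat 559, 84), (.ofNat 460, 85), (.ofNat 189, 86), (.negSucc 29, 89), (.negSucc 1449,
  90)])])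

/-- a candidate -/
def c110 : ℕ × ℕ × List Step :=
  (23509249228800, 5, [(0, 0, .ofNat 59049, 0, [(.ofNat 11284, 4), (.ofNat 11383, 6), (.negSucc 24498, 8), (.ofNat
  12787, 10), (.ofNat 7096, 15), (.negSucc 4981, 17), (.ofNat 6056, 20), (.negSucc 10998, 21), (.negSucc 1420, 24),
  (.ofNat 368, 25), (.negSucc 20423, 27), (.negSucc 10302, 28), (.negSucc 1604, 29), (.ofNat 2655, 30), (.ofNat 5638,
  31), (.negSucc 7361, 32), (.negSucc 14113, 36), (.negSucc 3446, 38), (.ofNat 3260, 39), (.ofNat 1997, 41), (.ofNat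
  359, 42), (.ofNat 6263, 45), (.ofNat 7451, 49), (.negSucc 170, 52), (.negSucc 11715, 53), (.ofNat 207, 54), (.ofNat
  10804, 55), (.negSucc 12635, 56), (.negSucc 10074, 57), (.ofNat 6646, 61), (.ofNat 7065, 68), (.negSucc 11249, 78),
  (.negSucc 956, 82), (.ofNat 2769, 83), (.ofNat 1979, 84), (.ofNat 2458, 85), (.negSucc 9552, 90), (.negSucc 3881,
  92)])])

/-- a candidate -/
def c111 : ℕ × ℕ × List Step :=
  (26878908284928, 7, [(0, 0, .ofNat 729, 0, [(.negSucc 183, 2), (.ofNat 106, 3), (.ofNat 305, 4), (.negSucc 345, 5),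
  (.negSucc 284, 8), (.ofNat 111, 10), (.negSucc 61, 11), (.negSucc 97, 13), (.negSucc 10, 16), (.negSucc 99, 17),
  (.ofNat 68, 20), (.ofNat 108, 22), (.negSucc 176, 24), (.negSucc 134, 27), (.negSucc 57, 28), (.negSucc 39, 29),
  (.ofNat 59, 31), (.negSucc 11, 32), (.negSucc 2, 40), (.ofNat 17, 41), (.negSucc 67, 45), (.ofNat 46, 49), (.ofNat
  230, 52), (.ofNat 9, 53), (.negSucc 86, 55), (.negSucc 12, 66), (.negSucc 308, 68), (.negSucc 190, 69), (.negSucc
  134, 71), (.negSucc 38, 85)])])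

/-- a candidate -/
def c112 : ℕ × ℕ × List Step :=
  (27862813900800, 5, [(0, 0, .ofNat 59049, 0, [(.negSucc 4528, 3), (.ofNat 7247, 4), (.ofNat 12281, 6), (.ofNat
  14984, 10), (.negSucc 4136, 12), (.ofNat 4654, 15), (.ofNat 2659, 16), (.negSucc 11024, 17), (.negSucc 2896, 19),
  (.ofNat 7072, 20), (.negSucc 9701, 21), (.ofNat 1010, 23), (.negSucc 756, 24), (.ofNat 6825, 25), (.negSucc 7059,
  28), (.negSucc 3196, 29), (.ofNat 995, 31), (.negSucc 6914, 32), (.negSucc 5626, 34), (.negSucc 1214, 35),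
  (.negSucc 26255, 36), (.negSucc 9924, 37), (.ofNat 2544, 39), (.negSucc 1801, 40), (.ofNat 7449, 41), (.negSucc
  5316, 43), (.ofNat 19757, 45), (.negSucc 4136, 46), (.ofNat 284, 49), (.negSucc 2179, 51), (.negSucc 12684, 52),
  (.negSucc 8578, 53), (.ofNat 7217, 55), (.negSucc 8928, 56), (.negSucc 7059, 57), (.ofNat 77, 60), (.negSucc 427,
  62), (.negSucc 4792, 63), (.ofNat 335, 64), (.ofNat 3921, 66), (.ofNat 5006, 68), (.ofNat 8529, 69), (.negSucc
  6534, 72), (.ofNat 553, 77), (.negSucc 12309, 78), (.negSucc 10520, 79), (.ofNat 2067, 80), (.ofNat 7301, 84),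
  (.ofNat 2525, 85), (.negSucc 4452, 87), (.negSucc 13303, 90), (.negSucc 5149, 92), (.negSucc 1467, 93)])])

/-- a candidate -/
def c113 : ℕ × ℕ × List Step :=
  (27862813900800, 10, [(0, 0, .ofNat 19683, 0, [(.ofNat 3464, 4), (.ofNat 4166, 6), (.ofNat 6259, 10), (.negSucc
  830, 12), (.ofNat 1596, 15), (.ofNat 939, 16), (.negSucc 3959, 17), (.ofNat 225, 18), (.negSucc 1046, 19), (.ofNat
  2346, 20), (.negSucc 3424, 21), (.ofNat 138, 23), (.negSucc 974, 24), (.ofNat 2189, 25), (.negSucc 696, 27),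
  (.negSucc 2366, 28), (.ofNat 852, 31), (.negSucc 2599, 32), (.negSucc 1558, 34), (.negSucc 348, 35), (.negSucc
  8141, 36), (.negSucc 2312, 37), (.ofNat 842, 39), (.negSucc 533, 40), (.ofNat 2487, 41), (.ofNat 61, 42), (.negSucc
  2380, 43), (.ofNat 5054, 45), (.negSucc 891, 46), (.ofNat 309, 49), (.negSucc 451, 51), (.negSucc 3395, 52),
  (.negSucc 2743, 53), (.ofNat 2621, 55), (.negSucc 4677, 56), (.negSucc 2170, 57), (.negSucc 1479, 63), (.ofNat
  1280, 66), (.ofNat 1290, 68), (.ofNat 2140, 69), (.ofNat 1029, 71), (.negSucc 1638, 72), (.ofNat 601, 73),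
  (.negSucc 4529, 78), (.negSucc 2980, 79), (.ofNat 1606, 80), (.ofNat 1819, 84), (.ofNat 765, 85), (.negSucc 2290,
  87), (.negSucc 5184, 90), (.negSucc 1506, 92), (.negSucc 385, 93)])])

/-- a candidate -/
def c114 : ℕ × ℕ × List Step :=
  (30091839012864, 2, [(0, 0, .ofNat 2187, 0, [(.ofNat 767, 4), (.negSucc 841, 8), (.ofNat 516, 10), (.ofNat 8, 11),
  (.ofNat 84, 18), (.ofNat 40, 20), (.negSucc 180, 21), (.ofNat 291, 22), (.ofNat 343, 25), (.ofNat 123, 26),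
  (.negSucc 332, 27), (.negSucc 162, 28), (.negSucc 289, 29), (.negSucc 162, 32), (.ofNat 26, 35), (.negSucc 338,
  36), (.negSucc 454, 38), (.ofNat 271, 45), (.ofNat 97, 46), (.negSucc 162, 57), (.ofNat 87, 59), (.ofNat 20, 77),
  (.ofNat 163, 86), (.negSucc 92, 92)])])

/-- a candidate -/
def c115 : ℕ × ℕ × List Step :=
  (30091839012864, 4, [(0, 0, .ofNat 19683, 0, [(.ofNat 1044, 1), (.ofNat 4528, 4), (.negSucc 12017, 8), (.ofNat
  8354, 10), (.ofNat 1377, 15), (.ofNat 1520, 20), (.ofNat 1513, 25), (.ofNat 1272, 26), (.negSucc 1794, 27),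
  (.negSucc 1443, 28), (.negSucc 1814, 29), (.negSucc 926, 32), (.negSucc 4472, 36), (.negSucc 1389, 38), (.ofNat
  4191, 39), (.ofNat 4226, 45), (.negSucc 1570, 48), (.ofNat 108, 49), (.negSucc 1705, 55), (.negSucc 1443, 57),
  (.ofNat 761, 59), (.negSucc 477, 64), (.ofNat 342, 72), (.ofNat 13, 78), (.negSucc 490, 82), (.ofNat 490, 86),
  (.negSucc 748, 88), (.negSucc 102, 92), (.negSucc 245, 93)])])

/-- a candidate -/
def c116 : ℕ × ℕ × List Step :=
  (30091839012864, 8, [(0, 0, .ofNat 19683, 0, [(.ofNat 1044, 1), (.ofNat 4528, 4), (.negSucc 12017, 8), (.ofNat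
  8354, 10), (.ofNat 1377, 15), (.ofNat 1520, 20), (.ofNat 1513, 25), (.ofNat 1272, 26), (.negSucc 1794, 27),
  (.negSucc 1443, 28), (.negSucc 1814, 29), (.negSucc 926, 32), (.negSucc 4472, 36), (.negSucc 1389, 38), (.ofNat
  4191, 39), (.ofNat 4226, 45), (.negSucc 1570, 48), (.ofNat 108, 49), (.negSucc 1705, 55), (.negSucc 1443, 57),
  (.ofNat 761, 59), (.negSucc 477, 64), (.ofNat 342, 72), (.ofNat 13, 78), (.negSucc 490, 82), (.ofNat 490, 86),
  (.negSucc 748, 88), (.negSucc 102, 92), (.negSucc 245, 93)])])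

/-- a candidate -/
def c117 : ℕ × ℕ × List Step :=
  (30091839012864, 16, [(0, 0, .ofNat 19683, 0, [(.ofNat 1044, 1), (.ofNat 4528, 4), (.negSucc 12017, 8), (.ofNat
  8354, 10), (.ofNat 1377, 15), (.ofNat 1520, 20), (.ofNat 1513, 25), (.ofNat 1272, 26), (.negSucc 1794, 27),
  (.negSucc 1443, 28), (.negSucc 1814, 29), (.negSucc 926, 32), (.negSucc 4472, 36), (.negSucc 1389, 38), (.ofNat
  4191, 39), (.ofNat 4226, 45), (.negSucc 1570, 48), (.ofNat 108, 49), (.negSucc 1705, 55), (.negSucc 1443, 57),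
  (.ofNat 761, 59), (.negSucc 477, 64), (.ofNat 342, 72), (.ofNat 13, 78), (.negSucc 490, 82), (.ofNat 490, 86),
  (.negSucc 748, 88), (.negSucc 102, 92), (.negSucc 245, 93)])])

/-- a candidate -/
def c118 : ℕ × ℕ × List Step :=
  (47784725839872, 7, [(0, 0, .ofNat 729, 0, [(.negSucc 183, 2), (.ofNat 106, 3), (.ofNat 305, 4), (.negSucc 346, 5),
  (.negSucc 283, 8), (.ofNat 111, 10), (.negSucc 61, 11), (.negSucc 98, 13), (.negSucc 10, 16), (.negSucc 99, 17),
  (.ofNat 68, 20), (.ofNat 108, 22), (.negSucc 176, 24), (.negSucc 133, 27), (.negSucc 57, 28), (.negSucc 38, 29),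
  (.ofNat 59, 31), (.negSucc 11, 32), (.negSucc 3, 40), (.ofNat 17, 41), (.negSucc 67, 45), (.ofNat 47, 49), (.ofNat
  230, 52), (.ofNat 9, 53), (.negSucc 86, 55), (.negSucc 12, 66), (.negSucc 309, 68), (.negSucc 190, 69), (.negSucc
  133, 71), (.negSucc 38, 85)])])

/-- a candidate -/
def c119 : ℕ × ℕ × List Step :=
  (47784725839872, 49, [(0, 0, .ofNat 59049, 0, [(.ofNat 7107, 1), (.ofNat 684, 3), (.ofNat 31260, 4), (.negSucc
  10659, 7), (.ofNat 14661, 10), (.negSucc 16921, 13), (.ofNat 1770, 15), (.negSucc 14202, 17), (.ofNat 19055, 20),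
  (.ofNat 6595, 21), (.ofNat 1648, 22), (.negSucc 525, 24), (.negSucc 13129, 27), (.ofNat 2975, 31), (.negSucc 1183,
  32), (.ofNat 6419, 33), (.negSucc 4987, 34), (.negSucc 9856, 36), (.ofNat 11087, 37), (.ofNat 7297, 38), (.ofNat
  1057, 39), (.negSucc 3263, 40), (.ofNat 5348, 41), (.negSucc 17284, 45), (.negSucc 192, 46), (.negSucc 721, 47),
  (.negSucc 7543, 48), (.ofNat 11907, 49), (.negSucc 4818, 51), (.ofNat 12993, 52), (.negSucc 11784, 63), (.negSucc
  1739, 66), (.ofNat 4287, 67), (.negSucc 13396, 69), (.negSucc 2660, 70), (.negSucc 8667, 71), (.ofNat 11418, 72),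
  (.ofNat 636, 73), (.ofNat 3501, 74), (.ofNat 4153, 77), (.negSucc 7354, 85), (.ofNat 1054, 86), (.negSucc 57, 87),
  (.ofNat 2127, 88), (.ofNat 17219, 90)])])

/-- candidates -/
def CL5 : List (ℕ × ℕ × List Step) :=
  [c100, c101, c102, c103, c104, c105, c106, c107, c108, c109, c110, c111, c112, c113, c114, c115, c116, c117, c118,
  c119]

theorem okC5 : okL TAB.F24.DT R 2 P Z CL5 = true := by decide +kernel

/-- a candidate -/
def c120 : ℕ × ℕ × List Step :=
  (62691331276800, 5, [(0, 0, .ofNat 6561, 0, [(.ofNat 584, 4), (.ofNat 1250, 6), (.negSucc 2682, 8), (.ofNat 1582,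
  10), (.ofNat 621, 15), (.ofNat 1119, 20), (.negSucc 2, 22), (.negSucc 673, 24), (.negSucc 2273, 27), (.negSucc
  1217, 28), (.ofNat 246, 31), (.negSucc 1028, 32), (.negSucc 1684, 36), (.negSucc 51, 38), (.ofNat 291, 39),
  (.negSucc 302, 40), (.ofNat 594, 41), (.negSucc 347, 43), (.ofNat 1221, 45), (.negSucc 454, 48), (.ofNat 595, 49),
  (.negSucc 1701, 53), (.ofNat 1636, 55), (.negSucc 1863, 56), (.negSucc 1217, 57), (.ofNat 268, 59), (.ofNat 456,
  61), (.ofNat 813, 68), (.ofNat 583, 70), (.negSucc 115, 76), (.negSucc 2052, 78), (.ofNat 1028, 79), (.negSucc 203,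
  80), (.ofNat 151, 84), (.ofNat 259, 85), (.negSucc 703, 87), (.negSucc 1574, 90), (.negSucc 476, 92)])])

/-- a candidate -/
def c121 : ℕ × ℕ × List Step :=
  (90275517038592, 2, [(0, 0, .ofNat 2187, 0, [(.ofNat 347, 4), (.negSucc 764, 5), (.negSucc 1070, 8), (.ofNat 576,
  10), (.ofNat 41, 22), (.negSucc 89, 23), (.negSucc 288, 24), (.ofNat 376, 25), (.negSucc 299, 27), (.negSucc 206,
  28), (.negSucc 27, 29), (.ofNat 50, 31), (.ofNat 63, 33), (.negSucc 106, 36), (.negSucc 24, 38), (.ofNat 139, 39),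
  (.ofNat 80, 43), (.ofNat 388, 45), (.negSucc 18, 48), (.negSucc 331, 55), (.negSucc 216, 57), (.negSucc 10, 70),
  (.ofNat 110, 73), (.ofNat 6, 89)])])

/-- a candidate -/
def c122 : ℕ × ℕ × List Step :=
  (90275517038592, 3, [(0, 0, .ofNat 59049, 0, [(.negSucc 10291, 3), (.ofNat 10695, 6), (.negSucc 24386, 8), (.ofNat
  6926, 10), (.ofNat 8963, 11), (.negSucc 2554, 13), (.ofNat 361, 16), (.ofNat 8101, 20), (.ofNat 4427, 25),
  (.negSucc 20279, 27), (.negSucc 10159, 28), (.ofNat 8889, 31), (.negSucc 6253, 32), (.ofNat 56, 35), (.negSucc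
  22577, 36), (.ofNat 247, 40), (.ofNat 20414, 45), (.ofNat 1395, 46), (.ofNat 1900, 47), (.negSucc 5425, 48),
  (.ofNat 4186, 49), (.negSucc 10159, 57), (.negSucc 1098, 63), (.negSucc 2275, 64), (.ofNat 7334, 67), (.ofNat 9333,
  69), (.negSucc 4946, 78), (.ofNat 2785, 79), (.negSucc 11967, 81), (.negSucc 1943, 83), (.ofNat 3149, 84),
  (.negSucc 10382, 90), (.ofNat 1343, 93)])])

/-- a candidate -/
def c123 : ℕ × ℕ × List Step :=
  (90275517038592, 6, [(0, 0, .ofNat 6561, 0, [(.ofNat 165, 1), (.ofNat 313, 6), (.negSucc 2703, 8), (.ofNat 937,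
  10), (.ofNat 908, 11), (.negSucc 297, 12), (.negSucc 312, 13), (.ofNat 765, 15), (.ofNat 962, 20), (.ofNat 119,
  25), (.negSucc 2180, 27), (.negSucc 1043, 28), (.ofNat 1110, 31), (.negSucc 522, 32), (.ofNat 121, 35), (.negSucc
  3115, 36), (.ofNat 58, 41), (.ofNat 13, 42), (.ofNat 2453, 45), (.ofNat 356, 46), (.ofNat 406, 47), (.negSucc 621,
  48), (.ofNat 334, 49), (.ofNat 583, 52), (.negSucc 104, 55), (.negSucc 1043, 57), (.negSucc 532, 63), (.negSucc
  245, 64), (.ofNat 759, 67), (.ofNat 886, 69), (.negSucc 420, 78), (.ofNat 602, 79), (.negSucc 1190, 81), (.ofNat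
  378, 84), (.ofNat 454, 85), (.ofNat 18, 86), (.negSucc 1193, 90), (.ofNat 157, 93)])])

/-- a candidate -/
def c124 : ℕ × ℕ × List Step :=
  (120955087282176, 7, [(0, 0, .ofNat 729, 0, [(.negSucc 183, 2), (.ofNat 106, 3), (.ofNat 305, 4), (.negSucc 346,
  5), (.negSucc 283, 8), (.ofNat 111, 10), (.negSucc 61, 11), (.negSucc 98, 13), (.negSucc 10, 16), (.negSucc 99,
  17), (.ofNat 68, 20), (.ofNat 108, 22), (.negSucc 176, 24), (.negSucc 133, 27), (.negSucc 57, 28), (.negSucc 38,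
  29), (.ofNat 59, 31), (.negSucc 11, 32), (.negSucc 3, 40), (.ofNat 17, 41), (.negSucc 67, 45), (.ofNat 47, 49),
  (.ofNat 230, 52), (.ofNat 9, 53), (.negSucc 86, 55), (.negSucc 12, 66), (.negSucc 309, 68), (.negSucc 190, 69),
  (.negSucc 133, 71), (.negSucc 38, 85)])])

/-- a candidate -/
def c125 : ℕ × ℕ × List Step :=
  (120955087282176, 21, [(0, 0, .ofNat 59049, 0, [(.ofNat 135, 1), (.negSucc 8330, 2), (.ofNat 10235, 3), (.ofNat
  12138, 4), (.negSucc 36689, 5), (.ofNat 3332, 7), (.negSucc 17959, 8), (.ofNat 8947, 10), (.negSucc 1305, 11),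
  (.negSucc 7140, 12), (.negSucc 1656, 13), (.ofNat 7229, 20), (.ofNat 4558, 22), (.negSucc 11165, 24), (.ofNat 704,
  25), (.negSucc 11464, 27), (.negSucc 7468, 28), (.negSucc 1866, 29), (.ofNat 9756, 30), (.ofNat 9122, 31),
  (.negSucc 4299, 32), (.ofNat 12360, 38), (.ofNat 1092, 41), (.negSucc 144, 44), (.negSucc 6659, 45), (.ofNat 2748,
  49), (.ofNat 24152, 52), (.ofNat 7285, 53), (.negSucc 15604, 55), (.negSucc 9295, 57), (.negSucc 2346, 64), (.ofNat
  7232, 65), (.negSucc 21979, 68), (.negSucc 7240, 69), (.negSucc 11599, 71), (.negSucc 2014, 74), (.ofNat 1961, 75),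
  (.ofNat 1451, 79), (.negSucc 107, 83), (.ofNat 1452, 86), (.ofNat 1912, 90)])])

/-- a candidate -/
def c126 : ℕ × ℕ × List Step :=
  (120955087282176, 49, [(0, 0, .ofNat 2187, 0, [(.negSucc 812, 2), (.ofNat 320, 3), (.ofNat 756, 4), (.negSucc 875,
  5), (.negSucc 777, 8), (.ofNat 7, 9), (.ofNat 293, 10), (.negSucc 401, 17), (.negSucc 87, 19), (.ofNat 419, 22),
  (.negSucc 508, 24), (.negSucc 496, 27), (.negSucc 274, 28), (.negSucc 377, 29), (.ofNat 216, 31), (.negSucc 16,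
  34), (.negSucc 20, 40), (.ofNat 216, 41), (.ofNat 37, 43), (.negSucc 13, 45), (.ofNat 746, 52), (.negSucc 304, 55),
  (.negSucc 89, 57), (.ofNat 45, 65), (.negSucc 267, 66), (.negSucc 529, 68), (.negSucc 602, 69), (.negSucc 503, 71),
  (.negSucc 224, 85), (.ofNat 4, 88), (.ofNat 32, 90)])])

/-- a candidate -/
def c127 : ℕ × ℕ × List Step :=
  (120955087282176, 63, [(0, 0, .ofNat 59049, 0, [(.ofNat 135, 1), (.negSucc 8330, 2), (.ofNat 10235, 3), (.ofNat
  12138, 4), (.negSucc 36689, 5), (.ofNat 3332, 7), (.negSucc 17959, 8), (.ofNat 8947, 10), (.negSucc 1305, 11),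
  (.negSucc 7140, 12), (.negSucc 1656, 13), (.ofNat 7229, 20), (.ofNat 4558, 22), (.negSucc 11165, 24), (.ofNat 704,
  25), (.negSucc 11464, 27), (.negSucc 7468, 28), (.negSucc 1866, 29), (.ofNat 9756, 30), (.ofNat 9122, 31),
  (.negSucc 4299, 32), (.ofNat 12360, 38), (.ofNat 1092, 41), (.negSucc 144, 44), (.negSucc 6659, 45), (.ofNat 2748,
  49), (.ofNat 24152, 52), (.ofNat 7285, 53), (.negSucc 15604, 55), (.negSucc 9295, 57), (.negSucc 2346, 64), (.ofNat
  7232, 65), (.negSucc 21979, 68), (.negSucc 7240, 69), (.negSucc 11599, 71), (.negSucc 2014, 74), (.ofNat 1961, 75),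
  (.ofNat 1451, 79), (.negSucc 107, 83), (.ofNat 1452, 86), (.ofNat 1912, 90)])])

/-- a candidate -/
def c128 : ℕ × ℕ × List Step :=
  (120955087282176, 147, [(0, 0, .ofNat 59049, 0, [(.ofNat 6193, 1), (.ofNat 2572, 3), (.ofNat 5963, 4), (.ofNat
  2678, 6), (.negSucc 9706, 7), (.negSucc 27645, 8), (.ofNat 9244, 10), (.ofNat 1021, 16), (.negSucc 2111, 19),
  (.ofNat 10488, 20), (.negSucc 15309, 24), (.negSucc 4750, 26), (.negSucc 23766, 27), (.negSucc 19132, 28),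
  (.negSucc 3590, 29), (.ofNat 32459, 30), (.ofNat 17022, 31), (.negSucc 4475, 32), (.ofNat 19394, 38), (.negSucc
  2443, 40), (.negSucc 2449, 43), (.negSucc 14001, 45), (.ofNat 1226, 46), (.negSucc 17470, 48), (.ofNat 1528, 49),
  (.ofNat 3644, 50), (.negSucc 338, 51), (.ofNat 16758, 52), (.ofNat 7349, 53), (.negSucc 2342, 55), (.negSucc 1872,
  56), (.negSucc 19132, 57), (.ofNat 6299, 61), (.ofNat 10901, 62), (.negSucc 5656, 63), (.negSucc 12801, 64),
  (.negSucc 1948, 69), (.negSucc 6038, 70), (.negSucc 29959, 71), (.negSucc 356, 77), (.ofNat 203, 79), (.negSucc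
  6473, 80), (.negSucc 3911, 85), (.ofNat 1165, 86), (.ofNat 3252, 90), (.ofNat 769, 93)])])

/-- a candidate -/
def c129 : ℕ × ℕ × List Step :=
  (120955087282176, 441, [(0, 0, .ofNat 19683, 0, [(.ofNat 2136, 1), (.ofNat 866, 3), (.ofNat 2301, 4), (.ofNat 910,
  6), (.negSucc 3822, 7), (.negSucc 8927, 8), (.ofNat 2152, 10), (.ofNat 198, 16), (.ofNat 92, 17), (.negSucc 495,
  19), (.ofNat 2713, 20), (.ofNat 1304, 21), (.negSucc 3939, 24), (.negSucc 327, 26), (.negSucc 8151, 27), (.negSucc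
  6187, 28), (.ofNat 9670, 30), (.ofNat 3542, 31), (.negSucc 2617, 32), (.ofNat 7235, 38), (.negSucc 952, 40),
  (.negSucc 768, 43), (.negSucc 3687, 45), (.ofNat 719, 46), (.negSucc 6203, 48), (.ofNat 1563, 49), (.negSucc 364,
  51), (.ofNat 6081, 52), (.ofNat 3608, 53), (.negSucc 2099, 55), (.negSucc 6187, 57), (.ofNat 1910, 61), (.ofNat
  4378, 62), (.negSucc 1854, 63), (.negSucc 4737, 64), (.negSucc 644, 69), (.negSucc 3078, 70), (.negSucc 10287, 71),
  (.ofNat 252, 72), (.negSucc 139, 74), (.negSucc 2933, 80), (.negSucc 1496, 85), (.ofNat 368, 86), (.ofNat 1144,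
  90), (.ofNat 381, 93)])])

/-- a candidate -/
def c130 : ℕ × ℕ × List Step :=
  (141055495372800, 5, [(0, 0, .ofNat 6561, 0, [(.ofNat 1244, 4), (.ofNat 1231, 6), (.negSucc 2735, 8), (.ofNat 1445,
  10), (.ofNat 860, 15), (.negSucc 508, 17), (.ofNat 625, 20), (.negSucc 1219, 21), (.negSucc 198, 24), (.ofNat 12,
  25), (.negSucc 2282, 27), (.negSucc 1155, 28), (.negSucc 93, 29), (.ofNat 282, 30), (.ofNat 683, 31), (.negSucc
  734, 32), (.negSucc 1632, 36), (.negSucc 331, 38), (.ofNat 360, 39), (.ofNat 191, 41), (.ofNat 20, 42), (.ofNat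
  713, 45), (.ofNat 798, 49), (.negSucc 1306, 53), (.ofNat 27, 54), (.ofNat 1195, 55), (.negSucc 1439, 56), (.negSucc
  1125, 57), (.ofNat 28, 59), (.ofNat 720, 61), (.ofNat 773, 68), (.ofNat 96, 73), (.negSucc 1264, 78), (.negSucc 73,
  82), (.ofNat 257, 83), (.ofNat 252, 84), (.ofNat 354, 85), (.negSucc 1022, 90), (.negSucc 421, 92)])])

/-- a candidate -/
def c131 : ℕ × ℕ × List Step :=
  (141055495372800, 15, [(0, 0, .ofNat 2187, 0, [(.ofNat 241, 4), (.ofNat 632, 6), (.negSucc 1034, 8), (.ofNat 174,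
  10), (.ofNat 40, 11), (.ofNat 336, 15), (.ofNat 76, 17), (.negSucc 59, 19), (.ofNat 212, 20), (.negSucc 307, 21),
  (.negSucc 384, 24), (.ofNat 327, 25), (.negSucc 1078, 27), (.negSucc 262, 28), (.ofNat 61, 29), (.ofNat 120, 31),
  (.negSucc 274, 32), (.negSucc 655, 36), (.negSucc 142, 38), (.negSucc 3, 39), (.ofNat 720, 45), (.negSucc 34, 48),
  (.ofNat 91, 49), (.negSucc 170, 52), (.negSucc 187, 53), (.ofNat 277, 55), (.negSucc 51, 56), (.negSucc 370, 57),
  (.ofNat 329, 61), (.ofNat 265, 69), (.ofNat 151, 71), (.negSucc 46, 76), (.negSucc 422, 78), (.ofNat 100, 79),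
  (.negSucc 115, 80), (.negSucc 322, 81), (.ofNat 3, 84), (.ofNat 370, 85), (.negSucc 58, 87), (.negSucc 424, 90),
  (.negSucc 53, 92)])])

/-- a candidate -/
def c132 : ℕ × ℕ × List Step :=
  (167993176780800, 35, [(0, 0, .ofNat 19683, 0, [(.ofNat 111, 1), (.negSucc 6209, 2), (.ofNat 1034, 3), (.ofNat
  8419, 4), (.negSucc 776, 5), (.negSucc 3737, 7), (.negSucc 6697, 8), (.ofNat 887, 9), (.ofNat 4850, 10), (.negSucc
  1406, 11), (.negSucc 4456, 13), (.negSucc 2363, 16), (.negSucc 6503, 17), (.ofNat 2846, 20), (.negSucc 3770, 21),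
  (.negSucc 2762, 24), (.negSucc 6697, 27), (.negSucc 3569, 28), (.negSucc 2796, 29), (.ofNat 4937, 30), (.ofNat
  2310, 31), (.negSucc 822, 38), (.ofNat 1247, 39), (.ofNat 1859, 41), (.negSucc 4121, 45), (.negSucc 812, 46),
  (.ofNat 649, 49), (.ofNat 21, 50), (.negSucc 1920, 51), (.negSucc 353, 52), (.negSucc 4153, 53), (.ofNat 1672, 54),
  (.ofNat 3859, 55), (.negSucc 1396, 57), (.ofNat 264, 61), (.negSucc 4559, 65), (.ofNat 1752, 68), (.negSucc 7295,
  69), (.negSucc 7695, 71), (.negSucc 6721, 78), (.negSucc 248, 82), (.ofNat 185, 83), (.negSucc 832, 85), (.ofNat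
  185, 86), (.ofNat 139, 88), (.ofNat 2976, 90), (.negSucc 1246, 92)])])

/-- a candidate -/
def c133 : ℕ × ℕ × List Step :=
  (215031266279424, 7, [(0, 0, .ofNat 729, 0, [(.negSucc 183, 2), (.ofNat 106, 3), (.ofNat 305, 4), (.negSucc 346,
  5), (.negSucc 283, 8), (.ofNat 111, 10), (.negSucc 61, 11), (.negSucc 98, 13), (.negSucc 10, 16), (.negSucc 99,
  17), (.ofNat 68, 20), (.ofNat 108, 22), (.negSucc 176, 24), (.negSucc 133, 27), (.negSucc 57, 28), (.negSucc 38,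
  29), (.ofNat 59, 31), (.negSucc 11, 32), (.negSucc 3, 40), (.ofNat 17, 41), (.negSucc 67, 45), (.ofNat 47, 49),
  (.ofNat 230, 52), (.ofNat 9, 53), (.negSucc 86, 55), (.negSucc 12, 66), (.negSucc 309, 68), (.negSucc 190, 69),
  (.negSucc 133, 71), (.negSucc 38, 85)])])

/-- a candidate -/
def c134 : ℕ × ℕ × List Step :=
  (376147987660800, 5, [(0, 0, .ofNat 2187, 0, [(.ofNat 421, 4), (.ofNat 414, 6), (.negSucc 914, 8), (.ofNat 472,
  10), (.ofNat 275, 15), (.negSucc 12, 16), (.negSucc 186, 17), (.ofNat 226, 20), (.negSucc 407, 21), (.negSucc 42,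
  24), (.ofNat 10, 25), (.negSucc 755, 27), (.negSucc 383, 28), (.negSucc 67, 29), (.ofNat 82, 30), (.ofNat 194, 31),
  (.negSucc 268, 32), (.negSucc 526, 36), (.negSucc 120, 38), (.ofNat 117, 39), (.ofNat 81, 41), (.ofNat 10, 43),
  (.ofNat 235, 45), (.ofNat 272, 49), (.negSucc 445, 53), (.ofNat 5, 54), (.ofNat 403, 55), (.negSucc 472, 56),
  (.negSucc 364, 57), (.ofNat 2, 59), (.ofNat 244, 61), (.ofNat 257, 68), (.negSucc 412, 78), (.negSucc 24, 82),
  (.ofNat 107, 83), (.ofNat 78, 84), (.ofNat 82, 85), (.negSucc 375, 90), (.negSucc 144, 92)])])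

/-- a candidate -/
def c135 : ℕ × ℕ × List Step :=
  (382277806718976, 7, [(0, 0, .ofNat 729, 0, [(.negSucc 183, 2), (.ofNat 106, 3), (.ofNat 305, 4), (.negSucc 346,
  5), (.negSucc 283, 8), (.ofNat 111, 10), (.negSucc 61, 11), (.negSucc 98, 13), (.negSucc 10, 16), (.negSucc 99,
  17), (.ofNat 68, 20), (.ofNat 108, 22), (.negSucc 176, 24), (.negSucc 133, 27), (.negSucc 57, 28), (.negSucc 38,
  29), (.ofNat 59, 31), (.negSucc 11, 32), (.negSucc 3, 40), (.ofNat 17, 41), (.negSucc 67, 45), (.ofNat 47, 49),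
  (.ofNat 230, 52), (.ofNat 9, 53), (.negSucc 86, 55), (.negSucc 12, 66), (.negSucc 309, 68), (.negSucc 190, 69),
  (.negSucc 133, 71), (.negSucc 38, 85)])])

/-- a candidate -/
def c136 : ℕ × ℕ × List Step :=
  (382277806718976, 14, [(0, 0, .ofNat 729, 0, [(.negSucc 183, 2), (.ofNat 106, 3), (.ofNat 305, 4), (.negSucc 346,
  5), (.negSucc 283, 8), (.ofNat 111, 10), (.negSucc 61, 11), (.negSucc 98, 13), (.negSucc 10, 16), (.negSucc 99,
  17), (.ofNat 68, 20), (.ofNat 108, 22), (.negSucc 176, 24), (.negSucc 133, 27), (.negSucc 57, 28), (.negSucc 38,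
  29), (.ofNat 59, 31), (.negSucc 11, 32), (.negSucc 3, 40), (.ofNat 17, 41), (.negSucc 67, 45), (.ofNat 47, 49),
  (.ofNat 230, 52), (.ofNat 9, 53), (.negSucc 86, 55), (.negSucc 12, 66), (.negSucc 309, 68), (.negSucc 190, 69),
  (.negSucc 133, 71), (.negSucc 38, 85)])])

/-- a candidate -/
def c137 : ℕ × ℕ × List Step :=
  (382277806718976, 28, [(0, 0, .ofNat 6561, 0, [(.negSucc 1787, 2), (.ofNat 1062, 3), (.ofNat 1001, 4), (.negSucc
  3897, 5), (.negSucc 2295, 8), (.ofNat 75, 9), (.ofNat 481, 10), (.ofNat 5, 11), (.negSucc 261, 12), (.negSucc 550,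
  13), (.negSucc 1832, 24), (.negSucc 1662, 27), (.negSucc 930, 28), (.negSucc 754, 29), (.ofNat 903, 30), (.ofNat
  1385, 31), (.negSucc 391, 32), (.negSucc 45, 35), (.ofNat 694, 38), (.ofNat 199, 41), (.negSucc 138, 45), (.ofNat
  2711, 52), (.ofNat 743, 53), (.negSucc 1935, 55), (.negSucc 681, 57), (.ofNat 156, 63), (.ofNat 1109, 65),
  (.negSucc 2183, 68), (.negSucc 663, 69), (.negSucc 1727, 71), (.ofNat 257, 72), (.ofNat 311, 75), (.ofNat 10, 84),
  (.ofNat 161, 88)])])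

/-- a candidate -/
def c138 : ℕ × ℕ × List Step :=
  (530941398220800, 35, [(0, 0, .ofNat 2187, 0, [(.negSucc 569, 2), (.ofNat 541, 3), (.ofNat 455, 4), (.negSucc 694,
  5), (.negSucc 244, 7), (.negSucc 815, 8), (.ofNat 55, 9), (.ofNat 421, 10), (.negSucc 159, 12), (.negSucc 324, 13),
  (.ofNat 12, 15), (.negSucc 73, 17), (.ofNat 494, 20), (.negSucc 632, 21), (.negSucc 632, 24), (.negSucc 15, 25),
  (.negSucc 733, 27), (.negSucc 514, 28), (.negSucc 59, 29), (.ofNat 1180, 30), (.ofNat 431, 31), (.negSucc 256, 32),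
  (.negSucc 81, 38), (.ofNat 10, 39), (.ofNat 122, 41), (.ofNat 45, 43), (.negSucc 539, 45), (.ofNat 262, 49),
  (.ofNat 396, 50), (.negSucc 65, 52), (.negSucc 218, 53), (.ofNat 28, 54), (.ofNat 572, 55), (.negSucc 375, 56),
  (.negSucc 485, 57), (.ofNat 667, 61), (.negSucc 23, 66), (.ofNat 237, 68), (.negSucc 288, 69), (.ofNat 58, 70),
  (.negSucc 776, 71), (.ofNat 78, 72), (.negSucc 606, 78), (.ofNat 13, 83), (.negSucc 4, 85), (.ofNat 33, 88),
  (.ofNat 243, 90), (.negSucc 40, 92)])])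

/-- a candidate -/
def c139 : ℕ × ℕ × List Step :=
  (767341894828032, 17, [(0, 0, .ofNat 2187, 0, [(.negSucc 294, 2), (.ofNat 69, 4), (.negSucc 900, 5), (.ofNat 213,
  6), (.negSucc 844, 8), (.ofNat 292, 10), (.ofNat 132, 11), (.negSucc 19, 12), (.negSucc 65, 13), (.negSucc 542,
  24), (.ofNat 528, 25), (.negSucc 776, 27), (.negSucc 250, 28), (.negSucc 18, 29), (.ofNat 190, 31), (.negSucc 39,
  32), (.ofNat 82, 33), (.negSucc 15, 36), (.ofNat 41, 39), (.ofNat 400, 45), (.negSucc 35, 48), (.ofNat 125, 53),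
  (.negSucc 245, 55), (.negSucc 250, 57), (.ofNat 172, 69)])])

/-- candidates -/
def CL6 : List (ℕ × ℕ × List Step) :=
  [c120, c121, c122, c123, c124, c125, c126, c127, c128, c129, c130, c131, c132, c133, c134, c135, c136, c137, c138,
  c139]

theorem okC6 : okL TAB.F24.DT R 2 P Z CL6 = true := by decide +kernel

/-- a candidate -/
def c140 : ℕ × ℕ × List Step :=
  (767341894828032, 51, [(0, 0, .ofNat 6561, 0, [(.ofNat 581, 6), (.negSucc 2865, 8), (.ofNat 625, 10), (.ofNat 880,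
  11), (.negSucc 206, 12), (.negSucc 90, 13), (.ofNat 449, 15), (.ofNat 703, 20), (.ofNat 197, 25), (.negSucc 2421,
  27), (.negSucc 1179, 28), (.ofNat 1241, 31), (.negSucc 854, 32), (.ofNat 36, 35), (.negSucc 2999, 36), (.ofNat 307,
  42), (.ofNat 2291, 45), (.ofNat 192, 46), (.ofNat 324, 47), (.negSucc 774, 48), (.ofNat 102, 49), (.ofNat 830, 52),
  (.negSucc 62, 55), (.negSucc 260, 56), (.negSucc 1179, 57), (.negSucc 667, 64), (.ofNat 404, 67), (.ofNat 583, 69),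
  (.negSucc 545, 70), (.negSucc 33, 77), (.negSucc 309, 78), (.ofNat 640, 79), (.negSucc 978, 81), (.ofNat 390, 84),
  (.ofNat 276, 85), (.ofNat 28, 86), (.negSucc 1726, 90), (.ofNat 366, 93)])])

/-- a candidate -/
def c141 : ℕ × ℕ × List Step :=
  (967640698257408, 7, [(0, 0, .ofNat 729, 0, [(.negSucc 183, 2), (.ofNat 106, 3), (.ofNat 305, 4), (.negSucc 346,
  5), (.negSucc 283, 8), (.ofNat 111, 10), (.negSucc 61, 11), (.negSucc 98, 13), (.negSucc 10, 16), (.negSucc 99,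
  17), (.ofNat 68, 20), (.ofNat 108, 22), (.negSucc 176, 24), (.negSucc 133, 27), (.negSucc 57, 28), (.negSucc 38,
  29), (.ofNat 59, 31), (.negSucc 11, 32), (.negSucc 3, 40), (.ofNat 17, 41), (.negSucc 67, 45), (.ofNat 47, 49),
  (.ofNat 230, 52), (.ofNat 9, 53), (.negSucc 86, 55), (.negSucc 12, 66), (.negSucc 309, 68), (.negSucc 190, 69),
  (.negSucc 133, 71), (.negSucc 38, 85)])])

/-- a candidate -/
def c142 : ℕ × ℕ × List Step :=
  (1720250130235392, 7, [(0, 0, .ofNat 6561, 0, [(.negSucc 1787, 2), (.ofNat 1062, 3), (.ofNat 1001, 4), (.negSucc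
  3897, 5), (.negSucc 2295, 8), (.ofNat 75, 9), (.ofNat 481, 10), (.ofNat 5, 11), (.negSucc 261, 12), (.negSucc 550,
  13), (.negSucc 1832, 24), (.negSucc 1662, 27), (.negSucc 930, 28), (.negSucc 754, 29), (.ofNat 903, 30), (.ofNat
  1385, 31), (.negSucc 391, 32), (.negSucc 45, 35), (.ofNat 694, 38), (.ofNat 199, 41), (.negSucc 138, 45), (.ofNat
  2711, 52), (.ofNat 743, 53), (.negSucc 1935, 55), (.negSucc 681, 57), (.ofNat 156, 63), (.ofNat 1109, 65),
  (.negSucc 2183, 68), (.negSucc 663, 69), (.negSucc 1727, 71), (.ofNat 257, 72), (.ofNat 311, 75), (.ofNat 10, 84),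
  (.ofNat 161, 88)])])

/-- a candidate -/
def c143 : ℕ × ℕ × List Step :=
  (2256887925964800, 5, [(0, 0, .ofNat 6561, 0, [(.negSucc 1496, 2), (.ofNat 1043, 4), (.negSucc 186, 5), (.ofNat
  1538, 6), (.negSucc 1787, 8), (.ofNat 955, 10), (.negSucc 177, 12), (.negSucc 285, 13), (.ofNat 1013, 15),
  (.negSucc 246, 17), (.negSucc 433, 19), (.ofNat 686, 20), (.negSucc 1095, 21), (.negSucc 1036, 24), (.ofNat 938,
  25), (.negSucc 2047, 27), (.negSucc 1161, 28), (.ofNat 534, 30), (.ofNat 840, 31), (.negSucc 574, 32), (.negSucc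
  260, 34), (.negSucc 1762, 36), (.negSucc 348, 38), (.ofNat 96, 39), (.ofNat 228, 41), (.ofNat 62, 42), (.ofNat
  1047, 45), (.ofNat 309, 49), (.negSucc 114, 51), (.negSucc 637, 52), (.negSucc 395, 53), (.ofNat 35, 54), (.ofNat
  1325, 55), (.negSucc 924, 56), (.negSucc 1126, 57), (.ofNat 653, 61), (.negSucc 280, 67), (.ofNat 33, 68), (.ofNat
  729, 69), (.negSucc 111, 74), (.ofNat 58, 75), (.negSucc 1306, 78), (.negSucc 195, 80), (.ofNat 69, 84), (.ofNat
  860, 85), (.ofNat 283, 86), (.negSucc 259, 92)])])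

/-- a candidate -/
def c144 : ℕ × ℕ × List Step :=
  (2256887925964800, 10, [(0, 0, .ofNat 6561, 0, [(.negSucc 1496, 2), (.ofNat 1043, 4), (.negSucc 186, 5), (.ofNat
  1538, 6), (.negSucc 1787, 8), (.ofNat 955, 10), (.negSucc 177, 12), (.negSucc 285, 13), (.ofNat 1013, 15),
  (.negSucc 246, 17), (.negSucc 433, 19), (.ofNat 686, 20), (.negSucc 1095, 21), (.negSucc 1036, 24), (.ofNat 938,
  25), (.negSucc 2047, 27), (.negSucc 1161, 28), (.ofNat 534, 30), (.ofNat 840, 31), (.negSucc 574, 32), (.negSucc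
  260, 34), (.negSucc 1762, 36), (.negSucc 348, 38), (.ofNat 96, 39), (.ofNat 228, 41), (.ofNat 62, 42), (.ofNat
  1047, 45), (.ofNat 309, 49), (.negSucc 114, 51), (.negSucc 637, 52), (.negSucc 395, 53), (.ofNat 35, 54), (.ofNat
  1325, 55), (.negSucc 924, 56), (.negSucc 1126, 57), (.ofNat 653, 61), (.negSucc 280, 67), (.ofNat 33, 68), (.ofNat
  729, 69), (.negSucc 111, 74), (.ofNat 58, 75), (.negSucc 1306, 78), (.negSucc 195, 80), (.ofNat 69, 84), (.ofNat
  860, 85), (.ofNat 283, 86), (.negSucc 259, 92)])])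

/-- a candidate -/
def c145 : ℕ × ℕ × List Step :=
  (2256887925964800, 15, [(0, 0, .ofNat 2187, 0, [(.ofNat 251, 4), (.ofNat 605, 6), (.negSucc 996, 8), (.ofNat 166,
  10), (.negSucc 171, 12), (.ofNat 340, 15), (.negSucc 44, 19), (.ofNat 230, 20), (.negSucc 309, 21), (.negSucc 390,
  24), (.ofNat 195, 25), (.negSucc 1153, 27), (.negSucc 265, 28), (.ofNat 125, 31), (.negSucc 342, 32), (.negSucc 2,
  35), (.negSucc 793, 36), (.negSucc 104, 37), (.negSucc 15, 38), (.ofNat 797, 45), (.negSucc 35, 47), (.ofNat 79,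
  49), (.negSucc 78, 52), (.negSucc 225, 53), (.ofNat 198, 55), (.negSucc 4, 56), (.negSucc 406, 57), (.ofNat 240,
  61), (.ofNat 113, 69), (.ofNat 9, 70), (.ofNat 104, 71), (.negSucc 38, 76), (.negSucc 526, 78), (.ofNat 101, 79),
  (.negSucc 74, 80), (.negSucc 383, 81), (.ofNat 357, 85), (.negSucc 60, 87), (.negSucc 478, 90), (.negSucc 45,
  92)])])

/-- a candidate -/
def c146 : ℕ × ℕ × List Step :=
  (2256887925964800, 30, [(0, 0, .ofNat 2187, 0, [(.ofNat 251, 4), (.ofNat 605, 6), (.negSucc 996, 8), (.ofNat 166,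
  10), (.negSucc 171, 12), (.ofNat 340, 15), (.negSucc 44, 19), (.ofNat 230, 20), (.negSucc 309, 21), (.negSucc 390,
  24), (.ofNat 195, 25), (.negSucc 1153, 27), (.negSucc 265, 28), (.ofNat 125, 31), (.negSucc 342, 32), (.negSucc 2,
  35), (.negSucc 793, 36), (.negSucc 104, 37), (.negSucc 15, 38), (.ofNat 797, 45), (.negSucc 35, 47), (.ofNat 79,
  49), (.negSucc 78, 52), (.negSucc 225, 53), (.ofNat 198, 55), (.negSucc 4, 56), (.negSucc 406, 57), (.ofNat 240,
  61), (.ofNat 113, 69), (.ofNat 9, 70), (.ofNat 104, 71), (.negSucc 38, 76), (.negSucc 526, 78), (.ofNat 101, 79),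
  (.negSucc 74, 80), (.negSucc 383, 81), (.ofNat 357, 85), (.negSucc 60, 87), (.negSucc 478, 90), (.negSucc 45,
  92)])])

/-- a candidate -/
def c147 : ℕ × ℕ × List Step :=
  (2256887925964800, 45, [(0, 0, .ofNat 2187, 0, [(.ofNat 251, 4), (.ofNat 605, 6), (.negSucc 996, 8), (.ofNat 166,
  10), (.negSucc 171, 12), (.ofNat 340, 15), (.negSucc 44, 19), (.ofNat 230, 20), (.negSucc 309, 21), (.negSucc 390,
  24), (.ofNat 195, 25), (.negSucc 1153, 27), (.negSucc 265, 28), (.ofNat 125, 31), (.negSucc 342, 32), (.negSucc 2,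
  35), (.negSucc 793, 36), (.negSucc 104, 37), (.negSucc 15, 38), (.ofNat 797, 45), (.negSucc 35, 47), (.ofNat 79,
  49), (.negSucc 78, 52), (.negSucc 225, 53), (.ofNat 198, 55), (.negSucc 4, 56), (.negSucc 406, 57), (.ofNat 240,
  61), (.ofNat 113, 69), (.ofNat 9, 70), (.ofNat 104, 71), (.negSucc 38, 76), (.negSucc 526, 78), (.ofNat 101, 79),
  (.negSucc 74, 80), (.negSucc 383, 81), (.ofNat 357, 85), (.negSucc 60, 87), (.negSucc 478, 90), (.negSucc 45,
  92)])])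

/-- a candidate -/
def c148 : ℕ × ℕ × List Step :=
  (2256887925964800, 90, [(0, 0, .ofNat 2187, 0, [(.ofNat 251, 4), (.ofNat 605, 6), (.negSucc 996, 8), (.ofNat 166,
  10), (.negSucc 171, 12), (.ofNat 340, 15), (.negSucc 44, 19), (.ofNat 230, 20), (.negSucc 309, 21), (.negSucc 390,
  24), (.ofNat 195, 25), (.negSucc 1153, 27), (.negSucc 265, 28), (.ofNat 125, 31), (.negSucc 342, 32), (.negSucc 2,
  35), (.negSucc 793, 36), (.negSucc 104, 37), (.negSucc 15, 38), (.ofNat 797, 45), (.negSucc 35, 47), (.ofNat 79,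
  49), (.negSucc 78, 52), (.negSucc 225, 53), (.ofNat 198, 55), (.negSucc 4, 56), (.negSucc 406, 57), (.ofNat 240,
  61), (.ofNat 113, 69), (.ofNat 9, 70), (.ofNat 104, 71), (.negSucc 38, 76), (.negSucc 526, 78), (.ofNat 101, 79),
  (.negSucc 74, 80), (.negSucc 383, 81), (.ofNat 357, 85), (.negSucc 60, 87), (.negSucc 478, 90), (.negSucc 45,
  92)])])

/-- a candidate -/
def c149 : ℕ × ℕ × List Step :=
  (6047754364108800, 35, [(0, 0, .ofNat 729, 0, [(.ofNat 42, 1), (.negSucc 123, 2), (.ofNat 184, 3), (.ofNat 196, 4),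
  (.negSucc 209, 5), (.negSucc 65, 7), (.negSucc 248, 8), (.negSucc 0, 9), (.ofNat 190, 10), (.negSucc 6, 11),
  (.negSucc 75, 12), (.negSucc 79, 13), (.ofNat 1, 15), (.ofNat 182, 20), (.negSucc 198, 21), (.negSucc 19, 22),
  (.negSucc 224, 24), (.negSucc 5, 26), (.negSucc 243, 27), (.negSucc 177, 28), (.ofNat 405, 30), (.ofNat 157, 31),
  (.negSucc 87, 32), (.negSucc 5, 33), (.negSucc 5, 38), (.negSucc 4, 39), (.ofNat 42, 41), (.ofNat 21, 43),
  (.negSucc 188, 45), (.negSucc 8, 46), (.ofNat 80, 49), (.ofNat 160, 50), (.negSucc 23, 52), (.negSucc 108, 53),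
  (.ofNat 1, 54), (.ofNat 184, 55), (.negSucc 108, 56), (.negSucc 171, 57), (.ofNat 244, 61), (.negSucc 27, 65),
  (.negSucc 0, 66), (.ofNat 37, 67), (.ofNat 15, 68), (.negSucc 102, 69), (.ofNat 14, 70), (.negSucc 285, 71),
  (.ofNat 35, 72), (.negSucc 6, 74), (.negSucc 4, 76), (.negSucc 197, 78), (.ofNat 40, 79), (.negSucc 5, 81),
  (.negSucc 1, 87), (.ofNat 9, 89), (.ofNat 48, 90)])])

/-- a candidate -/
def c150 : ℕ × ℕ × List Step :=
  (6047754364108800, 245, [(0, 0, .ofNat 6561, 0, [(.negSucc 1639, 2), (.ofNat 1640, 3), (.ofNat 1640, 4), (.negSucc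
  1639, 5), (.negSucc 1639, 8), (.ofNat 1640, 10), (.ofNat 1640, 20), (.negSucc 1639, 21), (.negSucc 1639, 24),
  (.negSucc 1639, 27), (.negSucc 1639, 28), (.ofNat 3280, 30), (.ofNat 1640, 31), (.negSucc 1639, 32), (.negSucc
  1639, 45), (.ofNat 1640, 49), (.ofNat 1640, 50), (.negSucc 1639, 53), (.ofNat 1640, 55), (.negSucc 1639, 56),
  (.negSucc 1639, 57), (.ofNat 3281, 61), (.negSucc 1639, 69), (.negSucc 1639, 71), (.negSucc 1639, 78), (.negSucc
  819, 80), (.ofNat 1640, 89), (.ofNat 820, 90)])])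

/-- a candidate -/
def c151 : ℕ × ℕ × List Step :=
  (7741125586059264, 7, [(0, 0, .ofNat 243, 0, [(.negSucc 36, 2), (.ofNat 43, 3), (.ofNat 46, 4), (.negSucc 164, 5),
  (.negSucc 20, 6), (.ofNat 19, 7), (.negSucc 81, 8), (.ofNat 30, 10), (.negSucc 29, 12), (.negSucc 8, 13), (.ofNat
  12, 20), (.ofNat 21, 22), (.negSucc 52, 24), (.negSucc 48, 27), (.negSucc 20, 28), (.ofNat 27, 30), (.ofNat 30,
  31), (.negSucc 11, 32), (.ofNat 50, 38), (.negSucc 0, 40), (.ofNat 10, 41), (.negSucc 11, 45), (.ofNat 7, 49),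
  (.ofNat 92, 52), (.ofNat 39, 53), (.negSucc 76, 55), (.negSucc 40, 57), (.ofNat 36, 65), (.negSucc 80, 68),
  (.negSucc 29, 69), (.negSucc 48, 71), (.ofNat 17, 72), (.negSucc 0, 74), (.ofNat 5, 75), (.ofNat 16, 79), (.ofNat
  2, 86), (.negSucc 1, 88), (.ofNat 9, 90)])])

/-- a candidate -/
def c152 : ℕ × ℕ × List Step :=
  (7741125586059264, 21, [(0, 0, .ofNat 2187, 0, [(.negSucc 290, 2), (.ofNat 380, 3), (.ofNat 447, 4), (.negSucc
  1336, 5), (.ofNat 102, 7), (.negSucc 684, 8), (.ofNat 332, 10), (.negSucc 45, 11), (.negSucc 261, 12), (.negSucc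
  70, 13), (.ofNat 267, 20), (.ofNat 152, 22), (.negSucc 420, 24), (.ofNat 20, 25), (.negSucc 424, 27), (.negSucc
  284, 28), (.negSucc 66, 29), (.ofNat 385, 30), (.ofNat 350, 31), (.negSucc 166, 32), (.ofNat 460, 38), (.ofNat 35,
  41), (.negSucc 246, 45), (.ofNat 97, 49), (.ofNat 896, 52), (.ofNat 261, 53), (.negSucc 558, 55), (.negSucc 338,
  57), (.ofNat 21, 61), (.negSucc 101, 64), (.ofNat 253, 65), (.ofNat 22, 67), (.negSucc 766, 68), (.negSucc 258,
  69), (.negSucc 424, 71), (.negSucc 76, 74), (.ofNat 78, 75), (.ofNat 1, 78), (.ofNat 51, 79), (.negSucc 7, 83),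
  (.ofNat 63, 86), (.ofNat 89, 90)])])

/-- a candidate -/
def c153 : ℕ × ℕ × List Step :=
  (7741125586059264, 63, [(0, 0, .ofNat 2187, 0, [(.negSucc 290, 2), (.ofNat 380, 3), (.ofNat 447, 4), (.negSucc
  1336, 5), (.ofNat 102, 7), (.negSucc 684, 8), (.ofNat 332, 10), (.negSucc 45, 11), (.negSucc 261, 12), (.negSucc
  70, 13), (.ofNat 267, 20), (.ofNat 152, 22), (.negSucc 420, 24), (.ofNat 20, 25), (.negSucc 424, 27), (.negSucc
  284, 28), (.negSucc 66, 29), (.ofNat 385, 30), (.ofNat 350, 31), (.negSucc 166, 32), (.ofNat 460, 38), (.ofNat 35,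
  41), (.negSucc 246, 45), (.ofNat 97, 49), (.ofNat 896, 52), (.ofNat 261, 53), (.negSucc 558, 55), (.negSucc 338,
  57), (.ofNat 21, 61), (.negSucc 101, 64), (.ofNat 253, 65), (.ofNat 22, 67), (.negSucc 766, 68), (.negSucc 258,
  69), (.negSucc 424, 71), (.negSucc 76, 74), (.ofNat 78, 75), (.ofNat 1, 78), (.ofNat 51, 79), (.negSucc 7, 83),
  (.ofNat 63, 86), (.ofNat 89, 90)])])

/-- a candidate -/
def c154 : ℕ × ℕ × List Step :=
  (9779847679180800, 65, [(0, 0, .ofNat 2187, 0, [(.negSucc 317, 3), (.ofNat 273, 4), (.ofNat 771, 6), (.negSucc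
  1017, 8), (.ofNat 162, 10), (.negSucc 207, 12), (.ofNat 347, 15), (.negSucc 180, 19), (.negSucc 228, 21), (.negSucc
  272, 24), (.ofNat 340, 25), (.negSucc 1208, 27), (.negSucc 179, 28), (.ofNat 64, 31), (.negSucc 378, 32), (.negSucc
  167, 33), (.negSucc 535, 36), (.negSucc 25, 37), (.negSucc 6, 38), (.ofNat 40, 44), (.ofNat 675, 45), (.negSucc
  162, 48), (.ofNat 65, 49), (.negSucc 367, 52), (.negSucc 226, 53), (.ofNat 235, 55), (.negSucc 412, 57), (.ofNat
  17, 59), (.ofNat 60, 61), (.ofNat 215, 69), (.ofNat 51, 70), (.negSucc 143, 74), (.negSucc 35, 76), (.negSucc 582,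
  78), (.ofNat 75, 79), (.negSucc 248, 80), (.negSucc 317, 81), (.ofNat 62, 85), (.negSucc 128, 87), (.negSucc 562,
  90), (.negSucc 29, 92)])])

/-- a candidate -/
def c155 : ℕ × ℕ × List Step :=
  (9779847679180800, 130, [(0, 0, .ofNat 2187, 0, [(.ofNat 296, 4), (.ofNat 671, 6), (.negSucc 1106, 8), (.ofNat 180,
  10), (.negSucc 170, 12), (.ofNat 480, 15), (.ofNat 37, 17), (.negSucc 159, 19), (.ofNat 82, 20), (.negSucc 273,
  21), (.negSucc 351, 24), (.ofNat 265, 25), (.negSucc 1267, 27), (.negSucc 220, 28), (.ofNat 96, 31), (.negSucc 327,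
  32), (.negSucc 78, 33), (.negSucc 645, 36), (.negSucc 29, 38), (.ofNat 594, 45), (.negSucc 74, 47), (.negSucc 88,
  48), (.ofNat 21, 49), (.negSucc 107, 52), (.negSucc 194, 53), (.ofNat 239, 55), (.negSucc 8, 56), (.negSucc 458,
  57), (.ofNat 81, 59), (.ofNat 136, 61), (.ofNat 52, 69), (.negSucc 74, 74), (.negSucc 29, 76), (.negSucc 621, 78),
  (.ofNat 109, 79), (.negSucc 220, 80), (.negSucc 287, 81), (.ofNat 247, 85), (.negSucc 77, 87), (.negSucc 520, 90),
  (.negSucc 29, 92)])])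

/-- a candidate -/
def c156 : ℕ × ℕ × List Step :=
  (9779847679180800, 260, [(0, 0, .ofNat 2187, 0, [(.ofNat 296, 4), (.ofNat 671, 6), (.negSucc 1106, 8), (.ofNat 180,
  10), (.negSucc 170, 12), (.ofNat 480, 15), (.ofNat 37, 17), (.negSucc 159, 19), (.ofNat 82, 20), (.negSucc 273,
  21), (.negSucc 351, 24), (.ofNat 265, 25), (.negSucc 1267, 27), (.negSucc 220, 28), (.ofNat 96, 31), (.negSucc 327,
  32), (.negSucc 78, 33), (.negSucc 645, 36), (.negSucc 29, 38), (.ofNat 594, 45), (.negSucc 74, 47), (.negSucc 88,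
  48), (.ofNat 21, 49), (.negSucc 107, 52), (.negSucc 194, 53), (.ofNat 239, 55), (.negSucc 8, 56), (.negSucc 458,
  57), (.ofNat 81, 59), (.ofNat 136, 61), (.ofNat 52, 69), (.negSucc 74, 74), (.negSucc 29, 76), (.negSucc 621, 78),
  (.ofNat 109, 79), (.negSucc 220, 80), (.negSucc 287, 81), (.ofNat 247, 85), (.negSucc 77, 87), (.negSucc 520, 90),
  (.negSucc 29, 92)])])

/-- a candidate -/
def c157 : ℕ × ℕ × List Step :=
  (86012506511769600, 28, [(0, 0, .ofNat 729, 0, [(.ofNat 42, 1), (.negSucc 123, 2), (.ofNat 184, 3), (.ofNat 196,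
  4), (.negSucc 209, 5), (.negSucc 65, 7), (.negSucc 248, 8), (.negSucc 0, 9), (.ofNat 190, 10), (.negSucc 6, 11),
  (.negSucc 75, 12), (.negSucc 79, 13), (.ofNat 1, 15), (.ofNat 182, 20), (.negSucc 198, 21), (.negSucc 19, 22),
  (.negSucc 224, 24), (.negSucc 5, 26), (.negSucc 243, 27), (.negSucc 177, 28), (.ofNat 405, 30), (.ofNat 157, 31),
  (.negSucc 87, 32), (.negSucc 5, 33), (.negSucc 5, 38), (.negSucc 4, 39), (.ofNat 42, 41), (.ofNat 21, 43),
  (.negSucc 188, 45), (.negSucc 8, 46), (.ofNat 80, 49), (.ofNat 160, 50), (.negSucc 23, 52), (.negSucc 108, 53),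
  (.ofNat 1, 54), (.ofNat 184, 55), (.negSucc 108, 56), (.negSucc 171, 57), (.ofNat 244, 61), (.negSucc 27, 65),
  (.negSucc 0, 66), (.ofNat 37, 67), (.ofNat 15, 68), (.negSucc 102, 69), (.ofNat 14, 70), (.negSucc 285, 71),
  (.ofNat 35, 72), (.negSucc 6, 74), (.negSucc 4, 76), (.negSucc 197, 78), (.ofNat 40, 79), (.negSucc 5, 81),
  (.negSucc 1, 87), (.ofNat 9, 89), (.ofNat 48, 90)])])

/-- a candidate -/
def c158 : ℕ × ℕ × List Step :=
  (387056279302963200, 7, [(0, 0, .ofNat 729, 0, [(.ofNat 42, 1), (.negSucc 123, 2), (.ofNat 184, 3), (.ofNat 196,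
  4), (.negSucc 209, 5), (.negSucc 65, 7), (.negSucc 248, 8), (.negSucc 0, 9), (.ofNat 190, 10), (.negSucc 6, 11),
  (.negSucc 75, 12), (.negSucc 79, 13), (.ofNat 1, 15), (.ofNat 182, 20), (.negSucc 198, 21), (.negSucc 19, 22),
  (.negSucc 224, 24), (.negSucc 5, 26), (.negSucc 243, 27), (.negSucc 177, 28), (.ofNat 405, 30), (.ofNat 157, 31),
  (.negSucc 87, 32), (.negSucc 5, 33), (.negSucc 5, 38), (.negSucc 4, 39), (.ofNat 42, 41), (.ofNat 21, 43),
  (.negSucc 188, 45), (.negSucc 8, 46), (.ofNat 80, 49), (.ofNat 160, 50), (.negSucc 23, 52), (.negSucc 108, 53),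
  (.ofNat 1, 54), (.ofNat 184, 55), (.negSucc 108, 56), (.negSucc 171, 57), (.ofNat 244, 61), (.negSucc 27, 65),
  (.negSucc 0, 66), (.ofNat 37, 67), (.ofNat 15, 68), (.negSucc 102, 69), (.ofNat 14, 70), (.negSucc 285, 71),
  (.ofNat 35, 72), (.negSucc 6, 74), (.negSucc 4, 76), (.negSucc 197, 78), (.ofNat 40, 79), (.negSucc 5, 81),
  (.negSucc 1, 87), (.ofNat 9, 89), (.ofNat 48, 90)])])

/-- candidates -/
def CL7 : List (ℕ × ℕ × List Step) :=
  [c140, c141, c142, c143, c144, c145, c146, c147, c148, c149, c150, c151, c152, c153, c154, c155, c156, c157, c158]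

theorem okC7 : okL TAB.F24.DT R 2 P Z CL7 = true := by decide +kernel

end Cfsg.Agent.TH.Spor.NFi24
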