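import Cfsg.Agent.TH.Spor.EngC
import Cfsg.Agent.TH.Spor.CH
import Cfsg.Agent.TAB.He.Dat

/-!
# S3541, sporadic rows: He (helper26; generated by notes/TH/spor26/gen.py.txt)
-/

set_option autoImplicit false
set_option Elab.async false

namespace Cfsg.Agent.TH.Spor.NHe

open Cfsg Cfsg.Agent.TAB.Eng Cfsg.Agent.H940.Eng

/-- the types of prime order -/
def P : St :=
  [(17, [(19, 474163200, 0)]), (7, [(10, 6854400, 0), (11, 3916800, 0), (12, 82252800, 0)]), (5, [(8, 13434624, 0)]),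
  (3, [(3, 533120, 0), (4, 7996800, 0)]), (2, [(1, 24990, 0), (2, 187425, 0)])]

/-- the types -/
def Z : List Ze :=
  [(1, 2, 24990, [1]), (2, 2, 187425, [2]), (3, 3, 533120, [3]), (4, 3, 7996800, [4]), (5, 4, 5997600, [1]), (6, 4,
  10495800, [2]), (7, 4, 31487400, [2]), (8, 5, 13434624, [8]), (9, 6, 55977600, [3, 1]), (10, 7, 6854400, [10]),
  (11, 7, 3916800, [11]), (12, 7, 82252800, [12]), (13, 8, 251899200, [2]), (14, 10, 201519360, [8, 1]), (15, 12,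
  335865600, [3, 1]), (16, 14, 143942400, [10, 1]), (17, 14, 575769600, [12, 2]), (18, 15, 268692480, [8, 3]), (19,
  17, 474163200, [19]), (20, 21, 383846400, [11, 3]), (21, 28, 287884800, [10, 1]), (22, 6, 167932800, [4, 2]), (23,
  12, 335865600, [4, 2]), (24, 21, 383846400, [10, 4])]

/-- local data, large primes -/
def big : List LD :=
  []

/-- local data, the other primes -/
def sm : List LD :=
  [⟨17, 17, [(2, 3), (17, 1)]⟩]

/-- the candidates -/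
def SV : List (ℕ × ℕ) :=
  [(1024, 2), (1024, 4), (8575, 35), (10976, 7), (13824, 3), (87808, 7), (115200, 5), (250880, 64), (308700, 35),
  (395136, 7), (677376, 9), (691200, 5), (691200, 10), (740880, 21), (740880, 49), (740880, 147), (823200, 5),
  (1053696, 4), (1053696, 8), (1053696, 16), (1058400, 27), (1411200, 5), (1852200, 5), (1852200, 15), (1852200, 25),
  (1852200, 75), (1958400, 17), (2195200, 5), (2257920, 8), (2419200, 5), (2419200, 9), (2419200, 15), (2419200, 45),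
  (2469600, 7), (2963520, 9), (3161088, 2), (3161088, 7), (3161088, 14), (3161088, 49), (3161088, 98), (3763200, 5),
  (3763200, 10), (4390400, 7), (4741632, 3), (4838400, 4), (4838400, 8), (4838400, 16), (4838400, 32), (4838400, 64),
  (4939200, 5), (5268480, 4), (5927040, 7), (6773760, 3), (6773760, 6), (6773760, 9), (6773760, 18), (6773760, 27),
  (6773760, 54), (7408800, 3), (8467200, 5), (8467200, 25), (8780800, 2), (9483264, 2), (9483264, 4), (9483264, 8),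
  (11289600, 2), (11289600, 4), (11854080, 3), (13171200, 5), (15805440, 2), (16934400, 3), (19756800, 7), (26342400,
  2), (26342400, 4), (26342400, 8), (29635200, 3), (29635200, 5), (29635200, 9), (29635200, 15), (29635200, 27),
  (29635200, 45), (33868800, 2), (47416320, 2), (47416320, 3), (47416320, 4), (47416320, 6), (47416320, 7),
  (47416320, 12), (47416320, 14), (47416320, 21), (47416320, 28), (47416320, 42), (79027200, 2), (79027200, 5),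
  (79027200, 10), (79027200, 25), (118540800, 3), (237081600, 2), (237081600, 4), (237081600, 8)]

/-- the data -/
def E : En :=
  ⟨4030387200, 2, P, Z, [(17, 1), (7, 3), (5, 2), (3, 3), (2, 10)], H940.Eng.D.o_he, big ++ sm, SV⟩

theorem ok1 : okEn TAB.He.D TAB.He.RR [] E = true := by decide +kernel

theorem okA0 : allA (leaf E) [(17, 1), (7, 3), (5, 2), (3, 3), (2, 10)] 1 = true := by decide +kernel

/-- a candidate -/
def c0 : ℕ × ℕ × List Step :=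
  (1024, 2, [(0, 0, .ofNat 0, 0, [(.negSucc 0, 22)])])

/-- a candidate -/
def c1 : ℕ × ℕ × List Step :=
  (1024, 4, [(0, 0, .ofNat 0, 0, [(.negSucc 0, 22)])])

/-- a candidate -/
def c2 : ℕ × ℕ × List Step :=
  (8575, 35, [(0, 0, .ofNat 0, 1, [(.ofNat 60, 5), (.ofNat 81, 9), (.ofNat 71, 19)])])

/-- a candidate -/
def c3 : ℕ × ℕ × List Step :=
  (10976, 7, [(0, 0, .ofNat 0, 0, [(.negSucc 0, 13), (.negSucc 0, 23)])])

/-- a candidate -/
def c4 : ℕ × ℕ × List Step :=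
  (13824, 3, [(0, 0, .ofNat 0, 0, [(.negSucc 0, 5), (.negSucc 2, 21), (.negSucc 1, 23)])])

/-- a candidate -/
def c5 : ℕ × ℕ × List Step :=
  (87808, 7, [(0, 0, .ofNat 3, 0, [(.negSucc 1, 1), (.ofNat 1, 2), (.negSucc 1, 3), (.negSucc 0, 12), (.negSucc 0,
  13)])])

/-- a candidate -/
def c6 : ℕ × ℕ × List Step :=
  (115200, 5, [(0, 0, .ofNat 1, 0, [(.negSucc 0, 1), (.negSucc 0, 13), (.negSucc 0, 22)])])

/-- a candidate -/
def c7 : ℕ × ℕ × List Step :=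
  (250880, 64, [(0, 0, .ofNat 27, 0, [(.ofNat 20, 2), (.negSucc 6, 3), (.ofNat 3, 5), (.negSucc 3, 7), (.negSucc 23,
  8), (.negSucc 17, 9), (.negSucc 5, 12), (.ofNat 2, 17), (.negSucc 0, 19), (.ofNat 3, 23)])])

/-- a candidate -/
def c8 : ℕ × ℕ × List Step :=
  (308700, 35, [(0, 0, .ofNat 1, 0, [(.negSucc 0, 2), (.ofNat 1, 12), (.ofNat 1, 13), (.ofNat 1, 15), (.ofNat 1, 16),
  (.negSucc 0, 17), (.ofNat 1, 18), (.negSucc 0, 19), (.negSucc 0, 21)])])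

/-- a candidate -/
def c9 : ℕ × ℕ × List Step :=
  (395136, 7, [(0, 0, .ofNat 27, 0, [(.negSucc 17, 3), (.ofNat 9, 4), (.ofNat 18, 8), (.ofNat 9, 11), (.negSucc 8,
  12), (.negSucc 8, 13), (.negSucc 8, 14), (.ofNat 9, 15), (.ofNat 13, 17), (.ofNat 9, 23)])])

/-- a candidate -/
def c10 : ℕ × ℕ × List Step :=
  (677376, 9, [(0, 0, .ofNat 27, 0, [(.negSucc 3, 3), (.negSucc 14, 4), (.negSucc 10, 5), (.negSucc 4, 6), (.ofNat 1,
  7), (.ofNat 11, 8), (.ofNat 11, 10), (.negSucc 4, 12), (.negSucc 4, 14), (.ofNat 11, 17), (.ofNat 5, 20), (.ofNat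
  11, 23)])])

/-- a candidate -/
def c11 : ℕ × ℕ × List Step :=
  (691200, 5, [(0, 0, .ofNat 9, 0, [(.negSucc 3, 2), (.negSucc 3, 13), (.negSucc 4, 15)])])

/-- a candidate -/
def c12 : ℕ × ℕ × List Step :=
  (691200, 10, [(0, 0, .ofNat 9, 0, [(.negSucc 3, 2), (.negSucc 3, 13), (.negSucc 4, 15)])])

/-- a candidate -/
def c13 : ℕ × ℕ × List Step :=
  (740880, 21, [(0, 0, .ofNat 27, 0, [(.negSucc 26, 3), (.negSucc 26, 6), (.ofNat 27, 10), (.ofNat 27, 11), (.ofNat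
  13, 17), (.negSucc 26, 22), (.ofNat 27, 23)])])

/-- a candidate -/
def c14 : ℕ × ℕ × List Step :=
  (740880, 49, [(0, 0, .ofNat 27, 0, [(.negSucc 26, 3), (.negSucc 26, 6), (.ofNat 27, 10), (.ofNat 27, 11), (.ofNat
  13, 17), (.negSucc 26, 22), (.ofNat 27, 23)])])

/-- a candidate -/
def c15 : ℕ × ℕ × List Step :=
  (740880, 147, [(0, 0, .ofNat 27, 0, [(.negSucc 26, 3), (.negSucc 26, 6), (.ofNat 27, 10), (.ofNat 27, 11), (.ofNat
  13, 17), (.negSucc 26, 22), (.ofNat 27, 23)])])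

/-- a candidate -/
def c16 : ℕ × ℕ × List Step :=
  (823200, 5, [(0, 0, .ofNat 9, 0, [(.negSucc 8, 2), (.ofNat 5, 5), (.negSucc 0, 7), (.negSucc 1, 12), (.negSucc 4,
  13), (.ofNat 1, 17), (.negSucc 2, 18), (.ofNat 1, 19), (.negSucc 3, 22)])])

/-- a candidate -/
def c17 : ℕ × ℕ × List Step :=
  (1053696, 4, [(0, 0, .ofNat 27, 0, [(.negSucc 9, 3), (.negSucc 0, 4), (.ofNat 1, 7), (.ofNat 25, 8), (.negSucc 2,
  14), (.ofNat 6, 17), (.ofNat 8, 19), (.ofNat 2, 20)])])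

/-- a candidate -/
def c18 : ℕ × ℕ × List Step :=
  (1053696, 8, [(0, 0, .ofNat 65, 0, [(.negSucc 80, 4), (.negSucc 69, 5), (.negSucc 4, 9), (.ofNat 49, 10), (.negSucc
  10, 12), (.negSucc 4, 13), (.negSucc 15, 14), (.ofNat 30, 17), (.ofNat 5, 18), (.ofNat 24, 23), (.ofNat 24, 24)])])

/-- a candidate -/
def c19 : ℕ × ℕ × List Step :=
  (1053696, 16, [(0, 0, .ofNat 81, 0, [(.negSucc 39, 3), (.negSucc 39, 5), (.negSucc 39, 6), (.ofNat 40, 10), (.ofNat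
  40, 11), (.negSucc 39, 12), (.negSucc 39, 14), (.ofNat 40, 15), (.ofNat 61, 17), (.ofNat 40, 23)])])

/-- a candidate -/
def c20 : ℕ × ℕ × List Step :=
  (1058400, 27, [(0, 0, .ofNat 27, 0, [(.negSucc 0, 3), (.negSucc 14, 4), (.ofNat 6, 7), (.negSucc 7, 12), (.negSucc
  5, 13), (.ofNat 7, 17), (.negSucc 3, 20), (.negSucc 10, 22), (.ofNat 6, 23)])])

/-- a candidate -/
def c21 : ℕ × ℕ × List Step :=
  (1411200, 5, [(0, 0, .ofNat 27, 0, [(.negSucc 18, 2), (.negSucc 11, 3), (.negSucc 16, 4), (.ofNat 5, 5), (.negSucc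
  7, 6), (.ofNat 5, 8), (.ofNat 1, 9), (.negSucc 10, 12), (.negSucc 18, 13), (.negSucc 0, 16), (.ofNat 4, 17),
  (.negSucc 3, 18), (.negSucc 20, 22), (.ofNat 15, 24)])])

/-- a candidate -/
def c22 : ℕ × ℕ × List Step :=
  (1852200, 5, [(0, 0, .ofNat 27, 0, [(.ofNat 14, 1), (.negSucc 13, 2), (.negSucc 13, 3), (.negSucc 13, 4), (.negSucc
  12, 6), (.ofNat 14, 10), (.negSucc 6, 15), (.ofNat 7, 17), (.ofNat 7, 21), (.negSucc 12, 22), (.ofNat 14, 23),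
  (.ofNat 14, 24)])])

/-- a candidate -/
def c23 : ℕ × ℕ × List Step :=
  (1852200, 15, [(0, 0, .ofNat 49, 0, [(.ofNat 15, 2), (.negSucc 63, 5), (.negSucc 63, 6), (.ofNat 217, 7), (.ofNat
  153, 8), (.ofNat 153, 10), (.ofNat 243, 11), (.negSucc 14, 12), (.ofNat 75, 13), (.ofNat 179, 14), (.negSucc 59,
  16), (.ofNat 32, 17), (.ofNat 45, 18), (.ofNat 90, 19), (.ofNat 30, 20), (.negSucc 89, 21), (.negSucc 5, 22),
  (.ofNat 228, 23), (.negSucc 14, 24)])])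

/-- a candidate -/
def c24 : ℕ × ℕ × List Step :=
  (1852200, 25, [(0, 0, .ofNat 27, 0, [(.ofNat 14, 1), (.negSucc 13, 2), (.negSucc 13, 3), (.negSucc 13, 4),
  (.negSucc 12, 6), (.ofNat 14, 10), (.negSucc 6, 15), (.ofNat 7, 17), (.ofNat 7, 21), (.negSucc 12, 22), (.ofNat 14,
  23), (.ofNat 14, 24)])])

/-- a candidate -/
def c25 : ℕ × ℕ × List Step :=
  (1852200, 75, [(0, 0, .ofNat 156, 0, [(.ofNat 78, 2), (.ofNat 273, 7), (.ofNat 273, 8), (.ofNat 664, 9), (.ofNat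
  1523, 10), (.ofNat 781, 11), (.ofNat 1328, 12), (.ofNat 1484, 13), (.ofNat 1367, 14), (.ofNat 117, 17), (.ofNat 78,
  18), (.ofNat 703, 19), (.ofNat 351, 20), (.ofNat 703, 21), (.ofNat 820, 22), (.ofNat 2187, 23)])])

/-- a candidate -/
def c26 : ℕ × ℕ × List Step :=
  (1958400, 17, [(0, 0, .ofNat 9, 0, [(.negSucc 8, 2), (.ofNat 9, 5), (.negSucc 8, 11), (.negSucc 4, 16), (.ofNat 4,
  21)])])

/-- a candidate -/
def c27 : ℕ × ℕ × List Step :=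
  (2195200, 5, [(0, 0, .ofNat 27, 0, [(.negSucc 9, 1), (.negSucc 7, 4), (.ofNat 2, 7), (.negSucc 1, 8), (.negSucc 3,
  12), (.negSucc 14, 13), (.ofNat 4, 17), (.negSucc 1, 20), (.ofNat 4, 24)])])

/-- a candidate -/
def c28 : ℕ × ℕ × List Step :=
  (2257920, 8, [(0, 0, .ofNat 27, 0, [(.negSucc 26, 3), (.negSucc 26, 6), (.ofNat 27, 10), (.ofNat 27, 11), (.ofNat
  13, 17), (.negSucc 26, 22), (.ofNat 27, 23)])])

/-- a candidate -/
def c29 : ℕ × ℕ × List Step :=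
  (2419200, 5, [(0, 0, .ofNat 27, 0, [(.ofNat 14, 1), (.negSucc 13, 2), (.negSucc 13, 3), (.negSucc 13, 4), (.negSucc
  12, 6), (.ofNat 14, 10), (.negSucc 6, 15), (.ofNat 7, 17), (.ofNat 7, 21), (.negSucc 12, 22), (.ofNat 14, 23),
  (.ofNat 14, 24)])])

/-- candidates -/
def CL0 : List (ℕ × ℕ × List Step) :=
  [c0, c1, c2, c3, c4, c5, c6, c7, c8, c9, c10, c11, c12, c13, c14, c15, c16, c17, c18, c19, c20, c21, c22, c23, c24,
  c25, c26, c27, c28, c29]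

theorem okC0 : okL TAB.He.D TAB.He.RR 2 P Z CL0 = true := by decide +kernel

/-- a candidate -/
def c30 : ℕ × ℕ × List Step :=
  (2419200, 9, [(0, 0, .ofNat 27, 0, [(.negSucc 26, 3), (.negSucc 26, 6), (.ofNat 27, 10), (.ofNat 27, 11), (.ofNat
  13, 17), (.negSucc 26, 22), (.ofNat 27, 23)])])

/-- a candidate -/
def c31 : ℕ × ℕ × List Step :=
  (2419200, 15, [(0, 0, .ofNat 27, 0, [(.negSucc 26, 3), (.negSucc 26, 6), (.ofNat 27, 10), (.ofNat 27, 11), (.ofNat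
  13, 17), (.negSucc 26, 22), (.ofNat 27, 23)])])

/-- a candidate -/
def c32 : ℕ × ℕ × List Step :=
  (2419200, 45, [(0, 0, .ofNat 27, 0, [(.negSucc 26, 3), (.negSucc 26, 6), (.ofNat 27, 10), (.ofNat 27, 11), (.ofNat
  13, 17), (.negSucc 26, 22), (.ofNat 27, 23)])])

/-- a candidate -/
def c33 : ℕ × ℕ × List Step :=
  (2469600, 7, [(0, 0, .ofNat 27, 0, [(.negSucc 26, 3), (.negSucc 26, 6), (.ofNat 27, 10), (.ofNat 27, 11), (.ofNat
  13, 17), (.negSucc 26, 22), (.ofNat 27, 23)])])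

/-- a candidate -/
def c34 : ℕ × ℕ × List Step :=
  (2963520, 9, [(0, 0, .ofNat 27, 0, [(.negSucc 26, 3), (.negSucc 26, 6), (.ofNat 27, 10), (.ofNat 27, 11), (.ofNat
  13, 17), (.negSucc 26, 22), (.ofNat 27, 23)])])

/-- a candidate -/
def c35 : ℕ × ℕ × List Step :=
  (3161088, 2, [(0, 0, .ofNat 27, 0, [(.negSucc 2, 1), (.negSucc 9, 3), (.ofNat 1, 7), (.ofNat 26, 8), (.ofNat 6,
  17), (.ofNat 7, 19), (.negSucc 2, 24)])])

/-- a candidate -/
def c36 : ℕ × ℕ × List Step :=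
  (3161088, 7, [(0, 0, .ofNat 81, 0, [(.negSucc 39, 3), (.negSucc 39, 5), (.negSucc 39, 6), (.ofNat 40, 10), (.ofNat
  40, 11), (.negSucc 39, 12), (.negSucc 39, 14), (.ofNat 41, 15), (.ofNat 61, 17), (.ofNat 40, 23)])])

/-- a candidate -/
def c37 : ℕ × ℕ × List Step :=
  (3161088, 14, [(0, 0, .ofNat 81, 0, [(.negSucc 39, 3), (.negSucc 39, 5), (.negSucc 39, 6), (.ofNat 40, 10), (.ofNat
  40, 11), (.negSucc 39, 12), (.negSucc 39, 14), (.ofNat 41, 15), (.ofNat 61, 17), (.ofNat 40, 23)])])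

/-- a candidate -/
def c38 : ℕ × ℕ × List Step :=
  (3161088, 49, [(0, 0, .ofNat 81, 0, [(.negSucc 39, 3), (.negSucc 39, 5), (.negSucc 39, 6), (.ofNat 40, 10), (.ofNat
  40, 11), (.negSucc 39, 12), (.negSucc 39, 14), (.ofNat 41, 15), (.ofNat 61, 17), (.ofNat 40, 23)])])

/-- a candidate -/
def c39 : ℕ × ℕ × List Step :=
  (3161088, 98, [(0, 0, .ofNat 81, 0, [(.negSucc 39, 3), (.negSucc 39, 5), (.negSucc 39, 6), (.ofNat 40, 10), (.ofNat
  40, 11), (.negSucc 39, 12), (.negSucc 39, 14), (.ofNat 41, 15), (.ofNat 61, 17), (.ofNat 40, 23)])])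

/-- a candidate -/
def c40 : ℕ × ℕ × List Step :=
  (3763200, 5, [(0, 0, .ofNat 27, 0, [(.negSucc 26, 3), (.negSucc 26, 6), (.ofNat 27, 10), (.ofNat 27, 11), (.ofNat
  13, 17), (.negSucc 26, 22), (.ofNat 27, 23)])])

/-- a candidate -/
def c41 : ℕ × ℕ × List Step :=
  (3763200, 10, [(0, 0, .ofNat 27, 0, [(.negSucc 26, 3), (.negSucc 26, 6), (.ofNat 27, 10), (.ofNat 27, 11), (.ofNat
  13, 17), (.negSucc 26, 22), (.ofNat 27, 23)])])

/-- a candidate -/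
def c42 : ℕ × ℕ × List Step :=
  (4390400, 7, [(0, 0, .ofNat 27, 0, [(.negSucc 15, 1), (.ofNat 8, 2), (.negSucc 7, 3), (.negSucc 0, 4), (.negSucc 8,
  8), (.ofNat 4, 11), (.negSucc 8, 12), (.negSucc 8, 13), (.ofNat 1, 17), (.ofNat 1, 23)])])

/-- a candidate -/
def c43 : ℕ × ℕ × List Step :=
  (4741632, 3, [(0, 0, .ofNat 18, 0, [(.ofNat 1, 1), (.negSucc 17, 4), (.negSucc 26, 5), (.ofNat 9, 10), (.ofNat 1,
  15), (.negSucc 3, 16), (.ofNat 8, 17), (.ofNat 1, 18), (.ofNat 9, 23), (.ofNat 2, 24)])])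

/-- a candidate -/
def c44 : ℕ × ℕ × List Step :=
  (4838400, 4, [(0, 0, .ofNat 27, 0, [(.ofNat 14, 1), (.negSucc 13, 2), (.negSucc 13, 3), (.negSucc 13, 4), (.negSucc
  12, 6), (.ofNat 14, 10), (.negSucc 6, 15), (.ofNat 7, 17), (.ofNat 7, 21), (.negSucc 12, 22), (.ofNat 14, 23),
  (.ofNat 14, 24)])])

/-- a candidate -/
def c45 : ℕ × ℕ × List Step :=
  (4838400, 8, [(0, 0, .ofNat 27, 0, [(.ofNat 14, 1), (.negSucc 13, 2), (.negSucc 13, 3), (.negSucc 13, 4), (.negSucc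
  12, 6), (.ofNat 14, 10), (.negSucc 6, 15), (.ofNat 7, 17), (.ofNat 7, 21), (.negSucc 12, 22), (.ofNat 14, 23),
  (.ofNat 14, 24)])])

/-- a candidate -/
def c46 : ℕ × ℕ × List Step :=
  (4838400, 16, [(0, 0, .ofNat 27, 0, [(.ofNat 14, 1), (.negSucc 13, 2), (.negSucc 13, 3), (.negSucc 13, 4),
  (.negSucc 12, 6), (.ofNat 14, 10), (.negSucc 6, 15), (.ofNat 7, 17), (.ofNat 7, 21), (.negSucc 12, 22), (.ofNat 14,
  23), (.ofNat 14, 24)])])

/-- a candidate -/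
def c47 : ℕ × ℕ × List Step :=
  (4838400, 32, [(0, 0, .ofNat 27, 0, [(.negSucc 26, 3), (.negSucc 26, 6), (.ofNat 27, 10), (.ofNat 27, 11), (.ofNat
  13, 17), (.negSucc 26, 22), (.ofNat 27, 23)])])

/-- a candidate -/
def c48 : ℕ × ℕ × List Step :=
  (4838400, 64, [(0, 0, .ofNat 27, 0, [(.negSucc 26, 3), (.negSucc 26, 6), (.ofNat 27, 10), (.ofNat 27, 11), (.ofNat
  13, 17), (.negSucc 26, 22), (.ofNat 27, 23)])])

/-- a candidate -/
def c49 : ℕ × ℕ × List Step :=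
  (4939200, 5, [(0, 0, .ofNat 27, 0, [(.negSucc 26, 3), (.negSucc 26, 6), (.ofNat 27, 10), (.ofNat 27, 11), (.ofNat
  13, 17), (.negSucc 26, 22), (.ofNat 27, 23)])])

/-- a candidate -/
def c50 : ℕ × ℕ × List Step :=
  (5268480, 4, [(0, 0, .ofNat 27, 0, [(.negSucc 26, 3), (.negSucc 26, 6), (.ofNat 27, 10), (.ofNat 27, 11), (.ofNat
  13, 17), (.negSucc 26, 22), (.ofNat 27, 23)])])

/-- a candidate -/
def c51 : ℕ × ℕ × List Step :=
  (5927040, 7, [(0, 0, .ofNat 27, 0, [(.negSucc 26, 3), (.negSucc 26, 6), (.ofNat 27, 10), (.ofNat 27, 11), (.ofNat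
  13, 17), (.negSucc 26, 22), (.ofNat 27, 23)])])

/-- a candidate -/
def c52 : ℕ × ℕ × List Step :=
  (6773760, 3, [(0, 0, .ofNat 27, 0, [(.negSucc 26, 3), (.negSucc 26, 6), (.ofNat 27, 10), (.ofNat 27, 11), (.ofNat
  13, 17), (.negSucc 26, 22), (.ofNat 27, 23)])])

/-- a candidate -/
def c53 : ℕ × ℕ × List Step :=
  (6773760, 6, [(0, 0, .ofNat 27, 0, [(.negSucc 26, 3), (.negSucc 26, 6), (.ofNat 27, 10), (.ofNat 27, 11), (.ofNat
  13, 17), (.negSucc 26, 22), (.ofNat 27, 23)])])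

/-- a candidate -/
def c54 : ℕ × ℕ × List Step :=
  (6773760, 9, [(0, 0, .ofNat 27, 0, [(.negSucc 26, 3), (.negSucc 26, 6), (.ofNat 27, 10), (.ofNat 27, 11), (.ofNat
  13, 17), (.negSucc 26, 22), (.ofNat 27, 23)])])

/-- a candidate -/
def c55 : ℕ × ℕ × List Step :=
  (6773760, 18, [(0, 0, .ofNat 27, 0, [(.negSucc 26, 3), (.negSucc 26, 6), (.ofNat 27, 10), (.ofNat 27, 11), (.ofNat
  13, 17), (.negSucc 26, 22), (.ofNat 27, 23)])])

/-- a candidate -/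
def c56 : ℕ × ℕ × List Step :=
  (6773760, 27, [(0, 0, .ofNat 27, 0, [(.negSucc 26, 3), (.negSucc 26, 6), (.ofNat 27, 10), (.ofNat 27, 11), (.ofNat
  13, 17), (.negSucc 26, 22), (.ofNat 27, 23)])])

/-- a candidate -/
def c57 : ℕ × ℕ × List Step :=
  (6773760, 54, [(0, 0, .ofNat 27, 0, [(.negSucc 26, 3), (.negSucc 26, 6), (.ofNat 27, 10), (.ofNat 27, 11), (.ofNat
  13, 17), (.negSucc 26, 22), (.ofNat 27, 23)])])

/-- a candidate -/
def c58 : ℕ × ℕ × List Step :=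
  (7408800, 3, [(0, 0, .ofNat 27, 0, [(.negSucc 26, 3), (.negSucc 26, 6), (.ofNat 27, 10), (.ofNat 27, 11), (.ofNat
  13, 17), (.negSucc 26, 22), (.ofNat 27, 23)])])

/-- a candidate -/
def c59 : ℕ × ℕ × List Step :=
  (8467200, 5, [(0, 0, .ofNat 27, 0, [(.ofNat 14, 1), (.negSucc 13, 2), (.negSucc 13, 3), (.negSucc 13, 4), (.negSucc
  12, 6), (.ofNat 14, 10), (.negSucc 6, 15), (.ofNat 7, 17), (.ofNat 7, 21), (.negSucc 12, 22), (.ofNat 14, 23),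
  (.ofNat 14, 24)])])

/-- candidates -/
def CL1 : List (ℕ × ℕ × List Step) :=
  [c30, c31, c32, c33, c34, c35, c36, c37, c38, c39, c40, c41, c42, c43, c44, c45, c46, c47, c48, c49, c50, c51, c52,
  c53, c54, c55, c56, c57, c58, c59]

theorem okC1 : okL TAB.He.D TAB.He.RR 2 P Z CL1 = true := by decide +kernel

/-- a candidate -/
def c60 : ℕ × ℕ × List Step :=
  (8467200, 25, [(0, 0, .ofNat 27, 0, [(.negSucc 26, 3), (.negSucc 26, 6), (.ofNat 27, 10), (.ofNat 27, 11), (.ofNat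
  13, 17), (.negSucc 26, 22), (.ofNat 27, 23)])])

/-- a candidate -/
def c61 : ℕ × ℕ × List Step :=
  (8780800, 2, [(0, 0, .ofNat 27, 0, [(.negSucc 9, 1), (.negSucc 7, 4), (.ofNat 2, 7), (.negSucc 1, 8), (.negSucc 3,
  12), (.negSucc 14, 13), (.ofNat 4, 17), (.negSucc 1, 20), (.ofNat 4, 24)])])

/-- a candidate -/
def c62 : ℕ × ℕ × List Step :=
  (9483264, 2, [(0, 0, .ofNat 27, 0, [(.ofNat 17, 1), (.negSucc 16, 2), (.negSucc 23, 3), (.negSucc 9, 4), (.negSucc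
  12, 5), (.ofNat 3, 10), (.negSucc 2, 14), (.negSucc 2, 16), (.ofNat 17, 17), (.ofNat 2, 19), (.ofNat 3, 23)])])

/-- a candidate -/
def c63 : ℕ × ℕ × List Step :=
  (9483264, 4, [(0, 0, .ofNat 27, 0, [(.ofNat 17, 1), (.negSucc 16, 2), (.negSucc 23, 3), (.negSucc 9, 4), (.negSucc
  12, 5), (.ofNat 3, 10), (.negSucc 2, 14), (.negSucc 2, 16), (.ofNat 17, 17), (.ofNat 2, 19), (.ofNat 3, 23)])])

/-- a candidate -/
def c64 : ℕ × ℕ × List Step :=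
  (9483264, 8, [(0, 0, .ofNat 27, 0, [(.ofNat 17, 1), (.negSucc 16, 2), (.negSucc 23, 3), (.negSucc 9, 4), (.negSucc
  12, 5), (.ofNat 3, 10), (.negSucc 2, 14), (.negSucc 2, 16), (.ofNat 17, 17), (.ofNat 2, 19), (.ofNat 3, 23)])])

/-- a candidate -/
def c65 : ℕ × ℕ × List Step :=
  (11289600, 2, [(0, 0, .ofNat 9, 0, [(.negSucc 8, 3), (.negSucc 8, 6), (.ofNat 9, 10), (.ofNat 9, 11), (.ofNat 4,
  17), (.negSucc 8, 22), (.ofNat 9, 23)])])

/-- a candidate -/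
def c66 : ℕ × ℕ × List Step :=
  (11289600, 4, [(0, 0, .ofNat 9, 0, [(.negSucc 8, 3), (.negSucc 8, 6), (.ofNat 9, 10), (.ofNat 9, 11), (.ofNat 4,
  17), (.negSucc 8, 22), (.ofNat 9, 23)])])

/-- a candidate -/
def c67 : ℕ × ℕ × List Step :=
  (11854080, 3, [(0, 0, .ofNat 9, 0, [(.negSucc 8, 3), (.negSucc 8, 6), (.ofNat 9, 10), (.ofNat 9, 11), (.ofNat 4,
  17), (.negSucc 8, 22), (.ofNat 9, 23)])])

/-- a candidate -/
def c68 : ℕ × ℕ × List Step :=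
  (13171200, 5, [(0, 0, .ofNat 9, 0, [(.negSucc 8, 3), (.negSucc 8, 6), (.ofNat 9, 10), (.ofNat 9, 11), (.ofNat 4,
  17), (.negSucc 8, 22), (.ofNat 9, 23)])])

/-- a candidate -/
def c69 : ℕ × ℕ × List Step :=
  (15805440, 2, [(0, 0, .ofNat 9, 0, [(.negSucc 8, 3), (.negSucc 8, 6), (.ofNat 9, 10), (.ofNat 9, 11), (.ofNat 4,
  17), (.negSucc 8, 22), (.ofNat 9, 23)])])

/-- a candidate -/
def c70 : ℕ × ℕ × List Step :=
  (16934400, 3, [(0, 0, .ofNat 9, 0, [(.negSucc 8, 3), (.negSucc 8, 6), (.ofNat 9, 10), (.ofNat 9, 11), (.ofNat 4,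
  17), (.negSucc 8, 22), (.ofNat 9, 23)])])

/-- a candidate -/
def c71 : ℕ × ℕ × List Step :=
  (19756800, 7, [(0, 0, .ofNat 9, 0, [(.negSucc 8, 3), (.negSucc 8, 6), (.ofNat 9, 10), (.ofNat 9, 11), (.ofNat 4,
  17), (.negSucc 8, 22), (.ofNat 9, 23)])])

/-- a candidate -/
def c72 : ℕ × ℕ × List Step :=
  (26342400, 2, [(0, 0, .ofNat 9, 0, [(.negSucc 8, 3), (.negSucc 8, 6), (.ofNat 9, 10), (.ofNat 9, 11), (.ofNat 4,
  17), (.negSucc 8, 22), (.ofNat 9, 23)])])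

/-- a candidate -/
def c73 : ℕ × ℕ × List Step :=
  (26342400, 4, [(0, 0, .ofNat 9, 0, [(.negSucc 8, 3), (.negSucc 8, 6), (.ofNat 9, 10), (.ofNat 9, 11), (.ofNat 4,
  17), (.negSucc 8, 22), (.ofNat 9, 23)])])

/-- a candidate -/
def c74 : ℕ × ℕ × List Step :=
  (26342400, 8, [(0, 0, .ofNat 9, 0, [(.negSucc 8, 3), (.negSucc 8, 6), (.ofNat 9, 10), (.ofNat 9, 11), (.ofNat 4,
  17), (.negSucc 8, 22), (.ofNat 9, 23)])])

/-- a candidate -/
def c75 : ℕ × ℕ × List Step :=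
  (29635200, 3, [(0, 0, .ofNat 9, 0, [(.negSucc 8, 3), (.negSucc 8, 6), (.ofNat 9, 10), (.ofNat 9, 11), (.ofNat 4,
  17), (.negSucc 8, 22), (.ofNat 9, 23)])])

/-- a candidate -/
def c76 : ℕ × ℕ × List Step :=
  (29635200, 5, [(0, 0, .ofNat 9, 0, [(.negSucc 8, 3), (.negSucc 8, 6), (.ofNat 9, 10), (.ofNat 9, 11), (.ofNat 4,
  17), (.negSucc 8, 22), (.ofNat 9, 23)])])

/-- a candidate -/
def c77 : ℕ × ℕ × List Step :=
  (29635200, 9, [(0, 0, .ofNat 9, 0, [(.negSucc 8, 3), (.negSucc 8, 6), (.ofNat 9, 10), (.ofNat 9, 11), (.ofNat 4,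
  17), (.negSucc 8, 22), (.ofNat 9, 23)])])

/-- a candidate -/
def c78 : ℕ × ℕ × List Step :=
  (29635200, 15, [(0, 0, .ofNat 9, 0, [(.negSucc 8, 3), (.negSucc 8, 6), (.ofNat 9, 10), (.ofNat 9, 11), (.ofNat 4,
  17), (.negSucc 8, 22), (.ofNat 9, 23)])])

/-- a candidate -/
def c79 : ℕ × ℕ × List Step :=
  (29635200, 27, [(0, 0, .ofNat 9, 0, [(.negSucc 8, 3), (.negSucc 8, 6), (.ofNat 9, 10), (.ofNat 9, 11), (.ofNat 4,
  17), (.negSucc 8, 22), (.ofNat 9, 23)])])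

/-- a candidate -/
def c80 : ℕ × ℕ × List Step :=
  (29635200, 45, [(0, 0, .ofNat 9, 0, [(.negSucc 8, 3), (.negSucc 8, 6), (.ofNat 9, 10), (.ofNat 9, 11), (.ofNat 4,
  17), (.negSucc 8, 22), (.ofNat 9, 23)])])

/-- a candidate -/
def c81 : ℕ × ℕ × List Step :=
  (33868800, 2, [(0, 0, .ofNat 27, 0, [(.ofNat 14, 1), (.negSucc 13, 2), (.negSucc 13, 3), (.negSucc 13, 4),
  (.negSucc 12, 6), (.ofNat 14, 10), (.negSucc 6, 15), (.ofNat 7, 17), (.ofNat 7, 21), (.negSucc 12, 22), (.ofNat 14,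
  23), (.ofNat 14, 24)])])

/-- a candidate -/
def c82 : ℕ × ℕ × List Step :=
  (47416320, 2, [(0, 0, .ofNat 9, 0, [(.negSucc 8, 3), (.negSucc 8, 6), (.ofNat 9, 10), (.ofNat 9, 11), (.ofNat 4,
  17), (.negSucc 8, 22), (.ofNat 9, 23)])])

/-- a candidate -/
def c83 : ℕ × ℕ × List Step :=
  (47416320, 3, [(0, 0, .ofNat 9, 0, [(.negSucc 8, 3), (.negSucc 8, 6), (.ofNat 9, 10), (.ofNat 9, 11), (.ofNat 4,
  17), (.negSucc 8, 22), (.ofNat 9, 23)])])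

/-- a candidate -/
def c84 : ℕ × ℕ × List Step :=
  (47416320, 4, [(0, 0, .ofNat 9, 0, [(.negSucc 8, 3), (.negSucc 8, 6), (.ofNat 9, 10), (.ofNat 9, 11), (.ofNat 4,
  17), (.negSucc 8, 22), (.ofNat 9, 23)])])

/-- a candidate -/
def c85 : ℕ × ℕ × List Step :=
  (47416320, 6, [(0, 0, .ofNat 9, 0, [(.negSucc 8, 3), (.negSucc 8, 6), (.ofNat 9, 10), (.ofNat 9, 11), (.ofNat 4,
  17), (.negSucc 8, 22), (.ofNat 9, 23)])])

/-- a candidate -/
def c86 : ℕ × ℕ × List Step :=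
  (47416320, 7, [(0, 0, .ofNat 9, 0, [(.negSucc 8, 3), (.negSucc 8, 6), (.ofNat 9, 10), (.ofNat 9, 11), (.ofNat 4,
  17), (.negSucc 8, 22), (.ofNat 9, 23)])])

/-- a candidate -/
def c87 : ℕ × ℕ × List Step :=
  (47416320, 12, [(0, 0, .ofNat 9, 0, [(.negSucc 8, 3), (.negSucc 8, 6), (.ofNat 9, 10), (.ofNat 9, 11), (.ofNat 4,
  17), (.negSucc 8, 22), (.ofNat 9, 23)])])

/-- a candidate -/
def c88 : ℕ × ℕ × List Step :=
  (47416320, 14, [(0, 0, .ofNat 9, 0, [(.negSucc 8, 3), (.negSucc 8, 6), (.ofNat 9, 10), (.ofNat 9, 11), (.ofNat 4,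
  17), (.negSucc 8, 22), (.ofNat 9, 23)])])

/-- a candidate -/
def c89 : ℕ × ℕ × List Step :=
  (47416320, 21, [(0, 0, .ofNat 9, 0, [(.negSucc 8, 3), (.negSucc 8, 6), (.ofNat 9, 10), (.ofNat 9, 11), (.ofNat 4,
  17), (.negSucc 8, 22), (.ofNat 9, 23)])])

/-- candidates -/
def CL2 : List (ℕ × ℕ × List Step) :=
  [c60, c61, c62, c63, c64, c65, c66, c67, c68, c69, c70, c71, c72, c73, c74, c75, c76, c77, c78, c79, c80, c81, c82,
  c83, c84, c85, c86, c87, c88, c89]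

theorem okC2 : okL TAB.He.D TAB.He.RR 2 P Z CL2 = true := by decide +kernel

/-- a candidate -/
def c90 : ℕ × ℕ × List Step :=
  (47416320, 28, [(0, 0, .ofNat 9, 0, [(.negSucc 8, 3), (.negSucc 8, 6), (.ofNat 9, 10), (.ofNat 9, 11), (.ofNat 4,
  17), (.negSucc 8, 22), (.ofNat 9, 23)])])

/-- a candidate -/
def c91 : ℕ × ℕ × List Step :=
  (47416320, 42, [(0, 0, .ofNat 9, 0, [(.negSucc 8, 3), (.negSucc 8, 6), (.ofNat 9, 10), (.ofNat 9, 11), (.ofNat 4,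
  17), (.negSucc 8, 22), (.ofNat 9, 23)])])

/-- a candidate -/
def c92 : ℕ × ℕ × List Step :=
  (79027200, 2, [(0, 0, .ofNat 3, 0, [(.negSucc 2, 3), (.negSucc 2, 6), (.ofNat 3, 10), (.ofNat 3, 11), (.ofNat 1,
  17), (.negSucc 2, 22), (.ofNat 3, 23)])])

/-- a candidate -/
def c93 : ℕ × ℕ × List Step :=
  (79027200, 5, [(0, 0, .ofNat 3, 0, [(.negSucc 2, 3), (.negSucc 2, 6), (.ofNat 3, 10), (.ofNat 3, 11), (.ofNat 1,
  17), (.negSucc 2, 22), (.ofNat 3, 23)])])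

/-- a candidate -/
def c94 : ℕ × ℕ × List Step :=
  (79027200, 10, [(0, 0, .ofNat 3, 0, [(.negSucc 2, 3), (.negSucc 2, 6), (.ofNat 3, 10), (.ofNat 3, 11), (.ofNat 1,
  17), (.negSucc 2, 22), (.ofNat 3, 23)])])

/-- a candidate -/
def c95 : ℕ × ℕ × List Step :=
  (79027200, 25, [(0, 0, .ofNat 3, 0, [(.negSucc 2, 3), (.negSucc 2, 6), (.ofNat 3, 10), (.ofNat 3, 11), (.ofNat 1,
  17), (.negSucc 2, 22), (.ofNat 3, 23)])])

/-- a candidate -/
def c96 : ℕ × ℕ × List Step :=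
  (118540800, 3, [(0, 0, .ofNat 3, 0, [(.negSucc 2, 3), (.negSucc 2, 6), (.ofNat 3, 10), (.ofNat 3, 11), (.ofNat 1,
  17), (.negSucc 2, 22), (.ofNat 3, 23)])])

/-- a candidate -/
def c97 : ℕ × ℕ × List Step :=
  (237081600, 2, [(0, 0, .ofNat 3, 0, [(.negSucc 2, 3), (.negSucc 2, 6), (.ofNat 3, 10), (.ofNat 3, 11), (.ofNat 1,
  17), (.negSucc 2, 22), (.ofNat 3, 23)])])

/-- a candidate -/
def c98 : ℕ × ℕ × List Step :=
  (237081600, 4, [(0, 0, .ofNat 3, 0, [(.negSucc 2, 3), (.negSucc 2, 6), (.ofNat 3, 10), (.ofNat 3, 11), (.ofNat 1,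
  17), (.negSucc 2, 22), (.ofNat 3, 23)])])

/-- a candidate -/
def c99 : ℕ × ℕ × List Step :=
  (237081600, 8, [(0, 0, .ofNat 3, 0, [(.negSucc 2, 3), (.negSucc 2, 6), (.ofNat 3, 10), (.ofNat 3, 11), (.ofNat 1,
  17), (.negSucc 2, 22), (.ofNat 3, 23)])])

/-- candidates -/
def CL3 : List (ℕ × ℕ × List Step) :=
  [c90, c91, c92, c93, c94, c95, c96, c97, c98, c99]

theorem okC3 : okL TAB.He.D TAB.He.RR 2 P Z CL3 = true := by decide +kernel

theorem okB : ∀ ld ∈ big, bigE E ld = true :=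
  fa_nil

theorem okA : ∀ a ∈ divsT [], allA (leaf E) [(17, 1), (7, 3), (5, 2), (3, 3), (2, 10)] a = true := by
  rw [show divsT [] = [1] by decide +kernel]
  exact fa_cons okA0 <| fa_nil

/-- the pairs -/
def pj (L : List (ℕ × ℕ × List Step)) : List (ℕ × ℕ) := L.map fun x => (x.1, x.2.1)

theorem okC : ∀ x ∈ E.SV, ∃ CL, okL TAB.He.D TAB.He.RR E.j E.P E.Z CL = true ∧ x ∈ pj CL := by
  rw [show E.SV = [pj CL0, pj CL1, pj CL2, pj CL3].flatten by decide +kernel]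
  exact forall_flatten <| fa_cons (fun _ h => ⟨_, okC0, h⟩) <| fa_cons (fun _ h => ⟨_, okC1, h⟩) <| fa_cons (fun _ h => ⟨_, okC2, h⟩) <| fa_cons (fun _ h => ⟨_, okC3, h⟩) <|
    fa_nil

/-- **no configuration** -/
theorem noW {K : Type} [Group K] [Finite K] (h : In K TAB.He.D TAB.He.RR) : NoW K 2 :=
  noW_of (E := E) boxCH h.inC ok1 (H940.Eng.D.ords_he base)
    (fun ld h => ⟨List.mem_append_left _ h, okB ld h⟩) (by decide +kernel) okA okC

end Cfsg.Agent.TH.Spor.NHe
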