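import Cfsg.Agent.TH.Spor.EngC
import Cfsg.Agent.TH.Spor.CH
import Cfsg.Agent.TAB.Sm2.M11

/-!
# S3541, sporadic rows: M11 (helper26; generated by notes/TH/spor26/gen.py.txt)
-/

set_option autoImplicit false
set_option Elab.async false

namespace Cfsg.Agent.TH.Spor.NM11

open Cfsg Cfsg.Agent.TAB.Eng Cfsg.Agent.H940.Eng

/-- the types of prime order -/
def P : St :=
  [(11, [(7, 1440, 0)]), (5, [(4, 1584, 0)]), (3, [(2, 440, 0)]), (2, [(1, 165, 0)])]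

/-- the types -/
def Z : List Ze :=
  [(1, 2, 165, [1]), (2, 3, 440, [2]), (3, 4, 990, [1]), (4, 5, 1584, [4]), (5, 6, 1320, [2, 1]), (6, 8, 1980, [1]),
  (7, 11, 1440, [7])]

/-- local data, large primes -/
def big : List LD :=
  []

/-- local data, the other primes -/
def sm : List LD :=
  [⟨11, 11, [(5, 1), (11, 1)]⟩, ⟨5, 5, [(2, 2), (5, 1)]⟩]

/-- the candidates -/
def SV : List (ℕ × ℕ) :=
  [(16, 2), (120, 5), (144, 3), (144, 6), (144, 9), (144, 18), (720, 5)]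

/-- the data -/
def E : En :=
  ⟨7920, 2, P, Z, [(11, 1), (5, 1), (3, 2), (2, 4)], H940.Eng.D.o_m11, big ++ sm, SV⟩

theorem ok1 : okEn TAB.Sm2.M11.dat (TAB.Sm2.mkRows TAB.Sm2.M11.rA TAB.Sm2.M11.rB) [] E = true := by decide +kernel

theorem okA0 : allA (leaf E) [(11, 1), (5, 1), (3, 2), (2, 4)] 1 = true := by decide +kernel

/-- a candidate -/
def c0 : ℕ × ℕ × List Step :=
  (16, 2, [(0, 0, .ofNat 0, 0, [(.negSucc 0, 7)])])

/-- a candidate -/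
def c1 : ℕ × ℕ × List Step :=
  (120, 5, [(2, 15, .ofNat 0, 0, [(.ofNat 1, 7)])])

/-- a candidate -/
def c2 : ℕ × ℕ × List Step :=
  (144, 3, [(0, 0, .ofNat 1, 0, [(.negSucc 0, 1), (.ofNat 1, 4), (.negSucc 0, 6)])])

/-- a candidate -/
def c3 : ℕ × ℕ × List Step :=
  (144, 6, [(0, 0, .ofNat 1, 0, [(.ofNat 1, 2), (.negSucc 0, 3), (.ofNat 1, 7)])])

/-- a candidate -/
def c4 : ℕ × ℕ × List Step :=
  (144, 9, [(0, 0, .ofNat 0, 0, [(.negSucc 0, 3), (.negSucc 0, 6)])])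

/-- a candidate -/
def c5 : ℕ × ℕ × List Step :=
  (144, 18, [(0, 0, .ofNat 0, 0, [(.negSucc 0, 3)])])

/-- a candidate -/
def c6 : ℕ × ℕ × List Step :=
  (720, 5, [(0, 0, .ofNat 1, 0, [(.negSucc 0, 1), (.ofNat 1, 4), (.negSucc 0, 6)])])

/-- candidates -/
def CL0 : List (ℕ × ℕ × List Step) :=
  [c0, c1, c2, c3, c4, c5, c6]

theorem okC0 : okL TAB.Sm2.M11.dat (TAB.Sm2.mkRows TAB.Sm2.M11.rA TAB.Sm2.M11.rB) 2 P Z CL0 = true := by decide +kernel

theorem okB : ∀ ld ∈ big, bigE E ld = true :=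
  fa_nil

theorem okA : ∀ a ∈ divsT [], allA (leaf E) [(11, 1), (5, 1), (3, 2), (2, 4)] a = true := by
  rw [show divsT [] = [1] by decide +kernel]
  exact fa_cons okA0 <| fa_nil

/-- the pairs -/
def pj (L : List (ℕ × ℕ × List Step)) : List (ℕ × ℕ) := L.map fun x => (x.1, x.2.1)

theorem okC : ∀ x ∈ E.SV, ∃ CL, okL TAB.Sm2.M11.dat (TAB.Sm2.mkRows TAB.Sm2.M11.rA TAB.Sm2.M11.rB) E.j E.P E.Z CL = true ∧ x ∈ pj CL := by
  rw [show E.SV = [pj CL0].flatten by decide +kernel]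
  exact forall_flatten <| fa_cons (fun _ h => ⟨_, okC0, h⟩) <| fa_nil

/-- **no configuration** -/
theorem noW {K : Type} [Group K] [Finite K] (h : In K TAB.Sm2.M11.dat (TAB.Sm2.mkRows TAB.Sm2.M11.rA TAB.Sm2.M11.rB)) : NoW K 2 :=
  noW_of (E := E) boxCH h.inC ok1 (H940.Eng.D.ords_m11 base)
    (fun ld h => ⟨List.mem_append_left _ h, okB ld h⟩) (by decide +kernel) okA okC

end Cfsg.Agent.TH.Spor.NM11
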